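import Cfsg.Agent.LyCent.PointsDef

/-!
The checks of the points.
-/

set_option autoImplicit false
set_option maxRecDepth 100000
set_option maxHeartbeats 4000000
set_option Elab.async false

namespace Cfsg.Lib.LyCent

open Cfsg.Lib.LyPres

theorem pt_ok0 : ptRange 0 500 = true := by decide +kernel

theorem pt_ok1 : ptRange 500 500 = true := by decide +kernel

theorem pt_ok2 : ptRange 1000 500 = true := by decide +kernel

theorem pt_ok3 : ptRange 1500 500 = true := by decide +kernel

theorem pt_ok4 : ptRange 2000 500 = true := by decide +kernel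

theorem pt_ok5 : ptRange 2500 500 = true := by decide +kernel

theorem pt_ok6 : ptRange 3000 500 = true := by decide +kernel

theorem pt_ok7 : ptRange 3500 500 = true := by decide +kernel

theorem pt_ok8 : ptRange 4000 500 = true := by decide +kernel

theorem pt_ok9 : ptRange 4500 500 = true := by decide +kernel

theorem pt_ok10 : ptRange 5000 500 = true := by decide +kernel

theorem pt_ok11 : ptRange 5500 500 = true := by decide +kernel

theorem pt_ok12 : ptRange 6000 500 = true := by decide +kernel

theorem pt_ok13 : ptRange 6500 500 = true := by decide +kernel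

theorem pt_ok14 : ptRange 7000 128 = true := by decide +kernel

theorem pt_all : ptRange 0 7128 = true :=
  (ptRange_cat (a := 0) (b := 500) (k := 500) (c := 6628) (by rfl) (by rfl) pt_ok0
    (ptRange_cat (a := 500) (b := 500) (k := 1000) (c := 6128) (by rfl) (by rfl) pt_ok1
    (ptRange_cat (a := 1000) (b := 500) (k := 1500) (c := 5628) (by rfl) (by rfl) pt_ok2
    (ptRange_cat (a := 1500) (b := 500) (k := 2000) (c := 5128) (by rfl) (by rfl) pt_ok3
    (ptRange_cat (a := 2000) (b := 500) (k := 2500) (c := 4628) (by rfl) (by rfl) pt_ok4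
    (ptRange_cat (a := 2500) (b := 500) (k := 3000) (c := 4128) (by rfl) (by rfl) pt_ok5
    (ptRange_cat (a := 3000) (b := 500) (k := 3500) (c := 3628) (by rfl) (by rfl) pt_ok6
    (ptRange_cat (a := 3500) (b := 500) (k := 4000) (c := 3128) (by rfl) (by rfl) pt_ok7
    (ptRange_cat (a := 4000) (b := 500) (k := 4500) (c := 2628) (by rfl) (by rfl) pt_ok8
    (ptRange_cat (a := 4500) (b := 500) (k := 5000) (c := 2128) (by rfl) (by rfl) pt_ok9
    (ptRange_cat (a := 5000) (b := 500) (k := 5500) (c := 1628) (by rfl) (by rfl) pt_ok10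
    (ptRange_cat (a := 5500) (b := 500) (k := 6000) (c := 1128) (by rfl) (by rfl) pt_ok11
    (ptRange_cat (a := 6000) (b := 500) (k := 6500) (c := 628) (by rfl) (by rfl) pt_ok12
    (ptRange_cat (a := 6500) (b := 500) (k := 7000) (c := 128) (by rfl) (by rfl) pt_ok13
    pt_ok14))))))))))))))

theorem pt_distinct : ptDistinct = true := by decide +kernel

theorem base_ok : blkStart = [0, 1, 253, 3753, 4503] ∧ basePts.length = 2 ∧
    ((List.range 4).all fun g => mv (ptAt 0).1 (mats21.getD g []) == (ptAt 0).1) = true ∧
    (twoWords.all fun w => w.all (fun i => Nat.blt i 4) && mvW (ptAt 0).1 w == (ptAt 0).1 &&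
      mvW (ptAt 253).1 w == (ptAt 253).1) = true ∧
    (twoOrbit.all fun w => w.all fun i => Nat.blt i twoWords.length) = true ∧
    (twoOrbit.map fun w => mvW (ptAt (basePts.getD 1 0)).1 (w.flatMap fun i => twoWords.getD i [])).Nodup ∧
    twoOrbit.length = 36 ∧ basePts.getD 1 0 < 7128 ∧
    (elev21.map fun A => mpow 21 A 11 == idMat 21).all id = true := by
  decide +kernel

end Cfsg.Lib.LyCent
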