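import Cfsg.Agent.LyPres.Orbit

/-!
The element of order three and elements centralizing it.
-/

set_option autoImplicit false
set_option maxRecDepth 100000
set_option maxHeartbeats 4000000

namespace Cfsg.Lib.LyCent

/-- The word in the eight elements of the element of order three. -/
def xWord : List ℕ := [5,6,5,7]

/-- A word sending the fixed vector to its negative. -/
def negWord : List ℕ := [2,2,0,2,2,2]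

/-- Three words centralizing the element, giving elements of order eleven with z. -/
def cWords : List (List ℕ) := [
    [3,1,5,7,5,1,1,7,5,7,0,4,4,0,2,4,2,6,4,6,2,6,4],
    [5,7,5,7,1,3,1,5,1,0,6,0,4,6,4,2,0,2,0,2,4,0,2,2,4,4,2],
    [5,5,5,7,5,1,5,5,1,2,4,4,0,2,2,6,2,4,4,6,2,4,0,0,4,6,0]]

/-- The generators of the centralizer in the subgroup, and their inverses. -/
def hWords : List (List ℕ) := [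
    [5,7,5,7,1,3,1,5,1,0,6,0,4,6,4,2,0,2,0,2,4,0,2,2,4,4,2,5,7,3,7,5,7,3,5,3,1,5,5,1,6,4,6,0,0,4,6,4,0,2],
    [3,1,5,7,5,1,1,7,5,7,0,4,4,0,2,4,2,6,4,6,2,6,4,3,5,5,3,3,1,5,3,1,3,1,3,5,7,5,1,7,1,0,4,0,2,0,6,4,6,4],
    [5,5,5,7,5,1,5,5,1,2,4,4,0,2,2,6,2,4,4,6,2,4,0,0,4,6,0,5,7,3,7,5,7,3,5,3,1,5,5,1,6,4,6,0,0,4,6,4,0,2],
    [3,1,5,7,5,1,1,7,5,7,0,4,4,0,2,4,2,6,4,6,2,6,4,1,7,5,1,1,5,3,7,5,5,3,7,3,3,1,5,5,3,0,4,4,0,4,6,4,4,4]]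

/-- Their matrices. -/
def hMats : List (List ℕ) := [
    [0x4000400010001000100000002,0x200020003000000020000,0x1000100020000000200010002,0x4000100030003000000030000,0x4000200040003000300000001,0x4000200010004000000030000,0x3000200030000000400020004],
    [0x4000000010002000400010003,0x1000200040002000300020003,0x1000300020004000400040003,0x2000400000003000100020000,0x1000000020000000300000004,0x200040001000000030003,0x2000000020000000100000004],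
    [0x4000400000001000300020003,0x200020004000300010001,0x1000200040002000400000000,0x3000000020000000300000000,0x100010002000100000000,0x100000002000100040001,0x1000000040003000100020002],
    [0x4000000010004000000000001,0x1000200030000000400010000,0x300040001000100000004,0x2000200040000000400010001,0x3000200040004000100040001,0x3000100000000000000040003,0x3000400000000000000040002]]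

/-- A block of images of an isotropic vector. -/
def uOrbB0 : List (List ℕ × ℕ × ℕ) :=
  [([4,0,4,0,4,3,4],0,0),
   ([4,4,1,1,4,1,2],0,0),
   ([3,0,4,4,0,4,1],0,1),
   ([2,0,2,2,1,1,2],0,2),
   ([4,3,0,0,2,2,2],0,3),
   ([1,1,0,1,1,0,3],1,0),
   ([1,0,1,2,3,4,3],1,2),
   ([0,4,2,4,4,0,4],1,3),
   ([2,3,4,4,0,1,3],2,1),
   ([0,4,3,0,1,4,3],2,2),
   ([3,0,2,4,4,1,0],2,3),
   ([1,0,3,3,3,4,2],3,0),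
   ([2,4,4,1,3,4,1],3,1),
   ([1,0,0,4,3,4,3],3,2),
   ([1,4,4,0,4,3,3],4,0),
   ([0,2,1,3,2,3,4],4,1),
   ([4,0,0,3,4,2,4],4,3),
   ([1,2,3,1,0,0,3],5,0),
   ([3,3,4,1,3,2,4],5,2),
   ([3,2,4,2,2,1,0],5,3),
   ([1,0,2,1,2,1,4],6,0),
   ([1,3,1,4,1,0,2],6,1),
   ([1,1,1,3,2,0,4],6,2),
   ([1,3,0,2,0,3,0],7,0),
   ([0,2,2,0,3,2,3],7,1),
   ([1,3,2,1,2,3,3],7,3),
   ([0,2,1,2,3,1,3],8,1),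
   ([4,0,4,1,3,2,4],8,2),
   ([0,4,4,4,0,3,4],8,3),
   ([2,3,4,1,3,3,0],9,0),
   ([4,2,0,3,4,4,1],9,1),
   ([0,3,2,0,3,3,3],9,2),
   ([0,2,4,0,4,2,4],10,0),
   ([4,1,4,3,1,1,2],10,1),
   ([3,2,2,4,4,0,0],10,3),
   ([0,3,0,0,2,1,4],11,0),
   ([4,1,0,1,1,4,3],11,2),
   ([4,1,4,2,2,3,4],11,3),
   ([0,4,1,3,2,4,0],12,1),
   ([2,1,4,1,3,3,2],12,2),
   ([3,3,2,4,4,4,4],12,3),
   ([2,1,0,2,0,4,0],13,0),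
   ([1,4,0,4,3,2,1],13,1),
   ([0,1,1,0,0,3,4],13,2),
   ([4,2,3,4,2,4,0],14,0),
   ([2,1,1,4,1,4,3],14,2),
   ([2,1,3,4,2,1,4],14,3),
   ([0,1,1,4,1,3,3],15,1),
   ([3,2,3,4,2,3,1],15,2),
   ([0,2,1,3,2,3,2],15,3),
   ([4,1,2,4,4,1,4],16,0),
   ([3,2,2,0,3,0,2],16,1),
   ([1,0,1,2,3,1,3],16,3),
   ([3,2,3,1,0,2,4],17,0),
   ([4,1,2,3,0,4,0],17,2),
   ([2,2,3,1,0,0,4],17,3),
   ([3,4,4,4,0,1,4],18,0),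
   ([4,4,2,4,4,0,0],18,1),
   ([2,2,3,0,1,3,0],18,2),
   ([3,1,1,4,1,3,0],19,0),
   ([3,4,3,3,3,2,0],19,1),
   ([3,1,4,1,3,3,3],19,3),
   ([2,4,0,1,1,4,2],20,0),
   ([0,2,4,2,2,1,4],20,2),
   ([3,0,3,2,4,1,3],20,3),
   ([2,1,4,3,1,0,1],21,1),
   ([4,0,3,1,0,2,2],21,2),
   ([1,2,3,1,0,1,0],21,3),
   ([4,0,3,4,2,3,3],22,0),
   ([2,1,1,0,0,2,2],22,1),
   ([2,1,2,4,4,2,1],22,2),
   ([1,3,3,3,3,3,1],23,0),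
   ([3,3,0,0,2,0,4],23,2),
   ([4,4,0,0,2,3,1],23,3),
   ([0,4,1,0,0,2,4],24,1),
   ([0,3,2,1,2,2,1],24,2),
   ([0,1,0,2,0,4,0],24,3),
   ([1,4,4,3,1,3,4],25,0),
   ([0,4,3,4,2,2,1],25,1),
   ([4,1,4,2,2,2,0],25,3),
   ([0,3,2,1,2,2,3],26,1),
   ([0,1,0,3,4,4,1],26,2),
   ([3,0,3,1,0,3,1],26,3),
   ([0,3,3,0,1,2,2],27,0),
   ([4,1,3,3,3,4,4],27,1),
   ([4,0,3,0,1,2,1],27,2),
   ([1,1,4,3,1,0,2],28,0),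
   ([4,3,1,4,1,2,2],28,1),
   ([2,0,2,4,4,1,0],28,3),
   ([4,1,4,4,0,2,0],29,0),
   ([2,3,1,3,2,3,4],29,2),
   ([4,4,4,4,0,1,3],29,3),
   ([3,2,3,1,0,0,1],30,1),
   ([4,4,1,1,4,2,3],30,2),
   ([4,3,2,2,1,2,0],30,3),
   ([4,3,4,3,1,0,3],31,0),
   ([1,3,3,1,0,2,4],31,1),
   ([1,1,4,1,3,2,3],31,2),
   ([2,1,4,1,3,0,3],32,0),
   ([0,1,0,2,0,4,3],32,2),
   ([0,3,1,1,4,2,3],32,3),
   ([4,0,1,3,2,4,1],33,1),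
   ([1,3,0,0,2,4,4],33,2),
   ([0,4,0,1,1,3,2],33,3),
   ([1,4,0,0,2,1,1],34,0),
   ([1,3,4,3,1,0,2],34,1),
   ([3,2,4,4,0,2,4],34,3),
   ([2,2,2,2,1,4,1],35,0),
   ([1,4,4,1,3,3,3],35,2),
   ([3,0,1,1,4,0,3],35,3),
   ([3,0,3,0,1,3,3],36,0),
   ([3,1,2,2,1,3,4],36,1),
   ([3,4,2,1,2,4,0],36,2),
   ([4,3,3,4,2,0,3],37,0),
   ([1,3,2,2,1,1,2],37,1),
   ([0,3,4,3,1,1,1],37,3),
   ([1,3,3,4,2,1,0],38,1),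
   ([0,1,1,2,3,2,1],38,2),
   ([4,2,4,4,0,0,2],38,3),
   ([2,2,4,1,3,4,2],39,0),
   ([1,2,2,0,3,3,2],39,1),
   ([1,1,3,4,2,0,2],39,2),
   ([3,4,4,3,1,3,3],40,0),
   ([3,2,4,4,0,1,0],40,1),
   ([4,0,1,1,4,2,1],40,3)]

/-- A block of images of an isotropic vector. -/
def uOrbB1 : List (List ℕ × ℕ × ℕ) :=
  [([2,1,4,3,1,4,3],41,0),
   ([1,4,2,0,3,4,2],41,2),
   ([0,4,2,1,2,4,4],41,3),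
   ([2,1,3,0,1,0,2],42,1),
   ([2,1,0,4,3,2,0],42,2),
   ([4,3,1,3,2,4,4],42,3),
   ([4,3,0,2,0,0,4],43,0),
   ([1,0,1,3,2,4,4],43,1),
   ([3,0,4,0,4,3,2],43,2),
   ([3,3,4,3,1,2,1],44,0),
   ([0,3,1,3,2,2,0],44,2),
   ([2,3,3,4,2,4,2],44,3),
   ([3,4,1,4,1,0,4],45,0),
   ([2,4,2,2,1,0,2],45,1),
   ([3,2,2,4,4,4,1],45,2),
   ([3,0,0,3,4,4,2],46,0),
   ([0,4,4,4,0,3,3],46,1),
   ([1,0,1,3,2,3,4],46,3),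
   ([1,1,3,3,3,2,4],47,1),
   ([3,3,0,4,3,1,2],47,2),
   ([4,2,3,1,0,1,0],47,3),
   ([1,1,2,1,2,4,3],48,0),
   ([2,0,4,3,1,3,1],48,1),
   ([2,0,0,1,1,0,4],48,2),
   ([1,3,3,2,4,4,1],49,0),
   ([2,4,4,0,4,3,4],49,1),
   ([2,0,1,4,1,2,1],49,3),
   ([3,4,1,4,1,1,2],50,0),
   ([4,2,3,1,0,4,4],50,2),
   ([0,2,1,4,1,4,3],50,3),
   ([0,3,3,0,1,2,4],51,1),
   ([2,2,2,3,0,3,1],51,2),
   ([4,1,1,4,1,3,0],51,3),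
   ([4,4,4,3,1,0,3],52,0),
   ([1,2,2,2,1,4,2],52,1),
   ([4,3,2,0,3,3,0],52,3),
   ([4,1,0,2,0,0,4],53,0),
   ([2,2,2,1,2,3,0],53,2),
   ([3,2,2,4,4,1,4],53,3),
   ([4,4,2,1,2,3,4],54,0),
   ([2,4,3,4,2,1,3],54,1),
   ([4,1,2,1,2,0,1],54,2),
   ([4,2,1,0,0,1,1],55,0),
   ([3,0,4,3,1,3,4],55,1),
   ([2,3,2,4,4,1,4],55,3),
   ([3,2,0,4,3,2,4],56,2),
   ([0,1,3,3,3,3,3],56,3),
   ([1,0,0,2,0,4,1],57,1),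
   ([0,3,2,4,4,0,1],57,2),
   ([4,4,3,2,4,3,4],57,3),
   ([0,2,2,2,1,3,3],58,0),
   ([1,4,2,4,4,2,3],58,1),
   ([1,1,2,1,2,1,0],58,2),
   ([4,2,4,1,3,1,2],59,0),
   ([0,1,2,0,3,4,0],59,2),
   ([0,4,0,3,4,1,2],59,3),
   ([4,3,1,3,2,0,1],60,1),
   ([2,3,4,0,4,0,3],60,2),
   ([3,4,1,0,0,2,0],60,3),
   ([3,2,2,0,3,3,4],61,0),
   ([3,1,1,2,3,1,3],61,1),
   ([2,0,3,4,2,0,1],61,3),
   ([0,1,1,0,0,3,3],62,0),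
   ([0,2,0,2,0,2,2],62,3),
   ([3,1,4,0,4,4,0],63,0),
   ([0,4,3,1,0,3,1],63,1),
   ([1,1,4,1,3,1,2],64,0),
   ([1,3,3,4,2,4,4],64,1),
   ([2,4,1,4,1,4,4],64,3),
   ([4,1,1,2,3,1,1],65,1),
   ([2,4,2,2,1,1,4],65,2),
   ([4,1,4,0,4,3,1],65,3),
   ([3,2,3,3,3,1,3],66,0),
   ([4,4,1,3,2,2,3],66,1),
   ([3,1,0,0,2,1,1],66,2),
   ([0,4,1,0,0,2,2],67,0),
   ([4,0,0,4,3,2,2],67,1),
   ([0,1,1,2,3,2,4],67,3),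
   ([1,2,4,3,1,1,4],68,0),
   ([4,4,2,2,1,3,4],68,2),
   ([4,2,0,1,1,4,4],68,3),
   ([4,2,2,0,3,3,3],69,1),
   ([2,0,0,4,3,4,4],69,2),
   ([0,1,0,0,2,3,2],69,3),
   ([1,1,0,3,4,1,2],70,0),
   ([1,3,4,1,3,3,0],70,1),
   ([0,2,2,2,1,3,2],70,2),
   ([2,2,1,4,1,4,0],71,0),
   ([2,2,2,3,0,0,3],71,2),
   ([0,1,1,1,4,1,4],71,3),
   ([4,0,2,1,2,2,1],72,0),
   ([0,2,4,4,0,1,4],72,1),
   ([1,0,2,1,2,0,4],72,2),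
   ([2,0,2,2,1,3,2],73,1),
   ([0,2,3,4,2,4,4],73,3),
   ([4,4,0,0,2,1,4],74,1),
   ([0,1,2,0,3,4,3],74,2),
   ([1,1,2,0,3,0,1],74,3),
   ([2,2,4,4,0,3,2],75,0),
   ([4,2,0,1,1,2,3],75,1),
   ([0,1,3,3,3,3,0],75,2),
   ([3,1,0,3,4,4,0],76,0),
   ([0,4,4,4,0,3,0],76,1),
   ([3,4,4,4,0,3,0],76,3),
   ([3,0,3,3,3,2,4],77,0),
   ([4,2,1,1,4,0,1],77,2),
   ([0,3,4,4,0,4,2],77,3),
   ([0,3,0,3,4,3,4],78,1),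
   ([3,2,3,1,0,4,2],78,2),
   ([2,2,1,0,0,1,2],78,3),
   ([4,1,3,2,4,2,4],79,0),
   ([0,2,0,0,2,4,4],79,1),
   ([4,2,1,3,2,3,0],79,3),
   ([2,4,2,0,3,2,2],80,1),
   ([3,1,0,4,3,3,2],80,2),
   ([3,4,2,4,4,3,4],80,3),
   ([2,2,4,2,2,1,0],81,0),
   ([0,3,2,4,4,0,0],81,1),
   ([0,4,1,1,4,4,3],81,2),
   ([1,4,1,0,0,4,3],82,0),
   ([2,2,0,0,2,1,2],82,1),
   ([1,4,0,3,4,0,1],82,3),
   ([0,2,0,2,0,2,1],83,0),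
   ([1,3,2,2,1,2,0],83,2),
   ([4,4,3,2,4,0,1],83,3)]

/-- A block of images of an isotropic vector. -/
def uOrbB2 : List (List ℕ × ℕ × ℕ) :=
  [([0,3,2,3,0,3,3],84,1),
   ([3,0,2,2,1,1,3],84,2),
   ([0,4,1,0,0,2,0],84,3),
   ([4,1,4,4,0,4,3],85,0),
   ([4,0,3,3,3,0,3],85,1),
   ([3,4,1,4,1,4,1],85,2),
   ([3,3,0,3,4,4,1],86,0),
   ([3,3,3,0,1,0,3],86,2),
   ([2,2,0,1,1,3,2],86,3),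
   ([1,2,2,1,2,2,3],87,2),
   ([4,1,1,3,2,2,4],87,3),
   ([3,2,2,0,3,2,0],88,0),
   ([1,3,1,3,2,3,3],88,1),
   ([2,2,3,3,3,2,3],88,3),
   ([4,3,4,2,2,3,3],89,0),
   ([3,2,3,2,4,2,1],89,2),
   ([0,1,0,0,2,3,0],89,3),
   ([3,0,0,3,4,0,2],90,0),
   ([2,4,1,1,4,2,1],90,1),
   ([1,0,3,4,2,4,2],90,2),
   ([2,2,4,2,2,2,1],91,0),
   ([2,0,1,4,1,0,1],91,1),
   ([4,0,4,2,2,1,2],92,1),
   ([2,3,0,2,0,1,2],92,2),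
   ([1,0,1,4,1,0,2],92,3),
   ([4,3,2,1,2,1,3],93,0),
   ([3,3,3,1,0,0,1],93,1),
   ([4,2,4,0,4,0,4],93,2),
   ([1,3,4,0,4,2,2],94,0),
   ([3,1,3,2,4,1,0],94,1),
   ([3,3,0,3,4,1,3],94,3),
   ([3,2,4,3,1,4,0],95,0),
   ([0,3,4,3,1,1,4],95,2),
   ([4,0,2,3,0,3,4],95,3),
   ([1,3,1,3,2,2,0],96,1),
   ([3,1,2,1,2,0,3],96,2),
   ([1,3,4,3,1,4,4],96,3),
   ([0,0,2,4,4,1,4],97,0),
   ([2,3,2,3,0,3,0],97,1),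
   ([3,3,2,2,1,3,1],97,2),
   ([4,1,2,2,1,2,4],98,0),
   ([3,0,3,2,4,2,3],98,2),
   ([1,4,0,2,0,4,2],98,3),
   ([0,1,3,0,1,1,4],99,0),
   ([2,2,2,0,3,3,1],99,1),
   ([2,2,0,4,3,2,1],99,2),
   ([1,1,3,3,3,3,0],100,0),
   ([0,4,2,4,4,0,0],100,1),
   ([0,1,4,3,1,3,4],100,3),
   ([3,1,2,0,3,0,2],101,2),
   ([1,3,2,0,3,0,1],102,0),
   ([1,1,0,1,1,2,0],102,2),
   ([2,4,1,4,1,1,3],103,0),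
   ([0,2,3,2,4,3,1],103,1),
   ([3,0,4,3,1,0,4],103,3),
   ([2,4,2,3,0,0,3],104,0),
   ([4,1,1,2,3,3,4],104,2),
   ([2,3,0,2,0,3,0],104,3),
   ([2,3,2,3,0,4,4],105,1),
   ([2,0,3,0,1,3,2],105,2),
   ([2,4,0,3,4,1,0],105,3),
   ([3,0,2,1,2,2,3],106,0),
   ([1,1,4,1,3,3,4],106,1),
   ([0,1,1,3,2,1,4],106,3),
   ([4,0,2,3,0,2,4],107,0),
   ([3,3,0,1,1,0,1],107,2),
   ([0,2,3,1,0,1,1],107,3),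
   ([0,1,2,3,0,4,0],108,1),
   ([3,3,4,2,2,1,2],108,2),
   ([4,1,4,2,2,0,2],109,0),
   ([1,3,3,0,1,1,2],109,1),
   ([3,4,0,4,3,3,0],109,3),
   ([4,3,0,3,4,4,2],110,0),
   ([2,0,0,0,2,4,1],110,2),
   ([1,4,3,1,0,1,2],110,3),
   ([4,0,4,0,4,4,4],111,1),
   ([2,1,1,0,0,1,4],111,2),
   ([3,2,4,0,4,3,4],111,3),
   ([2,3,2,0,3,1,2],112,0),
   ([0,1,3,4,2,3,3],112,1),
   ([4,2,4,4,0,4,4],113,0),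
   ([3,1,1,2,3,2,0],113,2),
   ([4,4,1,3,2,3,4],113,3),
   ([2,2,3,2,4,0,2],114,1),
   ([4,2,0,4,3,0,2],114,2),
   ([3,3,0,2,0,2,4],114,3),
   ([1,4,0,1,1,3,0],115,0),
   ([2,0,4,2,2,1,4],115,3),
   ([1,0,0,3,4,0,1],116,2),
   ([3,3,2,4,4,2,2],117,0),
   ([1,1,4,4,0,1,4],117,1),
   ([4,2,0,2,0,1,2],117,2),
   ([4,1,0,1,1,0,2],118,0),
   ([1,3,4,4,0,2,4],118,1),
   ([3,0,4,1,3,1,2],118,3),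
   ([1,1,1,0,0,4,1],119,0),
   ([2,4,0,4,3,0,4],119,2),
   ([2,2,2,4,4,4,4],119,3),
   ([4,3,1,2,3,2,1],120,1),
   ([3,1,3,3,3,4,2],120,2),
   ([4,3,0,4,3,4,0],121,0),
   ([4,2,1,1,4,3,0],121,1),
   ([1,1,0,4,3,1,4],121,2),
   ([3,0,1,4,1,3,4],122,0),
   ([1,4,0,3,4,2,4],122,2),
   ([3,2,2,4,4,2,3],122,3),
   ([0,0,2,4,4,1,1],123,1),
   ([3,0,1,2,3,4,1],123,2),
   ([4,0,3,3,3,3,3],123,3),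
   ([1,0,1,1,4,1,4],124,0),
   ([1,3,0,4,3,3,2],124,1),
   ([1,1,0,0,2,2,4],124,3),
   ([0,1,2,1,2,1,1],125,0),
   ([1,2,2,3,0,0,1],125,2),
   ([2,1,1,2,3,3,3],125,3),
   ([1,2,2,3,0,1,3],126,0),
   ([1,4,2,0,3,0,1],126,1),
   ([1,0,0,3,4,3,1],126,2),
   ([2,3,0,1,1,2,2],127,0),
   ([2,1,3,2,4,4,4],127,1),
   ([2,0,3,1,0,2,4],127,3),
   ([3,3,1,4,1,3,2],128,1),
   ([0,4,3,2,4,4,0],128,2),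
   ([1,3,0,3,4,1,4],128,3),
   ([4,4,3,1,0,1,3],129,0)]

/-- A block of images of an isotropic vector. -/
def uOrbB3 : List (List ℕ × ℕ × ℕ) :=
  [([3,2,3,2,4,4,4],129,1),
   ([0,4,4,1,3,1,0],129,2),
   ([1,2,0,4,3,2,2],130,0),
   ([3,2,0,0,2,0,4],130,1),
   ([4,0,0,0,2,0,3],130,3),
   ([1,2,0,1,1,3,4],131,0),
   ([1,0,3,2,4,0,4],131,2),
   ([3,2,3,0,1,1,2],131,3),
   ([1,2,4,4,0,2,2],132,1),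
   ([1,3,0,4,3,2,4],132,2),
   ([1,2,3,4,2,4,0],132,3),
   ([4,4,2,3,0,3,2],133,0),
   ([2,0,4,0,4,1,3],133,1),
   ([1,4,0,1,1,0,3],133,2),
   ([1,1,2,2,1,0,4],134,0),
   ([2,1,1,2,3,2,0],134,2),
   ([4,3,1,1,4,2,0],135,0),
   ([0,2,3,4,2,4,0],135,1),
   ([0,1,2,2,1,1,4],135,2),
   ([2,0,3,4,2,3,1],136,0),
   ([4,2,4,1,3,0,4],136,1),
   ([3,1,0,2,0,3,3],136,3),
   ([3,2,3,3,3,0,4],137,0),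
   ([0,3,0,2,0,3,0],137,2),
   ([1,0,1,3,2,2,4],137,3),
   ([1,0,2,0,3,4,1],138,1),
   ([0,2,3,4,2,4,1],138,2),
   ([4,2,1,2,3,3,1],138,3),
   ([1,2,0,3,4,3,2],139,0),
   ([0,2,2,1,2,3,4],139,1),
   ([3,3,1,2,3,0,1],139,2),
   ([2,0,0,3,4,2,3],140,0),
   ([1,1,2,4,4,3,3],140,2),
   ([2,2,3,1,0,4,3],140,3),
   ([0,2,0,2,0,2,0],141,1),
   ([3,3,3,1,0,1,2],141,2),
   ([3,4,2,2,1,3,2],141,3),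
   ([1,4,0,4,3,1,2],142,0),
   ([1,0,1,0,0,0,2],142,1),
   ([1,0,0,2,0,3,1],142,3),
   ([1,0,2,0,3,0,1],143,1),
   ([1,3,3,2,4,1,2],143,2),
   ([2,0,3,3,3,1,1],143,3),
   ([0,1,3,4,2,3,0],144,0),
   ([1,0,4,2,2,4,3],144,2),
   ([1,4,2,0,3,2,4],145,0),
   ([3,1,3,0,1,1,0],145,3),
   ([0,2,3,3,3,4,2],146,0),
   ([4,1,2,2,1,0,1],146,3),
   ([2,4,3,2,4,0,2],147,2),
   ([4,1,3,0,1,2,4],147,3),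
   ([2,0,0,2,0,1,3],148,0),
   ([0,1,1,1,4,1,3],148,1),
   ([3,3,0,4,3,4,0],148,2),
   ([1,3,4,0,4,3,0],149,0),
   ([0,2,1,0,0,4,4],149,2),
   ([2,1,2,2,1,2,3],149,3),
   ([1,2,4,2,2,0,3],150,1),
   ([4,2,2,2,1,0,1],150,2),
   ([2,2,2,2,1,2,4],150,3),
   ([2,3,1,1,4,0,2],151,0),
   ([3,1,0,3,4,3,3],151,1),
   ([3,2,3,1,0,1,0],151,3),
   ([4,4,2,1,2,4,0],152,0),
   ([1,0,0,1,1,4,3],152,2),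
   ([3,0,4,1,3,2,2],152,3),
   ([4,0,4,4,0,4,2],153,0),
   ([4,4,2,4,4,2,2],153,1),
   ([3,2,1,1,4,1,2],153,2),
   ([4,1,3,2,4,3,3],154,0),
   ([2,0,0,4,3,2,4],154,1),
   ([4,0,1,4,1,1,3],154,3),
   ([2,2,1,0,0,2,3],155,1),
   ([4,3,4,3,1,2,2],155,2),
   ([2,1,3,1,0,1,2],155,3),
   ([0,4,4,2,2,3,4],156,0),
   ([1,4,4,4,0,1,2],156,1),
   ([0,3,1,4,1,1,0],156,2),
   ([1,2,1,1,4,1,1],157,0),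
   ([1,0,2,2,1,4,4],157,1),
   ([1,4,4,4,0,4,4],157,3),
   ([3,4,0,1,1,2,2],158,0),
   ([2,4,4,3,1,0,1],158,2),
   ([4,1,2,4,4,2,3],158,3),
   ([1,1,3,2,4,3,2],159,1),
   ([4,2,1,4,1,4,0],159,2),
   ([0,3,4,1,3,3,0],160,0),
   ([1,2,2,0,3,4,4],160,1),
   ([2,1,4,3,1,2,2],160,3),
   ([1,3,3,0,1,2,0],161,0),
   ([2,3,3,2,4,2,0],161,2),
   ([3,0,3,3,3,3,4],161,3),
   ([1,2,2,3,0,3,2],162,0),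
   ([0,2,4,1,3,2,4],162,1),
   ([4,4,4,0,4,2,1],162,2),
   ([1,1,0,2,0,4,0],163,0),
   ([2,4,1,0,0,2,0],163,1),
   ([4,3,2,4,4,0,0],163,3),
   ([0,3,3,2,4,2,3],164,2),
   ([4,4,0,3,4,2,1],165,1),
   ([3,2,3,2,4,0,3],165,2),
   ([2,2,1,4,1,2,3],165,3),
   ([2,4,3,1,0,3,0],166,0),
   ([4,1,3,4,2,4,4],166,1),
   ([0,4,4,3,1,2,4],166,2),
   ([2,1,4,1,3,2,4],167,0),
   ([2,1,2,1,2,4,4],167,2),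
   ([3,4,0,4,3,4,3],167,3),
   ([3,1,2,3,0,2,1],168,1),
   ([2,0,1,1,4,1,2],168,2),
   ([2,4,2,2,1,4,0],168,3),
   ([4,3,4,0,4,2,3],169,0),
   ([0,3,2,2,1,2,1],169,1),
   ([3,4,3,4,2,1,2],169,3),
   ([2,1,0,0,2,0,1],170,0),
   ([3,1,4,2,2,0,1],170,1),
   ([1,1,3,3,3,1,3],170,2),
   ([3,3,4,1,3,1,3],171,0),
   ([4,3,1,2,3,4,0],171,1),
   ([2,1,2,2,1,1,0],171,3),
   ([1,1,4,4,0,3,1],172,1),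
   ([0,2,3,3,3,4,4],172,2),
   ([3,4,3,1,0,0,1],172,3),
   ([2,2,0,2,0,4,2],173,1),
   ([0,3,3,2,4,2,2],173,2)]

/-- A block of images of an isotropic vector. -/
def uOrbB4 : List (List ℕ × ℕ × ℕ) :=
  [([0,3,3,4,2,1,1],174,0),
   ([2,4,4,2,2,3,0],174,1),
   ([2,3,1,0,0,3,3],174,3),
   ([4,3,4,0,4,3,0],175,0),
   ([1,4,0,2,0,2,4],175,2),
   ([1,2,2,1,2,0,4],175,3),
   ([4,3,0,1,1,4,0],176,1),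
   ([1,4,4,3,1,4,3],176,2),
   ([3,1,2,4,4,0,0],176,3),
   ([1,1,2,3,0,1,2],177,0),
   ([1,3,1,1,4,2,0],177,1),
   ([1,3,0,0,2,0,2],177,2),
   ([3,0,2,2,1,3,3],178,0),
   ([1,0,4,4,0,4,3],178,2),
   ([4,1,1,0,0,2,1],178,3),
   ([1,1,0,1,1,4,2],179,0),
   ([2,3,0,0,2,3,3],179,1),
   ([4,1,3,2,4,0,1],179,2),
   ([4,2,0,2,0,3,3],180,0),
   ([2,4,1,0,0,3,2],180,1),
   ([4,0,2,1,2,3,1],180,3),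
   ([1,1,0,3,4,2,3],181,1),
   ([3,1,4,0,4,3,3],181,2),
   ([2,4,3,1,0,2,3],181,3),
   ([4,4,1,3,2,0,1],182,0),
   ([1,3,0,1,1,1,1],182,1),
   ([1,0,0,4,3,3,3],182,2),
   ([0,2,4,4,0,1,3],183,0),
   ([2,4,0,2,0,0,3],183,1),
   ([3,2,4,0,4,2,0],183,3),
   ([4,1,0,4,3,1,1],184,0),
   ([2,3,0,4,3,1,3],184,2),
   ([2,4,0,4,3,2,3],184,3),
   ([3,0,2,4,4,3,0],185,1),
   ([2,3,0,3,4,3,0],185,2),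
   ([1,4,0,3,4,3,3],185,3),
   ([2,1,0,2,0,2,4],186,0),
   ([2,2,4,2,2,3,2],186,1),
   ([4,4,3,4,2,4,2],186,3),
   ([4,0,3,2,4,3,1],187,2),
   ([2,4,0,2,0,1,0],187,3),
   ([3,4,1,2,3,1,4],188,0),
   ([4,4,4,2,2,2,4],188,1),
   ([4,2,0,0,2,0,3],189,2),
   ([2,2,4,4,0,2,1],189,3),
   ([2,1,2,3,0,4,0],190,1),
   ([3,3,3,4,2,2,1],190,3),
   ([2,3,0,4,3,0,4],191,0),
   ([0,1,4,4,0,2,0],191,2),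
   ([1,0,4,1,3,4,1],191,3),
   ([4,1,0,0,2,3,0],192,2),
   ([0,3,1,0,0,1,2],192,3),
   ([2,0,0,2,0,3,3],193,0),
   ([4,1,0,0,2,4,4],193,1),
   ([0,3,4,0,4,3,3],193,3),
   ([2,4,3,2,4,4,0],194,2),
   ([4,3,4,3,1,4,1],195,0),
   ([4,4,2,3,0,1,0],195,1),
   ([2,4,2,0,3,0,3],195,2),
   ([2,1,4,2,2,2,0],196,0),
   ([2,4,0,0,2,2,0],196,1),
   ([2,1,0,0,2,2,2],196,3),
   ([1,1,4,2,2,0,3],197,0),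
   ([0,4,2,2,1,4,2],198,1),
   ([0,1,4,0,4,4,1],198,3),
   ([1,2,1,3,2,2,3],199,1),
   ([4,0,1,2,3,3,2],199,2),
   ([2,1,0,4,3,4,1],200,2),
   ([1,3,2,4,4,2,1],201,1),
   ([2,0,1,2,3,4,4],201,2),
   ([1,0,3,4,2,0,2],201,3),
   ([0,3,0,1,1,4,1],202,0),
   ([3,4,2,0,3,1,0],202,1),
   ([2,2,1,4,1,3,4],202,3),
   ([0,2,4,0,4,2,1],203,0),
   ([2,1,2,1,2,0,2],203,2),
   ([0,2,3,3,3,4,1],203,3),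
   ([1,2,0,0,2,3,3],204,0),
   ([0,4,4,1,3,1,3],204,1),
   ([1,0,1,0,0,4,2],204,2),
   ([2,2,0,2,0,0,3],205,0),
   ([3,4,2,1,2,1,1],205,1),
   ([0,2,3,1,0,1,4],205,3),
   ([2,3,1,4,1,1,0],206,1),
   ([1,4,4,1,3,2,4],206,2),
   ([3,1,3,1,0,3,2],207,0),
   ([3,3,4,1,3,0,2],207,1),
   ([2,2,2,3,0,4,2],207,2),
   ([2,2,0,0,2,4,0],208,0),
   ([1,3,4,3,1,2,3],208,1),
   ([0,0,2,4,4,3,2],208,3),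
   ([1,1,4,3,1,4,1],209,0),
   ([0,4,1,4,1,2,1],209,2),
   ([0,2,1,4,1,4,1],209,3),
   ([2,1,0,0,2,1,4],210,1),
   ([4,2,1,3,2,2,2],210,2),
   ([3,4,0,3,4,3,1],210,3),
   ([0,3,3,1,0,4,2],211,0),
   ([3,1,2,3,0,3,3],211,1),
   ([2,4,4,4,0,2,3],211,2),
   ([1,1,4,0,4,1,2],212,0),
   ([3,3,4,0,4,3,0],212,2),
   ([4,2,4,0,4,3,3],212,3),
   ([1,3,3,2,4,0,4],213,0),
   ([4,0,2,1,2,0,1],213,1),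
   ([2,4,2,3,0,2,2],214,1),
   ([0,1,4,0,4,4,2],215,0),
   ([1,2,3,3,3,0,2],215,2),
   ([4,4,3,1,0,2,4],215,3),
   ([2,0,2,2,1,2,2],216,1),
   ([0,2,0,4,3,1,4],216,2),
   ([2,4,1,3,2,1,4],216,3),
   ([1,3,3,3,3,2,3],217,1),
   ([1,0,2,2,1,0,4],217,2),
   ([2,3,0,4,3,3,1],218,1),
   ([4,4,0,4,3,0,2],218,3),
   ([0,1,1,3,2,1,0],219,1),
   ([4,2,2,3,0,4,1],219,3),
   ([4,4,4,0,4,4,3],220,1),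
   ([2,1,2,1,2,1,0],220,3),
   ([3,1,3,3,3,1,1],221,0),
   ([4,1,3,1,0,3,4],221,1),
   ([1,1,1,1,4,0,4],221,2),
   ([1,3,4,1,3,0,1],222,0),
   ([3,4,3,4,2,0,4],222,3)]

/-- A block of images of an isotropic vector. -/
def uOrbB5 : List (List ℕ × ℕ × ℕ) :=
  [([2,2,4,4,0,1,0],223,0),
   ([1,3,2,3,0,0,1],223,2),
   ([1,1,0,0,2,3,0],223,3),
   ([4,4,0,1,1,2,4],224,1),
   ([1,2,2,0,3,1,3],224,3),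
   ([1,3,1,4,1,4,4],225,0),
   ([2,0,3,1,0,4,4],225,1),
   ([1,4,1,0,0,1,1],225,2),
   ([4,2,4,3,1,2,4],226,0),
   ([0,2,0,3,4,2,3],226,2),
   ([4,1,3,3,3,2,1],226,3),
   ([3,4,2,1,2,2,4],227,1),
   ([1,3,0,2,0,1,4],227,2),
   ([1,1,1,2,3,4,2],228,0),
   ([2,3,1,1,4,1,1],228,1),
   ([4,1,4,4,0,3,4],228,3),
   ([4,4,4,1,3,0,4],229,0),
   ([0,4,3,2,4,4,4],229,2),
   ([4,4,1,4,1,3,1],229,3),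
   ([3,0,1,0,0,3,4],230,0),
   ([3,3,2,0,3,0,2],230,1),
   ([4,1,3,4,2,0,3],230,2),
   ([2,1,2,3,0,1,1],231,0),
   ([0,1,3,2,4,1,3],231,1),
   ([4,3,0,0,2,4,1],232,1),
   ([2,4,2,0,3,1,0],232,2),
   ([2,0,3,3,3,2,1],232,3),
   ([4,0,0,1,1,1,2],233,0),
   ([3,4,2,0,3,4,4],233,1),
   ([2,1,4,0,4,0,3],233,2),
   ([0,2,3,3,3,4,3],234,1),
   ([0,0,2,4,4,1,2],234,3),
   ([1,0,4,4,0,0,3],235,0),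
   ([4,4,0,4,3,2,4],235,2),
   ([2,3,3,0,1,0,2],235,3),
   ([0,4,3,3,3,2,2],236,1),
   ([1,4,0,1,1,2,1],236,2),
   ([3,0,0,1,1,4,1],236,3),
   ([1,3,4,4,0,1,1],237,0),
   ([1,4,4,1,3,0,1],237,1),
   ([3,3,2,4,4,3,3],237,3),
   ([4,3,4,2,2,4,0],238,1),
   ([3,2,3,4,2,0,4],238,3),
   ([4,4,1,0,0,4,2],239,1),
   ([0,2,3,2,4,3,4],239,2),
   ([4,2,0,2,0,2,0],240,1),
   ([4,4,3,0,1,0,1],240,3),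
   ([0,3,2,2,1,2,2],242,3),
   ([4,2,1,3,2,0,1],243,0),
   ([1,0,2,4,4,2,0],243,1),
   ([0,2,3,0,1,3,1],243,2),
   ([3,4,2,3,0,2,3],244,3),
   ([2,0,2,0,3,1,3],245,2),
   ([2,2,4,3,1,1,2],245,3),
   ([3,0,0,2,0,2,2],246,0),
   ([1,4,0,4,3,4,4],246,1),
   ([1,2,3,3,3,2,1],246,3),
   ([3,4,4,3,1,4,1],247,2),
   ([2,2,3,3,3,3,4],247,3),
   ([0,3,3,0,1,2,0],248,0),
   ([4,2,4,2,2,2,3],248,1),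
   ([0,4,0,3,4,1,0],248,2),
   ([1,2,2,4,4,3,1],249,0),
   ([0,0,2,4,4,2,4],249,1),
   ([0,4,2,3,0,1,2],249,3),
   ([4,2,3,0,1,3,0],250,2),
   ([4,0,4,3,1,4,3],250,3),
   ([2,0,1,2,3,3,4],251,0),
   ([4,3,3,3,3,2,2],251,1),
   ([3,1,1,2,3,0,1],251,2),
   ([4,2,3,4,2,1,1],252,0),
   ([3,0,1,2,3,1,1],252,1),
   ([0,2,2,2,1,3,4],252,3),
   ([4,2,4,1,3,4,1],253,0),
   ([3,1,0,1,1,4,4],253,2),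
   ([2,3,1,0,0,4,2],253,3),
   ([0,2,0,3,4,2,1],254,1),
   ([1,1,3,4,2,3,0],254,2),
   ([0,1,0,4,3,2,2],255,1),
   ([4,1,0,3,4,2,2],255,2),
   ([3,4,1,1,4,0,3],256,2),
   ([3,4,3,2,4,3,2],256,3),
   ([2,3,0,4,3,2,2],257,0),
   ([2,1,3,0,1,2,3],257,1),
   ([1,2,4,0,4,3,2],257,2),
   ([1,0,3,3,3,0,2],258,0),
   ([0,3,2,3,0,3,0],258,3),
   ([2,0,2,4,4,3,0],259,0),
   ([4,0,1,3,2,2,1],259,1),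
   ([4,1,0,4,3,0,2],259,2),
   ([3,4,1,1,4,2,4],260,0),
   ([1,4,1,3,2,0,4],260,1),
   ([4,4,4,4,0,0,2],260,3),
   ([4,4,0,2,0,3,2],261,0),
   ([2,1,4,2,2,0,4],261,2),
   ([1,3,2,4,4,4,2],261,3),
   ([0,0,2,4,4,4,0],262,1),
   ([2,2,0,3,4,2,0],262,3),
   ([3,3,3,3,3,2,1],263,0),
   ([1,4,3,0,1,1,3],263,1),
   ([4,0,2,3,0,0,4],263,3),
   ([1,2,2,0,3,2,0],264,2),
   ([1,4,4,3,1,1,1],264,3),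
   ([0,2,2,3,0,2,0],265,1),
   ([4,2,3,2,4,1,4],266,0),
   ([3,1,2,4,4,2,4],266,1),
   ([2,3,2,0,3,2,1],266,3),
   ([1,2,1,4,1,4,0],267,0),
   ([0,3,4,4,0,4,3],267,2),
   ([2,4,1,3,2,0,2],267,3),
   ([4,0,0,2,0,4,4],268,1),
   ([0,0,2,4,4,3,3],268,2),
   ([4,0,2,2,1,2,1],268,3),
   ([0,4,3,0,1,4,1],269,0),
   ([0,3,3,4,2,1,2],269,2),
   ([4,3,1,4,1,4,1],270,0),
   ([1,2,3,4,2,0,2],270,2),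
   ([1,4,3,4,2,4,3],270,3),
   ([3,2,4,0,4,4,3],271,1),
   ([2,3,2,3,0,1,2],271,2),
   ([3,3,2,2,1,4,2],271,3),
   ([2,0,0,3,4,4,3],272,1),
   ([2,1,3,4,2,4,3],272,3),
   ([3,4,0,4,3,2,2],273,0),
   ([1,0,3,1,0,4,3],273,2)]

/-- A block of images of an isotropic vector. -/
def uOrbB6 : List (List ℕ × ℕ × ℕ) :=
  [([1,4,3,3,3,0,2],274,0),
   ([4,0,2,2,1,1,1],274,1),
   ([1,4,3,3,3,4,3],274,3),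
   ([4,0,3,1,0,4,2],275,0),
   ([2,2,0,1,1,4,3],275,3),
   ([0,2,3,4,2,4,2],276,1),
   ([4,4,0,2,0,0,4],276,2),
   ([2,2,0,4,3,1,0],277,0),
   ([0,3,3,1,0,4,1],277,1),
   ([1,3,0,1,1,0,3],278,0),
   ([2,3,3,1,0,4,0],278,2),
   ([3,2,0,4,3,3,3],278,3),
   ([0,2,4,0,4,2,3],279,1),
   ([0,2,1,4,1,4,4],279,3),
   ([4,2,2,0,3,4,1],280,1),
   ([1,0,4,0,4,1,1],280,3),
   ([0,3,2,2,1,2,3],281,0),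
   ([1,4,0,3,4,1,0],281,3),
   ([3,4,3,3,3,0,4],282,0),
   ([2,4,4,1,3,3,4],282,1),
   ([1,1,2,1,2,3,2],282,2),
   ([1,0,4,3,1,4,2],283,0),
   ([2,4,0,1,1,1,1],283,1),
   ([3,0,1,4,1,2,4],284,1),
   ([3,2,2,2,1,2,1],284,2),
   ([0,2,2,0,3,2,2],284,3),
   ([4,0,2,3,0,1,4],285,1),
   ([0,3,1,4,1,1,4],285,2),
   ([2,0,3,1,0,1,4],286,0),
   ([0,3,1,3,2,2,3],286,1),
   ([0,4,2,0,3,1,2],286,3),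
   ([1,1,0,4,3,3,1],287,3),
   ([3,0,2,4,4,4,0],288,1),
   ([3,4,0,1,1,0,1],288,2),
   ([4,2,2,4,4,1,3],288,3),
   ([2,0,4,0,4,3,3],289,0),
   ([4,1,4,3,1,0,3],289,1),
   ([4,3,3,1,0,4,0],289,2),
   ([4,0,0,4,3,0,2],290,3),
   ([0,3,0,2,0,3,4],291,0),
   ([1,0,1,3,2,1,4],291,1),
   ([3,2,2,0,3,1,1],292,0),
   ([4,0,1,4,1,0,3],292,1),
   ([4,1,4,3,1,2,1],293,0),
   ([1,4,2,3,0,3,3],293,2),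
   ([2,2,0,2,0,2,0],293,3),
   ([3,0,3,0,1,0,3],294,1),
   ([2,2,2,0,3,0,3],294,2),
   ([4,1,1,2,3,0,2],294,3),
   ([3,0,3,1,0,2,1],295,1),
   ([1,0,0,4,3,0,3],295,2),
   ([3,3,3,4,2,4,3],296,0),
   ([4,0,1,0,0,2,3],296,2),
   ([1,3,1,2,3,0,3],296,3),
   ([4,3,3,2,4,2,0],297,1),
   ([3,4,2,4,4,1,3],297,2),
   ([0,4,2,3,0,1,1],297,3),
   ([1,4,3,4,2,3,4],298,0),
   ([0,4,2,0,3,1,4],298,1),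
   ([4,0,0,0,2,4,3],298,3),
   ([4,3,4,0,4,4,2],299,0),
   ([4,1,4,3,1,4,4],299,1),
   ([0,1,2,3,0,4,4],299,2),
   ([1,2,1,2,3,1,0],300,0),
   ([4,1,1,0,0,0,3],300,2),
   ([2,1,2,1,2,2,3],301,0),
   ([2,0,4,3,1,0,1],301,1),
   ([4,2,0,2,0,4,1],301,2),
   ([1,4,1,0,0,3,4],302,0),
   ([2,4,1,4,1,3,2],302,2),
   ([1,1,0,2,0,2,3],302,3),
   ([1,0,1,2,3,0,3],303,1),
   ([1,3,0,3,4,4,3],303,3),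
   ([0,1,0,3,4,4,3],304,0),
   ([3,0,3,1,0,1,1],304,1),
   ([2,3,3,1,0,1,3],304,3),
   ([1,2,0,3,4,1,3],305,0),
   ([0,4,2,0,3,1,1],305,2),
   ([1,0,3,0,1,1,4],305,3),
   ([2,3,0,1,1,1,3],306,2),
   ([3,3,0,3,4,3,0],307,0),
   ([4,1,4,1,3,1,3],308,1),
   ([3,1,1,3,2,1,0],308,2),
   ([0,3,0,4,3,4,4],308,3),
   ([3,3,2,4,4,0,0],309,0),
   ([2,2,1,4,1,1,2],309,1),
   ([0,4,4,2,2,3,3],309,2),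
   ([0,2,2,4,4,0,0],310,0),
   ([3,3,0,4,3,3,4],310,3),
   ([1,1,4,3,1,2,4],311,0),
   ([1,1,0,4,3,4,2],311,2),
   ([1,1,4,4,0,0,3],311,3),
   ([1,1,1,4,1,0,2],312,1),
   ([1,0,0,0,2,4,2],312,2),
   ([4,1,0,4,3,2,0],312,3),
   ([1,2,2,0,3,0,1],313,0),
   ([0,2,0,3,4,2,0],313,3),
   ([0,1,2,3,0,4,3],314,2),
   ([2,1,2,4,4,1,3],314,3),
   ([2,1,2,4,4,3,4],315,0),
   ([4,2,3,1,0,3,1],315,1),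
   ([0,2,2,0,3,2,0],315,2),
   ([2,4,0,4,3,1,1],316,0),
   ([0,3,3,1,0,4,0],316,1),
   ([3,2,2,3,0,2,0],316,3),
   ([0,2,1,4,1,4,2],317,1),
   ([2,2,2,1,2,1,3],317,2),
   ([2,2,2,2,1,3,0],317,3),
   ([1,3,4,0,4,4,3],318,0),
   ([2,3,4,4,0,0,4],318,1),
   ([4,2,3,3,3,1,1],319,0),
   ([1,4,0,2,0,1,0],319,2),
   ([2,1,4,2,2,3,3],320,1),
   ([0,2,4,1,3,2,0],321,0),
   ([4,3,1,2,3,3,3],321,1),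
   ([2,4,2,0,3,3,4],321,3),
   ([4,1,0,2,0,1,3],322,0),
   ([3,0,2,0,3,4,2],322,3),
   ([2,3,3,3,3,2,4],323,1),
   ([1,4,2,2,1,1,3],323,2),
   ([4,1,0,2,0,3,1],324,1),
   ([3,0,1,3,2,1,3],324,3),
   ([3,2,2,3,0,1,1],325,1),
   ([1,2,4,2,2,2,2],325,2),
   ([0,4,2,0,3,1,3],326,0)]

/-- A block of images of an isotropic vector. -/
def uOrbB7 : List (List ℕ × ℕ × ℕ) :=
  [([1,3,0,0,2,3,1],326,2),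
   ([2,3,1,2,3,2,2],327,0),
   ([3,0,1,1,4,2,3],327,3),
   ([0,4,4,3,1,2,1],328,2),
   ([0,1,3,0,1,1,3],329,1),
   ([4,1,2,2,1,3,3],329,2),
   ([0,3,4,3,1,1,0],329,3),
   ([3,4,1,3,2,1,1],330,0),
   ([4,2,1,4,1,3,2],330,2),
   ([0,3,2,0,3,3,1],331,0),
   ([1,4,2,2,1,0,4],331,1),
   ([4,2,1,3,2,1,4],332,1),
   ([4,4,2,4,4,3,3],332,3),
   ([4,4,4,3,1,2,0],333,2),
   ([2,3,4,1,3,0,3],333,3),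
   ([3,2,3,0,1,3,0],334,0),
   ([3,3,4,0,4,4,1],334,1),
   ([3,3,2,2,1,0,3],334,2),
   ([2,1,0,3,4,2,4],335,0),
   ([2,2,4,3,1,4,0],335,1),
   ([2,1,0,3,4,0,3],335,3),
   ([1,4,1,1,4,3,1],336,0),
   ([4,2,2,2,1,2,2],336,2),
   ([3,3,0,1,1,4,0],337,3),
   ([3,2,1,0,0,0,4],338,0),
   ([0,1,3,1,0,2,3],338,2),
   ([2,0,0,3,4,1,3],339,0),
   ([1,0,3,0,1,2,4],339,2),
   ([1,4,0,3,4,4,2],339,3),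
   ([1,2,0,4,3,3,4],340,2),
   ([3,3,0,3,4,0,2],340,3),
   ([1,4,3,3,3,2,0],341,1),
   ([0,1,3,1,0,2,0],341,2),
   ([3,2,3,2,4,1,2],342,0),
   ([3,1,3,3,3,0,4],342,2),
   ([2,1,1,3,2,2,3],342,3),
   ([1,1,3,1,0,2,0],344,0),
   ([3,4,0,0,2,4,1],344,1),
   ([3,4,2,2,1,1,1],344,3),
   ([3,0,0,1,1,0,1],345,0),
   ([0,4,2,1,2,4,0],345,3),
   ([2,1,3,4,2,2,2],346,0),
   ([2,3,3,3,3,4,2],346,1),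
   ([4,3,4,3,1,1,0],346,2),
   ([1,2,1,0,0,0,2],347,0),
   ([3,4,2,4,4,0,0],347,3),
   ([0,2,4,3,1,4,0],348,1),
   ([4,1,2,4,4,4,1],348,3),
   ([4,0,0,3,4,4,4],349,0),
   ([2,4,0,1,1,0,4],349,2),
   ([1,2,1,4,1,1,4],350,0),
   ([3,2,3,1,0,3,3],350,2),
   ([3,0,4,2,2,3,1],350,3),
   ([4,3,0,0,2,1,0],351,1),
   ([2,2,3,1,0,3,2],351,2),
   ([2,4,3,2,4,3,3],351,3),
   ([1,1,1,1,4,4,3],352,1),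
   ([4,1,1,3,2,4,2],352,2),
   ([0,0,2,4,4,4,2],353,0),
   ([4,0,1,2,3,0,2],353,2),
   ([1,2,0,0,2,4,0],353,3),
   ([3,4,0,1,1,3,0],354,0),
   ([3,1,4,3,1,3,0],354,1),
   ([3,4,0,0,2,0,4],354,2),
   ([3,0,3,2,4,4,3],355,1),
   ([0,4,0,4,3,3,1],355,3),
   ([4,3,1,0,0,2,2],356,1),
   ([3,2,0,2,0,1,1],356,2),
   ([4,2,0,0,2,1,1],357,1),
   ([4,3,4,2,2,2,1],357,2),
   ([1,1,1,3,2,3,2],358,0),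
   ([0,3,4,0,4,3,1],358,1),
   ([1,0,3,0,1,4,4],358,3),
   ([3,3,2,2,1,1,4],359,0),
   ([2,3,3,3,3,0,1],359,2),
   ([0,2,0,1,1,1,3],359,3),
   ([3,0,4,1,3,4,2],360,3),
   ([3,0,3,2,4,0,3],361,0),
   ([2,1,1,3,2,3,1],361,1),
   ([4,0,3,2,4,1,1],361,3),
   ([2,2,1,3,2,4,1],362,2),
   ([0,3,4,1,3,3,1],362,3),
   ([3,0,2,2,1,2,3],363,1),
   ([0,1,0,4,3,2,3],363,2),
   ([4,0,4,3,1,2,3],364,0),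
   ([0,1,0,2,0,4,1],364,1),
   ([0,3,2,1,2,2,4],364,3),
   ([3,0,2,3,0,2,2],365,0),
   ([2,3,4,0,4,3,0],365,2),
   ([0,0,2,4,4,1,3],365,3),
   ([2,0,4,2,2,2,4],366,1),
   ([1,2,1,0,0,4,0],366,2),
   ([2,2,4,1,3,0,3],367,2),
   ([2,0,3,0,1,1,2],368,0),
   ([0,2,4,2,2,1,0],368,3),
   ([3,4,4,0,4,0,2],369,1),
   ([1,1,4,4,0,2,0],369,2),
   ([0,2,1,2,3,1,1],369,3),
   ([2,2,1,1,4,4,1],370,0),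
   ([1,0,2,2,1,1,4],370,1),
   ([2,0,3,1,0,0,4],370,3),
   ([3,3,4,0,4,2,4],371,1),
   ([2,3,4,1,3,2,1],371,2),
   ([3,3,0,4,3,0,1],371,3),
   ([0,0,2,4,4,2,0],372,0),
   ([4,0,1,3,2,3,1],372,1),
   ([0,2,0,2,0,2,3],372,2),
   ([3,1,1,0,0,3,0],373,3),
   ([3,3,2,3,0,0,2],374,0),
   ([1,3,4,3,1,1,0],374,2),
   ([0,1,3,3,3,3,2],374,3),
   ([2,4,1,2,3,1,1],375,1),
   ([2,4,4,0,4,1,0],376,0),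
   ([0,1,0,4,3,2,0],376,1),
   ([0,3,2,3,0,3,2],376,2),
   ([0,1,4,2,2,2,2],377,0),
   ([2,4,1,2,3,4,2],377,2),
   ([3,2,1,3,2,4,4],377,3),
   ([4,0,0,2,0,3,4],378,1),
   ([4,4,2,1,2,1,2],378,2),
   ([1,2,0,1,1,4,1],378,3),
   ([2,4,0,3,4,4,1],379,0),
   ([3,4,4,3,1,1,2],379,3),
   ([2,0,3,1,0,3,4],380,0),
   ([1,0,1,4,1,4,2],380,2)]

/-- A block of images of an isotropic vector. -/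
def uOrbB8 : List (List ℕ × ℕ × ℕ) :=
  [([2,4,0,4,3,3,0],381,0),
   ([0,1,1,4,1,3,1],381,2),
   ([2,3,4,3,1,2,4],382,0),
   ([2,0,1,0,0,1,1],382,1),
   ([2,1,2,2,1,4,4],382,3),
   ([4,0,0,3,4,3,4],383,2),
   ([3,3,2,3,0,3,0],384,0),
   ([2,0,3,3,3,3,1],384,2),
   ([4,3,1,1,4,0,1],385,3),
   ([3,3,1,2,3,3,4],386,0),
   ([4,2,2,2,1,1,4],386,2),
   ([4,0,0,1,1,2,2],386,3),
   ([3,3,1,2,3,1,2],387,3),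
   ([1,3,1,0,0,4,4],388,0),
   ([2,0,3,2,4,0,2],388,1),
   ([4,1,4,1,3,4,0],388,2),
   ([1,1,2,2,1,4,3],389,3),
   ([3,3,0,0,2,3,2],390,0),
   ([3,1,4,2,2,2,0],390,1),
   ([1,4,4,4,0,3,0],390,2),
   ([4,2,2,0,3,1,2],392,1),
   ([3,4,1,3,2,3,2],392,2),
   ([3,3,2,0,3,2,4],392,3),
   ([0,2,2,4,4,0,2],393,0),
   ([0,2,4,2,2,1,2],393,1),
   ([4,0,2,0,3,2,4],394,3),
   ([0,3,4,0,4,3,0],395,2),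
   ([2,1,3,2,4,2,3],395,3),
   ([2,4,3,4,2,4,4],396,0),
   ([1,4,3,1,0,0,3],396,1),
   ([3,0,3,1,0,0,1],396,3),
   ([1,4,4,0,4,2,4],397,0),
   ([4,3,1,3,2,3,2],398,0),
   ([2,1,4,4,0,2,0],398,1),
   ([0,2,0,0,2,4,2],398,2),
   ([1,3,3,1,0,3,2],399,1),
   ([1,3,2,0,3,2,2],399,3),
   ([3,0,0,0,2,3,4],400,1),
   ([4,1,4,0,4,2,2],400,2),
   ([3,1,0,1,1,0,1],400,3),
   ([4,3,2,2,1,1,3],401,0),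
   ([3,3,3,2,4,1,4],401,1),
   ([2,4,2,1,2,3,3],401,2),
   ([0,2,2,3,0,2,2],402,0),
   ([4,2,2,3,0,1,2],403,0),
   ([0,4,0,4,3,3,3],403,2),
   ([0,2,2,4,4,0,3],403,3),
   ([4,2,3,2,4,0,1],404,2),
   ([2,1,0,2,0,3,2],404,3),
   ([1,3,3,3,3,4,4],405,0),
   ([2,0,0,0,2,2,1],405,1),
   ([4,3,1,2,3,0,2],405,2),
   ([1,1,2,0,3,2,3],406,0),
   ([0,4,3,3,3,2,1],406,3),
   ([1,3,1,2,3,1,1],407,0),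
   ([1,4,1,4,1,2,0],407,1),
   ([1,0,4,0,4,0,1],408,0),
   ([3,0,4,0,4,2,2],408,3),
   ([1,2,2,3,0,2,0],409,1),
   ([4,4,3,0,1,4,0],409,2),
   ([3,1,3,1,0,0,1],409,3),
   ([2,1,3,1,0,3,3],410,0),
   ([4,0,2,0,3,1,4],410,1),
   ([2,1,3,0,1,1,0],410,2),
   ([1,2,1,2,3,0,3],411,0),
   ([4,4,4,2,2,3,0],411,1),
   ([0,3,4,4,0,4,0],411,3),
   ([2,4,4,2,2,1,1],412,2),
   ([0,3,4,0,4,3,4],413,1),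
   ([4,4,1,4,1,2,0],413,2),
   ([4,1,0,4,3,4,3],413,3),
   ([0,2,1,3,2,3,3],414,0),
   ([3,2,0,4,3,4,2],414,3),
   ([3,3,1,0,0,3,2],415,2),
   ([3,3,3,3,3,1,0],415,3),
   ([3,2,2,1,2,1,2],416,0),
   ([4,2,3,3,3,2,4],416,1),
   ([2,1,1,3,2,1,0],416,2),
   ([1,2,3,3,3,1,4],417,0),
   ([1,1,0,3,4,3,4],417,1),
   ([1,4,4,0,4,0,1],417,3),
   ([1,4,4,4,0,2,1],418,0),
   ([2,1,4,3,1,3,0],418,2),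
   ([3,0,4,2,2,2,1],418,3),
   ([3,3,1,3,2,0,3],419,0),
   ([2,3,1,2,3,1,3],419,1),
   ([1,3,2,4,4,0,0],420,0),
   ([1,1,3,4,2,1,3],420,2),
   ([4,3,2,2,1,4,4],421,3),
   ([3,2,0,1,1,2,4],422,0),
   ([0,2,0,1,1,1,0],422,2),
   ([0,4,0,2,0,1,2],423,1),
   ([2,3,4,4,0,4,0],423,3),
   ([1,2,4,3,1,2,1],424,0),
   ([3,0,2,1,2,1,3],424,1),
   ([3,1,4,3,1,0,4],424,2),
   ([2,0,0,1,1,3,4],425,1),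
   ([1,4,4,3,1,0,2],425,3),
   ([2,3,3,4,2,2,4],426,0),
   ([4,2,4,4,0,2,3],426,2),
   ([3,3,1,1,4,2,0],427,1),
   ([2,3,2,0,3,3,0],427,2),
   ([4,2,4,4,0,1,0],428,0),
   ([3,3,0,4,3,2,3],428,1),
   ([0,1,3,1,0,2,1],428,2),
   ([2,0,4,4,0,4,4],429,0),
   ([3,2,2,1,2,0,3],430,0),
   ([4,3,1,0,0,3,4],430,2),
   ([4,4,1,1,4,3,4],431,0),
   ([2,4,2,4,4,4,3],431,1),
   ([4,4,2,0,3,4,3],432,1),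
   ([3,2,1,0,0,2,2],432,2),
   ([1,1,4,4,0,4,2],433,1),
   ([3,2,2,1,2,3,0],433,2),
   ([2,2,2,3,0,2,0],434,1),
   ([2,1,2,3,0,3,2],434,3),
   ([3,2,4,2,2,0,1],435,0),
   ([4,0,4,2,2,2,2],435,2),
   ([3,1,1,4,1,4,2],435,3),
   ([1,2,0,2,0,0,1],436,3),
   ([4,4,0,0,2,2,0],437,0),
   ([0,1,1,4,1,3,0],437,1),
   ([2,1,4,4,0,3,3],437,3),
   ([4,3,4,0,4,1,1],438,0),
   ([0,1,4,2,2,2,0],438,3)]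

/-- A block of images of an isotropic vector. -/
def uOrbB9 : List (List ℕ × ℕ × ℕ) :=
  [([2,3,1,2,3,0,4],439,0),
   ([3,0,4,0,4,1,2],439,1),
   ([2,0,2,1,2,2,2],439,2),
   ([0,3,4,2,2,4,2],440,0),
   ([3,1,3,4,2,1,1],440,1),
   ([3,1,0,4,3,2,0],440,3),
   ([0,0,2,4,4,2,1],441,0),
   ([4,1,3,4,2,3,0],442,1),
   ([1,2,3,0,1,2,3],442,2),
   ([4,2,1,0,0,4,0],443,0),
   ([4,2,1,2,3,0,2],443,2),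
   ([1,2,4,1,3,3,2],444,0),
   ([4,1,1,1,4,3,3],444,2),
   ([3,4,1,0,0,3,3],444,3),
   ([3,4,3,3,3,1,2],445,1),
   ([2,2,0,1,1,0,4],445,3),
   ([3,2,3,0,1,2,1],446,3),
   ([4,0,2,4,4,1,0],447,1),
   ([3,1,1,2,3,3,2],447,2),
   ([4,3,0,3,4,0,4],447,3),
   ([2,1,0,1,1,4,1],448,0),
   ([1,1,2,1,2,2,1],448,1),
   ([0,2,4,0,4,2,0],449,0),
   ([0,4,3,3,3,2,0],450,2),
   ([1,1,3,2,4,1,0],450,3),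
   ([4,0,1,2,3,1,2],451,1),
   ([0,4,0,2,0,1,3],451,3),
   ([0,2,3,0,1,3,0],452,0),
   ([1,3,2,3,0,4,3],452,1),
   ([1,2,1,1,4,0,4],453,0),
   ([4,0,0,4,3,3,2],453,2),
   ([3,1,0,2,0,0,2],453,3),
   ([2,4,2,2,1,2,1],454,1),
   ([3,0,3,0,1,1,3],454,2),
   ([1,3,4,4,0,4,0],454,3),
   ([2,3,2,4,4,2,3],455,0),
   ([2,3,2,3,0,2,1],455,1),
   ([4,2,1,3,2,4,3],456,0),
   ([4,2,2,3,0,3,3],456,2),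
   ([1,3,3,4,2,3,1],456,3),
   ([2,2,3,3,3,0,1],457,1),
   ([3,2,2,2,1,3,0],457,2),
   ([3,1,1,1,4,4,1],458,0),
   ([0,1,2,0,3,4,2],458,1),
   ([2,2,1,2,3,0,4],459,1),
   ([1,3,0,3,4,0,1],459,2),
   ([1,3,4,0,4,1,4],459,3),
   ([0,1,3,0,1,1,0],460,0),
   ([2,4,4,3,1,4,4],460,1),
   ([4,0,4,0,4,0,4],460,2),
   ([1,1,1,3,2,1,0],461,2),
   ([2,4,1,2,3,0,4],461,3),
   ([2,2,1,0,0,4,0],462,1),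
   ([0,3,2,4,4,0,4],462,2),
   ([3,1,3,2,4,0,3],463,1),
   ([3,1,0,1,1,3,2],463,3),
   ([4,2,0,4,3,4,4],464,0),
   ([2,2,2,4,4,2,2],464,3),
   ([1,4,3,4,2,0,2],465,0),
   ([1,4,1,2,3,3,0],465,2),
   ([3,1,0,2,0,2,1],466,0),
   ([1,2,2,2,1,0,4],467,2),
   ([1,3,3,1,0,0,3],467,3),
   ([3,0,1,0,0,4,4],469,0),
   ([0,3,4,2,2,4,0],469,1),
   ([3,3,2,0,3,3,0],470,2),
   ([4,4,3,0,1,1,2],470,3),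
   ([0,3,3,3,3,1,3],471,2),
   ([2,2,0,4,3,4,3],471,3),
   ([0,3,1,0,0,1,1],472,1),
   ([4,4,2,1,2,2,3],473,0),
   ([0,2,4,4,0,1,2],473,1),
   ([2,2,4,1,3,1,4],473,2),
   ([0,2,2,1,2,3,2],474,2),
   ([4,1,1,0,0,3,0],474,3),
   ([2,3,0,1,1,0,4],475,0),
   ([3,0,3,4,2,3,4],475,1),
   ([1,0,0,1,1,3,3],475,2),
   ([3,2,0,1,1,4,2],476,1),
   ([1,1,3,2,4,0,4],476,3),
   ([0,2,2,3,0,2,4],477,0),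
   ([1,0,0,4,3,1,3],477,2),
   ([1,2,1,4,1,0,2],477,3),
   ([1,1,4,1,3,0,1],478,1),
   ([4,2,0,0,2,3,2],478,2),
   ([3,1,3,1,0,2,0],478,3),
   ([2,3,0,2,0,0,3],479,0),
   ([0,4,3,0,1,4,4],480,2),
   ([0,4,1,3,2,4,3],480,3),
   ([1,2,1,2,3,3,4],481,0),
   ([0,1,2,1,2,1,2],481,1),
   ([2,0,0,2,0,4,3],481,2),
   ([1,4,3,4,2,1,1],482,0),
   ([1,3,2,2,1,0,4],482,1),
   ([4,4,0,3,4,3,2],482,3),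
   ([4,4,3,3,3,3,1],483,3),
   ([2,3,2,4,4,3,2],484,0),
   ([0,4,3,0,1,4,0],485,0),
   ([3,1,2,2,1,2,2],485,1),
   ([1,3,3,1,0,1,1],485,3),
   ([1,3,2,0,3,4,3],486,0),
   ([0,1,4,4,0,2,2],486,2),
   ([0,3,2,4,4,0,2],486,3),
   ([0,0,2,4,4,4,1],487,1),
   ([1,3,1,1,4,0,4],487,2),
   ([3,4,4,1,3,2,3],487,3),
   ([2,1,3,4,2,0,1],488,0),
   ([0,1,0,3,4,4,4],489,0),
   ([3,3,1,3,2,3,1],489,3),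
   ([1,1,2,4,4,2,2],490,1),
   ([4,3,4,4,0,0,2],490,2),
   ([2,4,1,0,0,1,3],490,3),
   ([2,2,3,4,2,3,4],491,1),
   ([3,1,0,4,3,0,1],491,2),
   ([0,2,2,4,4,0,4],492,0),
   ([4,0,0,2,0,2,4],492,2),
   ([2,3,2,2,1,1,1],492,3),
   ([1,0,4,4,0,3,3],493,1),
   ([4,2,3,4,2,0,3],493,2),
   ([3,2,2,3,0,4,3],494,0),
   ([0,4,1,4,1,2,2],494,1),
   ([1,4,4,2,2,1,2],494,3),
   ([2,1,1,0,0,0,1],495,2),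
   ([1,2,2,4,4,0,0],496,0),
   ([3,2,2,2,1,1,2],496,2)]

/-- A block of images of an isotropic vector. -/
def uOrbB10 : List (List ℕ × ℕ × ℕ) :=
  [([4,1,2,4,4,0,0],497,0),
   ([1,4,2,1,2,2,2],497,1),
   ([1,2,1,1,4,3,0],497,3),
   ([1,0,4,1,3,3,1],498,2),
   ([3,2,2,1,2,4,4],498,3),
   ([0,4,1,2,3,3,0],499,0),
   ([2,4,0,2,0,3,4],500,0),
   ([2,4,1,1,4,4,0],500,2),
   ([2,4,3,2,4,1,4],500,3),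
   ([2,4,4,0,4,4,1],501,1),
   ([0,1,4,1,3,4,0],501,2),
   ([2,2,1,1,4,0,2],501,3),
   ([4,2,0,4,3,2,3],502,0),
   ([0,4,4,0,4,1,0],502,1),
   ([4,1,3,1,0,0,2],502,3),
   ([3,0,0,4,3,4,1],503,0),
   ([2,3,3,0,1,3,4],503,2),
   ([3,2,0,0,2,2,2],503,3),
   ([3,3,2,1,2,0,3],504,0),
   ([3,1,1,1,4,3,4],505,0),
   ([3,2,1,2,3,3,3],505,1),
   ([3,0,0,2,0,3,2],505,3),
   ([3,2,2,0,3,4,3],506,1),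
   ([0,1,4,2,2,2,1],506,2),
   ([4,4,3,4,2,3,1],506,3),
   ([3,2,3,0,1,0,3],507,0),
   ([1,2,4,2,2,3,4],508,0),
   ([0,1,0,1,1,2,2],508,1),
   ([4,3,0,1,1,0,2],509,0),
   ([1,2,3,2,4,4,2],509,2),
   ([1,3,2,1,2,4,1],509,3),
   ([1,3,1,1,4,3,3],510,2),
   ([2,0,1,3,2,4,2],511,0),
   ([1,4,1,0,0,0,2],511,1),
   ([0,4,3,4,2,2,3],512,0),
   ([1,0,0,2,0,2,1],512,2),
   ([3,0,2,3,0,1,2],513,0),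
   ([4,4,0,3,4,0,4],513,1),
   ([2,2,0,1,1,2,1],513,2),
   ([1,2,2,3,0,4,4],514,1),
   ([3,0,1,1,4,4,3],515,0),
   ([0,1,1,3,2,1,3],515,2),
   ([3,4,4,4,0,4,3],516,1),
   ([1,0,2,3,0,2,1],516,2),
   ([1,1,4,0,4,4,0],517,0),
   ([2,4,0,3,4,3,4],517,1),
   ([4,0,3,0,1,0,1],517,2),
   ([4,1,1,2,3,2,0],518,0),
   ([2,0,3,4,2,4,1],518,2),
   ([4,1,2,3,0,2,2],518,3),
   ([2,0,2,0,3,4,3],519,1),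
   ([2,0,2,4,4,2,0],519,2),
   ([4,3,0,1,1,1,4],520,0),
   ([3,0,3,4,2,2,4],520,1),
   ([4,1,1,3,2,3,3],520,3),
   ([3,1,4,2,2,3,2],521,2),
   ([4,0,4,3,1,3,3],521,3),
   ([3,1,4,0,4,0,2],522,0),
   ([2,0,1,4,1,4,1],522,2),
   ([3,0,4,4,0,2,1],523,0),
   ([3,3,3,3,3,3,2],523,3),
   ([3,1,4,1,3,0,2],524,0),
   ([2,0,3,2,4,1,2],524,3),
   ([3,3,0,0,2,4,3],525,1),
   ([3,2,4,0,4,1,1],525,2),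
   ([0,4,2,2,1,4,1],525,3),
   ([4,3,4,1,3,1,1],527,0),
   ([1,2,4,1,3,1,3],527,2),
   ([3,3,1,1,4,3,1],527,3),
   ([1,1,3,0,1,0,4],528,1),
   ([3,4,2,4,4,2,1],528,2),
   ([2,2,0,2,0,1,4],528,3),
   ([2,1,1,0,0,4,3],529,0),
   ([2,4,3,1,0,4,2],529,3),
   ([3,2,2,4,4,3,2],530,0),
   ([1,4,3,4,2,2,0],530,2),
   ([2,1,2,3,0,2,4],531,0),
   ([2,2,1,3,2,3,0],531,1),
   ([2,4,0,0,2,3,2],531,2),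
   ([1,0,4,2,2,2,3],532,0),
   ([3,1,3,4,2,3,0],532,1),
   ([3,0,0,3,4,3,2],532,3),
   ([4,0,0,1,1,0,2],533,1),
   ([3,1,3,3,3,2,3],533,3),
   ([4,0,2,2,1,0,1],534,1),
   ([2,1,3,3,3,3,0],534,2),
   ([3,1,0,3,4,1,4],535,0),
   ([4,2,1,0,0,0,3],535,1),
   ([4,4,1,2,3,1,3],537,2),
   ([0,2,1,3,2,3,0],537,3),
   ([1,2,3,2,4,1,1],538,0),
   ([3,0,1,0,0,2,4],539,0),
   ([0,1,4,4,0,2,3],540,0),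
   ([4,0,3,3,3,2,3],540,1),
   ([0,1,3,3,3,3,4],540,3),
   ([2,2,3,4,2,1,2],541,0),
   ([2,1,1,1,4,0,2],541,2),
   ([0,3,0,3,4,3,3],541,3),
   ([3,1,1,3,2,0,3],542,2),
   ([0,4,1,4,1,2,4],542,3),
   ([2,3,2,4,4,0,0],543,0),
   ([3,0,1,3,2,2,3],543,2),
   ([4,0,2,4,4,0,0],544,0),
   ([1,0,3,0,1,0,4],544,1),
   ([2,3,2,1,2,4,3],544,3),
   ([3,4,2,1,2,3,2],545,2),
   ([2,1,2,3,0,0,3],546,0),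
   ([0,1,3,2,4,1,4],546,3),
   ([2,4,2,1,2,4,0],547,0),
   ([2,2,4,3,1,2,3],547,2),
   ([1,3,1,2,3,3,2],548,0),
   ([0,1,2,1,2,1,4],548,1),
   ([1,3,3,2,4,3,3],548,2),
   ([0,2,1,0,0,4,0],549,0),
   ([3,3,2,0,3,4,1],549,1),
   ([2,4,3,4,2,0,1],549,3),
   ([2,2,1,2,3,1,0],550,0),
   ([1,0,4,4,0,1,3],550,2),
   ([3,3,3,3,3,4,3],551,0),
   ([0,3,1,0,0,1,0],551,1),
   ([3,1,4,3,1,4,2],551,3),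
   ([2,4,4,4,0,3,0],552,3),
   ([1,4,1,1,4,1,3],553,1),
   ([1,2,0,1,1,2,2],553,2),
   ([2,4,1,4,1,2,0],553,3)]

/-- A block of images of an isotropic vector. -/
def uOrbB11 : List (List ℕ × ℕ × ℕ) :=
  [([2,0,0,1,1,1,4],554,0),
   ([4,0,1,4,1,2,3],555,0),
   ([1,1,4,2,2,1,4],556,3),
   ([3,3,1,1,4,4,2],557,2),
   ([1,4,1,3,2,2,2],558,0),
   ([3,0,4,1,3,0,2],558,1),
   ([2,3,3,1,0,0,4],558,2),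
   ([2,2,3,1,0,2,1],559,3),
   ([2,4,2,4,4,0,0],560,2),
   ([4,4,2,3,0,4,3],560,3),
   ([2,0,3,4,2,2,1],561,0),
   ([2,2,2,4,4,1,1],561,1),
   ([1,1,1,0,0,3,0],562,2),
   ([0,2,3,1,0,1,3],563,1),
   ([0,3,1,4,1,1,2],563,2),
   ([3,3,2,3,0,4,1],564,0),
   ([3,3,2,3,0,1,3],564,3),
   ([4,1,0,3,4,4,0],565,1),
   ([2,2,3,0,1,2,4],566,2),
   ([1,3,1,2,3,4,0],567,0),
   ([2,2,0,2,0,3,1],567,1),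
   ([2,3,4,4,0,3,1],567,2),
   ([0,4,4,0,4,1,1],568,1),
   ([2,0,0,0,2,0,1],569,0),
   ([3,2,0,1,1,3,3],569,1),
   ([3,0,2,4,4,0,0],570,1),
   ([2,0,4,0,4,4,3],570,3),
   ([2,2,0,0,2,3,4],571,2),
   ([4,0,2,2,1,4,1],571,3),
   ([4,2,2,4,4,0,0],572,1),
   ([3,4,2,0,3,0,2],573,0),
   ([0,4,1,1,4,4,1],573,3),
   ([0,1,1,4,1,3,4],574,0),
   ([3,1,2,3,0,4,0],574,2),
   ([3,2,0,1,1,0,1],575,2),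
   ([4,2,4,2,2,3,1],576,0),
   ([4,2,0,1,1,0,2],576,3),
   ([3,4,4,2,2,1,4],577,0),
   ([1,3,2,3,0,2,2],577,2),
   ([0,2,1,3,2,3,1],577,3),
   ([2,4,3,0,1,2,1],578,1),
   ([0,2,4,4,0,1,0],579,2),
   ([3,0,4,4,0,1,1],580,0),
   ([4,2,2,4,4,4,2],580,2),
   ([2,0,0,0,2,3,1],580,3),
   ([2,3,1,3,2,4,3],581,2),
   ([3,1,1,2,3,4,4],581,3),
   ([4,4,3,1,0,3,0],582,0),
   ([2,1,1,2,3,4,1],582,1),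
   ([2,4,3,3,3,0,1],583,1),
   ([3,3,3,0,1,4,2],583,2),
   ([4,2,0,0,2,4,0],583,3),
   ([4,1,1,2,3,4,3],584,0),
   ([3,1,3,0,1,0,3],584,2),
   ([0,1,0,1,1,2,3],585,3),
   ([1,3,4,2,2,1,1],586,1),
   ([1,3,2,4,4,1,3],586,2),
   ([3,0,4,3,1,2,4],586,3),
   ([0,2,3,0,1,3,4],587,1),
   ([2,1,4,1,3,1,1],588,0),
   ([1,1,1,4,1,4,1],588,2),
   ([4,1,3,0,1,3,3],588,3),
   ([1,3,4,3,1,3,1],589,1),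
   ([4,4,3,3,3,0,3],589,2),
   ([1,4,1,4,1,1,1],589,3),
   ([3,3,3,0,1,1,4],590,1),
   ([3,3,1,4,1,4,3],590,3),
   ([0,1,3,3,3,3,1],591,0),
   ([0,1,0,2,0,4,2],591,2),
   ([3,4,2,2,1,4,0],591,3),
   ([3,1,1,3,2,2,2],592,0),
   ([1,3,0,1,1,4,0],592,1),
   ([2,4,1,3,2,2,1],592,2),
   ([4,3,3,0,1,2,0],593,1),
   ([1,3,1,0,0,0,2],593,3),
   ([0,2,1,4,1,4,0],594,1),
   ([0,3,4,1,3,3,4],594,3),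
   ([0,1,0,1,1,2,0],595,0),
   ([4,1,2,0,3,3,1],596,0),
   ([2,1,0,1,1,1,2],596,1),
   ([3,3,0,1,1,1,2],596,3),
   ([0,4,4,0,4,1,4],597,2),
   ([2,0,1,2,3,2,4],597,3),
   ([1,2,0,1,1,1,0],598,1),
   ([4,3,3,0,1,3,2],598,2),
   ([2,3,1,4,1,0,1],598,3),
   ([2,4,1,3,2,4,0],599,0),
   ([0,3,1,1,4,2,1],599,2),
   ([4,4,1,1,4,0,1],600,2),
   ([2,4,4,2,2,0,4],601,1),
   ([4,2,3,0,1,2,2],601,2),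
   ([0,4,0,0,2,2,2],602,3),
   ([1,4,1,4,1,0,2],603,2),
   ([4,1,0,0,2,2,1],603,3),
   ([3,3,4,3,1,3,2],604,2),
   ([4,3,0,2,0,3,0],605,2),
   ([2,3,4,2,2,0,4],605,3),
   ([2,3,3,2,4,3,4],606,0),
   ([2,4,2,0,3,4,1],606,3),
   ([4,4,3,2,4,4,0],607,0),
   ([4,1,3,0,1,4,2],607,1),
   ([2,0,2,1,2,3,2],607,2),
   ([1,0,4,3,1,1,2],608,0),
   ([1,4,4,0,4,4,2],608,1),
   ([4,4,1,2,3,2,4],608,3),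
   ([2,1,2,0,3,1,1],609,1),
   ([4,2,2,2,1,4,3],609,3),
   ([2,4,3,4,2,3,2],610,0),
   ([4,0,2,3,0,4,4],610,1),
   ([2,0,3,3,3,0,1],611,3),
   ([4,3,4,2,2,1,4],612,1),
   ([1,0,2,4,4,4,0],612,2),
   ([2,2,0,0,2,2,3],613,2),
   ([4,4,0,2,0,2,1],614,1),
   ([0,2,2,4,4,0,1],615,1),
   ([3,1,2,1,2,1,0],616,1),
   ([4,3,0,0,2,0,3],616,3),
   ([2,2,3,3,3,4,0],617,1),
   ([0,4,3,4,2,2,0],617,3),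
   ([0,1,3,4,2,3,4],618,2),
   ([0,3,3,4,2,1,4],618,3),
   ([3,1,4,3,1,1,1],619,0),
   ([4,1,4,1,3,0,4],619,1),
   ([3,4,1,1,4,4,0],620,0),
   ([2,0,3,2,4,2,2],620,3)]

/-- A block of images of an isotropic vector. -/
def uOrbB12 : List (List ℕ × ℕ × ℕ) :=
  [([3,0,0,3,4,2,2],621,1),
   ([2,4,4,1,3,1,0],621,2),
   ([4,3,2,4,4,2,4],622,0),
   ([0,0,2,4,4,3,1],622,1),
   ([1,4,4,1,3,1,0],624,0),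
   ([1,1,1,1,4,3,2],624,1),
   ([2,1,2,0,3,2,4],624,3),
   ([1,3,0,4,3,4,0],625,0),
   ([0,4,1,2,3,3,4],625,2),
   ([3,0,4,2,2,0,1],625,3),
   ([1,0,0,2,0,0,1],626,0),
   ([4,2,1,4,1,0,3],626,1),
   ([1,2,0,2,0,1,3],627,0),
   ([1,4,0,4,3,0,3],627,1),
   ([3,3,1,1,4,0,3],627,3),
   ([0,4,4,2,2,3,1],628,1),
   ([3,2,3,3,3,3,1],629,0),
   ([3,0,1,1,4,3,3],629,1),
   ([4,2,0,3,4,1,2],630,3),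
   ([1,4,3,0,1,0,4],631,1),
   ([3,3,1,1,4,1,4],631,2),
   ([2,4,4,0,4,2,2],631,3),
   ([2,0,2,1,2,4,2],632,2),
   ([0,4,1,1,4,4,0],633,0),
   ([0,1,4,1,3,4,3],633,2),
   ([3,4,3,3,3,4,1],633,3),
   ([2,1,4,2,2,1,2],634,2),
   ([4,1,4,2,2,1,1],635,0),
   ([3,1,3,4,2,4,2],635,1),
   ([3,2,0,0,2,1,3],635,3),
   ([3,0,1,2,3,0,1],636,2),
   ([1,4,0,2,0,3,3],637,2),
   ([0,4,1,0,0,2,3],638,3),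
   ([3,1,3,1,0,4,4],639,1),
   ([4,2,0,4,3,3,1],639,2),
   ([4,0,4,4,0,1,2],640,0),
   ([3,4,1,3,2,0,3],640,1),
   ([1,2,3,0,1,1,1],640,3),
   ([2,2,0,0,2,0,1],641,0),
   ([4,0,4,0,4,1,4],641,2),
   ([2,3,3,4,2,0,1],641,3),
   ([1,0,1,0,0,3,2],642,0),
   ([0,4,0,1,1,3,4],642,1),
   ([0,3,0,4,3,4,0],643,0),
   ([3,2,0,0,2,3,1],643,1),
   ([0,3,4,4,0,4,4],643,3),
   ([0,1,0,4,3,2,4],644,0),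
   ([4,3,2,3,0,2,3],645,2),
   ([4,2,1,0,0,2,4],645,3),
   ([4,3,2,3,0,3,0],646,0),
   ([2,2,1,3,2,2,4],646,1),
   ([4,4,1,2,3,4,1],646,2),
   ([0,3,2,4,4,0,3],647,2),
   ([3,2,1,0,0,4,0],647,3),
   ([4,3,2,1,2,2,0],648,2),
   ([4,0,4,2,2,4,2],648,3),
   ([1,0,1,4,1,2,2],649,1),
   ([3,4,2,2,1,0,3],649,2),
   ([0,3,1,0,0,1,4],649,3),
   ([0,4,4,4,0,3,1],651,0),
   ([1,1,2,2,1,1,0],651,3),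
   ([2,2,3,0,1,0,2],652,0),
   ([0,2,0,3,4,2,2],652,2),
   ([2,2,4,4,0,4,3],652,3),
   ([0,2,0,4,3,1,3],653,1),
   ([2,3,3,3,3,1,0],653,3),
   ([4,4,2,2,1,0,1],654,1),
   ([0,2,3,3,3,4,0],655,1),
   ([4,2,1,4,1,1,1],655,2),
   ([2,4,0,0,2,1,3],655,3),
   ([2,2,0,3,4,0,3],656,0),
   ([3,4,2,2,1,2,4],656,1),
   ([3,4,0,0,2,2,0],656,3),
   ([1,4,2,1,2,3,1],657,2),
   ([4,4,2,3,0,2,1],657,3),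
   ([4,0,4,1,3,1,4],658,0),
   ([1,3,2,0,3,3,0],659,0),
   ([0,2,4,3,1,4,2],659,1),
   ([3,1,4,2,2,1,3],660,1),
   ([1,0,1,1,4,2,4],660,2),
   ([3,1,4,1,3,4,0],660,3),
   ([4,2,2,1,2,4,3],661,1),
   ([4,0,1,0,0,1,3],661,2),
   ([1,4,3,1,0,2,1],662,1),
   ([3,0,0,1,1,1,1],663,0),
   ([1,2,0,4,3,4,1],663,3),
   ([2,3,1,2,3,3,1],664,1),
   ([3,2,1,1,4,3,0],664,2),
   ([2,0,1,0,0,2,1],664,3),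
   ([0,2,2,3,0,2,3],665,0),
   ([4,4,0,3,4,4,3],665,1),
   ([2,0,4,2,2,4,4],666,1),
   ([3,4,1,1,4,3,2],666,2),
   ([4,3,2,4,4,3,1],666,3),
   ([4,2,3,2,4,2,2],667,1),
   ([2,4,2,3,0,4,1],667,3),
   ([3,3,1,4,1,2,1],668,1),
   ([2,4,4,4,0,0,4],668,2),
   ([3,3,4,3,1,0,4],669,1),
   ([1,3,3,0,1,3,3],670,2),
   ([2,1,4,0,4,2,4],670,3),
   ([3,4,3,3,3,3,3],671,1),
   ([4,0,3,1,0,1,2],671,3),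
   ([1,3,3,3,3,0,2],672,0),
   ([4,1,3,1,0,4,3],672,1),
   ([1,0,4,0,4,4,1],673,2),
   ([3,2,1,2,3,2,4],674,1),
   ([1,0,1,4,1,3,2],674,2),
   ([1,4,2,4,4,0,0],674,3),
   ([0,2,4,1,3,2,3],675,0),
   ([1,1,4,0,4,0,1],676,0),
   ([4,1,4,3,1,3,0],676,1),
   ([2,4,3,0,1,1,4],676,3),
   ([0,3,3,2,4,2,1],677,0),
   ([4,4,1,2,3,0,2],677,1),
   ([4,2,4,2,2,4,4],678,0),
   ([4,1,4,0,4,1,3],678,1),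
   ([3,0,2,0,3,1,2],678,3),
   ([2,0,0,1,1,4,4],679,2),
   ([4,1,0,1,1,2,0],679,3),
   ([4,3,2,4,4,4,3],680,1),
   ([2,0,2,3,0,4,3],680,2),
   ([1,0,2,3,0,0,1],680,3),
   ([0,4,3,1,0,3,0],681,1),
   ([0,3,3,3,3,1,1],681,3)]

/-- A block of images of an isotropic vector. -/
def uOrbB13 : List (List ℕ × ℕ × ℕ) :=
  [([0,3,3,4,2,1,0],682,1),
   ([0,2,2,1,2,3,0],683,1),
   ([3,3,0,2,0,4,1],683,3),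
   ([2,2,3,4,2,4,0],684,0),
   ([3,3,0,1,1,2,3],684,2),
   ([1,2,3,3,3,4,0],684,3),
   ([0,4,0,0,2,2,3],685,2),
   ([1,1,1,0,0,1,3],685,3),
   ([4,2,4,1,3,3,3],686,1),
   ([0,1,4,3,1,3,3],686,2),
   ([3,0,0,2,0,1,2],687,0),
   ([3,4,4,2,2,2,2],687,2),
   ([0,4,0,0,2,2,0],687,3),
   ([1,3,3,1,0,4,0],688,3),
   ([2,4,1,0,0,4,4],689,0),
   ([1,4,1,2,3,2,1],689,1),
   ([2,3,2,1,2,3,4],690,2),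
   ([2,0,2,0,3,2,3],691,1),
   ([4,0,4,3,1,0,3],691,3),
   ([3,3,4,4,0,3,4],692,0),
   ([4,1,2,0,3,0,4],693,1),
   ([0,1,1,2,3,2,3],694,2),
   ([4,1,1,3,2,0,1],696,1),
   ([2,2,3,2,4,4,1],696,2),
   ([1,3,4,2,2,3,2],697,1),
   ([4,1,4,1,3,2,2],698,2),
   ([0,0,2,4,4,2,2],699,0),
   ([4,3,3,4,2,3,4],699,2),
   ([4,4,0,1,1,0,2],700,0),
   ([1,0,1,2,3,3,3],700,1),
   ([0,2,1,1,4,3,3],700,3),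
   ([1,1,0,3,4,4,0],701,1),
   ([4,1,2,1,2,1,0],701,2),
   ([0,4,0,4,3,3,4],701,3),
   ([3,4,1,4,1,2,0],702,0),
   ([1,1,3,4,2,4,1],702,1),
   ([2,2,1,2,3,4,3],703,2),
   ([1,3,1,4,1,1,0],704,0),
   ([1,2,4,3,1,3,3],704,1),
   ([4,4,3,4,2,2,0],705,0),
   ([0,1,4,3,1,3,2],705,1),
   ([3,1,2,0,3,4,0],706,3),
   ([2,3,2,0,3,0,3],707,0),
   ([2,3,3,0,1,1,1],708,2),
   ([0,3,0,4,3,4,3],709,0),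
   ([3,3,1,4,1,1,0],709,1),
   ([4,4,0,1,1,1,3],709,2),
   ([4,0,1,1,4,3,1],710,0),
   ([2,1,0,1,1,2,0],711,0),
   ([2,2,4,2,2,0,4],711,3),
   ([3,3,3,4,2,0,4],712,2),
   ([2,1,4,2,2,4,1],712,3),
   ([3,4,4,0,4,2,3],713,1),
   ([0,2,3,0,1,3,2],713,2),
   ([3,0,2,2,1,0,3],714,0),
   ([2,1,0,3,4,1,1],714,1),
   ([1,2,2,2,1,1,1],714,2),
   ([2,3,1,4,1,4,2],715,3),
   ([0,2,3,1,0,1,2],716,1),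
   ([3,4,2,4,4,4,2],716,2),
   ([1,3,1,0,0,1,0],716,3),
   ([3,2,2,3,0,3,4],717,1),
   ([2,2,2,1,2,2,4],718,2),
   ([3,2,1,1,4,4,4],719,0),
   ([0,1,2,0,3,4,4],719,1),
   ([4,4,1,0,0,0,3],720,1),
   ([4,3,3,0,1,0,1],720,3),
   ([0,3,4,2,2,4,1],721,3),
   ([3,3,3,4,2,1,0],722,3),
   ([2,0,4,3,1,2,1],723,0),
   ([2,4,1,1,4,1,4],723,3),
   ([4,4,4,4,0,4,1],724,3),
   ([4,4,1,0,0,3,1],725,0),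
   ([1,4,4,2,2,3,0],726,2),
   ([4,1,3,2,4,4,2],727,1),
   ([1,0,4,3,1,3,2],728,1),
   ([1,4,3,1,0,3,0],728,2),
   ([2,4,1,4,1,0,1],728,3),
   ([2,0,4,1,3,1,3],729,0),
   ([2,2,0,4,3,3,2],729,3),
   ([0,3,0,1,1,4,2],730,2),
   ([1,1,0,4,3,0,3],731,0),
   ([4,0,4,3,1,1,3],731,1),
   ([4,0,3,1,0,3,2],731,3),
   ([4,1,2,0,3,1,3],732,0),
   ([3,2,0,4,3,0,1],732,3),
   ([0,4,0,1,1,3,0],733,2),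
   ([3,1,1,0,0,4,2],734,0),
   ([2,3,1,0,0,2,4],735,1),
   ([1,0,1,2,3,2,3],735,2),
   ([0,2,2,0,3,2,4],737,0),
   ([4,3,2,3,0,0,4],738,0),
   ([1,4,1,1,4,2,2],739,0),
   ([3,0,4,4,0,3,1],739,1),
   ([1,4,2,4,4,4,1],739,2),
   ([0,1,0,3,4,4,2],740,2),
   ([4,0,1,2,3,2,2],741,0),
   ([4,2,3,1,0,0,2],742,0),
   ([1,3,1,4,1,2,3],742,3),
   ([1,2,4,2,2,1,0],744,0),
   ([1,3,3,0,1,0,4],744,1),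
   ([3,0,3,2,4,3,3],744,2),
   ([0,2,1,0,0,4,3],745,0),
   ([3,4,3,4,2,2,0],745,1),
   ([0,4,2,0,3,1,0],745,3),
   ([0,3,4,2,2,4,4],746,3),
   ([2,3,1,2,3,4,0],748,2),
   ([1,2,0,3,4,0,1],749,2),
   ([1,2,2,1,2,1,1],750,2),
   ([4,2,2,3,0,0,4],750,3),
   ([3,2,4,1,3,1,1],751,2),
   ([3,1,4,3,1,2,3],752,3),
   ([1,1,0,0,2,0,2],753,0),
   ([1,0,4,0,4,3,1],753,2),
   ([4,1,0,2,0,2,2],754,3),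
   ([2,4,4,4,0,1,1],755,1),
   ([1,0,2,4,4,3,0],755,3),
   ([3,1,3,2,4,4,1],756,2),
   ([0,4,3,3,3,2,3],757,0),
   ([3,3,2,1,2,4,2],757,2),
   ([1,4,3,2,4,1,3],758,2),
   ([3,4,1,0,0,4,1],758,3),
   ([1,1,0,2,0,1,2],759,0),
   ([2,0,4,1,3,0,3],759,2),
   ([4,2,2,1,2,1,4],760,0)]

/-- A block of images of an isotropic vector. -/
def uOrbB14 : List (List ℕ × ℕ × ℕ) :=
  [([3,1,1,3,2,4,1],760,1),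
   ([3,1,2,4,4,3,1],760,2),
   ([4,2,1,4,1,2,4],761,1),
   ([4,0,2,4,4,4,0],761,3),
   ([3,1,4,1,3,2,1],763,0),
   ([1,1,1,1,4,2,1],763,1),
   ([2,1,4,0,4,3,2],764,2),
   ([1,3,2,1,2,2,0],764,3),
   ([3,0,0,2,0,0,2],765,0),
   ([4,3,3,2,4,0,1],766,2),
   ([1,1,4,0,4,3,4],766,3),
   ([2,0,2,1,2,1,2],767,1),
   ([2,3,1,3,2,0,2],767,3),
   ([0,4,4,2,2,3,2],768,2),
   ([2,0,1,3,2,3,2],770,0),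
   ([4,4,4,3,1,1,4],770,1),
   ([2,2,1,1,4,2,4],770,2),
   ([2,0,1,0,0,0,1],771,2),
   ([2,4,2,3,0,3,4],771,3),
   ([2,3,2,2,1,0,2],772,1),
   ([3,4,4,0,4,1,0],772,2),
   ([1,0,1,4,1,1,2],772,3),
   ([3,2,1,4,1,1,3],773,1),
   ([1,0,2,3,0,3,1],773,3),
   ([3,1,2,1,2,3,4],774,0),
   ([3,2,2,2,1,0,3],774,1),
   ([1,3,0,3,4,2,2],775,1),
   ([1,0,0,0,2,1,2],775,3),
   ([1,2,2,1,2,4,2],777,0),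
   ([3,0,0,0,2,2,4],778,0),
   ([2,3,0,4,3,4,0],778,3),
   ([2,0,1,0,0,4,1],779,1),
   ([1,0,3,0,1,3,4],779,3),
   ([2,1,2,0,3,0,3],780,0),
   ([3,0,0,3,4,1,2],780,1),
   ([1,0,2,0,3,3,1],780,3),
   ([0,1,3,1,0,2,4],781,0),
   ([4,2,4,3,1,3,2],781,1),
   ([0,1,0,4,3,2,1],782,2),
   ([2,3,3,2,4,1,1],783,0),
   ([1,1,3,3,3,0,2],784,1),
   ([1,2,1,3,2,0,4],784,3),
   ([1,1,4,3,1,3,0],786,2),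
   ([4,3,2,1,2,0,1],786,3),
   ([1,1,2,0,3,3,4],788,3),
   ([1,2,4,2,2,4,1],789,2),
   ([1,1,4,3,1,1,3],790,3),
   ([2,4,3,0,1,4,0],791,2),
   ([0,2,4,4,0,1,1],791,3),
   ([2,0,2,4,4,0,0],792,1),
   ([1,0,3,1,0,1,3],793,3),
   ([3,2,1,2,3,4,2],794,1),
   ([4,4,3,0,1,3,4],794,2),
   ([2,3,3,3,3,3,3],795,1),
   ([4,0,1,4,1,3,3],796,1),
   ([1,0,4,2,2,1,3],797,0),
   ([2,4,4,1,3,2,2],798,0),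
   ([3,1,1,0,0,2,3],798,3),
   ([1,0,4,2,2,0,3],799,2),
   ([1,3,1,3,2,1,2],800,0),
   ([1,1,3,3,3,4,1],800,1),
   ([4,3,3,0,1,4,4],800,2),
   ([1,3,4,2,2,0,3],801,2),
   ([4,4,0,4,3,1,3],802,0),
   ([0,1,1,2,3,2,2],802,2),
   ([0,3,1,1,4,2,2],803,0),
   ([4,1,1,4,1,1,2],803,1),
   ([4,4,4,1,3,4,3],803,3),
   ([2,1,1,2,3,0,4],804,2),
   ([2,0,1,4,1,1,1],805,0),
   ([0,2,3,2,4,3,3],805,1),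
   ([3,4,2,3,0,0,2],805,2),
   ([2,3,0,0,2,2,4],806,1),
   ([1,0,3,1,0,0,3],806,3),
   ([4,0,3,4,2,2,3],807,0),
   ([3,2,4,2,2,2,4],809,0),
   ([1,1,1,2,3,3,1],809,1),
   ([3,2,1,1,4,0,3],809,3),
   ([4,0,2,1,2,4,1],810,2),
   ([1,1,3,1,0,4,2],810,3),
   ([3,2,4,1,3,2,0],811,3),
   ([3,2,1,3,2,1,2],812,2),
   ([2,3,3,2,4,4,3],813,0),
   ([1,2,4,0,4,0,1],814,0),
   ([4,0,3,4,2,0,3],814,1),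
   ([4,3,3,1,0,0,2],815,0),
   ([0,2,0,4,3,1,0],815,3),
   ([3,4,2,0,3,3,1],816,1),
   ([0,3,0,0,2,1,1],817,0),
   ([2,4,1,3,2,3,3],817,1),
   ([1,4,0,1,1,4,4],818,0),
   ([2,3,4,3,1,4,2],818,3),
   ([1,2,0,2,0,2,0],819,1),
   ([1,3,2,2,1,3,3],820,3),
   ([1,0,4,3,1,2,2],821,1),
   ([0,3,3,3,3,1,4],821,2),
   ([2,1,0,1,1,0,4],822,0),
   ([3,2,0,2,0,4,3],822,1),
   ([4,1,0,4,3,3,4],822,3),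
   ([0,2,1,0,0,4,1],823,0),
   ([3,4,3,2,4,4,0],823,2),
   ([2,3,4,2,2,2,2],824,1),
   ([2,3,2,2,1,4,3],824,2),
   ([4,1,2,0,3,2,2],825,0),
   ([0,3,0,2,0,3,2],825,1),
   ([3,1,1,1,4,1,0],827,0),
   ([4,4,4,1,3,1,0],827,1),
   ([2,3,3,0,1,4,3],827,2),
   ([1,4,0,0,2,4,3],828,0),
   ([2,2,4,0,4,4,2],828,1),
   ([4,3,0,4,3,2,1],829,1),
   ([0,4,0,3,4,1,1],830,0),
   ([3,4,0,2,0,0,2],831,2),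
   ([1,2,4,4,0,4,1],832,0),
   ([2,0,1,1,4,0,2],832,1),
   ([4,2,2,0,3,2,0],833,0),
   ([1,1,1,3,2,4,3],834,0),
   ([0,1,2,4,4,0,2],834,2),
   ([3,3,4,0,4,1,3],834,3),
   ([4,4,1,0,0,2,0],835,1),
   ([2,3,0,3,4,1,2],835,3),
   ([4,2,2,4,4,3,4],837,2),
   ([0,2,2,1,2,3,3],837,3),
   ([1,0,2,4,4,0,0],838,0),
   ([4,0,1,3,2,0,1],838,1)]

/-- A block of images of an isotropic vector. -/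
def uOrbB15 : List (List ℕ × ℕ × ℕ) :=
  [([4,2,4,3,1,1,1],839,0),
   ([4,2,4,1,3,2,0],839,2),
   ([0,3,1,4,1,1,1],839,3),
   ([3,3,0,1,1,3,4],840,0),
   ([3,0,3,4,2,0,4],840,1),
   ([3,2,0,2,0,2,0],840,2),
   ([0,3,3,1,0,4,3],842,2),
   ([1,0,3,4,2,3,2],842,3),
   ([4,3,4,2,2,0,2],844,1),
   ([3,4,3,1,0,3,0],844,3),
   ([3,0,3,0,1,4,3],845,3),
   ([0,0,2,4,4,1,0],846,0),
   ([2,0,4,1,3,4,3],846,1),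
   ([1,3,0,2,0,0,1],846,3),
   ([0,4,1,0,0,2,1],848,0),
   ([4,3,3,1,0,1,4],848,1),
   ([4,1,3,0,1,0,1],848,3),
   ([1,4,2,1,2,4,0],849,2),
   ([2,0,1,2,3,0,4],850,2),
   ([3,4,4,2,2,3,0],851,0),
   ([3,1,3,4,2,2,3],851,1),
   ([3,3,4,2,2,2,3],851,2),
   ([4,3,1,3,2,2,0],852,0),
   ([1,0,3,4,2,2,2],852,2),
   ([0,1,2,2,1,1,2],852,3),
   ([2,0,0,3,4,3,3],853,1),
   ([2,4,2,4,4,1,2],853,2),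
   ([4,3,1,3,2,1,3],853,3),
   ([0,4,3,3,3,2,4],854,1),
   ([0,4,3,2,4,4,2],854,3),
   ([0,3,3,3,3,1,2],856,0),
   ([2,1,1,4,1,3,0],856,1),
   ([3,2,3,2,4,3,0],858,0),
   ([2,2,1,0,0,3,4],858,3),
   ([4,1,4,0,4,4,0],859,1),
   ([4,3,3,4,2,1,0],859,2),
   ([4,3,1,4,1,0,3],859,3),
   ([0,1,4,4,0,2,1],860,0),
   ([1,0,3,3,3,2,2],860,2),
   ([3,1,2,4,4,4,3],860,3),
   ([1,2,0,3,4,4,4],861,1),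
   ([0,3,4,3,1,1,3],863,2),
   ([3,1,4,1,3,1,4],864,1),
   ([2,0,4,3,1,4,1],864,2),
   ([2,0,0,0,2,1,1],864,3),
   ([2,2,4,0,4,1,4],865,1),
   ([1,1,1,0,0,2,4],865,3),
   ([2,0,4,4,0,3,4],866,2),
   ([4,1,1,3,2,1,0],866,3),
   ([0,4,2,1,2,4,3],867,0),
   ([3,2,2,2,1,4,4],867,1),
   ([4,2,3,0,1,4,3],867,3),
   ([3,2,2,1,2,2,1],868,3),
   ([3,3,1,4,1,0,4],869,0),
   ([0,3,1,2,3,4,0],869,2),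
   ([1,0,4,2,2,3,3],870,1),
   ([3,0,1,3,2,3,3],871,0),
   ([3,1,0,0,2,2,3],871,1),
   ([0,0,2,4,4,0,2],872,2),
   ([4,3,0,2,0,1,1],872,3),
   ([1,3,0,3,4,3,0],873,0),
   ([0,2,2,1,2,3,1],873,1),
   ([0,3,0,1,1,4,0],874,2),
   ([0,1,3,2,4,1,0],875,0),
   ([3,1,1,0,0,1,1],876,2),
   ([1,2,4,4,0,1,0],876,3),
   ([1,2,4,3,1,0,2],877,1),
   ([0,3,2,0,3,3,4],878,0),
   ([1,0,3,1,0,3,3],878,1),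
   ([0,4,1,2,3,3,1],878,2),
   ([3,1,0,0,2,4,2],879,3),
   ([3,2,1,3,2,2,1],880,1),
   ([2,4,4,2,2,4,2],881,0),
   ([3,4,4,0,4,3,1],881,3),
   ([0,3,3,2,4,2,0],882,0),
   ([1,3,1,0,0,2,3],882,2),
   ([3,3,4,1,3,4,1],883,2),
   ([3,1,2,0,3,2,1],884,2),
   ([0,1,0,0,2,3,1],885,2),
   ([1,4,2,0,3,1,0],885,3),
   ([2,4,2,1,2,1,4],886,1),
   ([2,2,4,4,0,0,4],886,2),
   ([4,3,4,1,3,4,2],888,0),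
   ([4,1,4,4,0,0,2],888,1),
   ([1,1,0,4,3,2,0],889,3),
   ([4,2,2,1,2,2,2],890,2),
   ([3,4,3,0,1,0,3],892,0),
   ([2,2,2,0,3,4,2],892,1),
   ([0,3,4,2,2,4,3],893,0),
   ([0,2,0,0,2,4,0],893,2),
   ([0,4,1,2,3,3,3],894,3),
   ([3,4,1,1,4,1,1],895,0),
   ([4,3,3,2,4,3,2],895,1),
   ([3,2,1,3,2,0,3],896,3),
   ([0,1,2,4,4,0,1],897,2),
   ([3,4,4,3,1,0,4],898,3),
   ([2,3,3,0,1,2,0],899,2),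
   ([4,0,3,2,4,4,1],899,3),
   ([4,4,2,0,3,3,2],900,0),
   ([2,0,4,2,2,3,4],900,1),
   ([2,3,1,3,2,1,1],900,2),
   ([0,2,0,1,1,1,2],901,3),
   ([0,1,1,1,4,1,0],902,0),
   ([0,1,0,3,4,4,0],903,3),
   ([2,3,2,1,2,2,0],904,0),
   ([2,2,1,1,4,1,3],904,1),
   ([4,1,0,3,4,0,4],904,2),
   ([0,4,3,4,2,2,4],905,1),
   ([3,2,0,3,4,4,3],906,1),
   ([1,4,3,3,3,1,1],906,3),
   ([2,4,4,3,1,1,3],907,0),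
   ([0,3,3,4,2,1,3],907,2),
   ([1,2,1,3,2,4,2],908,2),
   ([3,0,1,4,1,4,4],908,3),
   ([1,2,4,1,3,4,4],910,1),
   ([3,3,1,0,0,1,0],910,3),
   ([4,4,1,3,2,1,2],911,0),
   ([0,2,4,3,1,4,4],911,3),
   ([2,4,2,2,1,3,3],912,2),
   ([4,4,2,0,3,2,1],912,3),
   ([4,3,3,1,0,2,1],913,0),
   ([0,4,2,2,1,4,3],913,1),
   ([4,4,2,0,3,0,4],914,2),
   ([2,4,2,4,4,2,4],914,3),
   ([2,1,4,4,0,4,1],916,2)]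

/-- A block of images of an isotropic vector. -/
def uOrbB16 : List (List ℕ × ℕ × ℕ) :=
  [([3,0,4,1,3,3,2],916,3),
   ([3,4,2,3,0,3,1],917,1),
   ([3,0,0,1,1,2,1],917,2),
   ([0,4,3,1,0,3,3],917,3),
   ([3,2,2,3,0,0,2],918,1),
   ([3,1,1,4,1,0,4],919,2),
   ([4,3,0,1,1,2,1],919,3),
   ([3,4,4,1,3,0,2],920,3),
   ([3,4,3,0,1,2,4],921,3),
   ([3,0,1,0,0,0,4],922,0),
   ([2,3,1,4,1,3,3],922,1),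
   ([3,0,0,4,3,3,1],922,3),
   ([1,2,0,4,3,0,3],924,2),
   ([3,0,3,3,3,1,4],925,0),
   ([4,1,2,2,1,4,2],925,2),
   ([4,0,1,1,4,4,1],925,3),
   ([4,3,0,4,3,3,3],926,0),
   ([2,3,0,3,4,2,1],926,1),
   ([2,4,3,3,3,4,4],926,2),
   ([0,1,2,4,4,0,3],927,0),
   ([2,4,0,0,2,0,1],927,3),
   ([2,3,1,0,0,1,0],928,1),
   ([2,2,2,0,3,2,0],930,1),
   ([1,2,3,1,0,4,1],930,3),
   ([2,0,3,0,1,2,2],931,2),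
   ([3,1,0,2,0,4,0],932,1),
   ([4,2,3,3,3,4,0],932,2),
   ([4,3,2,0,3,4,2],933,2),
   ([1,3,2,1,2,1,2],934,1),
   ([3,1,4,4,0,0,1],935,3),
   ([1,1,2,0,3,1,2],937,3),
   ([1,4,3,1,0,4,4],938,1),
   ([3,1,2,1,2,4,1],938,2),
   ([1,4,2,1,2,0,4],939,1),
   ([4,0,3,4,2,4,3],940,1),
   ([3,0,0,4,3,2,1],940,3),
   ([2,2,1,4,1,0,1],941,1),
   ([2,4,0,4,3,4,2],941,2),
   ([4,0,4,1,3,4,4],942,1),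
   ([3,0,1,2,3,2,1],944,0),
   ([1,2,4,1,3,0,1],944,1),
   ([4,0,3,4,2,1,3],944,2),
   ([3,1,4,4,0,1,3],945,0),
   ([3,4,0,4,3,1,4],945,3),
   ([2,1,1,4,1,1,4],946,1),
   ([4,4,4,3,1,4,2],946,2),
   ([3,0,3,3,3,0,4],947,0),
   ([2,3,3,2,4,0,2],947,1),
   ([3,2,3,3,3,4,0],947,3),
   ([1,1,0,0,2,1,3],948,0),
   ([3,4,2,0,3,2,3],948,2),
   ([3,0,3,3,3,4,4],948,3),
   ([2,1,0,1,1,3,3],949,0),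
   ([3,2,1,3,2,3,0],949,2),
   ([3,2,1,4,1,3,1],951,0),
   ([3,0,1,3,2,4,3],951,3),
   ([2,2,3,2,4,3,0],952,3),
   ([3,2,0,1,1,1,0],953,1),
   ([0,3,0,0,2,1,0],953,2),
   ([0,1,4,3,1,3,0],954,0),
   ([0,0,2,4,4,2,3],955,0),
   ([4,1,2,2,1,1,0],955,1),
   ([4,0,1,2,3,4,2],957,1),
   ([4,3,1,0,0,0,3],957,3),
   ([2,4,3,3,3,1,3],959,2),
   ([4,0,0,1,1,3,2],960,1),
   ([4,2,2,1,2,0,1],961,0),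
   ([1,0,3,2,4,2,4],961,1),
   ([4,0,1,4,1,4,3],963,0),
   ([1,1,3,0,1,1,0],963,2),
   ([1,2,1,2,3,4,1],964,0),
   ([2,0,0,2,0,0,3],964,3),
   ([4,3,4,1,3,0,4],965,1),
   ([1,4,2,3,0,4,2],966,2),
   ([1,4,3,2,4,0,4],967,1),
   ([0,4,0,2,0,1,1],968,0),
   ([2,1,0,4,3,3,3],969,0),
   ([0,1,2,3,0,4,2],969,3),
   ([1,2,1,1,4,2,3],970,1),
   ([2,2,4,1,3,3,1],970,2),
   ([0,4,2,3,0,1,3],970,3),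
   ([3,3,3,2,4,3,1],971,0),
   ([3,4,0,1,1,4,3],971,1),
   ([4,3,2,1,2,3,2],972,0),
   ([1,4,2,0,3,3,3],974,2),
   ([1,1,1,4,1,2,4],975,1),
   ([2,1,2,2,1,3,1],975,3),
   ([1,0,0,2,0,1,1],976,2),
   ([4,4,4,2,2,4,1],977,0),
   ([2,1,4,0,4,4,0],978,1),
   ([1,3,3,0,1,4,1],978,3),
   ([3,4,4,1,3,4,4],979,0),
   ([4,4,0,0,2,4,2],980,2),
   ([2,2,2,4,4,3,3],980,3),
   ([2,4,2,1,2,0,2],981,0),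
   ([1,4,1,4,1,4,3],981,2),
   ([4,3,2,1,2,4,4],982,0),
   ([4,0,1,0,0,3,3],982,1),
   ([3,1,2,4,4,1,2],982,3),
   ([4,0,0,1,1,4,2],983,0),
   ([2,4,1,2,3,3,0],983,2),
   ([3,3,2,3,0,2,4],983,3),
   ([4,3,3,3,3,1,0],984,1),
   ([3,2,3,4,2,4,0],984,2),
   ([0,2,0,0,2,4,3],985,1),
   ([3,0,2,0,3,3,2],985,3),
   ([0,1,4,1,3,4,2],986,1),
   ([2,0,3,2,4,4,2],986,2),
   ([0,3,4,0,4,3,2],987,2),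
   ([4,4,2,2,1,1,2],988,3),
   ([3,4,0,3,4,2,3],990,3),
   ([4,3,4,0,4,0,4],991,1),
   ([2,1,3,1,0,0,4],993,1),
   ([2,3,4,2,2,1,3],993,2),
   ([1,0,4,1,3,0,1],994,1),
   ([4,4,2,1,2,0,1],994,2),
   ([4,2,1,0,0,3,2],995,0),
   ([2,4,1,1,4,3,3],996,2),
   ([4,3,0,4,3,0,2],997,1),
   ([2,2,1,3,2,1,3],998,3),
   ([2,2,4,0,4,0,3],1001,0),
   ([0,3,3,3,3,1,0],1001,2),
   ([1,1,3,4,2,2,4],1002,0),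
   ([1,0,4,1,3,1,1],1002,2),
   ([2,2,2,1,2,4,1],1003,2)]

/-- A block of images of an isotropic vector. -/
def uOrbB17 : List (List ℕ × ℕ × ℕ) :=
  [([2,4,3,1,0,1,1],1004,3),
   ([3,3,3,0,1,3,1],1005,0),
   ([3,1,1,1,4,2,2],1006,0),
   ([1,0,0,1,1,1,3],1006,2),
   ([4,1,0,0,2,0,3],1007,0),
   ([1,0,4,4,0,2,3],1008,3),
   ([0,1,1,1,4,1,2],1009,3),
   ([3,4,1,2,3,3,0],1010,0),
   ([3,1,0,4,3,1,3],1010,1),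
   ([3,4,1,0,0,1,2],1011,1),
   ([4,0,0,3,4,0,4],1012,0),
   ([1,3,4,1,3,4,3],1012,1),
   ([0,2,4,3,1,4,1],1014,2),
   ([2,4,2,4,4,3,1],1015,0),
   ([0,3,1,3,2,2,4],1016,0),
   ([4,0,0,2,0,0,4],1016,1),
   ([2,3,4,3,1,0,1],1016,3),
   ([0,1,1,0,0,3,2],1017,2),
   ([3,2,4,4,0,0,1],1017,3),
   ([1,2,0,1,1,0,3],1019,1),
   ([3,3,4,4,0,2,3],1020,1),
   ([2,2,1,3,2,0,2],1021,0),
   ([0,1,0,1,1,2,1],1022,0),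
   ([2,3,2,3,0,0,3],1022,3),
   ([3,4,1,3,2,4,0],1023,0),
   ([2,2,4,0,4,3,1],1023,2),
   ([2,2,1,2,3,3,2],1024,1),
   ([0,3,2,2,1,2,4],1024,2),
   ([3,0,1,1,4,1,3],1025,3),
   ([4,4,2,0,3,1,0],1027,1),
   ([4,3,0,0,2,3,4],1028,2),
   ([2,4,3,3,3,3,2],1029,3),
   ([2,1,1,3,2,0,2],1030,1),
   ([1,3,1,2,3,2,4],1030,3),
   ([1,2,3,1,0,2,2],1033,1),
   ([1,1,2,4,4,4,4],1034,0),
   ([4,3,2,0,3,1,1],1035,2),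
   ([2,3,0,2,0,2,1],1039,1),
   ([4,1,1,1,4,2,4],1040,0),
   ([3,0,1,2,3,3,1],1041,1),
   ([4,4,0,1,1,3,0],1042,1),
   ([1,2,0,0,2,0,2],1043,0),
   ([0,1,1,3,2,1,2],1043,3),
   ([2,1,3,2,4,1,0],1044,2),
   ([2,2,0,3,4,4,2],1045,1),
   ([1,2,4,0,4,2,0],1045,2),
   ([3,1,4,0,4,1,4],1047,1),
   ([1,1,3,0,1,4,3],1047,2),
   ([1,4,0,0,2,0,2],1048,0),
   ([4,0,4,4,0,2,2],1048,1),
   ([3,4,0,2,0,3,1],1049,0),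
   ([2,1,4,4,0,1,2],1049,3),
   ([4,4,4,2,2,0,2],1051,1),
   ([4,0,3,0,1,1,1],1053,1),
   ([1,0,0,0,2,3,2],1055,2),
   ([3,0,4,2,2,1,1],1055,3),
   ([4,3,4,1,3,3,0],1056,0),
   ([4,1,3,3,3,0,3],1056,2),
   ([4,4,4,0,4,1,0],1056,3),
   ([0,2,1,2,3,1,0],1057,0),
   ([2,3,1,1,4,4,3],1057,1),
   ([4,3,2,3,0,1,1],1058,1),
   ([3,4,0,0,2,3,3],1058,3),
   ([3,3,4,4,0,1,2],1059,0),
   ([1,4,1,3,2,1,3],1060,3),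
   ([4,1,3,4,2,1,2],1062,1),
   ([1,1,3,1,0,0,3],1063,2),
   ([4,0,3,3,3,4,3],1064,2),
   ([3,0,0,0,2,0,4],1065,1),
   ([1,3,4,1,3,1,4],1065,2),
   ([1,2,1,4,1,2,1],1067,2),
   ([1,4,2,2,1,4,0],1068,2),
   ([2,1,3,4,2,3,0],1069,0),
   ([4,4,1,4,1,1,4],1069,1),
   ([0,3,0,0,2,1,3],1069,2),
   ([4,2,2,1,2,3,0],1071,2),
   ([2,0,0,4,3,1,4],1072,0),
   ([3,4,4,2,2,0,1],1074,1),
   ([3,1,3,2,4,2,2],1074,3),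
   ([4,2,3,1,0,2,3],1077,1),
   ([3,4,0,2,0,4,4],1077,2),
   ([4,2,1,2,3,4,4],1078,2),
   ([2,4,0,2,0,4,1],1078,3),
   ([3,3,2,2,1,2,0],1079,3),
   ([4,3,4,4,0,2,1],1080,3),
   ([4,2,4,0,4,1,2],1081,2),
   ([1,0,3,2,4,4,4],1081,3),
   ([4,4,3,3,3,2,0],1082,0),
   ([0,1,4,2,2,2,4],1082,1),
   ([0,0,2,4,4,4,3],1082,2),
   ([1,4,1,3,2,3,1],1083,0),
   ([4,4,3,1,0,0,2],1084,0),
   ([3,4,0,3,4,0,2],1085,2),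
   ([1,3,1,3,2,0,4],1086,3),
   ([3,0,4,4,0,0,1],1089,2),
   ([3,2,3,4,2,2,2],1092,3),
   ([4,3,1,2,3,1,4],1093,2),
   ([3,1,1,4,1,1,1],1093,3),
   ([1,4,1,2,3,4,4],1094,3),
   ([0,3,1,1,4,2,0],1095,0),
   ([2,0,0,1,1,2,4],1095,2),
   ([0,4,1,4,1,2,0],1096,2),
   ([3,3,2,0,3,1,3],1096,3),
   ([2,0,0,4,3,0,4],1097,3),
   ([1,4,4,2,2,2,1],1098,3),
   ([1,0,3,2,4,3,4],1099,0),
   ([2,0,3,3,3,4,1],1100,1),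
   ([1,3,1,0,0,3,1],1100,3),
   ([1,3,0,1,1,3,2],1101,0),
   ([0,1,1,0,0,3,1],1101,1),
   ([0,3,1,2,3,4,4],1101,2),
   ([1,1,1,2,3,0,3],1102,2),
   ([4,2,2,0,3,0,4],1103,2),
   ([1,4,0,2,0,0,1],1104,0),
   ([4,3,1,4,1,3,4],1105,2),
   ([4,3,3,4,2,2,2],1105,3),
   ([3,1,4,2,2,4,4],1106,0),
   ([2,2,0,3,4,1,4],1107,0),
   ([0,1,1,2,3,2,0],1107,1),
   ([4,1,4,0,4,0,4],1107,2),
   ([2,0,4,1,3,2,3],1108,0),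
   ([2,4,2,3,0,1,0],1108,2),
   ([2,0,4,4,0,1,4],1109,1),
   ([2,4,3,3,3,2,0],1109,2),
   ([4,4,2,2,1,4,0],1110,1)]

/-- A block of images of an isotropic vector. -/
def uOrbB18 : List (List ℕ × ℕ × ℕ) :=
  [([4,3,1,1,4,1,3],1110,2),
   ([3,3,4,1,3,3,0],1111,0),
   ([3,2,4,2,2,4,2],1111,1),
   ([1,0,3,3,3,3,2],1112,1),
   ([0,3,4,3,1,1,2],1112,2),
   ([3,2,4,3,1,3,1],1113,0),
   ([3,0,2,1,2,0,3],1113,1),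
   ([2,1,0,3,4,4,0],1114,1),
   ([4,2,4,3,1,4,0],1115,0),
   ([3,4,1,2,3,0,1],1116,0),
   ([2,4,4,2,2,2,3],1117,0),
   ([2,2,3,2,4,1,3],1117,1),
   ([2,2,4,2,2,4,3],1117,2),
   ([3,3,3,4,2,3,2],1118,3),
   ([3,0,0,1,1,3,1],1119,0),
   ([3,3,1,0,0,4,3],1119,3),
   ([3,1,3,0,1,3,4],1120,0),
   ([4,3,0,2,0,2,3],1121,1),
   ([1,3,2,0,3,1,4],1121,2),
   ([1,0,4,0,4,2,1],1122,0),
   ([3,2,4,1,3,4,3],1122,1),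
   ([0,1,0,1,1,2,4],1122,3),
   ([3,4,0,3,4,1,0],1123,2),
   ([2,4,4,3,1,3,2],1123,3),
   ([3,0,3,0,1,2,3],1124,1),
   ([0,2,0,4,3,1,2],1124,3),
   ([0,2,0,1,1,1,1],1126,3),
   ([0,1,1,4,1,3,2],1127,0),
   ([1,3,0,2,0,4,3],1127,1),
   ([4,0,4,1,3,3,4],1127,2),
   ([2,0,1,1,4,4,2],1129,2),
   ([1,4,0,1,1,1,2],1130,0),
   ([2,4,4,0,4,0,3],1130,3),
   ([0,2,1,0,0,4,2],1134,0),
   ([2,1,0,4,3,0,4],1135,0),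
   ([4,3,2,0,3,2,3],1135,2),
   ([0,1,3,4,2,3,2],1136,2),
   ([1,0,0,1,1,0,3],1136,3),
   ([3,4,0,3,4,4,4],1137,0),
   ([1,1,4,1,3,4,0],1139,2),
   ([1,4,3,2,4,2,2],1139,3),
   ([2,0,4,0,4,2,3],1140,1),
   ([3,4,3,1,0,1,4],1140,3),
   ([2,0,4,0,4,0,3],1141,0),
   ([3,1,3,2,4,3,4],1141,1),
   ([2,0,0,4,3,3,4],1143,0),
   ([1,2,3,0,1,0,4],1143,2),
   ([4,2,0,0,2,2,4],1145,2),
   ([1,3,0,2,0,2,2],1145,3),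
   ([4,0,3,3,3,1,3],1146,2),
   ([1,1,0,0,2,4,1],1147,0),
   ([4,1,1,0,0,4,4],1147,2),
   ([0,4,2,3,0,1,4],1148,1),
   ([4,1,3,0,1,1,0],1149,1),
   ([0,2,0,4,3,1,1],1151,1),
   ([0,4,0,2,0,1,4],1151,3),
   ([1,2,3,2,4,3,0],1152,0),
   ([0,4,2,1,2,4,1],1152,2),
   ([1,0,0,0,2,0,2],1153,2),
   ([0,2,1,1,4,3,4],1153,3),
   ([4,0,3,2,4,0,1],1154,0),
   ([2,3,1,3,2,2,0],1154,2),
   ([1,0,0,3,4,4,1],1155,1),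
   ([1,2,3,2,4,0,4],1155,2),
   ([1,3,4,2,2,4,0],1156,0),
   ([4,1,1,1,4,1,0],1157,2),
   ([4,2,4,3,1,0,3],1158,1),
   ([0,2,4,3,1,4,3],1159,1),
   ([4,0,4,2,2,0,2],1160,0),
   ([2,4,0,2,0,2,2],1161,1),
   ([3,2,4,4,0,4,2],1161,2),
   ([3,1,4,4,0,3,2],1161,3),
   ([0,3,4,1,3,3,3],1162,2),
   ([0,3,0,2,0,3,1],1162,3),
   ([4,0,3,0,1,3,1],1163,2),
   ([2,3,4,4,0,2,2],1164,0),
   ([3,3,0,3,4,2,4],1165,1),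
   ([1,4,1,0,0,2,0],1165,3),
   ([2,1,2,1,2,3,1],1167,0),
   ([0,1,2,4,4,0,4],1167,3),
   ([1,3,1,3,2,4,1],1168,3),
   ([0,3,1,4,1,1,3],1169,1),
   ([4,4,3,3,3,1,4],1169,3),
   ([3,3,4,4,0,4,0],1170,0),
   ([0,2,1,2,3,1,4],1170,1),
   ([1,2,2,1,2,3,0],1171,3),
   ([3,1,0,2,0,1,4],1172,0),
   ([0,4,3,1,0,3,4],1172,2),
   ([1,3,0,4,3,0,3],1172,3),
   ([1,0,3,1,0,2,3],1173,2),
   ([0,4,1,2,3,3,2],1174,2),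
   ([2,3,1,1,4,2,0],1178,2),
   ([4,4,0,1,1,4,1],1179,2),
   ([4,3,4,4,0,1,4],1181,3),
   ([0,3,2,0,3,3,2],1182,0),
   ([0,1,2,0,3,4,1],1184,0),
   ([0,2,0,0,2,4,1],1185,0),
   ([3,4,4,4,0,0,1],1187,0),
   ([2,3,4,3,1,3,3],1187,1),
   ([4,3,1,0,0,4,1],1188,0),
   ([1,0,1,1,4,4,4],1189,2),
   ([0,3,1,0,0,1,3],1189,3),
   ([3,3,2,1,2,3,1],1190,0),
   ([4,2,3,4,2,3,2],1191,0),
   ([2,2,2,4,4,0,0],1191,1),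
   ([3,3,1,0,0,0,4],1191,3),
   ([1,3,3,3,3,1,0],1192,1),
   ([2,1,0,4,3,1,2],1195,2),
   ([4,3,0,3,4,2,3],1196,1),
   ([2,2,3,3,3,1,2],1196,2),
   ([0,2,2,3,0,2,1],1197,1),
   ([3,3,1,0,0,2,1],1197,2),
   ([2,3,0,0,2,1,0],1198,1),
   ([2,3,4,0,4,1,2],1199,1),
   ([0,3,3,0,1,2,3],1201,2),
   ([3,4,1,3,2,2,4],1203,2),
   ([1,0,4,1,3,2,1],1203,3),
   ([2,1,1,2,3,1,2],1204,0),
   ([3,3,1,2,3,2,3],1205,3),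
   ([0,0,2,4,4,3,4],1206,0),
   ([1,3,0,4,3,1,1],1207,0),
   ([1,1,3,0,1,2,1],1207,3),
   ([0,4,4,3,1,2,3],1209,0),
   ([1,1,1,0,0,0,2],1209,2),
   ([1,3,2,4,4,3,4],1211,2)]

/-- A block of images of an isotropic vector. -/
def uOrbB19 : List (List ℕ × ℕ × ℕ) :=
  [([1,3,0,0,2,2,3],1212,0),
   ([4,3,3,3,3,3,4],1212,2),
   ([1,2,4,0,4,4,4],1214,0),
   ([4,4,1,2,3,3,0],1216,0),
   ([2,1,4,3,1,1,4],1216,1),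
   ([2,1,1,1,4,4,4],1217,2),
   ([0,2,2,2,1,3,1],1218,1),
   ([3,0,0,0,2,4,4],1218,2),
   ([3,4,4,4,0,2,2],1219,3),
   ([3,4,3,2,4,2,4],1220,0),
   ([3,2,3,0,1,4,4],1220,3),
   ([4,2,4,4,0,3,1],1221,0),
   ([0,1,4,4,0,2,4],1221,3),
   ([1,1,4,2,2,2,0],1223,1),
   ([0,4,2,4,4,0,2],1223,2),
   ([4,3,3,0,1,1,3],1226,0),
   ([4,3,0,3,4,3,0],1226,2),
   ([3,1,2,1,2,2,2],1227,0),
   ([3,0,2,1,2,3,3],1227,3),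
   ([0,3,1,2,3,4,1],1228,2),
   ([4,4,4,4,0,2,4],1228,3),
   ([2,3,1,0,0,0,1],1231,0),
   ([2,0,1,3,2,0,2],1232,3),
   ([3,4,1,0,0,0,4],1233,1),
   ([1,4,3,0,1,4,0],1237,2),
   ([1,0,2,3,0,4,1],1237,3),
   ([2,0,4,3,1,1,1],1238,0),
   ([0,2,1,1,4,3,0],1238,1),
   ([4,1,1,4,1,0,3],1238,2),
   ([1,1,2,4,4,0,0],1239,3),
   ([4,0,4,4,0,3,2],1240,0),
   ([3,1,2,2,1,0,3],1240,2),
   ([1,4,0,0,2,3,4],1241,1),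
   ([4,1,4,1,3,3,1],1244,0),
   ([0,1,0,0,2,3,4],1244,2),
   ([0,4,1,3,2,4,2],1245,1),
   ([2,0,1,3,2,2,2],1246,0),
   ([2,4,2,1,2,2,1],1246,1),
   ([2,3,2,4,4,4,1],1248,2),
   ([2,1,0,0,2,3,0],1249,1),
   ([4,0,2,4,4,3,0],1250,2),
   ([0,1,2,4,4,0,0],1252,0),
   ([4,4,1,4,1,4,2],1252,3),
   ([1,0,0,4,3,2,3],1253,0),
   ([0,3,0,3,4,3,2],1257,1),
   ([1,4,2,4,4,3,2],1258,1),
   ([0,4,2,4,4,0,1],1258,3),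
   ([4,4,4,4,0,3,0],1260,0),
   ([2,1,2,0,3,4,0],1260,1),
   ([1,3,2,2,1,4,1],1261,1),
   ([3,0,1,3,2,0,3],1261,3),
   ([0,0,2,4,4,0,1],1264,0),
   ([0,2,4,2,2,1,3],1264,1),
   ([1,0,0,1,1,2,3],1264,3),
   ([3,3,4,4,0,0,1],1265,2),
   ([1,3,0,0,2,1,0],1265,3),
   ([3,0,0,4,3,0,1],1266,1),
   ([1,2,4,1,3,2,0],1267,1),
   ([3,3,0,0,2,2,1],1268,0),
   ([3,0,2,3,0,3,2],1269,2),
   ([2,2,4,3,1,3,4],1269,3),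
   ([1,4,1,3,2,4,0],1270,3),
   ([1,1,3,2,4,2,1],1271,1),
   ([2,0,1,1,4,2,2],1272,2),
   ([0,1,1,1,4,1,1],1273,0),
   ([3,4,3,4,2,4,1],1273,2),
   ([2,1,4,1,3,4,0],1275,0),
   ([4,3,3,3,3,0,3],1276,2),
   ([2,4,3,2,4,2,1],1277,1),
   ([4,1,2,3,0,3,1],1277,2),
   ([3,1,0,3,4,2,1],1278,0),
   ([0,1,4,1,3,4,1],1279,0),
   ([2,1,3,1,0,2,0],1280,0),
   ([2,4,4,4,0,4,2],1280,1),
   ([1,4,3,3,3,3,4],1282,2),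
   ([4,0,2,1,2,1,1],1282,3),
   ([1,2,0,2,0,4,4],1284,2),
   ([0,4,1,4,1,2,3],1284,3),
   ([0,3,3,2,4,2,4],1286,2),
   ([2,1,2,0,3,3,2],1287,1),
   ([4,3,1,0,0,1,0],1287,2),
   ([3,3,1,3,2,4,2],1288,0),
   ([4,2,1,2,3,2,3],1289,3),
   ([1,1,2,2,1,3,2],1292,3),
   ([1,3,3,4,2,0,2],1294,0),
   ([0,2,1,2,3,1,2],1294,3),
   ([1,1,0,2,0,3,4],1295,1),
   ([0,2,2,0,3,2,1],1295,2),
   ([2,1,4,4,0,0,4],1297,2),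
   ([0,3,2,0,3,3,0],1297,3),
   ([2,0,1,3,2,1,2],1298,1),
   ([0,2,4,0,4,2,2],1299,1),
   ([4,0,0,4,3,1,2],1300,1),
   ([0,2,1,1,4,3,1],1300,2),
   ([2,3,4,1,3,4,4],1300,3),
   ([4,1,1,4,1,4,4],1301,2),
   ([0,2,4,1,3,2,1],1302,3),
   ([2,1,3,0,1,3,1],1303,3),
   ([4,3,4,1,3,2,3],1305,0),
   ([0,3,2,3,0,3,4],1305,1),
   ([4,3,1,1,4,4,4],1306,3),
   ([2,0,0,3,4,0,3],1307,0),
   ([3,1,0,3,4,0,2],1308,2),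
   ([1,1,2,3,0,4,0],1309,0),
   ([4,4,4,2,2,1,3],1312,1),
   ([3,3,4,3,1,4,3],1313,2),
   ([3,2,0,3,4,1,1],1314,2),
   ([0,4,0,4,3,3,0],1315,0),
   ([1,1,2,4,4,1,1],1315,1),
   ([1,0,2,1,2,2,4],1317,0),
   ([3,3,3,1,0,4,0],1317,1),
   ([3,3,3,1,0,2,3],1318,0),
   ([3,2,0,3,4,0,2],1319,1),
   ([0,3,0,3,4,3,0],1319,2),
   ([3,2,0,2,0,0,2],1320,0),
   ([1,3,3,4,2,2,3],1321,3),
   ([4,4,0,2,0,1,0],1322,2),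
   ([1,0,3,4,2,1,2],1324,3),
   ([4,3,3,2,4,4,4],1325,0),
   ([1,0,2,3,0,1,1],1326,2),
   ([1,3,4,2,2,2,4],1327,3),
   ([4,1,1,0,0,1,2],1328,2),
   ([0,4,4,1,3,1,4],1329,0),
   ([3,4,4,0,4,4,4],1329,3),
   ([1,0,1,0,0,1,2],1330,3)]

/-- A block of images of an isotropic vector. -/
def uOrbB20 : List (List ℕ × ℕ × ℕ) :=
  [([3,3,4,2,2,0,1],1331,0),
   ([2,4,0,0,2,4,4],1331,1),
   ([1,0,3,3,3,1,2],1332,2),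
   ([0,1,4,0,4,4,3],1333,0),
   ([2,2,4,3,1,0,1],1334,3),
   ([0,3,0,4,3,4,2],1335,0),
   ([2,1,1,0,0,3,0],1335,2),
   ([3,1,0,1,1,2,0],1336,0),
   ([1,4,2,2,1,3,1],1337,2),
   ([4,0,0,4,3,4,2],1340,0),
   ([1,0,0,0,2,2,2],1340,2),
   ([2,4,3,0,1,0,2],1340,3),
   ([1,0,2,0,3,1,1],1341,2),
   ([2,3,0,0,2,0,1],1344,0),
   ([1,2,2,4,4,4,3],1344,3),
   ([0,1,3,0,1,1,1],1346,1),
   ([3,4,3,1,0,4,3],1347,3),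
   ([4,0,1,0,0,4,3],1348,0),
   ([3,4,0,4,3,0,1],1349,3),
   ([2,0,2,4,4,4,0],1350,2),
   ([2,1,2,4,4,0,0],1354,0),
   ([3,4,4,3,1,2,0],1354,1),
   ([4,2,1,1,4,1,4],1355,2),
   ([4,1,2,0,3,4,0],1356,2),
   ([3,1,4,4,0,2,0],1357,3),
   ([3,4,3,0,1,4,0],1360,0),
   ([4,2,3,0,1,1,4],1360,2),
   ([0,4,3,0,1,4,2],1360,3),
   ([4,4,2,4,4,4,4],1361,1),
   ([0,1,0,2,0,4,4],1362,0),
   ([2,2,3,0,1,4,1],1363,0),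
   ([0,4,3,1,0,3,2],1364,3),
   ([4,3,0,2,0,4,2],1366,0),
   ([4,3,2,4,4,1,2],1366,2),
   ([3,2,1,2,3,0,1],1366,3),
   ([4,1,4,2,2,4,3],1371,0),
   ([1,4,0,4,3,3,0],1373,1),
   ([1,2,1,3,2,3,0],1375,0),
   ([4,4,3,4,2,0,3],1376,2),
   ([2,4,1,1,4,0,2],1377,3),
   ([0,1,1,0,0,3,0],1378,1),
   ([3,3,4,3,1,1,0],1379,2),
   ([3,0,2,0,3,2,2],1379,3),
   ([3,2,4,0,4,0,2],1380,3),
   ([0,4,3,2,4,4,3],1382,3),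
   ([4,1,2,4,4,3,2],1383,2),
   ([4,2,3,4,2,2,4],1390,2),
   ([2,2,2,1,2,0,2],1391,0),
   ([2,1,0,2,0,1,1],1391,3),
   ([2,0,0,2,0,2,3],1393,0),
   ([2,1,3,3,3,0,1],1393,1),
   ([0,4,3,4,2,2,2],1394,2),
   ([3,3,1,3,2,2,0],1395,2),
   ([0,4,4,0,4,1,2],1398,0),
   ([0,1,4,2,2,2,3],1398,2),
   ([3,0,4,2,2,4,1],1400,3),
   ([4,2,3,0,1,0,1],1404,3),
   ([1,4,2,3,0,1,0],1405,2),
   ([2,4,0,1,1,3,0],1408,0),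
   ([1,0,2,1,2,4,4],1408,2),
   ([3,1,2,0,3,3,3],1409,2),
   ([3,4,1,2,3,4,3],1414,3),
   ([2,2,3,1,0,1,0],1415,1),
   ([4,2,1,2,3,1,0],1416,2),
   ([2,4,1,2,3,2,3],1417,0),
   ([2,2,3,2,4,2,4],1418,0),
   ([2,0,2,3,0,2,3],1419,0),
   ([4,2,3,3,3,3,2],1421,0),
   ([0,3,1,3,2,2,2],1424,2),
   ([1,1,3,1,0,1,4],1426,0),
   ([2,0,3,0,1,4,2],1427,3),
   ([2,1,3,3,3,4,3],1429,0),
   ([0,1,2,3,0,4,1],1431,2),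
   ([1,4,2,3,0,2,4],1435,1),
   ([2,1,0,3,4,3,2],1435,2),
   ([3,1,2,3,0,0,2],1436,1),
   ([2,0,2,3,0,3,3],1436,3),
   ([0,1,3,2,4,1,1],1437,2),
   ([0,4,2,2,1,4,4],1440,3),
   ([0,3,0,0,2,1,2],1441,0),
   ([2,1,3,1,0,4,1],1441,1),
   ([4,4,2,3,0,0,4],1442,3),
   ([3,1,1,3,2,3,4],1443,1),
   ([3,4,2,3,0,4,4],1445,0),
   ([3,2,4,3,1,1,3],1445,2),
   ([1,4,1,1,4,4,0],1446,3),
   ([2,1,4,0,4,1,1],1450,2),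
   ([4,4,3,4,2,1,4],1453,0),
   ([3,3,1,3,2,1,4],1454,1),
   ([0,1,3,2,4,1,2],1456,2),
   ([4,1,3,3,3,1,2],1457,0),
   ([1,2,2,4,4,2,4],1458,3),
   ([1,4,4,0,4,1,0],1459,1),
   ([3,1,2,0,3,1,4],1460,3),
   ([3,1,1,0,0,0,4],1462,0),
   ([3,2,4,1,3,3,4],1464,1),
   ([3,0,2,3,0,4,2],1464,3),
   ([1,1,2,2,1,2,1],1465,2),
   ([3,1,2,3,0,1,4],1466,0),
   ([0,1,4,0,4,4,0],1466,3),
   ([2,0,1,0,0,3,1],1468,0),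
   ([1,1,3,1,0,3,1],1472,0),
   ([0,2,3,2,4,3,0],1472,3),
   ([4,2,4,0,4,2,0],1475,1),
   ([4,3,2,0,3,0,4],1476,0),
   ([2,3,0,1,1,3,1],1477,0),
   ([0,4,0,0,2,2,1],1477,2),
   ([0,4,2,2,1,4,0],1478,1),
   ([2,3,2,1,2,0,2],1478,2),
   ([3,2,1,4,1,4,0],1478,3),
   ([3,2,1,1,4,2,1],1479,1),
   ([2,4,3,0,1,3,3],1480,1),
   ([4,1,0,2,0,4,0],1480,3),
   ([4,1,3,4,2,2,1],1481,1),
   ([3,0,3,1,0,4,1],1482,0),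
   ([2,1,1,4,1,2,2],1482,2),
   ([2,0,2,2,1,4,2],1484,0),
   ([1,4,2,4,4,1,4],1484,1),
   ([0,2,0,3,4,2,4],1487,2),
   ([2,0,3,2,4,3,2],1491,0),
   ([3,4,3,0,1,3,2],1492,2),
   ([4,2,4,2,2,1,0],1494,1),
   ([4,2,3,3,3,0,3],1495,3),
   ([4,3,2,3,0,4,2],1499,0),
   ([4,1,2,1,2,3,3],1499,1)]

/-- A block of images of an isotropic vector. -/
def uOrbB21 : List (List ℕ × ℕ × ℕ) :=
  [([3,2,3,4,2,1,3],1500,2),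
   ([2,3,2,2,1,2,0],1500,3),
   ([1,2,1,4,1,3,3],1501,1),
   ([1,1,4,2,2,3,1],1503,2),
   ([4,4,1,0,0,1,4],1504,0),
   ([2,0,1,2,3,1,4],1505,3),
   ([3,2,1,0,0,1,3],1506,0),
   ([4,4,4,0,4,0,4],1506,1),
   ([2,3,1,4,1,2,4],1509,3),
   ([3,1,3,0,1,2,2],1510,0),
   ([4,4,0,3,4,1,0],1511,1),
   ([3,2,0,0,2,4,0],1511,3),
   ([0,4,4,1,3,1,1],1513,1),
   ([0,4,4,2,2,3,0],1515,1),
   ([1,3,2,3,0,3,0],1516,2),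
   ([1,4,2,2,1,2,2],1517,1),
   ([1,1,0,3,4,0,1],1519,2),
   ([2,4,4,1,3,0,3],1520,0),
   ([4,3,3,3,3,4,1],1520,2),
   ([1,2,1,0,0,3,3],1522,1),
   ([2,4,3,1,0,0,4],1522,2),
   ([3,3,0,2,0,0,2],1523,3),
   ([4,4,0,4,3,3,0],1526,0),
   ([4,4,4,1,3,3,2],1528,3),
   ([2,3,3,1,0,2,2],1529,3),
   ([3,4,4,1,3,1,0],1535,0),
   ([3,0,2,1,2,4,3],1535,3),
   ([2,2,3,4,2,2,3],1536,1),
   ([4,2,4,0,4,4,1],1536,3),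
   ([4,3,4,4,0,3,3],1537,0),
   ([1,0,4,3,1,0,2],1537,3),
   ([3,4,0,2,0,2,3],1547,0),
   ([1,2,3,1,0,3,4],1547,1),
   ([0,4,3,2,4,4,1],1548,3),
   ([3,4,0,2,0,1,0],1553,3),
   ([3,4,1,2,3,2,2],1557,1),
   ([1,3,0,1,1,2,4],1558,0),
   ([3,0,3,4,2,1,4],1558,1),
   ([0,4,1,1,4,4,2],1564,1),
   ([3,0,2,3,0,0,2],1566,1),
   ([2,2,3,0,1,1,3],1567,2),
   ([1,4,4,3,1,2,0],1568,2),
   ([0,4,0,1,1,3,1],1572,1),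
   ([3,1,3,3,3,3,0],1573,0),
   ([4,2,0,4,3,1,0],1574,1),
   ([0,2,2,2,1,3,0],1574,3),
   ([4,3,3,1,0,3,3],1576,0),
   ([3,1,2,2,1,1,0],1577,1),
   ([1,0,0,3,4,1,1],1579,2),
   ([0,4,0,4,3,3,2],1580,0),
   ([1,3,4,4,0,0,3],1581,2),
   ([4,0,0,0,2,2,3],1585,0),
   ([4,0,2,0,3,3,4],1585,3),
   ([4,1,3,1,0,2,0],1587,2),
   ([2,2,2,3,0,1,4],1590,3),
   ([4,2,3,2,4,3,0],1594,3),
   ([3,0,0,2,0,4,2],1595,1),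
   ([3,1,0,4,3,4,4],1595,3),
   ([1,1,0,2,0,0,1],1598,1),
   ([1,1,1,2,3,2,0],1599,1),
   ([2,1,0,0,2,4,3],1599,2),
   ([3,4,4,2,2,4,3],1600,1),
   ([1,1,3,2,4,4,3],1602,3),
   ([4,1,2,1,2,2,4],1603,2),
   ([0,4,2,1,2,4,2],1604,3),
   ([4,1,1,4,1,2,1],1607,1),
   ([4,0,4,1,3,0,4],1610,3),
   ([1,2,0,2,0,3,2],1611,1),
   ([1,2,2,4,4,1,2],1611,2),
   ([3,2,1,2,3,1,0],1612,0),
   ([1,2,2,2,1,2,3],1613,3),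
   ([3,0,2,0,3,0,2],1614,2),
   ([2,3,0,3,4,4,4],1615,2),
   ([4,1,4,4,0,1,1],1617,3),
   ([1,4,0,0,2,2,0],1620,3),
   ([4,2,3,2,4,4,3],1623,3),
   ([4,1,3,1,0,1,1],1626,1),
   ([1,2,0,4,3,1,0],1626,3),
   ([3,0,4,3,1,4,4],1627,0),
   ([0,2,1,1,4,3,2],1627,3),
   ([0,3,0,2,0,3,3],1628,3),
   ([3,0,1,4,1,0,4],1629,0),
   ([1,2,3,2,4,2,3],1630,1),
   ([2,1,3,2,4,0,2],1631,0),
   ([3,3,4,2,2,4,0],1631,1),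
   ([3,2,0,3,4,3,4],1631,2),
   ([4,4,4,1,3,2,1],1632,0),
   ([0,3,2,3,0,3,1],1632,1),
   ([3,3,3,1,0,3,4],1635,2),
   ([4,4,2,4,4,1,1],1635,3),
   ([0,1,0,0,2,3,3],1637,0),
   ([2,2,0,1,1,1,0],1638,0),
   ([2,3,2,1,2,1,1],1642,2),
   ([4,0,4,4,0,0,2],1644,2),
   ([0,4,4,1,3,1,2],1644,3),
   ([1,2,4,4,0,0,3],1645,2),
   ([1,2,1,0,0,1,4],1648,2),
   ([1,4,3,0,1,2,2],1651,2),
   ([1,1,3,0,1,3,2],1654,1),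
   ([4,4,1,1,4,4,0],1655,1),
   ([4,0,4,2,2,3,2],1656,1),
   ([2,1,3,3,3,1,4],1657,0),
   ([3,4,2,1,2,0,3],1660,2),
   ([3,3,1,2,3,4,0],1660,3),
   ([0,3,3,0,1,2,1],1663,1),
   ([1,0,0,3,4,2,1],1663,2),
   ([1,1,2,3,0,3,4],1664,2),
   ([2,1,2,2,1,0,2],1664,3),
   ([2,3,4,0,4,2,1],1665,2),
   ([0,2,4,1,3,2,2],1670,3),
   ([1,1,0,1,1,1,4],1671,1),
   ([2,1,1,1,4,3,1],1671,2),
   ([2,0,4,4,0,0,4],1672,2),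
   ([3,3,2,1,2,1,4],1674,3),
   ([1,2,3,3,3,3,3],1675,0),
   ([2,0,2,3,0,0,3],1676,0),
   ([0,2,3,1,0,1,0],1677,1),
   ([1,2,3,0,1,4,2],1683,2),
   ([0,4,4,3,1,2,0],1686,2),
   ([4,3,1,1,4,3,2],1688,0),
   ([4,3,4,3,1,3,4],1688,2),
   ([0,1,2,2,1,1,0],1690,2),
   ([1,1,2,3,0,2,3],1690,3),
   ([4,4,3,0,1,2,3],1691,3),
   ([0,1,3,4,2,3,1],1695,0)]

/-- A block of images of an isotropic vector. -/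
def uOrbB22 : List (List ℕ × ℕ × ℕ) :=
  [([4,4,3,2,4,1,2],1696,1),
   ([4,4,1,4,1,0,3],1696,3),
   ([4,2,1,1,4,4,3],1697,2),
   ([2,0,4,1,3,3,3],1698,2),
   ([2,2,4,1,3,2,0],1700,3),
   ([3,2,0,3,4,2,0],1701,0),
   ([1,3,4,1,3,2,2],1701,1),
   ([1,4,1,2,3,0,3],1705,0),
   ([4,2,2,4,4,2,1],1705,1),
   ([1,4,3,0,1,3,1],1706,2),
   ([4,4,3,3,3,4,2],1715,0),
   ([2,1,3,3,3,2,2],1717,3),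
   ([3,0,1,0,0,1,4],1721,2),
   ([0,2,4,2,2,1,1],1723,3),
   ([4,0,0,3,4,1,4],1725,2),
   ([3,3,2,1,2,2,0],1729,3),
   ([1,2,1,0,0,2,1],1730,1),
   ([3,1,3,1,0,1,3],1732,0),
   ([3,1,0,0,2,0,4],1737,2),
   ([1,2,3,4,2,3,3],1739,0),
   ([2,3,4,1,3,1,2],1740,3),
   ([1,4,3,2,4,3,1],1748,2),
   ([3,3,3,2,4,0,3],1749,0),
   ([1,0,1,1,4,0,4],1750,3),
   ([2,3,3,4,2,3,3],1751,0),
   ([2,0,4,2,2,0,4],1751,2),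
   ([4,1,0,3,4,3,1],1754,3),
   ([3,2,3,3,3,2,2],1755,3),
   ([2,1,1,1,4,1,0],1756,0),
   ([0,4,0,1,1,3,3],1756,2),
   ([4,2,4,2,2,0,2],1758,3),
   ([4,1,0,0,2,1,2],1762,1),
   ([4,0,1,3,2,1,1],1767,1),
   ([3,1,3,4,2,0,4],1769,2),
   ([4,1,1,1,4,4,2],1769,3),
   ([4,2,0,1,1,3,1],1771,1),
   ([1,4,3,2,4,4,0],1774,2),
   ([4,1,0,3,4,1,3],1775,3),
   ([1,1,4,0,4,2,3],1777,0),
   ([3,1,1,1,4,0,3],1779,2),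
   ([0,0,2,4,4,4,4],1780,1),
   ([1,0,1,0,0,2,2],1780,3),
   ([4,3,3,4,2,4,1],1781,1),
   ([4,3,2,2,1,3,2],1782,0),
   ([2,1,2,4,4,4,2],1783,3),
   ([0,1,1,3,2,1,1],1787,1),
   ([1,3,4,0,4,0,1],1787,2),
   ([0,4,1,1,4,4,4],1787,3),
   ([4,4,0,0,2,0,3],1788,0),
   ([1,2,0,0,2,2,1],1789,2),
   ([2,3,0,2,0,4,4],1793,0),
   ([1,0,1,3,2,0,4],1793,1),
   ([0,3,2,1,2,2,0],1794,3),
   ([1,0,2,2,1,2,4],1795,1),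
   ([1,0,2,4,4,1,0],1795,2),
   ([4,3,0,4,3,1,4],1797,0),
   ([2,2,1,1,4,3,0],1800,3),
   ([0,3,0,1,1,4,4],1802,1),
   ([3,1,4,4,0,4,4],1804,3),
   ([1,1,1,2,3,1,4],1807,1),
   ([2,0,2,3,0,1,3],1809,2),
   ([4,1,3,3,3,3,0],1811,2),
   ([1,3,2,1,2,0,4],1813,0),
   ([4,0,3,0,1,4,1],1817,0),
   ([3,0,0,0,2,1,4],1817,3),
   ([3,1,0,0,2,3,0],1819,0),
   ([1,3,1,1,4,1,2],1822,2),
   ([0,2,0,2,0,2,4],1824,2),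
   ([1,0,2,2,1,3,4],1826,2),
   ([3,2,1,4,1,2,2],1827,1),
   ([3,1,0,1,1,1,3],1827,3),
   ([1,1,2,3,0,0,1],1829,1),
   ([2,2,4,0,4,2,0],1830,0),
   ([3,1,3,0,1,4,1],1836,1),
   ([4,0,2,0,3,4,4],1837,2),
   ([2,4,1,0,0,0,1],1840,3),
   ([0,4,2,4,4,0,3],1841,1),
   ([2,0,3,0,1,0,2],1842,2),
   ([3,3,3,0,1,2,0],1846,3),
   ([4,0,1,1,4,1,1],1848,3),
   ([1,2,4,4,0,3,4],1849,0),
   ([2,3,3,1,0,3,1],1849,2),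
   ([4,0,3,1,0,0,2],1849,3),
   ([2,3,4,2,2,4,0],1851,2),
   ([1,1,1,3,2,2,1],1853,2),
   ([0,4,1,3,2,4,1],1853,3),
   ([1,3,2,3,0,1,4],1859,1),
   ([4,1,0,1,1,3,4],1861,2),
   ([0,3,0,3,4,3,1],1862,1),
   ([2,0,1,1,4,3,2],1862,2),
   ([4,4,4,3,1,3,1],1864,1),
   ([0,1,4,0,4,4,4],1867,2),
   ([4,1,0,1,1,1,1],1868,3),
   ([0,2,3,2,4,3,2],1869,1),
   ([1,4,1,2,3,1,2],1872,1),
   ([1,2,3,4,2,1,4],1878,0),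
   ([0,4,4,0,4,1,3],1883,1),
   ([3,0,1,4,1,1,4],1885,0),
   ([0,2,0,1,1,1,4],1886,3),
   ([2,2,1,2,3,2,1],1887,2),
   ([3,2,4,3,1,0,4],1889,0),
   ([0,3,1,2,3,4,3],1891,1),
   ([4,0,2,4,4,2,0],1892,1),
   ([3,2,4,1,3,0,2],1894,2),
   ([3,2,0,2,0,3,4],1894,3),
   ([4,2,0,2,0,0,4],1895,2),
   ([4,0,1,0,0,0,3],1896,0),
   ([2,0,2,2,1,0,2],1897,2),
   ([3,3,4,0,4,0,2],1901,1),
   ([4,0,3,2,4,2,1],1903,2),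
   ([2,0,2,0,3,3,3],1906,2),
   ([3,0,2,2,1,4,3],1909,1),
   ([2,1,1,1,4,2,3],1920,3),
   ([0,3,4,1,3,3,2],1922,0),
   ([1,1,1,1,4,1,0],1922,1),
   ([3,3,4,2,2,3,4],1924,0),
   ([3,4,3,0,1,1,1],1925,2),
   ([2,3,3,4,2,1,0],1929,2),
   ([3,0,4,0,4,0,2],1933,2),
   ([0,3,0,1,1,4,3],1936,3),
   ([3,2,4,2,2,3,3],1937,2),
   ([1,2,0,3,4,2,0],1946,3),
   ([0,4,4,4,0,3,2],1952,1),
   ([4,0,0,0,2,1,3],1952,2),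
   ([0,3,1,3,2,2,1],1957,0)]

/-- A block of images of an isotropic vector. -/
def uOrbB23 : List (List ℕ × ℕ × ℕ) :=
  [([0,4,0,2,0,1,0],1959,1),
   ([0,4,1,3,2,4,4],1959,3),
   ([0,4,0,3,4,1,4],1962,2),
   ([3,0,4,0,4,4,2],1963,2),
   ([4,0,4,0,4,2,4],1964,1),
   ([0,1,2,2,1,1,1],1966,0),
   ([0,3,3,1,0,4,4],1966,3),
   ([4,3,0,3,4,1,1],1967,2),
   ([4,2,2,3,0,2,0],1968,0),
   ([0,4,4,3,1,2,2],1973,3),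
   ([3,4,3,2,4,0,3],1976,3),
   ([0,0,2,4,4,3,0],1977,0),
   ([4,0,1,1,4,0,1],1982,3),
   ([4,3,3,2,4,1,3],1983,2),
   ([4,0,0,0,2,3,3],1984,0),
   ([3,1,2,2,1,4,1],1985,0),
   ([2,3,2,0,3,4,4],1989,2),
   ([4,4,3,2,4,2,3],1989,3),
   ([1,1,1,4,1,3,0],1994,3),
   ([2,0,4,4,0,2,4],1997,2),
   ([2,1,1,4,1,0,1],2001,2),
   ([3,2,4,4,0,3,3],2004,1),
   ([4,0,0,2,0,1,4],2005,2),
   ([3,2,0,4,3,1,0],2010,2),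
   ([4,4,1,3,2,4,0],2011,0),
   ([1,2,3,4,2,2,1],2012,0),
   ([1,4,1,4,1,3,4],2014,2),
   ([1,2,1,2,3,2,2],2015,1),
   ([0,1,3,0,1,1,2],2018,0),
   ([4,0,2,0,3,0,4],2025,2),
   ([4,1,2,3,0,1,3],2027,1),
   ([3,4,1,4,1,3,3],2029,0),
   ([3,3,0,2,0,1,3],2029,3),
   ([1,2,0,0,2,1,4],2032,0),
   ([1,1,2,0,3,4,0],2032,1),
   ([1,4,4,1,3,4,2],2035,3),
   ([3,0,2,4,4,2,0],2036,3),
   ([0,4,0,0,2,2,4],2037,0),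
   ([2,1,0,2,0,0,3],2037,2),
   ([2,2,0,3,4,3,1],2038,3),
   ([4,1,2,1,2,4,2],2039,0),
   ([1,0,3,2,4,1,4],2041,2),
   ([0,1,4,3,1,3,1],2042,0),
   ([1,4,4,2,2,4,4],2044,1),
   ([1,2,4,3,1,4,0],2048,0),
   ([2,3,4,2,2,3,1],2048,1),
   ([0,1,4,1,3,4,4],2055,0),
   ([3,3,3,2,4,4,2],2057,2),
   ([1,1,4,2,2,4,2],2062,1),
   ([3,3,3,2,4,2,0],2062,3),
   ([4,2,1,1,4,2,2],2067,3),
   ([0,1,2,2,1,1,3],2069,0),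
   ([2,3,2,2,1,3,4],2071,1),
   ([2,3,0,3,4,0,3],2071,3),
   ([4,2,0,1,1,1,0],2074,3),
   ([3,4,2,3,0,1,0],2075,2),
   ([3,3,0,0,2,1,0],2079,1),
   ([4,4,2,2,1,2,3],2081,3),
   ([1,1,2,1,2,0,4],2082,2),
   ([1,0,2,1,2,3,4],2084,0),
   ([0,4,0,3,4,1,3],2086,3),
   ([2,0,3,4,2,1,1],2094,0),
   ([1,4,4,4,0,0,3],2096,3),
   ([3,4,3,4,2,3,3],2097,1),
   ([1,2,2,2,1,3,0],2102,1),
   ([4,1,2,3,0,0,4],2102,3),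
   ([2,4,4,3,1,2,0],2104,2),
   ([3,0,0,4,3,1,1],2114,1),
   ([1,4,2,3,0,0,1],2118,3),
   ([2,2,0,4,3,0,4],2119,1),
   ([4,4,0,4,3,4,1],2120,2),
   ([1,3,3,2,4,2,0],2127,2),
   ([0,2,3,4,2,4,3],2128,0),
   ([1,1,1,4,1,1,3],2139,2),
   ([4,4,0,2,0,4,3],2143,1),
   ([1,3,1,1,4,4,1],2145,2),
   ([4,3,0,1,1,3,3],2152,0),
   ([2,3,0,0,2,4,2],2152,1),
   ([3,4,0,1,1,1,4],2156,0),
   ([4,4,3,1,0,4,1],2156,1),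
   ([2,1,3,0,1,4,4],2161,2),
   ([1,0,2,0,3,2,1],2166,3),
   ([2,2,1,0,0,0,1],2170,2),
   ([2,3,0,1,1,4,0],2177,3),
   ([4,3,1,4,1,1,0],2178,3),
   ([3,4,3,1,0,2,2],2179,1),
   ([1,4,4,2,2,0,3],2185,1),
   ([0,3,1,1,4,2,4],2210,2),
   ([1,4,2,1,2,1,3],2220,1),
   ([0,3,2,2,1,2,0],2223,0),
   ([0,0,2,4,4,0,3],2225,1),
   ([1,0,1,1,4,3,4],2234,2),
   ([4,2,0,3,4,0,4],2234,3),
   ([4,3,2,2,1,0,1],2245,2),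
   ([3,4,3,2,4,1,1],2246,0),
   ([4,2,2,2,1,3,0],2254,1),
   ([1,2,3,0,1,3,0],2256,3),
   ([2,0,2,1,2,0,2],2262,1),
   ([2,4,3,4,2,2,0],2278,1),
   ([1,3,4,4,0,3,2],2283,2),
   ([4,4,4,0,4,3,2],2296,1),
   ([2,4,0,3,4,2,2],2296,2),
   ([2,4,0,3,4,0,3],2302,2),
   ([4,1,1,1,4,0,1],2314,2),
   ([3,2,4,3,1,2,2],2316,2),
   ([1,1,0,1,1,3,1],2322,1),
   ([4,2,0,3,4,3,3],2325,2),
   ([1,2,1,3,2,1,1],2327,3),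
   ([2,2,2,2,1,1,3],2333,2),
   ([1,2,1,1,4,4,2],2363,2),
   ([2,0,1,4,1,3,1],2365,2),
   ([3,3,3,3,3,0,4],2391,2),
   ([0,3,0,4,3,4,1],2393,0),
   ([4,2,0,3,4,2,0],2397,3),
   ([0,3,1,2,3,4,2],2401,0),
   ([2,2,2,2,1,0,2],2408,0),
   ([0,3,2,1,2,2,2],2408,3),
   ([1,2,4,0,4,1,3],2411,0),
   ([3,0,4,3,1,1,4],2411,2),
   ([2,2,2,0,3,1,4],2418,2),
   ([2,1,1,3,2,4,4],2418,3),
   ([3,3,2,4,4,1,1],2442,1),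
   ([2,3,4,3,1,1,0],2459,3),
   ([2,4,0,1,1,2,3],2462,0),
   ([2,3,1,1,4,3,4],2464,0)]

/-- A block of images of an isotropic vector. -/
def uOrbB24 : List (List ℕ × ℕ × ℕ) :=
  [([4,3,4,4,0,4,0],2468,2),
   ([3,3,0,2,0,3,0],2474,1),
   ([3,1,4,0,4,2,1],2474,3),
   ([0,4,2,3,0,1,0],2479,1),
   ([4,1,3,2,4,1,0],2495,1),
   ([2,3,4,0,4,4,4],2495,3),
   ([0,0,2,4,4,0,4],2499,1),
   ([0,2,3,0,1,3,3],2501,3),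
   ([0,3,4,4,0,4,1],2512,0),
   ([4,0,2,2,1,3,1],2532,0),
   ([3,2,1,0,0,3,1],2539,3),
   ([1,3,1,4,1,3,1],2550,3),
   ([2,1,3,2,4,3,1],2553,3),
   ([2,0,2,0,3,0,3],2567,0),
   ([2,2,3,4,2,0,1],2576,1),
   ([3,4,0,0,2,1,2],2578,1),
   ([3,4,4,1,3,3,1],2590,2),
   ([0,1,2,1,2,1,0],2614,0),
   ([3,1,1,4,1,2,3],2616,2),
   ([0,1,3,1,0,2,2],2620,0),
   ([1,4,1,1,4,0,4],2635,1),
   ([3,2,1,4,1,0,4],2683,3),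
   ([0,1,2,1,2,1,3],2723,1),
   ([3,0,3,4,2,4,4],2737,2)]

/-- The images of the second vector. -/
def sOrbB0 : List (List ℕ × ℕ × ℕ) :=
  [([0,3,1,3,2,4,0],0,0),
   ([0,0,0,3,4,1,3],0,0),
   ([2,1,4,2,2,0,1],0,1),
   ([3,1,2,3,0,2,4],1,0),
   ([3,3,1,1,4,4,0],1,1),
   ([4,2,3,3,3,4,1],2,0),
   ([0,2,3,1,0,4,3],2,1),
   ([4,1,2,3,0,2,3],3,0),
   ([2,4,1,0,0,2,2],3,1),
   ([3,3,3,2,4,2,3],4,0),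
   ([2,4,3,4,2,0,3],4,1),
   ([4,2,0,4,3,2,4],5,0),
   ([3,3,0,1,1,0,4],5,1),
   ([4,2,2,3,0,0,0],6,0),
   ([4,1,3,0,1,1,1],6,1),
   ([3,0,0,3,4,1,0],7,0),
   ([4,4,4,4,0,4,2],7,1),
   ([0,3,1,1,4,4,3],8,0),
   ([2,0,1,2,3,0,1],8,1),
   ([1,2,3,3,3,4,4],9,0),
   ([3,4,3,4,2,0,2],9,1),
   ([4,3,0,1,1,0,3],10,0),
   ([2,3,1,2,3,4,2],10,1),
   ([2,1,0,0,2,4,0],11,0),
   ([0,2,2,3,0,0,4],12,0),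
   ([3,2,3,4,2,4,3],12,1),
   ([1,1,4,0,4,0,0],13,0),
   ([4,1,0,1,1,4,4],13,1),
   ([0,0,2,3,0,4,0],14,0),
   ([4,3,4,4,0,1,0],14,1),
   ([4,3,0,3,4,0,0],15,1),
   ([0,2,2,0,3,0,1],16,0),
   ([0,0,2,0,3,4,2],16,1),
   ([1,1,4,2,2,0,2],17,0),
   ([1,4,4,2,2,4,3],17,1),
   ([2,3,1,4,1,4,4],18,0),
   ([3,4,2,4,4,1,1],18,1),
   ([2,0,1,4,1,0,3],19,0),
   ([3,2,3,1,0,4,0],20,0),
   ([4,3,4,1,3,1,2],20,1),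
   ([4,1,0,3,4,4,1],21,0),
   ([0,2,1,3,2,1,3],21,1),
   ([1,1,3,0,1,1,4],22,0),
   ([3,0,0,0,2,1,2],22,1),
   ([3,4,3,1,0,0,4],23,0),
   ([2,0,0,2,0,1,0],25,0),
   ([4,4,2,2,1,1,3],25,1),
   ([0,3,4,4,0,1,4],27,1),
   ([1,2,1,1,4,1,0],28,1),
   ([2,1,3,3,3,1,1],29,0),
   ([3,0,1,4,1,0,2],30,0),
   ([1,4,1,3,2,2,1],30,1),
   ([4,4,3,1,0,0,3],31,0),
   ([2,3,3,0,1,2,2],31,1),
   ([3,2,0,2,0,2,3],32,0),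
   ([2,4,1,1,4,2,3],32,1),
   ([0,3,0,3,4,0,4],33,0),
   ([4,1,2,4,4,2,4],34,0),
   ([3,3,3,3,3,2,4],34,1),
   ([0,0,4,1,3,2,0],35,0),
   ([4,2,0,0,2,2,0],35,1),
   ([0,1,2,2,1,2,1],36,0),
   ([0,1,4,1,3,0,2],36,1),
   ([1,2,2,0,3,0,0],37,0),
   ([1,0,4,4,0,2,2],39,0),
   ([1,0,1,3,2,0,3],39,1),
   ([2,4,3,0,1,0,4],41,1),
   ([3,3,0,2,0,0,0],42,1),
   ([4,2,2,4,4,0,1],43,0),
   ([1,4,2,0,3,1,4],46,1),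
   ([2,3,4,2,2,1,0],47,1),
   ([3,2,1,4,1,1,1],48,1),
   ([4,1,3,1,0,1,2],49,1),
   ([0,1,0,0,2,4,2],50,0),
   ([1,1,0,3,4,4,4],50,1),
   ([2,0,2,0,3,4,0],51,0),
   ([4,3,3,3,3,2,3],51,1),
   ([1,0,2,2,1,4,3],52,0),
   ([3,4,4,2,2,4,1],53,0),
   ([0,2,0,0,2,2,4],53,1),
   ([4,3,1,4,1,4,2],54,0),
   ([1,1,2,2,1,2,0],54,1),
   ([2,0,4,4,0,2,1],55,0),
   ([0,1,1,2,3,3,0],55,1),
   ([2,4,4,4,0,4,4],56,0),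
   ([3,4,1,1,4,2,2],58,0),
   ([1,0,3,4,2,3,1],58,1),
   ([2,4,0,1,1,3,2],60,1),
   ([3,3,2,3,0,3,3],61,1),
   ([4,2,4,0,4,3,4],62,0),
   ([4,0,4,0,4,2,0],65,1),
   ([0,4,1,2,3,2,1],66,1),
   ([1,3,3,4,2,2,2],67,1),
   ([2,2,0,1,1,2,3],68,1),
   ([0,1,2,1,2,2,0],73,0),
   ([0,1,4,0,4,0,1],74,0),
   ([0,0,0,2,0,1,2],74,1),
   ([1,0,1,2,3,0,2],75,0),
   ([1,4,2,4,4,1,3],75,1),
   ([2,3,4,1,3,1,4],76,0),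
   ([3,0,1,3,2,0,1],76,1),
   ([1,0,4,3,1,2,1],77,0),
   ([3,2,1,3,2,1,0],79,0),
   ([4,4,3,0,1,0,2],79,1),
   ([0,3,0,2,0,0,3],81,1),
   ([1,2,2,4,4,0,4],82,1),
   ([2,1,4,1,3,0,0],83,0),
   ([0,0,4,0,4,2,4],86,1),
   ([1,4,1,2,3,2,0],87,1),
   ([2,3,3,4,2,2,1],88,1),
   ([3,2,0,1,1,2,2],89,1),
   ([3,0,2,2,1,4,1],94,0),
   ([1,4,4,0,4,4,1],96,0),
   ([0,2,1,1,4,1,1],96,1),
   ([1,1,3,3,3,1,2],98,1),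
   ([2,0,0,0,2,1,3],99,1),
   ([3,4,2,2,1,1,4],100,0),
   ([4,4,2,0,3,1,1],103,1),
   ([0,3,4,2,2,1,2],104,1),
   ([1,2,1,4,1,1,3],105,1),
   ([2,1,3,1,0,1,4],106,1),
   ([1,2,3,0,1,4,1],113,1),
   ([2,1,0,2,0,4,2],114,1),
   ([3,0,2,4,4,4,3],115,1),
   ([4,4,4,1,3,4,4],116,1)]

/-- The orbit of an isotropic vector. -/
def uOrb : LyPres.Orb where
  gens := hMats
  start := [4,0,4,0,4,3,4]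
  pts := [uOrbB0, uOrbB1, uOrbB2, uOrbB3, uOrbB4, uOrbB5, uOrbB6, uOrbB7, uOrbB8, uOrbB9, uOrbB10, uOrbB11, uOrbB12, uOrbB13, uOrbB14, uOrbB15, uOrbB16, uOrbB17, uOrbB18, uOrbB19, uOrbB20, uOrbB21, uOrbB22, uOrbB23, uOrbB24]

/-- Words in the generators fixing the isotropic vector. -/
def sWords : List (List ℕ) := [
    [0,0,0,2,0,3,2,0,3,0,1,1,3,2,2,0,2,2],
    [0,2,0,2,2,0,2,1,2,1,2,0,0,1,2,1,0,1,0,0]]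

/-- The orbit of the second vector. -/
def sOrb : LyPres.Orb where
  gens := [
    [0x3000200000004000200010002,0x4000400030001000200010003,0x40002000400040003,0x20000000300020000,0x10002000100000004,0x2000300000001000300010001,0x1000100020004000300000003],
    [0x1000200010003000200020003,0x1000300010001000100010001,0x4000000030004000200030002,0x300040004000100030004,0x2000200010004000200010002,0x4000000000004000200020001,0x1000200030001000200040001]]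
  start := [0,3,1,3,2,4,0]
  pts := [sOrbB0]

end Cfsg.Lib.LyCent
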