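import Cfsg.Agent.LyPres.Elems
import Cfsg.Agent.LyCent.CentData

/-!
An element of order three of the subgroup on nine letters and the subgroup generated by two elements commuting
with it: the latter has at least 378000 elements.
-/

set_option autoImplicit false
set_option maxRecDepth 100000
set_option maxHeartbeats 4000000
set_option Elab.async false

namespace Cfsg.Lib.LyCent

open Cfsg.Spor Cfsg.Lib.LyPres

/-- The word of the element of order three. -/
def x18 : List ℕ := lWord xWord

/-- The element of order three. -/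
def x0 : F := wval fgen x18

/-- Its matrix. -/
def xMat : List ℕ := m7 x18

/-- A generator of the subgroup commuting with it, or the inverse of one. -/
def hgen (i : ℕ) : F := wval fgen (hWords.getD i [])

/-- The subgroup generated by them. -/
def HF : Subgroup F := Subgroup.closure {g | ∃ i < 4, hgen i = g}

theorem words_ok : x18.all (fun l => Nat.blt l 18) = true ∧
    (hWords.all fun w => w.all fun l => Nat.blt l 18) = true ∧ hWords.length = 4 ∧ hMats = hWords.map m7 := by
  decide +kernel

theorem x0_el : El xMat x0 := El.word _ words_ok.1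

theorem hgen_el {i : ℕ} (hi : i < 4) : El (hMats.getD i []) (hgen i) := by
  obtain ⟨-, hw, hl, hm⟩ := words_ok
  have h' : i < hWords.length := by omega
  rw [hm, List.getD_eq_getElem _ _ (by rw [List.length_map]; exact h'), List.getElem_map, hgen,
    List.getD_eq_getElem _ _ h']
  exact El.word _ (List.all_eq_true.1 hw _ (List.getElem_mem h'))

theorem hgen_mem {i : ℕ} (hi : i < 4) : hgen i ∈ HF := Subgroup.subset_closure ⟨i, hi, rfl⟩

theorem hMats_el : ∀ g < hMats.length, ∃ a ∈ HF, El (hMats.getD g []) a := by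
  intro g hg
  have h4 : g < 4 := by
    obtain ⟨-, -, hl, hm⟩ := words_ok
    rw [hm, List.length_map] at hg
    omega
  exact ⟨hgen g, hgen_mem h4, hgen_el h4⟩

theorem tmat_in {T : List (List ℕ)} {S : Subgroup F} {c : ℕ} (hT : ∀ i < c, ∃ a ∈ S, El (T.getD i []) a) :
    ∀ w : List ℕ, (∀ i ∈ w, i < c) → ∃ a ∈ S, El (tmat T w) a
  | [], _ => ⟨1, one_mem S, El.one⟩
  | i :: w, h => by
    obtain ⟨a, ha, hA⟩ := tmat_in hT w fun j hj => h j (List.mem_cons_of_mem i hj)
    obtain ⟨b, hb, hB⟩ := hT i (h i List.mem_cons_self)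
    exact ⟨b * a, mul_mem hb ha, hB.mul hA⟩

theorem x0_checks : (xMat != idMat 7) = true ∧ mmul 7 xMat (mmul 7 xMat xMat) = idMat 7 ∧
    ((hMats.all fun h => mmul 7 h xMat == mmul 7 xMat h) = true) := by
  decide +kernel

theorem x0_cube : x0 * (x0 * x0) = 1 := El.unique ((x0_el.mul (x0_el.mul x0_el))) (x0_checks.2.1 ▸ El.one)

theorem x0_ne : x0 ≠ 1 := by
  intro h
  have h1 := x0_checks.1
  simp only [bne_iff_ne, ne_eq] at h1
  exact h1 (El.eq_of x0_el (h ▸ El.one))

theorem orderOf_x0 : orderOf x0 = 3 := by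
  haveI : Fact (Nat.Prime 3) := ⟨Nat.prime_three⟩
  exact orderOf_eq_prime (by rw [pow_three]; exact x0_cube) x0_ne

theorem HF_le_cent : HF ≤ Subgroup.centralizer ({x0} : Set F) := by
  refine (Subgroup.closure_le _).2 ?_
  rintro _ ⟨i, hi, rfl⟩
  refine Subgroup.mem_centralizer_singleton_iff.2 (El.unique ((hgen_el hi).mul x0_el) ?_)
  have hlen : i < hMats.length := by rw [words_ok.2.2.2, List.length_map]; have := words_ok.2.2.1; omega
  have h := List.all_eq_true.1 x0_checks.2.2 _ (List.getElem_mem hlen)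
  rw [← List.getD_eq_getElem _ [] hlen, beq_iff_eq] at h
  rw [h]
  exact x0_el.mul (hgen_el hi)

theorem uOrb_ok0 : uOrb.okRange 0 1000 = true := by decide +kernel

theorem uOrb_ok1 : uOrb.okRange 1000 1000 = true := by decide +kernel

theorem uOrb_ok2 : uOrb.okRange 2000 1024 = true := by decide +kernel

theorem uOrb_all : uOrb.okRange 0 3024 = true :=
  okRange_cat uOrb (a := 0) (b := 1000) (k := 1000) (c := 2024) (by rfl) (by rfl) uOrb_ok0
    (okRange_cat uOrb (a := 1000) (b := 1000) (k := 2000) (c := 1024) (by rfl) (by rfl) uOrb_ok1 uOrb_ok2)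

theorem uOrb_distinct : uOrb.colsDistinct 3024 0 = true ∧ matOK 7 uOrb.start = true := by decide +kernel

theorem sOrb_all : sOrb.okRange 0 125 = true ∧ sOrb.colsDistinct 125 0 = true ∧ matOK 7 sOrb.start = true ∧
    sOrb.gens = sWords.map (tmat hMats) ∧ (sWords.all fun w => w.all fun i => Nat.blt i 4) = true ∧
    (sOrb.gens.all fun s => mmul 7 s uOrb.start == uOrb.start) = true := by
  decide +kernel

theorem card_HF_ge : 378000 ≤ Nat.card HF := by
  haveI := card_F.1
  obtain ⟨hs, hd, h0, hg, hw, hfix⟩ := sOrb_all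
  have h1 : 125 * Nat.card (⊥ : Subgroup F) ≤ Nat.card ↥(HF ⊓ fixer (toMat 7 uOrb.start)) := by
    refine sOrb.card_ge _ ⊥ (fun g hlt => ?_) h0 hs hd bot_le bot_le
    have h' : g < sWords.length := by rwa [hg, List.length_map] at hlt
    obtain ⟨a, ha, hA⟩ := tmat_in (T := hMats) (S := HF) (c := 4) (fun i hi => ⟨hgen i, hgen_mem hi, hgen_el hi⟩)
      sWords[g] fun i hi => by simpa [Nat.blt_eq] using List.all_eq_true.1 (List.all_eq_true.1 hw _ (List.getElem_mem h')) i hi
    have e : sOrb.gens.getD g [] = tmat hMats sWords[g] := by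
      rw [hg, List.getD_eq_getElem _ _ (by rw [List.length_map]; exact h'), List.getElem_map]
    refine ⟨a, ⟨ha, ?_⟩, e ▸ hA⟩
    show img a (toMat 7 uOrb.start) = _
    rw [img_el hA uOrb_distinct.2, ← e, List.getD_eq_getElem _ _ hlt]
    rw [beq_iff_eq.1 (List.all_eq_true.1 hfix _ (List.getElem_mem hlt))]
  have h2 := uOrb.card_ge HF (HF ⊓ fixer (toMat 7 uOrb.start)) hMats_el uOrb_distinct.2 uOrb_all uOrb_distinct.1
    inf_le_left inf_le_right
  rw [Subgroup.card_bot] at h1
  omega

end Cfsg.Lib.LyCent
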