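import Cfsg.Agent.LyPres.RepHom
import Cfsg.Agent.LyCent.Base
import Cfsg.Agent.LyCent.RepData

/-!
The checks that the generators move the basis of the fixed space as the matrices of size twenty-one say.
-/

set_option autoImplicit false
set_option maxRecDepth 100000
set_option maxHeartbeats 4000000
set_option Elab.async false

namespace Cfsg.Lib.LyCent

open Cfsg.Spor Cfsg.Lib.LyPres

/-- The words of the six generators, of the element of order three and of three elements of order eleven. -/
def wordsL : List (List ℕ) :=
  hWords.map (fun w => w.map up) ++ [[8], [9], x18.map up] ++ cWords.map (fun w => w.map up ++ [8])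

/-- Their matrices on the fixed space. -/
def matsL : List (List ℕ) := mats21 ++ [idMat 21] ++ elev21

/-- One of them in the presented Lyons group. -/
def cgen (g : ℕ) : Spor.Ly := wval g39 (wordsL.getD g [])

/-- The basis filled up with zero rows. -/
def padB : List ℕ := basis21 ++ List.replicate 90 0

/-- The expected images of the basis. -/
def padT (g : ℕ) : List ℕ :=
  (matsL.getD g []).map (fun r => red 111 (comb r basis21)) ++ List.replicate 90 0

/-- The check of a generator. -/
def genOK (g : ℕ) : Bool :=
  let r := word111 (wordsL.getD g [])
  let m := mul1 (packRows padB) r.1
  r.2 && packOK padB && packOK (padT g) && m.2 && m.1 == packRows (padT g) && matOK 21 (matsL.getD g [])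

theorem gens_ok : (List.range 10).all genOK = true := by decide +kernel

theorem basis_ok : basis21.length = 21 ∧ basis21.all (rowOK 111) = true ∧
    ((List.range 21).all fun j => Nat.blt (piv21.getD j 0) 111 &&
      (List.range 21).all fun i => fld (basis21.getD i 0) (piv21.getD j 0) == (bif Nat.beq i j then 1 else 0)) = true ∧
    (wordsL.all fun w => w.all fun l => Nat.blt l 78) = true := by
  decide +kernel

end Cfsg.Lib.LyCent
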