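import Cfsg.Agent.LyPres.RepHom
import Cfsg.Agent.LyCent.Base
import Cfsg.Agent.LyCent.RowsCheck

/-!
The generators of the centralizer act on the fixed space of the element of order three by matrices of size
twenty-one, and the element itself acts trivially there.
-/

set_option autoImplicit false
set_option maxRecDepth 100000
set_option maxHeartbeats 4000000
set_option Elab.async false

namespace Cfsg.Lib.LyCent

open Cfsg.Spor Cfsg.Lib.LyPres

/-- A packed row. -/
def rowVec (k x : ℕ) : Fin k → ZMod 5 := fun j => (fld x j.val : ZMod 5)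

/-- Packed rows as a rectangular matrix. -/
def rowsMat (m k : ℕ) (A : List ℕ) : Matrix (Fin m) (Fin k) (ZMod 5) :=
  Matrix.of fun i j => (fld (A.getD i.val 0) j.val : ZMod 5)

theorem rowVec_comb {m k : ℕ} (hm : m ≤ 600) {A : List ℕ} (hl : A.length = m) {x : ℕ} (hx : rowOK m x = true)
    (hA : A.all (rowOK k) = true) :
    rowVec k (red k (comb x A)) = Matrix.vecMul (rowVec m x) (rowsMat m k A) := by
  simp only [List.all_eq_true] at hA
  funext j
  have hc := (fld_comb A x j.val (by omega) (fun i => fld_lt i hx) (fun r hr i => fld_lt i (hA r hr))).2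
  rw [rowVec, fld_red, if_pos j.isLt, ZMod.natCast_mod, hc, Nat.cast_sum]
  show _ = ∑ i : Fin m, rowVec m x i * rowsMat m k A i j
  refine Fintype.sum_equiv (finCongr hl) _ _ fun i => ?_
  rw [Nat.cast_mul, rowVec, rowsMat, Matrix.of_apply, List.getD_eq_getElem A _ (by simp)]
  simp

theorem rowVec_inj {k x y : ℕ} (hx : rowOK k x = true) (hy : rowOK k y = true) (h : rowVec k x = rowVec k y) :
    x = y := by
  have key : ∀ (k a b : ℕ), rowOK k a = true → rowOK k b = true → (∀ j < k, fld a j = fld b j) → a = b := by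
    intro k
    induction k with
    | zero => intro a b ha hb _; simp [rowOK] at ha hb; omega
    | succ k ih =>
      intro a b ha hb e
      simp [rowOK] at ha hb
      have e0 := e 0 (Nat.succ_pos k)
      simp [fld] at e0
      have e1 := ih (a / 65536) (b / 65536) ha.2 hb.2 fun j hj => by simpa [fld] using e (j + 1) (by omega)
      omega
  refine key k x y hx hy fun j hj => ?_
  have e := congrFun h ⟨j, hj⟩
  simp only [rowVec, ZMod.natCast_eq_natCast_iff'] at e
  have a1 := fld_lt j hx
  have a2 := fld_lt j hy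
  omega

/-- The basis as a matrix. -/
def Bm : Matrix (Fin 21) (Fin 111) (ZMod 5) := rowsMat 21 111 basis21

/-- The matrix on the fixed space. -/
def Rm (g : ℕ) : Matrix (Fin 21) (Fin 21) (ZMod 5) := toMat 21 (matsL.getD g [])

attribute [local irreducible] basis21 mats21 matsL wordsL word111 mul1 packRows u111 rho111 one111 let111 toM

theorem rho_wval : ∀ w : List ℕ, (∀ l ∈ w, l < 78) → rho111 (wval g39 w) = wval u111 w := by
  intro w hw
  rw [map_wval]
  refine wval_congr fun l hl => rho111_gen ?_
  have := hw l hl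
  omega

theorem padB_row (i : Fin 21) (k : Fin 111) (hi : i.val < 111) : toMat 111 padB ⟨i.val, hi⟩ k = Bm i k := by
  have hl := basis_ok.1
  have e : padB.getD i.val 0 = basis21.getD i.val 0 := List.getD_append _ _ _ _ (by omega)
  simp only [toMat, Bm, rowsMat, Matrix.of_apply, e]

theorem padT_row {g : ℕ} (hR : matOK 21 (matsL.getD g []) = true) (i : Fin 21) (j : Fin 111) (hi : i.val < 111) :
    toMat 111 (padT g) ⟨i.val, hi⟩ j = (Rm g * Bm) i j := by
  obtain ⟨hl, hb, -, -⟩ := basis_ok
  simp only [matOK, Bool.and_eq_true, beq_iff_eq, List.all_eq_true] at hR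
  have hlen : i.val < (matsL.getD g []).length := by rw [hR.1]; exact i.isLt
  have hrow := congrFun (rowVec_comb (k := 111) (by norm_num) hl (hR.2 _ (List.getElem_mem hlen)) hb) j
  have e : (padT g).getD i.val 0 = red 111 (comb (matsL.getD g [])[i.val] basis21) := by
    rw [padT, List.getD_append _ _ _ _ (by rw [List.length_map]; exact hlen),
      List.getD_eq_getElem _ _ (by rw [List.length_map]; exact hlen), List.getElem_map]
  simp only [toMat, Matrix.of_apply, e]
  simp only [rowVec] at hrow
  rw [hrow, Matrix.vecMul, dotProduct, Matrix.mul_apply]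
  refine Finset.sum_congr rfl fun k _ => ?_
  rw [Rm, toMat, Matrix.of_apply, List.getD_eq_getElem _ _ hlen]
  rfl

theorem word_lt (g : ℕ) : ∀ l ∈ wordsL.getD g [], l < 78 := by
  intro l hl
  by_cases hg' : g < wordsL.length
  · rw [List.getD_eq_getElem _ _ hg'] at hl
    simpa [Nat.blt_eq] using List.all_eq_true.1 (List.all_eq_true.1 basis_ok.2.2.2 _ (List.getElem_mem hg')) l hl
  · rw [List.getD_eq_default _ _ (by omega)] at hl
    exact absurd hl (List.not_mem_nil)

theorem big_move {g : ℕ} (hg : g < 10) :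
    toMat 111 padB * ((rho111 (cgen g) : (Matrix (Fin 111) (Fin 111) (ZMod 5))ˣ) : Matrix (Fin 111) (Fin 111) (ZMod 5)) =
      toMat 111 (padT g) := by
  have h := List.all_eq_true.1 gens_ok g (List.mem_range.2 hg)
  simp only [genOK, Bool.and_eq_true, beq_iff_eq] at h
  obtain ⟨⟨⟨⟨⟨hr, hp⟩, ht⟩, hm⟩, he⟩, -⟩ := h
  have hk := ok1_word (wordsL.getD g []) hr
  rw [← rho_wval _ (word_lt g)] at hk
  obtain ⟨-, e⟩ := mul_raw (pack_small hp).1 hk.1 hm
  rw [he, (pack_small ht).2, (pack_small hp).2, hk.2] at e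
  exact e.symm

theorem mat21_ok {g : ℕ} (hg : g < 10) : matOK 21 (matsL.getD g []) = true := by
  have h := List.all_eq_true.1 gens_ok g (List.mem_range.2 hg)
  simp only [genOK, Bool.and_eq_true] at h
  exact h.2

theorem basis_move {g : ℕ} (hg : g < 10) :
    Bm * ((rho111 (cgen g) : (Matrix (Fin 111) (Fin 111) (ZMod 5))ˣ) : Matrix (Fin 111) (Fin 111) (ZMod 5)) = Rm g * Bm := by
  ext i j
  have hi : i.val < 111 := lt_of_lt_of_le i.isLt (by norm_num)
  have e := congrFun (congrFun (big_move hg) ⟨i.val, hi⟩) j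
  rw [padT_row (mat21_ok hg) i j hi, Matrix.mul_apply] at e
  rw [← e, Matrix.mul_apply]
  exact Finset.sum_congr rfl fun k _ => by rw [padB_row i k hi]

/-- A vector of the fixed space. -/
def fv (x : ℕ) : Fin 111 → ZMod 5 := Matrix.vecMul (rowVec 21 x) Bm

theorem fv_move {g : ℕ} (hg : g < 10) {x : ℕ} (hx : rowOK 21 x = true) :
    Matrix.vecMul (fv x) ((rho111 (cgen g) : (Matrix (Fin 111) (Fin 111) (ZMod 5))ˣ) : Matrix (Fin 111) (Fin 111) (ZMod 5)) =
      fv (red 21 (comb x (matsL.getD g []))) := by
  have h := List.all_eq_true.1 gens_ok g (List.mem_range.2 hg)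
  simp only [genOK, Bool.and_eq_true, beq_iff_eq] at h
  have hR := h.2
  simp only [matOK, Bool.and_eq_true, beq_iff_eq] at hR
  rw [fv, fv, Matrix.vecMul_vecMul, basis_move hg, ← Matrix.vecMul_vecMul,
    rowVec_comb (by norm_num) hR.1 hx hR.2]
  rfl

theorem fv_inj {x y : ℕ} (hx : rowOK 21 x = true) (hy : rowOK 21 y = true) (h : fv x = fv y) : x = y := by
  obtain ⟨hl, -, hp, -⟩ := basis_ok
  refine rowVec_inj hx hy (funext fun j => ?_)
  have hj := List.all_eq_true.1 hp j.val (List.mem_range.2 j.isLt)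
  simp only [Bool.and_eq_true, Nat.blt_eq, List.all_eq_true, List.mem_range, beq_iff_eq] at hj
  have key : ∀ z, fv z ⟨piv21.getD j.val 0, hj.1⟩ = rowVec 21 z j := by
    intro z
    show ∑ i : Fin 21, rowVec 21 z i * Bm i ⟨piv21.getD j.val 0, hj.1⟩ = _
    rw [Finset.sum_eq_single j]
    · simp only [Bm, rowsMat, Matrix.of_apply, hj.2 j.val j.isLt]
      simp
    · intro i _ hij
      simp only [Bm, rowsMat, Matrix.of_apply, hj.2 i.val i.isLt]
      rw [show Nat.beq i.val j.val = false from Bool.eq_false_iff.2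
        fun hb => hij (Fin.ext (Nat.eq_of_beq_eq_true hb))]
      simp
    · intro hn; exact absurd (Finset.mem_univ j) hn
  rw [← key x, ← key y, h]

end Cfsg.Lib.LyCent
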