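import Cfsg.Agent.LyCent.Upper
import Cfsg.Agent.LyCent.Rows
import Cfsg.Agent.LyCent.PointsCheck

/-!
The centralizer of the element of order three acts transitively on 7128 points of its fixed space, with the
stabiliser of the first the centralizer in the subgroup on nine letters.
-/

set_option autoImplicit false
set_option maxRecDepth 100000
set_option Elab.async false

namespace Cfsg.Lib.LyCent

open Cfsg.Spor Cfsg.Lib.LyPres

attribute [local irreducible] rho111 fv basis21 mats21 ptsL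

/-- The centralizer. -/
abbrev CL : Subgroup Spor.Ly := Subgroup.centralizer ({xL} : Set Spor.Ly)

/-- The images of the generators of the centralizer in the subgroup on nine letters. -/
def HL : Subgroup Spor.Ly := HF.map toLy

theorem cgen_words : ((List.range 4).all fun g => wordsL.getD g [] == (hWords.getD g []).map up) = true ∧
    wordsL.getD 4 [] = [8] ∧ wordsL.getD 5 [] = [9] ∧ wordsL.getD 6 [] = x18.map up ∧
    ((List.range 3).all fun i => wordsL.getD (7 + i) [] == (cWords.getD i []).map up ++ [8]) = true ∧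
    hWords.getD 0 [] = cWords.getD 1 [] ++ winv (cWords.getD 0 []) ∧
    hWords.getD 2 [] = cWords.getD 2 [] ++ winv (cWords.getD 0 []) ∧
    hWords.getD 1 [] = winv (hWords.getD 0 []) ∧ hWords.getD 3 [] = winv (hWords.getD 2 []) ∧
    (cWords.all fun w => w.all (fun l => Nat.blt l 18) && mmul 7 (m7 w) xMat == mmul 7 xMat (m7 w)) = true ∧
    cWords.length = 3 ∧ m7 (iWord xWord) = xMat ∧ (iWord xWord).all (fun l => Nat.blt l 18) = true ∧
    xWord.all (fun i => Nat.blt i 8) = true := by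
  decide +kernel

theorem cgen_h {g : ℕ} (hg : g < 4) : cgen g = toLy (hgen g) := by
  have h := List.all_eq_true.1 cgen_words.1 g (List.mem_range.2 hg)
  rw [beq_iff_eq] at h
  rw [cgen, h, hgen, toLy_wval]
  intro l hl
  have h' : g < hWords.length := by rw [words_ok.2.2.1]; exact hg
  rw [List.getD_eq_getElem _ _ h'] at hl
  simpa [Nat.blt_eq] using List.all_eq_true.1 (List.all_eq_true.1 words_ok.2.1 _ (List.getElem_mem h')) l hl

theorem cgen_z : cgen 4 = zL ∧ cgen 5 = zL⁻¹ := by
  obtain ⟨-, h4, h5, -⟩ := cgen_words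
  constructor
  · rw [cgen, h4]; simp [wval, zL]
  · rw [cgen, h5]; simp [wval, zL]

theorem cgen_x : cgen 6 = xL := by
  obtain ⟨-, -, -, h6, -⟩ := cgen_words
  rw [cgen, h6, xL, x0, toLy_wval]
  exact lt18 words_ok.1

theorem cgen_c {i : ℕ} (hi : i < 3) : cgen (7 + i) = toLy (wval fgen (cWords.getD i [])) * zL := by
  obtain ⟨-, -, -, -, h7, -, -, -, -, hc, hl, -⟩ := cgen_words
  have h := List.all_eq_true.1 h7 i (List.mem_range.2 hi)
  rw [beq_iff_eq] at h
  rw [cgen, h, wval_append, toLy_wval]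
  · simp [wval, zL]
  · have h' : i < cWords.length := by omega
    have h2 := List.all_eq_true.1 hc _ (List.getElem_mem h')
    rw [← List.getD_eq_getElem _ [] h', Bool.and_eq_true] at h2
    exact lt18 h2.1

theorem conj_word : ∀ w : List ℕ, (∀ i ∈ w, i < 8) →
    toLy (wval fgen (lWord w)) * zL = zL * toLy (wval fgen (iWord w))
  | [], _ => by simp [lWord, iWord, wval]
  | i :: w, h => by
    have e := conj_word w fun j hj => h j (List.mem_cons_of_mem i hj)
    rw [lWord, List.flatMap_cons, iWord, List.flatMap_cons, wval_append, wval_append, map_mul, map_mul,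
      mul_assoc, show toLy (wval fgen (w.flatMap fun j => lgW.getD j [])) * zL = _ from e, ← mul_assoc,
      z_conj (h i List.mem_cons_self), mul_assoc]
    rfl

theorem z_comm : xL * zL = zL * xL := by
  obtain ⟨-, -, -, -, -, -, -, -, -, -, -, he, hw, hx⟩ := cgen_words
  have e : wval fgen (iWord xWord) = x0 := El.unique (El.word _ hw) (he ▸ x0_el)
  have h := conj_word xWord fun i hi => by simpa [Nat.blt_eq] using List.all_eq_true.1 hx i hi
  rw [e] at h
  exact h

theorem z_mem : zL ∈ CL := Subgroup.mem_centralizer_singleton_iff.2 z_comm.symm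

theorem toLy_mem {a : F} (ha : a ∈ Subgroup.centralizer ({x0} : Set F)) : toLy a ∈ CL := by
  refine Subgroup.mem_centralizer_singleton_iff.2 ?_
  rw [xL, ← map_mul, ← map_mul, Subgroup.mem_centralizer_singleton_iff.1 ha]

theorem HL_le : HL ≤ CL := by
  rintro _ ⟨a, ha, rfl⟩
  exact toLy_mem (HF_le_cent ha)

theorem c_mem {i : ℕ} (hi : i < 3) : wval fgen (cWords.getD i []) ∈ HF := by
  obtain ⟨-, -, -, -, -, -, -, -, -, hc, hl, -⟩ := cgen_words
  rw [← cent_eq]
  have h' : i < cWords.length := by omega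
  have h := List.all_eq_true.1 hc _ (List.getElem_mem h')
  rw [← List.getD_eq_getElem _ [] h', Bool.and_eq_true, beq_iff_eq] at h
  refine Subgroup.mem_centralizer_singleton_iff.2 (El.unique ((El.word _ h.1).mul x0_el) ?_)
  rw [h.2]
  exact x0_el.mul (El.word _ h.1)

theorem cgen_mem {g : ℕ} (hg : g < 6) : cgen g ∈ CL := by
  rcases Nat.lt_or_ge g 4 with h | h
  · rw [cgen_h h]
    exact HL_le ⟨_, hgen_mem h, rfl⟩
  · rcases (show g = 4 ∨ g = 5 by omega) with rfl | rfl
    · rw [cgen_z.1]; exact z_mem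
    · rw [cgen_z.2]; exact inv_mem z_mem

/-- The matrix of an element. -/
def rM (g : Spor.Ly) : Matrix (Fin 111) (Fin 111) (ZMod 5) :=
  ((rho111 g : (Matrix (Fin 111) (Fin 111) (ZMod 5))ˣ) : Matrix (Fin 111) (Fin 111) (ZMod 5))

theorem rM_mul (g h : Spor.Ly) : rM (g * h) = rM g * rM h := by
  simp only [rM, map_mul, Units.val_mul]

theorem rM_one : rM 1 = 1 := by simp only [rM, map_one, Units.val_one]

/-- The action on row vectors. -/
instance actV : MulAction CL (Fin 111 → ZMod 5) where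
  smul c v := Matrix.vecMul v (rM ((c : Spor.Ly))⁻¹)
  one_smul v := by
    show Matrix.vecMul v _ = v
    rw [Subgroup.coe_one, inv_one, rM_one, Matrix.vecMul_one]
  mul_smul c d v := by
    show Matrix.vecMul v _ = Matrix.vecMul (Matrix.vecMul v _) _
    rw [Matrix.vecMul_vecMul, Subgroup.coe_mul, mul_inv_rev, rM_mul]

theorem smul_def (c : CL) (v : Fin 111 → ZMod 5) : c • v = Matrix.vecMul v (rM ((c : Spor.Ly))⁻¹) := rfl

/-- The code of a point. -/
def cd (k : ℕ) : ℕ := (ptAt k).1

/-- A point. -/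
def pt (k : ℕ) : Fin 111 → ZMod 5 := fv (cd k)

theorem pt_data {k : ℕ} (hk : k < 7128) : rowOK 21 (cd k) = true ∧ (k = 0 ∨
    ((ptAt k).2.1 < k ∧ (ptAt k).2.2 < 6 ∧ mv (cd (ptAt k).2.1) (mats21.getD (ptAt k).2.2 []) = cd k ∧
      (k ∈ blkStart ∨ ((ptAt k).2.2 < 4 ∧ ∀ s ∈ blkStart, s ≤ k → s ≤ (ptAt k).2.1)))) := by
  have h := List.all_eq_true.1 pt_all k (List.mem_range'_1.2 ⟨Nat.zero_le k, by omega⟩)
  simp only [ptOK, Bool.and_eq_true, Bool.or_eq_true, Nat.blt_eq, beq_iff_eq, List.all_eq_true,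
    Bool.not_eq_true', List.contains_iff_mem, Nat.ble_eq] at h
  refine ⟨h.1, h.2.imp Nat.eq_of_beq_eq_true fun q => ⟨q.1.1.1, q.1.1.2, q.1.2, q.2.imp id fun r => ⟨r.1, fun s hs hle => ?_⟩⟩⟩
  rcases r.2 s hs with e | e
  · rw [show Nat.ble s k = true by rw [Nat.ble_eq]; exact hle] at e
    exact Bool.noConfusion e
  · exact e

theorem mats_len : mats21.length = 6 := by decide +kernel

theorem matsL_low {g : ℕ} (hg : g < 6) : matsL.getD g [] = mats21.getD g [] := by
  rw [matsL, List.append_assoc, List.getD_append _ _ _ _ (by rw [mats_len]; exact hg)]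

theorem pt_step {g : ℕ} (hg : g < 6) {x : ℕ} (hx : rowOK 21 x = true) :
    Matrix.vecMul (fv x) (rM (cgen g)) = fv (mv x (mats21.getD g [])) := by
  rw [rM, fv_move (by omega) hx, matsL_low hg]
  rfl

/-- A generator as an element of the centralizer. -/
def cg (g : ℕ) : CL := if hg : g < 6 then ⟨cgen g, cgen_mem hg⟩ else 1

theorem cg_val {g : ℕ} (hg : g < 6) : (cg g : Spor.Ly) = cgen g := by rw [cg, dif_pos hg]

theorem cg_inv_smul {g : ℕ} (hg : g < 6) {x : ℕ} (hx : rowOK 21 x = true) :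
    (cg g)⁻¹ • fv x = fv (mv x (mats21.getD g [])) := by
  rw [smul_def, Subgroup.coe_inv, inv_inv, cg_val hg, pt_step hg hx]

/-- The subgroup generated by the six. -/
def CG : Subgroup CL := Subgroup.closure {c | ∃ g < 6, cg g = c}

theorem cg_mem {g : ℕ} (hg : g < 6) : cg g ∈ CG := Subgroup.subset_closure ⟨g, hg, rfl⟩

/-- The centralizer in the subgroup on nine letters, inside the centralizer. -/
def HC : Subgroup CL := HL.subgroupOf CL

theorem cg_HC {g : ℕ} (hg : g < 4) : cg g ∈ HC := by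
  rw [HC, Subgroup.mem_subgroupOf, cg_val (by omega), cgen_h hg]
  exact ⟨_, hgen_mem hg, rfl⟩

theorem card_HC : Nat.card HC = 378000 := by
  rw [HC, Nat.card_congr (Subgroup.subgroupOfEquivOfLe HL_le).toEquiv, HL,
    ← Nat.card_congr (Subgroup.equivMapOfInjective HF toLy toLy_injective).toEquiv]
  exact fixer_eq.2

theorem HC_le_CG : HC ≤ CG := by
  rintro ⟨c, hc⟩ hm
  rw [HC, Subgroup.mem_subgroupOf] at hm
  obtain ⟨a, ha, rfl⟩ := hm
  have key : ∀ a ∈ HF, ∃ c ∈ CG, (c : Spor.Ly) = toLy a := by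
    intro a ha
    induction ha using Subgroup.closure_induction with
    | mem x hx =>
      obtain ⟨i, hi, rfl⟩ := hx
      exact ⟨cg i, cg_mem (by omega), by rw [cg_val (by omega), cgen_h hi]⟩
    | one => exact ⟨1, one_mem _, by rw [map_one]; rfl⟩
    | mul x y _ _ hx hy =>
      obtain ⟨c, hc, e⟩ := hx
      obtain ⟨d, hd, e'⟩ := hy
      exact ⟨c * d, mul_mem hc hd, by rw [Subgroup.coe_mul, e, e', map_mul]⟩
    | inv x _ hx =>
      obtain ⟨c, hc, e⟩ := hx
      exact ⟨c⁻¹, inv_mem hc, by rw [Subgroup.coe_inv, e, map_inv]⟩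
  obtain ⟨c, hc', e⟩ := key a ha
  rwa [show (⟨toLy a, hc⟩ : CL) = c from Subtype.ext e.symm]

theorem mv_fix : ∀ g < 4, mv (cd 0) (mats21.getD g []) = cd 0 := by
  intro g hg
  have h := List.all_eq_true.1 base_ok.2.2.1 g (List.mem_range.2 hg)
  rwa [beq_iff_eq] at h

theorem pt_zero_ok : rowOK 21 (cd 0) = true := (pt_data (by norm_num)).1

theorem HC_fix : HC ≤ MulAction.stabilizer CL (pt 0) := by
  rintro ⟨c, hc⟩ hm
  rw [HC, Subgroup.mem_subgroupOf] at hm
  obtain ⟨a, ha, rfl⟩ := hm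
  have key : ∀ a ∈ HF, Matrix.vecMul (pt 0) (rM (toLy a)) = pt 0 ∧ Matrix.vecMul (pt 0) (rM (toLy a)⁻¹) = pt 0 := by
    intro a ha
    induction ha using Subgroup.closure_induction with
    | mem x hx =>
      obtain ⟨i, hi, rfl⟩ := hx
      have h1 : Matrix.vecMul (pt 0) (rM (toLy (hgen i))) = pt 0 := by
        rw [← cgen_h hi, pt, pt_step (by omega) pt_zero_ok, mv_fix i hi]
      refine ⟨h1, ?_⟩
      conv_lhs => rw [← h1]
      rw [Matrix.vecMul_vecMul, ← rM_mul, mul_inv_cancel, rM_one, Matrix.vecMul_one]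
    | one => simp [rM_one]
    | mul x y _ _ hx hy =>
      constructor
      · rw [map_mul, rM_mul, ← Matrix.vecMul_vecMul, hx.1, hy.1]
      · rw [map_mul, mul_inv_rev, rM_mul, ← Matrix.vecMul_vecMul, hy.2, hx.2]
    | inv x _ hx =>
      rw [map_inv, inv_inv]
      exact hx.symm
  exact MulAction.mem_stabilizer_iff.2 (key a ha).2

theorem pt_reach : ∀ k < 7128, ∃ c ∈ CG, c • pt 0 = pt k := by
  intro k
  induction k using Nat.strong_induction_on with
  | _ k ih =>
    intro hk
    rcases (pt_data hk).2 with rfl | ⟨hp, hg, he, -⟩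
    · exact ⟨1, one_mem _, one_smul _ _⟩
    · obtain ⟨c, hc, e⟩ := ih _ hp (hp.trans hk)
      refine ⟨(cg (ptAt k).2.2)⁻¹ * c, mul_mem (inv_mem (cg_mem hg)) hc, ?_⟩
      rw [mul_smul, e, pt, cg_inv_smul hg (pt_data (hp.trans hk)).1, he]
      rfl

theorem incr21_pairwise : ∀ l : List ℕ, incr21 l = true → l.Pairwise (· < ·)
  | [], _ => List.Pairwise.nil
  | [a], _ => List.pairwise_singleton _ a
  | a :: b :: l, h => by
    simp only [incr21, Bool.and_eq_true, Nat.blt_eq] at h
    have ih := incr21_pairwise (b :: l) h.2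
    refine List.pairwise_cons.2 ⟨fun c hc => ?_, ih⟩
    rcases List.mem_cons.1 hc with rfl | hc
    · exact h.1
    · exact h.1.trans ((List.pairwise_cons.1 ih).1 c hc)

theorem pt_inj : ∀ i < 7128, ∀ j < 7128, pt i = pt j → i = j := by
  have h := pt_distinct
  simp only [ptDistinct, Bool.and_eq_true, List.all_eq_true, Nat.blt_eq] at h
  obtain ⟨⟨hlen, hlt⟩, hinc⟩ := h
  have hnd : (ptSort.map fun k => (ptAt k).1).Nodup := (incr21_pairwise _ hinc).imp fun hab => Nat.ne_of_lt hab
  have hset : ptSort.toFinset = Finset.range 7128 := Finset.eq_of_subset_of_card_le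
    (fun k hk => Finset.mem_range.2 (hlt k (List.mem_toFinset.1 hk)))
    (by rw [Finset.card_range, List.toFinset_card_of_nodup (List.Nodup.of_map _ hnd), Nat.eq_of_beq_eq_true hlen])
  intro i hi j hj e
  exact List.inj_on_of_nodup_map hnd (List.mem_toFinset.1 (hset ▸ Finset.mem_range.2 hi))
    (List.mem_toFinset.1 (hset ▸ Finset.mem_range.2 hj)) (fv_inj (pt_data hi).1 (pt_data hj).1 e)

/-- The orbit of the first point. -/
abbrev Pts : Set (Fin 111 → ZMod 5) := MulAction.orbit CL (pt 0)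

/-- A point in the orbit. -/
def ptO (k : Fin 7128) : Pts := ⟨pt k.val, by
  obtain ⟨c, -, e⟩ := pt_reach k.val k.isLt
  exact ⟨c, e⟩⟩

theorem ptO_inj : Function.Injective ptO := fun i j e =>
  Fin.ext (pt_inj _ i.isLt _ j.isLt (congrArg Subtype.val e))

theorem counts : Nat.card CL = 2694384000 ∧ Nat.card Pts = 7128 ∧ MulAction.stabilizer CL (pt 0) = HC := by
  haveI := finite_Ly
  haveI : Finite Pts := Finite.of_surjective (fun c : CL => (⟨c • pt 0, c, rfl⟩ : Pts)) fun ⟨_, c, rfl⟩ => ⟨c, rfl⟩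
  have h : Nat.card Pts * Nat.card (MulAction.stabilizer CL (pt 0)) = Nat.card CL := by
    rw [Nat.card_congr (MulAction.orbitEquivQuotientStabilizer CL (pt 0)),
      ← Subgroup.card_eq_card_quotient_mul_card_subgroup]
  have h1 : 7128 ≤ Nat.card Pts := by
    have := Nat.card_le_card_of_injective ptO ptO_inj
    rwa [Nat.card_eq_fintype_card, Fintype.card_fin] at this
  have h2 : 378000 ≤ Nat.card (MulAction.stabilizer CL (pt 0)) := card_HC ▸
    Nat.le_of_dvd Nat.card_pos (Subgroup.card_dvd_of_le HC_fix)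
  have h3 : Nat.card CL ≤ 2694384000 := cent_le
  have h4 := Nat.mul_le_mul h1 h2
  have hn : 0 < Nat.card (MulAction.stabilizer CL (pt 0)) := Nat.card_pos
  have e1 : Nat.card Pts = 7128 := by
    by_contra hne
    have : 7129 * 378000 ≤ Nat.card Pts * Nat.card (MulAction.stabilizer CL (pt 0)) :=
      Nat.mul_le_mul (by omega) h2
    omega
  have e2 : Nat.card (MulAction.stabilizer CL (pt 0)) = 378000 := by
    rw [e1] at h
    omega
  refine ⟨?_, e1, (Subgroup.eq_of_le_of_card_ge HC_fix (by rw [card_HC, e2])).symm⟩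
  rw [← h, e1, e2]

theorem ptO_surj : Function.Surjective ptO := by
  haveI := finite_Ly
  haveI : Finite Pts := Finite.of_surjective (fun c : CL => (⟨c • pt 0, c, rfl⟩ : Pts)) fun ⟨_, c, rfl⟩ => ⟨c, rfl⟩
  exact ((Nat.bijective_iff_injective_and_card ptO).2
    ⟨ptO_inj, by rw [Nat.card_eq_fintype_card, Fintype.card_fin, counts.2.1]⟩).2

theorem CG_top : CG = ⊤ := by
  rw [eq_top_iff]
  intro c _
  obtain ⟨k, hk⟩ := ptO_surj ⟨c • pt 0, c, rfl⟩
  obtain ⟨d, hd, e⟩ := pt_reach k.val k.isLt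
  have hdc : d⁻¹ * c ∈ CG := by
    refine HC_le_CG (counts.2.2 ▸ MulAction.mem_stabilizer_iff.2 ?_)
    rw [mul_smul, ← show pt k.val = c • pt 0 from congrArg Subtype.val hk, ← e, inv_smul_smul]
  have := mul_mem hd hdc
  rwa [mul_inv_cancel_left] at this

end Cfsg.Lib.LyCent
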