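import Cfsg.Agent.LyCent.VecBData
import Cfsg.Agent.LyPres.LSub

/-!
The orbit of the fixed vector of the element of order three has 15500 distinct members.
-/

set_option autoImplicit false
set_option maxRecDepth 100000
set_option maxHeartbeats 4000000
set_option Elab.async false

namespace Cfsg.Lib.LyCent

open Cfsg.Lib.LyPres

theorem vOrb_ok0 : vOrb.okRange 0 1000 = true := by decide +kernel

theorem vOrb_ok1 : vOrb.okRange 1000 1000 = true := by decide +kernel

theorem vOrb_ok2 : vOrb.okRange 2000 1000 = true := by decide +kernel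

theorem vOrb_ok3 : vOrb.okRange 3000 1000 = true := by decide +kernel

theorem vOrb_ok4 : vOrb.okRange 4000 1000 = true := by decide +kernel

theorem vOrb_ok5 : vOrb.okRange 5000 1000 = true := by decide +kernel

theorem vOrb_ok6 : vOrb.okRange 6000 1000 = true := by decide +kernel

theorem vOrb_ok7 : vOrb.okRange 7000 1000 = true := by decide +kernel

theorem vOrb_ok8 : vOrb.okRange 8000 1000 = true := by decide +kernel

theorem vOrb_ok9 : vOrb.okRange 9000 1000 = true := by decide +kernel

theorem vOrb_ok10 : vOrb.okRange 10000 1000 = true := by decide +kernel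

theorem vOrb_ok11 : vOrb.okRange 11000 1000 = true := by decide +kernel

theorem vOrb_ok12 : vOrb.okRange 12000 1000 = true := by decide +kernel

theorem vOrb_ok13 : vOrb.okRange 13000 1000 = true := by decide +kernel

theorem vOrb_ok14 : vOrb.okRange 14000 1000 = true := by decide +kernel

theorem vOrb_ok15 : vOrb.okRange 15000 500 = true := by decide +kernel

theorem vOrb_all : vOrb.okRange 0 15500 = true :=
  (okRange_cat vOrb (a := 0) (b := 1000) (k := 1000) (c := 14500) (by rfl) (by rfl) vOrb_ok0
    (okRange_cat vOrb (a := 1000) (b := 1000) (k := 2000) (c := 13500) (by rfl) (by rfl) vOrb_ok1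
    (okRange_cat vOrb (a := 2000) (b := 1000) (k := 3000) (c := 12500) (by rfl) (by rfl) vOrb_ok2
    (okRange_cat vOrb (a := 3000) (b := 1000) (k := 4000) (c := 11500) (by rfl) (by rfl) vOrb_ok3
    (okRange_cat vOrb (a := 4000) (b := 1000) (k := 5000) (c := 10500) (by rfl) (by rfl) vOrb_ok4
    (okRange_cat vOrb (a := 5000) (b := 1000) (k := 6000) (c := 9500) (by rfl) (by rfl) vOrb_ok5
    (okRange_cat vOrb (a := 6000) (b := 1000) (k := 7000) (c := 8500) (by rfl) (by rfl) vOrb_ok6
    (okRange_cat vOrb (a := 7000) (b := 1000) (k := 8000) (c := 7500) (by rfl) (by rfl) vOrb_ok7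
    (okRange_cat vOrb (a := 8000) (b := 1000) (k := 9000) (c := 6500) (by rfl) (by rfl) vOrb_ok8
    (okRange_cat vOrb (a := 9000) (b := 1000) (k := 10000) (c := 5500) (by rfl) (by rfl) vOrb_ok9
    (okRange_cat vOrb (a := 10000) (b := 1000) (k := 11000) (c := 4500) (by rfl) (by rfl) vOrb_ok10
    (okRange_cat vOrb (a := 11000) (b := 1000) (k := 12000) (c := 3500) (by rfl) (by rfl) vOrb_ok11
    (okRange_cat vOrb (a := 12000) (b := 1000) (k := 13000) (c := 2500) (by rfl) (by rfl) vOrb_ok12
    (okRange_cat vOrb (a := 13000) (b := 1000) (k := 14000) (c := 1500) (by rfl) (by rfl) vOrb_ok13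
    (okRange_cat vOrb (a := 14000) (b := 1000) (k := 15000) (c := 500) (by rfl) (by rfl) vOrb_ok14
    vOrb_ok15)))))))))))))))

theorem vOrb_distinct : vOrb.colsDistinct 15500 0 = true := by decide +kernel

end Cfsg.Lib.LyCent
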