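import Cfsg.Agent.LyCent.Base
import Cfsg.Agent.LyCent.VecCheck

/-!
The centralizer of the element of order three in the subgroup on nine letters has 378000 elements: its fixed
space is a line, the orbit of a vector on it has 15500 members, and the element sending the vector to its negative
does not commute with it.
-/

set_option autoImplicit false
set_option maxRecDepth 100000
set_option maxHeartbeats 4000000
set_option Elab.async false

namespace Cfsg.Lib.LyCent

open Cfsg.Spor Cfsg.Lib.LyPres

/-- The fixed vector. -/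
def vMat : List ℕ := [0, 0, 3, 1, 1, 0, 0]

/-- The form cutting out the fixed line. -/
def phi : List ℕ := [0, 0, 4, 2, 2, 0, 0]

/-- The entry of the sum of the powers. -/
def sumEnt (i j : ℕ) : ℕ :=
  (bif Nat.beq i j then 1 else 0) + fld (xMat.getD i 0) j + fld ((mmul 7 xMat xMat).getD i 0) j

theorem class_checks : vOrb.start = vMat ∧ matOK 7 vMat = true ∧ vOrb.gens = gen7.take 4 ∧
    (hMats.all fun h => mmul 7 h vMat == vMat) = true ∧ (vMat.all fun r => Nat.blt r 5) = true ∧
    ((List.range 7).all fun i => (List.range 7).all fun j =>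
      sumEnt i j % 5 == 3 * vMat.getD i 0 * phi.getD j 0 % 5) = true ∧
    negWord.all (fun l => Nat.blt l 18) = true ∧
    mmul 7 (m7 negWord) vMat = vMat.map (fun r => 4 * r % 5) ∧
    (mmul 7 (m7 negWord) xMat != mmul 7 xMat (m7 negWord)) = true := by
  decide +kernel

/-- The fixed vector as a matrix. -/
abbrev VM : M7 := toMat 7 vMat

theorem fld_small {x : ℕ} (hx : x < 5) : ∀ j : ℕ, fld x j = if j = 0 then x else 0
  | 0 => by simp [fld]; omega
  | j + 1 => by rw [fld, Nat.div_eq_of_lt (by omega), fld_zero]; simp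

theorem vMat_apply (i j : Fin 7) : VM i j = if j.val = 0 then (vMat.getD i.val 0 : ZMod 5) else 0 := by
  have h : vMat.getD i.val 0 < 5 := by
    rw [List.getD_eq_getElem _ _ (show i.val < vMat.length from i.isLt)]
    simpa [Nat.blt_eq] using List.all_eq_true.1 class_checks.2.2.2.2.1 _
      (List.getElem_mem (show i.val < vMat.length from i.isLt))
  rw [VM, toMat, Matrix.of_apply, fld_small h]
  split <;> simp

theorem VM_two : VM 2 0 = 3 := by rw [vMat_apply]; rfl

/-- The sum of the powers of the matrix has rank one. -/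
theorem sum_rank : (1 : M7) + toMat 7 xMat + toMat 7 xMat * toMat 7 xMat =
    Matrix.of fun i j : Fin 7 => ((3 * vMat.getD i.val 0 * phi.getD j.val 0 : ℕ) : ZMod 5) := by
  rw [← toMat_mmul (by norm_num) x0_el.1 x0_el.1]
  ext i j
  have h := List.all_eq_true.1 (List.all_eq_true.1 class_checks.2.2.2.2.2.1 i.val (List.mem_range.2 i.isLt))
    j.val (List.mem_range.2 j.isLt)
  rw [beq_iff_eq] at h
  have e : ((sumEnt i.val j.val : ℕ) : ZMod 5) = (3 * vMat.getD i.val 0 * phi.getD j.val 0 : ℕ) :=
    (ZMod.natCast_eq_natCast_iff' _ _ 5).2 h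
  simp only [Matrix.add_apply, Matrix.one_apply, Matrix.of_apply, toMat]
  rw [← e, sumEnt]
  have hb : (bif Nat.beq i.val j.val then 1 else 0 : ℕ) = if i = j then 1 else 0 := by
    by_cases hij : i = j
    · subst hij; simp
    · rw [if_neg hij, show Nat.beq i.val j.val = false from Bool.eq_false_iff.2
        fun hb => hij (Fin.ext (Nat.eq_of_beq_eq_true hb))]
      rfl
  rw [hb]
  push_cast
  rfl

theorem img_smul (s : F) (c : ZMod 5) (X : M7) : img s (c • X) = c • img s X := by
  rw [img, img, Matrix.mul_smul]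

theorem line_of_comm {s : F} (hs : s ∈ Subgroup.centralizer ({x0} : Set F)) : ∃ c : ZMod 5, img s VM = c • VM := by
  have hx : img x0 VM = VM := by
    rw [img_el x0_el class_checks.2.1]
    exact congrArg (toMat 7) (show mmul 7 xMat vMat = vMat by decide +kernel)
  set Y := img s VM with hY
  have hfix : toMat 7 xMat * Y = Y := by
    rw [x0_el.2]
    show img x0 (img s VM) = img s VM
    rw [← img_mul, ← Subgroup.mem_centralizer_singleton_iff.1 hs, img_mul, hx]
  have h3 : (3 : ZMod 5) • Y = (Matrix.of fun i j : Fin 7 => ((3 * vMat.getD i.val 0 * phi.getD j.val 0 : ℕ) : ZMod 5)) * Y := by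
    rw [← sum_rank, Matrix.add_mul, Matrix.add_mul, Matrix.one_mul, Matrix.mul_assoc, hfix, hfix]
    module
  refine ⟨∑ k : Fin 7, (phi.getD k.val 0 : ZMod 5) * Y k 0, ?_⟩
  ext i j
  have e := congrFun (congrFun h3 i) j
  simp only [Matrix.smul_apply, Matrix.mul_apply, Matrix.of_apply, smul_eq_mul] at e
  have h2 : (2 : ZMod 5) * (3 * Y i j) = Y i j := by
    rw [← mul_assoc, show (2 : ZMod 5) * 3 = 1 by decide, one_mul]
  rw [Matrix.smul_apply, smul_eq_mul, vMat_apply, ← h2, e, Finset.mul_sum]
  by_cases hj : j.val = 0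
  · rw [if_pos hj, Finset.sum_mul, show j = 0 from Fin.ext hj]
    refine Finset.sum_congr rfl fun k _ => ?_
    have h6 : (2 : ZMod 5) * 3 = 1 := by decide
    push_cast
    linear_combination ((vMat.getD i.val 0 : ZMod 5) * (phi.getD k.val 0 : ZMod 5) * Y k 0) * h6
  · rw [if_neg hj, mul_zero]
    refine Finset.sum_eq_zero fun k _ => ?_
    have : Y k j = 0 := by
      rw [hY, img, Matrix.mul_apply]
      exact Finset.sum_eq_zero fun m _ => by rw [vMat_apply, if_neg hj, mul_zero]
    rw [this, mul_zero, mul_zero]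

theorem negWord_img : img (wval fgen negWord) VM = (4 : ZMod 5) • VM := by
  obtain ⟨-, hv, -, -, h5, -, hw, he, -⟩ := class_checks
  rw [img_el (El.word _ hw) hv, he]
  ext i j
  have hi : i.val < vMat.length := i.isLt
  have h : (vMat.map fun r => 4 * r % 5).getD i.val 0 = 4 * vMat.getD i.val 0 % 5 := by
    rw [List.getD_eq_getElem _ _ (by rw [List.length_map]; exact hi), List.getElem_map, List.getD_eq_getElem _ _ hi]
  have hlt : 4 * vMat.getD i.val 0 % 5 < 5 := Nat.mod_lt _ (by norm_num)
  rw [Matrix.smul_apply, vMat_apply, toMat, Matrix.of_apply, h, fld_small hlt]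
  by_cases hj : j.val = 0
  · rw [if_pos hj, if_pos hj, ZMod.natCast_mod]
    push_cast
    rfl
  · rw [if_neg hj, if_neg hj, smul_zero]
    simp

theorem HF_fix : HF ≤ fixer VM := by
  refine (Subgroup.closure_le _).2 ?_
  rintro _ ⟨i, hi, rfl⟩
  show img _ VM = VM
  rw [img_el (hgen_el hi) class_checks.2.1]
  have hlen : i < hMats.length := by rw [words_ok.2.2.2, List.length_map]; have := words_ok.2.2.1; omega
  have h := List.all_eq_true.1 class_checks.2.2.2.1 _ (List.getElem_mem hlen)
  rw [← List.getD_eq_getElem _ [] hlen, beq_iff_eq] at h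
  rw [h]

theorem fixer_eq : fixer VM = HF ∧ Nat.card HF = 378000 := by
  haveI := card_F.1
  obtain ⟨hs, hv, hg, -⟩ := class_checks
  have h := vOrb.card_ge ⊤ (fixer VM) (fun g hlt => ⟨fgen g, Subgroup.mem_top _, by
    rw [hg] at hlt ⊢
    have h4 : g < 4 := lt_of_lt_of_le hlt (List.length_take_le 4 gen7)
    have := gen7_el g h4
    rw [List.getD_eq_getElem _ _ hlt, List.getElem_take, ← List.getD_eq_getElem gen7 []]
    exact this⟩) (by rw [hs]; exact hv) vOrb_all vOrb_distinct le_top (by rw [hs])
  rw [Subgroup.card_top, card_F_eq] at h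
  have h1 : Nat.card (fixer VM) ≤ 378000 := by omega
  have e := Subgroup.eq_of_le_of_card_ge HF_fix (h1.trans card_HF_ge)
  exact ⟨e.symm, le_antisymm (by rw [e]; exact h1) card_HF_ge⟩

theorem cent_eq : Subgroup.centralizer ({x0} : Set F) = HF := by
  haveI := card_F.1
  refine le_antisymm (fun s hs => ?_) HF_le_cent
  obtain ⟨c, hc⟩ := line_of_comm hs
  have hfix : ∀ t : F, img t VM = VM → t ∈ HF := fun t ht => fixer_eq.1 ▸ ht
  have no_neg : ∀ t ∈ Subgroup.centralizer ({x0} : Set F), img t VM ≠ (4 : ZMod 5) • VM := by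
    intro t ht e
    set n := wval fgen negWord
    have h1 : n⁻¹ * t ∈ HF := hfix _ (by
      rw [img_mul, e, ← negWord_img, ← img_mul, inv_mul_cancel, img_one])
    have hn : n ∈ Subgroup.centralizer ({x0} : Set F) := by
      have := (Subgroup.centralizer ({x0} : Set F)).mul_mem ht (Subgroup.inv_mem _ (HF_le_cent h1))
      simpa using this
    obtain ⟨-, -, -, -, -, -, hw, -, hne⟩ := class_checks
    have hn' := Subgroup.mem_centralizer_singleton_iff.1 hn
    have h2 := (El.word _ hw).mul x0_el
    rw [hn'] at h2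
    simp only [bne_iff_ne, ne_eq] at hne
    exact hne (El.eq_of h2 (x0_el.mul (El.word _ hw)))
  have key : ∀ c : ZMod 5, c = 0 ∨ c = 1 ∨ c = 4 ∨ c * c = 4 := by decide
  rcases key c with rfl | rfl | rfl | h4
  · exfalso
    rw [zero_smul] at hc
    have h := img_inj s (hc.trans (by rw [img, Matrix.mul_zero] : (0 : M7) = img s 0))
    have h' := VM_two
    rw [h] at h'
    exact absurd h' (by decide)
  · exact hfix s (by rw [hc, one_smul])
  · exact absurd hc (no_neg s hs)
  · exact absurd (by rw [img_mul, hc, img_smul, hc, smul_smul, h4]) (no_neg (s * s) (mul_mem hs hs))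

theorem card_cent_x0 : Nat.card (Subgroup.centralizer ({x0} : Set F)) = 378000 := by
  rw [cent_eq]
  exact fixer_eq.2

end Cfsg.Lib.LyCent
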