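import Cfsg.Agent.LyPres.Seven7

/-!
The stabilisers of the numbered cosets as products.
-/

set_option autoImplicit false
set_option maxRecDepth 100000
set_option maxHeartbeats 4000000

namespace Cfsg.Lib.LyCent

/-- The stabiliser at 6 as a product of short lists of words. -/
def fac6 : List (List (List ℕ)) := [
  [
    [],
    [0],
    [1],
    [2],
    [3],
    [0,0],
    [0,1],
    [0,3],
    [1,0],
    [1,2],
    [2,0],
    [2,1],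
    [3,0],
    [3,3],
    [0,0,0],
    [0,1,0],
    [0,1,2],
    [0,2,0],
    [0,3,3],
    [1,0,3],
    [1,2,0],
    [1,2,1],
    [2,0,1],
    [2,3,0],
    [3,0,0],
    [3,0,3],
    [3,1,0],
    [0,0,2,0]],
  [
    [],
    [0,1,3,0]],
  [
    [],
    [0,2],
    [0,3,1],
    [0,2,0,3,1]],
  [
    [],
    [3,1,2,0],
    [2,0,3,2,0,1]],
  [
    [],
    [0,2,3,1,0,3,1,2],
    [0,3,1,0,2,0,3,1],
    [1,0,3,3,2,1],
    [2,3,2,0,3,3,2,3],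
    [3,2,3,0,2,1,0],
    [1,3,2,0,2,3],
    [1,3,3,0,0,2,0],
    [3,0,3,2,3,2,1]]]

/-- A vector with trivial stabiliser. -/
def sep6 : List ℕ := [3,0,4,0,0,1,4]

/-- The stabiliser at 9 as a product of short lists of words. -/
def fac9 : List (List (List ℕ)) := [
  [
    [],
    [0],
    [2],
    [3],
    [0,0],
    [0,3],
    [2,3],
    [0,0,3]],
  [
    [],
    [1],
    [1,1],
    [0,2],
    [3,0,1]],
  [
    [],
    [3,0],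
    [3,0,3,0]],
  [
    [],
    [1,1,3,2,0,0],
    [0,1,3,0,0,1],
    [3,1,3,0,3],
    [0,0,2,2,0,2],
    [0,1,2],
    [1,2,3,0,1,3],
    [3,3,2,0,3,3],
    [0,2,3,2,0,0],
    [0,2,3,2,2,1,2],
    [3,3,0,3,1],
    [0,2,0,3,0,0,1],
    [2,3,2,2,3,2],
    [3,2,3,2,2,3],
    [0,2,2,1,3,3,1,3],
    [1,3,3,1,0,3],
    [0,2,0,2],
    [1,2,3,0,2,0,3],
    [2,2,3,0,3,3],
    [2,2,3,3,2,3],
    [2,3,3,2,3,3],
    [0,2,3,1,0,1],
    [0,1,3,1,2,2],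
    [0,2,3,3,1,3,3]]]

/-- A vector with trivial stabiliser. -/
def sep9 : List ℕ := [3,0,0,4,1,2,2]

/-- The stabiliser at 12 as a product of short lists of words. -/
def fac12 : List (List (List ℕ)) := [
  [
    [],
    [0],
    [1],
    [2],
    [0,1],
    [0,2]],
  [
    [],
    [0,0],
    [2,2,2],
    [1,2,0],
    [0,2,0,2],
    [0,2,0,1,0],
    [2,0,2,0,0,0]],
  [
    [],
    [2,2,1,0],
    [0,2,0,1,2,0,2],
    [2,2,0,2,1,2,2,2],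
    [2,2,0,2,2,2,0,2,0,0],
    [2,2,2,1,2,0],
    [2,2,0,2,0,2,1,0],
    [2,0,0,2,1,2,2,2,0],
    [0,2,0,2,0,2,0,0,2,1],
    [2,2,2,0,2,2,2,0],
    [0,0,2,2,2,0,2,0,2,0,0],
    [2,0,0,2,0,2,1],
    [2,2,2,0,2,0,0,0,2],
    [0,2,0,2,0,2,0,2],
    [0,0,2,2,2,0,0],
    [0,0,2,2,2,1,2,0,2,2,2],
    [2,0,0,0,2,0,2,0,1],
    [2,0,0,2,2],
    [0,0,2,0,2,0,0,2,0,2],
    [0,1,2],
    [2,0,0,0,2,0,2,2,2],
    [2,0,0,0,1],
    [0,0,1,2,0],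
    [0,0,0,2,2,2,0]]]

/-- A vector with trivial stabiliser. -/
def sep12 : List ℕ := [4,0,1,0,1,4,0]

/-- Representatives of the frames at the first coset. -/
def reps1 : List (List ℕ) := [
    [],
    [4],
    [5],
    [6],
    [4,4],
    [5,4],
    [6,4],
    [4,5],
    [6,5],
    [4,6],
    [5,6],
    [4,4,4],
    [5,4,4],
    [6,4,4],
    [4,5,4],
    [6,5,4],
    [4,6,4],
    [5,6,4],
    [6,4,5],
    [4,6,5],
    [5,6,5],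
    [5,4,6],
    [6,4,6],
    [4,5,6],
    [4,4,4,4],
    [5,4,4,4],
    [6,4,4,4],
    [4,5,4,4],
    [6,5,4,4],
    [4,6,4,4],
    [5,6,4,4],
    [6,4,5,4],
    [4,6,5,4],
    [5,6,5,4],
    [5,4,6,4],
    [4,5,6,4],
    [4,6,4,5],
    [5,6,4,5],
    [5,4,6,5],
    [6,4,6,5],
    [4,5,6,5],
    [4,5,4,6],
    [6,5,4,6],
    [5,6,4,6],
    [6,4,5,6],
    [4,4,4,4,4],
    [5,4,4,4,4],
    [6,4,4,4,4],
    [4,5,4,4,4],
    [6,5,4,4,4],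
    [5,6,4,4,4],
    [6,4,5,4,4],
    [4,6,5,4,4],
    [5,6,5,4,4],
    [5,4,6,4,4],
    [4,5,6,4,4],
    [4,6,4,5,4],
    [5,6,4,5,4],
    [5,4,6,5,4],
    [6,4,6,5,4],
    [4,5,6,5,4],
    [4,5,4,6,4],
    [6,5,4,6,4],
    [6,4,5,6,4],
    [4,5,6,4,5],
    [4,5,4,6,5],
    [4,4,4,4,4,4],
    [5,4,4,4,4,4],
    [4,5,4,4,4,4],
    [6,5,4,4,4,4],
    [5,6,4,4,4,4],
    [6,4,5,4,4,4],
    [4,6,5,4,4,4],
    [5,6,5,4,4,4],
    [4,5,6,4,4,4],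
    [5,6,4,5,4,4],
    [5,4,6,5,4,4],
    [4,5,6,5,4,4],
    [4,5,4,6,4,4],
    [6,5,4,6,4,4],
    [6,4,5,6,4,4],
    [4,5,6,4,5,4],
    [4,5,4,6,5,4],
    [5,4,4,4,4,4,4],
    [4,5,4,4,4,4,4],
    [6,5,4,4,4,4,4],
    [5,6,5,4,4,4,4],
    [4,5,6,4,4,4,4],
    [5,6,4,5,4,4,4],
    [5,4,6,5,4,4,4],
    [4,5,6,5,4,4,4],
    [6,4,5,6,4,4,4],
    [4,5,6,4,5,4,4],
    [4,5,4,6,5,4,4],
    [4,5,6,4,5,4,4,4],
    [4,5,4,6,5,4,4,4]]

/-- The entries separating the elements fixing the frame. -/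
def ent1 : List (ℕ × ℕ) := [(4,6),(4,5),(3,6),(2,6),(1,6)]

/-- The representatives of order three, with exponents of elements commuting with them. -/
def threeReps : List (ℕ × List (List ℕ)) := [
  (31, [[0,0,0,0,1], [0,1,1,1,0], [1,0,2,1,0]]),
  (33, [[0,0,0,0,1], [1,0,1,2,0], [1,1,0,2,0]]),
  (34, [[0,0,0,0,1], [1,0,0,1,0], [0,2,1,1,0]]),
  (36, [[0,0,0,0,1], [1,0,0,1,0], [0,2,1,1,0]]),
  (39, [[0,0,0,0,1], [1,0,1,0,0], [0,1,2,1,0]]),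
  (40, [[0,0,0,0,1], [1,0,1,2,0], [1,1,0,2,0]]),
  (41, [[0,0,0,0,1], [0,1,1,1,0], [1,0,2,1,0]]),
  (43, [[0,0,0,0,1], [1,0,1,0,0], [0,1,2,1,0]])]

end Cfsg.Lib.LyCent
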