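import Cfsg.Agent.LyPres.LSub
import Cfsg.Agent.LyCent.NodeData

/-!
Lists of all elements of a finite subgroup as products, and counting in them the elements of order dividing three
with a given trace.
-/

set_option autoImplicit false

namespace Cfsg.Lib.LyCent

open Cfsg.Lib.LyPres

/-- All products of one matrix from each list. -/
def prodL : List (List (List ℕ)) → List (List ℕ)
  | [] => [idMat 7]
  | f :: fs => f.flatMap fun a => (prodL fs).map fun b => mmul 7 a b

/-- The codes of a list differ. -/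
def distinctL : List ℕ → ℕ → Bool
  | [], _ => true
  | c :: l, seen => !seen.testBit c && distinctL l (seen ||| 2 ^ c)

/-- The trace. -/
def tr7 (M : List ℕ) : ℕ := ((List.range 7).map fun i => fld (M.getD i 0) i).sum % 5

/-- Third power one and trace three. -/
def goodM (M : List ℕ) : Bool := Nat.beq (tr7 M) 3 && mmul 7 M (mmul 7 M M) == idMat 7

theorem distinctL_sound : ∀ (l : List ℕ) (seen : ℕ), distinctL l seen = true →
    l.Nodup ∧ ∀ c ∈ l, seen.testBit c = false
  | [], _, _ => ⟨List.nodup_nil, fun _ h => absurd h (List.not_mem_nil)⟩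
  | c :: l, seen, h => by
    simp only [distinctL, Bool.and_eq_true, Bool.not_eq_true'] at h
    obtain ⟨h1, h2⟩ := distinctL_sound l _ h.2
    have h3 : ∀ d ∈ l, d ≠ c ∧ seen.testBit d = false := by
      intro d hd
      have := h2 d hd
      rw [Nat.testBit_or, Bool.or_eq_false_iff, Nat.testBit_two_pow] at this
      exact ⟨fun e => by simp [e] at this, this.1⟩
    refine ⟨List.nodup_cons.2 ⟨fun hc => (h3 c hc).1 rfl, h1⟩, fun d hd => ?_⟩
    rcases List.mem_cons.1 hd with rfl | hd
    · exact h.1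
    · exact (h3 d hd).2

theorem prodL_mem {S : Subgroup F} : ∀ fs : List (List (List ℕ)),
    (∀ f ∈ fs, ∀ A ∈ f, ∃ a ∈ S, El A a) → ∀ M ∈ prodL fs, ∃ a ∈ S, El M a
  | [], _, M, hM => by
    rw [prodL, List.mem_singleton] at hM
    exact ⟨1, one_mem S, hM ▸ El.one⟩
  | f :: fs, h, M, hM => by
    simp only [prodL, List.mem_flatMap, List.mem_map] at hM
    obtain ⟨A, hA, B, hB, rfl⟩ := hM
    obtain ⟨a, ha, hEa⟩ := h f List.mem_cons_self A hA
    obtain ⟨b, hb, hEb⟩ := prodL_mem fs (fun g hg => h g (List.mem_cons_of_mem f hg)) B hB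
    exact ⟨a * b, mul_mem ha hb, hEa.mul hEb⟩

theorem El.trace {M : List ℕ} {a : F} (h : El M a) :
    Matrix.trace ((rho7 a : M7ˣ) : M7) = (tr7 M : ZMod 5) := by
  rw [← h.2, Matrix.trace, Fin.sum_univ_seven]
  simp only [Matrix.diag_apply, toMat, Matrix.of_apply, tr7, List.range_succ, List.range_zero, List.map_append,
    List.map_cons, List.map_nil, List.sum_append, List.sum_cons, List.sum_nil, List.nil_append]
  rw [ZMod.natCast_mod]
  simp only [Fin.coe_ofNat_eq_mod]
  push_cast
  norm_num

/-- The elements looked for. -/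
abbrev IsGood (a : F) : Prop := a * (a * a) = 1 ∧ Matrix.trace ((rho7 a : M7ˣ) : M7) = 3

theorem goodM_of {M : List ℕ} {a : F} (h : El M a) (hg : IsGood a) : goodM M = true := by
  rw [goodM, Bool.and_eq_true, beq_iff_eq (a := mmul 7 M (mmul 7 M M))]
  refine ⟨?_, El.eq_of (hg.1 ▸ h.mul (h.mul h)) El.one⟩
  have e : ((tr7 M : ℕ) : ZMod 5) = ((3 : ℕ) : ZMod 5) := by rw [← El.trace h, hg.2]; rfl
  rw [ZMod.natCast_eq_natCast_iff'] at e
  have : tr7 M % 5 = tr7 M := Nat.mod_mod _ 5
  rw [this] at e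
  rw [e]
  rfl

/-- A list of candidates bounds the number of good elements. -/
theorem card_good_le (S : Subgroup F) (L : List (List ℕ)) (h : ∀ s ∈ S, IsGood s → ∃ M ∈ L, El M s) :
    Nat.card {s : S // IsGood (s : F)} ≤ L.countP goodM := by
  classical
  let T := (L.filter goodM).toFinset
  have hc : ∀ s : {s : S // IsGood (s : F)}, ∃ M ∈ T, El M ((s.1 : S) : F) := fun s => by
    obtain ⟨M, hM, hE⟩ := h _ s.1.2 s.2
    exact ⟨M, List.mem_toFinset.2 (List.mem_filter.2 ⟨hM, goodM_of hE s.2⟩), hE⟩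
  choose f hf hE using hc
  have hinj : Function.Injective fun s => (⟨f s, hf s⟩ : T) := by
    intro s t e
    have e' : f s = f t := congrArg Subtype.val e
    exact Subtype.ext (Subtype.ext (El.unique (hE s) (e' ▸ hE t)))
  refine (Nat.card_le_card_of_injective _ hinj).trans ?_
  rw [Nat.card_eq_fintype_card, Fintype.card_coe, List.countP_eq_length_filter]
  exact List.toFinset_card_le _

/-- A list of distinct members as long as the order has all elements. -/
theorem all_listed {S : Subgroup F} [Finite S] {L : List (List ℕ)} (hL : ∀ M ∈ L, ∃ a ∈ S, El M a)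
    (code : List ℕ → ℕ) (hnd : (L.map code).Nodup) (hcard : Nat.card S ≤ L.length) :
    ∀ s ∈ S, ∃ M ∈ L, El M s := by
  classical
  choose f hf hE using hL
  let φ : Fin L.length → S := fun i => ⟨f L[i] (List.getElem_mem i.isLt), hf _ _⟩
  have hinj : Function.Injective φ := by
    intro i j e
    have e' : f L[i] (List.getElem_mem i.isLt) = f L[j] (List.getElem_mem j.isLt) := congrArg Subtype.val e
    have e2 : L[i] = L[j] := El.eq_of (hE _ (List.getElem_mem i.isLt)) (e' ▸ hE _ (List.getElem_mem j.isLt))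
    exact Fin.ext ((List.Nodup.getElem_inj_iff (List.Nodup.of_map code hnd)).1 e2)
  have hc : Nat.card (Fin L.length) = Nat.card S := by
    refine le_antisymm (Nat.card_le_card_of_injective φ hinj) ?_
    rwa [Nat.card_eq_fintype_card (α := Fin L.length), Fintype.card_fin]
  obtain hbij := (Nat.bijective_iff_injective_and_card φ).2 ⟨hinj, hc⟩
  intro s hs
  obtain ⟨i, hi⟩ := hbij.2 ⟨s, hs⟩
  have e : f L[i] (List.getElem_mem i.isLt) = s := congrArg Subtype.val hi
  exact ⟨L[i], List.getElem_mem i.isLt, e ▸ hE _ (List.getElem_mem i.isLt)⟩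

/-- The powers below five. -/
def pows (A : List ℕ) : List (List ℕ) :=
  [idMat 7, A, mmul 7 A A, mmul 7 A (mmul 7 A A), mmul 7 A (mmul 7 A (mmul 7 A A))]

theorem pows_mem {S : Subgroup F} {A : List ℕ} {a : F} (ha : a ∈ S) (h : El A a) :
    ∀ M ∈ pows A, ∃ b ∈ S, El M b := by
  intro M hM
  simp only [pows, List.mem_cons, List.not_mem_nil, or_false] at hM
  rcases hM with rfl | rfl | rfl | rfl | rfl
  · exact ⟨1, one_mem S, El.one⟩
  · exact ⟨a, ha, h⟩
  · exact ⟨_, mul_mem ha ha, h.mul h⟩
  · exact ⟨_, mul_mem ha (mul_mem ha ha), h.mul (h.mul h)⟩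
  · exact ⟨_, mul_mem ha (mul_mem ha (mul_mem ha ha)), h.mul (h.mul (h.mul h))⟩

end Cfsg.Lib.LyCent
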