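import Cfsg.Agent.LyCent.Action

/-!
The action on the 7128 points is primitive and its kernel has three elements.
-/

set_option autoImplicit false
set_option maxRecDepth 100000
set_option maxHeartbeats 60000
set_option Elab.async false

namespace Cfsg.Lib.LyCent

open Cfsg.Spor Cfsg.Lib.LyPres MulAction
open scoped Pointwise

theorem rowOK_mv (x : ℕ) (A : List ℕ) : rowOK 21 (mv x A) = true := rowOK_red 21 _

theorem smul_ptO (c : CL) (k : Fin 7128) : ((c • ptO k : Pts) : Fin 111 → ZMod 5) = c • pt k.val := rfl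

theorem toPerm_apply (c : CL) (p : Pts) : MulAction.toPermHom CL Pts c p = c • p := rfl

theorem rowsMat_sq (A : List ℕ) : rowsMat 21 21 A = toMat 21 A := rfl

theorem cd_def (k : ℕ) : cd k = (ptAt k).1 := rfl

attribute [local irreducible] rho111 fv basis21 mats21 ptsL red comb mv cd ptAt rM toMat idMat

/-- The permutations of the points. -/
def toPerm : CL →* Equiv.Perm Pts := MulAction.toPermHom CL Pts

/-- The group induced on the points. -/
abbrev RG : Subgroup (Equiv.Perm Pts) := toPerm.range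

/-- The first number of the suborbit of a point. -/
def rep (k : ℕ) : ℕ :=
  bif Nat.beq k 0 then 0 else bif Nat.blt k 253 then 1 else bif Nat.blt k 3753 then 253 else
    bif Nat.blt k 4503 then 3753 else 4503

theorem blk_eq : blkStart = [0, 1, 253, 3753, 4503] := base_ok.1

theorem rep_facts (k q : ℕ) : rep k ≤ k ∧ rep k ∈ blkStart ∧ (rep k ≤ q → q < k → rep q = rep k) := by
  rw [blk_eq]
  unfold rep
  rcases Nat.eq_zero_or_pos k with rfl | hk
  · exact ⟨le_refl _, by simp, fun _ h => absurd h (Nat.not_lt_zero q)⟩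
  rw [show Nat.beq k 0 = false from Bool.eq_false_iff.2 fun h => by have := Nat.eq_of_beq_eq_true h; omega]
  have hb : ∀ a b : ℕ, Nat.blt a b = decide (a < b) := fun a b => by
    rw [Bool.eq_iff_iff, Nat.blt_eq, decide_eq_true_eq]
  have hq : ∀ a b : ℕ, Nat.beq a b = decide (a = b) := fun a b => by
    rw [Bool.eq_iff_iff, decide_eq_true_eq]
    exact ⟨Nat.eq_of_beq_eq_true, fun h => h ▸ Nat.beq_refl a⟩
  simp only [hb, hq, cond_false, Bool.cond_decide, List.mem_cons, List.not_mem_nil, or_false]
  refine ⟨?_, ?_, fun h1 h2 => ?_⟩ <;> split_ifs at * <;> omega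

theorem blk_mem_eq {k : ℕ} (h : k ∈ blkStart) : rep k = k := by
  rw [blk_eq] at h
  simp only [List.mem_cons, List.not_mem_nil, or_false] at h
  rcases h with rfl | rfl | rfl | rfl | rfl <;> rfl

/-- Each point is the image of the first of its suborbit under the stabiliser of the first point. -/
theorem rep_reach : ∀ k < 7128, ∃ h ∈ HC, h • pt (rep k) = pt k := by
  intro k
  induction k using Nat.strong_induction_on with
  | _ k ih =>
    intro hk
    by_cases hr : rep k = k
    · exact ⟨1, one_mem _, by rw [one_smul, hr]⟩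
    rcases (pt_data hk).2 with rfl | ⟨hp, hg, he, hb⟩
    · exact absurd rfl hr
    rcases hb with hb | ⟨hg4, hb⟩
    · exact absurd (blk_mem_eq hb) hr
    obtain ⟨h1, h2, h3⟩ := rep_facts k (ptAt k).2.1
    have hrep := h3 (hb _ h2 h1) hp
    obtain ⟨c, hc, e⟩ := ih _ hp (hp.trans hk)
    refine ⟨(cg (ptAt k).2.2)⁻¹ * c, mul_mem (inv_mem (cg_HC hg4)) hc, ?_⟩
    rw [mul_smul, ← hrep, e, pt, cg_inv_smul hg (pt_data (hp.trans hk)).1, he]
    rfl

theorem card_ptO : Nat.card Pts = 7128 := counts.2.1

theorem pts_finite : Finite Pts := Nat.finite_of_card_ne_zero (by rw [card_ptO]; norm_num)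

/-- The first point. -/
def base : Pts := ptO ⟨0, by norm_num⟩

theorem HC_base {h : CL} (hh : h ∈ HC) : h • base = base := Subtype.ext (HC_fix hh)

/-- The number of points of a union of suborbits and the first point. -/
def unionCard (b : Bool × Bool × Bool × Bool) : ℕ :=
  (List.range 7128).countP fun k => Nat.beq k 0 || (bif Nat.blt k 253 then b.1 else bif Nat.blt k 3753 then b.2.1 else
    bif Nat.blt k 4503 then b.2.2.1 else b.2.2.2)

theorem union_dvd : ∀ b1 b2 b3 b4 : Bool, unionCard (b1, b2, b3, b4) ∣ 7128 →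
    (b1 = false ∧ b2 = false ∧ b3 = false ∧ b4 = false) ∨ (b1 = true ∧ b2 = true ∧ b3 = true ∧ b4 = true) := by
  decide +kernel

theorem primitive : IsPreprimitive RG Pts := by
  classical
  haveI := pts_finite
  have htr : ∀ x : Pts, ∃ g : RG, g • base = x := by
    intro x
    obtain ⟨k, rfl⟩ := ptO_surj x
    obtain ⟨c, -, e⟩ := pt_reach k.val k.isLt
    exact ⟨⟨toPerm c, c, rfl⟩, Subtype.ext e⟩
  haveI : IsPretransitive RG Pts := ⟨fun x y => by
    obtain ⟨g, hg⟩ := htr x
    obtain ⟨h, hh⟩ := htr y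
    exact ⟨h * g⁻¹, by rw [mul_smul, ← hg, inv_smul_smul, hh]⟩⟩
  have key : ∀ B : Set Pts, IsBlock RG B → base ∈ B → B.Subsingleton ∨ B = Set.univ := by
    intro B hB hb
    have hinv : ∀ h ∈ HC, ∀ x ∈ B, h • x ∈ B := fun h hh x hx => by
      have e : (⟨toPerm h, h, rfl⟩ : RG) • B = B :=
        hB.smul_eq_of_mem hb (by show h • base ∈ B; rw [HC_base hh]; exact hb)
      rw [← e]
      exact Set.mem_smul_set.2 ⟨x, hx, rfl⟩
    let Q : ℕ → Bool := fun s => if hs : s < 7128 then decide (ptO ⟨s, hs⟩ ∈ B) else false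
    have hblock : ∀ k : Fin 7128, (ptO k ∈ B ↔ Q (rep k.val) = true) := by
      intro k
      have hlt : rep k.val < 7128 := lt_of_le_of_lt (rep_facts k.val 0).1 k.isLt
      simp only [Q, dif_pos hlt, decide_eq_true_eq]
      obtain ⟨h, hh, e⟩ := rep_reach k.val k.isLt
      have e' : h • ptO ⟨rep k.val, hlt⟩ = ptO k := Subtype.ext e
      refine ⟨fun hk => ?_, fun hk => e' ▸ hinv h hh _ hk⟩
      have := hinv h⁻¹ (inv_mem hh) _ hk
      rwa [← e', inv_smul_smul] at this
    have hQ0 : Q 0 = true := by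
      simp only [Q, dif_pos (show 0 < 7128 by norm_num), decide_eq_true_eq]
      exact hb
    have hP : ∀ k : ℕ, Q (rep k) = (Nat.beq k 0 || (bif Nat.blt k 253 then Q 1 else bif Nat.blt k 3753 then Q 253 else
        bif Nat.blt k 4503 then Q 3753 else Q 4503)) := by
      intro k
      unfold rep
      cases hk : Nat.beq k 0 with
      | true => simp [hQ0]
      | false =>
        simp only [cond_false, Bool.false_or]
        cases Nat.blt k 253 <;> cases Nat.blt k 3753 <;> cases Nat.blt k 4503 <;> rfl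
    have hcard : B.ncard = unionCard (Q 1, Q 253, Q 3753, Q 4503) := by
      let s : Finset (Fin 7128) := Finset.univ.filter fun k => Q (rep k.val) = true
      have hB' : B = ptO '' (s : Set (Fin 7128)) := by
        ext x
        obtain ⟨k, rfl⟩ := ptO_surj x
        simp only [ptO_inj.mem_set_image, s, Finset.coe_filter, Finset.mem_univ, true_and, Set.mem_setOf_eq]
        exact hblock k
      rw [hB', Set.ncard_image_of_injective _ ptO_inj, Set.ncard_coe_finset, unionCard,
        List.countP_eq_length_filter, ← List.toFinset_card_of_nodup (List.nodup_range.filter _)]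
      refine Finset.card_bij (fun k _ => k.val) (fun k hk => ?_) (fun i _ j _ e => Fin.ext e) fun m hm => ?_
      · rw [List.mem_toFinset, List.mem_filter, List.mem_range, ← hP]
        exact ⟨k.isLt, (Finset.mem_filter.1 hk).2⟩
      · rw [List.mem_toFinset, List.mem_filter, List.mem_range, ← hP] at hm
        exact ⟨⟨m, hm.1⟩, Finset.mem_filter.2 ⟨Finset.mem_univ _, hm.2⟩, rfl⟩
    have hd := hB.ncard_dvd_card ⟨_, hb⟩
    rw [card_ptO, hcard] at hd
    rcases union_dvd _ _ _ _ hd with ⟨e1, e2, e3, e4⟩ | ⟨e1, e2, e3, e4⟩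
    · left
      have h1 : ∀ x ∈ B, x = base := fun x hx => by
        obtain ⟨k, rfl⟩ := ptO_surj x
        have h := (hblock k).1 hx
        rw [hP, e1, e2, e3, e4] at h
        have h0 : k.val = 0 := by
          refine Nat.eq_of_beq_eq_true ?_
          revert h
          cases Nat.beq k.val 0 <;> cases Nat.blt k.val 253 <;> cases Nat.blt k.val 3753 <;>
            cases Nat.blt k.val 4503 <;> simp
        exact congrArg ptO (Fin.ext h0)
      exact fun x hx y hy => (h1 x hx).trans (h1 y hy).symm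
    · right
      rw [Set.eq_univ_iff_forall]
      intro x
      obtain ⟨k, rfl⟩ := ptO_surj x
      rw [hblock k, hP, e1, e2, e3, e4]
      cases Nat.beq k.val 0 <;> cases Nat.blt k.val 253 <;> cases Nat.blt k.val 3753 <;>
        cases Nat.blt k.val 4503 <;> rfl
  refine { isTrivialBlock_of_isBlock := fun {B} hB => ?_ }
  rcases B.eq_empty_or_nonempty with rfl | ⟨b, hb⟩
  · exact Or.inl Set.subsingleton_empty
  obtain ⟨g, hg⟩ := htr b
  rcases key (g⁻¹ • B) (hB.translate g⁻¹) (Set.mem_smul_set.2 ⟨b, hb, by rw [← hg, inv_smul_smul]⟩) with h | h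
  · left
    intro x hx y hy
    have := h (Set.smul_mem_smul_set (a := g⁻¹) hx) (Set.smul_mem_smul_set (a := g⁻¹) hy)
    exact smul_left_cancel _ this
  · right
    rw [← smul_inv_smul g B, h, Set.smul_set_univ]

theorem smul_fix : ∀ (w : List ℕ) (x : ℕ), (∀ i ∈ w, i < 4) → rowOK 21 x = true → ∀ y : ℕ, rowOK 21 y = true →
    ∃ c ∈ HC, c • fv x = fv (mvW x w) ∧ rowOK 21 (mvW x w) = true ∧ c • fv y = fv (mvW y w)
  | [], x, _, hx, _, _ => ⟨1, one_mem _, one_smul _ _, hx, one_smul _ _⟩
  | i :: w, x, h, hx, y, hy => by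
    have hi := h i List.mem_cons_self
    obtain ⟨c, hc, e, ok, e'⟩ := smul_fix w (mv x (mats21.getD i [])) (fun j hj => h j (List.mem_cons_of_mem i hj))
      (rowOK_mv _ _) (mv y (mats21.getD i [])) (rowOK_mv _ _)
    refine ⟨c * (cg i)⁻¹, mul_mem hc (inv_mem (cg_HC hi)), ?_, ok, ?_⟩
    · rw [mul_smul, cg_inv_smul (by omega) hx, e]; rfl
    · rw [mul_smul, cg_inv_smul (by omega) hy, e']; rfl

/-- A lower bound from a list of images under a subgroup. -/
theorem card_mul_le {G α : Type*} [Group G] [Finite G] [MulAction G α] (S T : Subgroup G) (a : α) {n : ℕ}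
    (f : Fin n → α) (hf : Function.Injective f) (hS : ∀ i, ∃ s ∈ S, s • a = f i) (hT : T ≤ S)
    (hfix : ∀ t ∈ T, t • a = a) : n * Nat.card T ≤ Nat.card S := by
  choose s hs he using hS
  let φ : Fin n × T → S := fun z => ⟨s z.1 * z.2, mul_mem (hs _) (hT z.2.2)⟩
  have hφ : Function.Injective φ := by
    rintro ⟨i, t⟩ ⟨j, u⟩ e
    have e' : s i * (t : G) = s j * (u : G) := congrArg Subtype.val e
    have e2 := congrArg (fun g => g • a) e'
    simp only [mul_smul, hfix _ t.2, hfix _ u.2, he] at e2
    obtain rfl : i = j := hf e2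
    simp only [mul_right_inj] at e'
    exact Prod.ext rfl (Subtype.ext e')
  have := Nat.card_le_card_of_injective φ hφ
  rwa [Nat.card_prod, Nat.card_eq_fintype_card (α := Fin n), Fintype.card_fin] at this

theorem x_mem : xL ∈ CL := Subgroup.mem_centralizer_singleton_iff.2 rfl

theorem mats_x : matsL.getD 6 [] = idMat 21 := by decide +kernel

theorem x_fix {k : ℕ} (hk : k < 7128) : Matrix.vecMul (pt k) (rM xL) = pt k := by
  have hr := (pt_data hk).1
  rw [← cgen_x, rM, pt, fv_move (by norm_num) hr, mats_x]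
  refine congrArg fv (rowVec_inj (rowOK_red 21 _) hr ?_)
  rw [rowVec_comb (by norm_num) (by simp [idMat]) hr (by
    have := matOK_idMat 21
    simp only [matOK, Bool.and_eq_true] at this
    exact this.2)]
  rw [rowsMat_sq, toMat_idMat, Matrix.vecMul_one]

theorem x_in_ker : (⟨xL, x_mem⟩ : CL) ∈ toPerm.ker := by
  rw [MonoidHom.mem_ker]
  refine Equiv.ext fun p => ?_
  obtain ⟨k, rfl⟩ := ptO_surj p
  refine Subtype.ext ?_
  show Matrix.vecMul (pt k.val) (rM xL⁻¹) = pt k.val
  conv_lhs => rw [← x_fix k.isLt]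
  rw [Matrix.vecMul_vecMul, ← rM_mul, mul_inv_cancel, rM_one, Matrix.vecMul_one]

theorem basePts_lt : basePts.getD 1 0 < 7128 := base_ok.2.2.2.2.2.2.2.1

theorem ker_le_three : Nat.card toPerm.ker ≤ 3 := by
  haveI := finite_Ly
  obtain ⟨-, -, -, hw, hwo, hnd, hlen, -⟩ := base_ok
  set p1 := pt 253
  set j2 := basePts.getD 1 0
  let T1 : Subgroup CL := HC ⊓ stabilizer CL p1
  have hkerfix : ∀ c ∈ toPerm.ker, ∀ k < 7128, c • pt k = pt k := fun c hc k hk => by
    have h := MonoidHom.mem_ker.1 hc
    rw [toPerm] at h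
    have e : c • ptO ⟨k, hk⟩ = ptO ⟨k, hk⟩ := by rw [← toPerm_apply, h, Equiv.Perm.one_apply]
    rw [← smul_ptO c ⟨k, hk⟩, e]
    rfl
  have h1 : 36 * Nat.card toPerm.ker ≤ Nat.card T1 := by
    let f : Fin 36 → (Fin 111 → ZMod 5) := fun i =>
      fv (mvW (cd j2) ((twoOrbit.getD i.val []).flatMap fun a => twoWords.getD a []))
    have htw : ∀ w ∈ twoWords, (∀ i ∈ w, i < 4) ∧ mvW (cd 0) w = cd 0 ∧ mvW (cd 253) w = cd 253 := by
      intro w hw'
      have h := List.all_eq_true.1 hw w hw'
      simp only [Bool.and_eq_true, List.all_eq_true, Nat.blt_eq, beq_iff_eq] at h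
      exact ⟨h.1.1, by rw [cd_def]; exact h.1.2, by rw [cd_def]; exact h.2⟩
    have hel : ∀ (W : List ℕ), (∀ a ∈ W, a < twoWords.length) → ∀ x, rowOK 21 x = true →
        ∃ c ∈ T1, c • fv x = fv (mvW x (W.flatMap fun a => twoWords.getD a [])) := by
      intro W
      induction W with
      | nil => intro _ x _; exact ⟨1, one_mem _, one_smul _ _⟩
      | cons a W ih =>
        intro h x hx
        have ha := h a List.mem_cons_self
        obtain ⟨h4, e0, e1⟩ := htw (twoWords.getD a []) (by
          rw [List.getD_eq_getElem _ _ ha]; exact List.getElem_mem ha)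
        obtain ⟨g, hg, hgx, okx, hg1⟩ := smul_fix _ x h4 hx (cd 253) (pt_data (by norm_num)).1
        rw [e1] at hg1
        obtain ⟨c', hc', ec'⟩ := ih (fun b hb => h b (List.mem_cons_of_mem a hb)) (mvW x (twoWords.getD a [])) okx
        refine ⟨c' * g, mul_mem hc' ⟨hg, hg1⟩, ?_⟩
        rw [mul_smul, hgx, ec', List.flatMap_cons, mvW, mvW, mvW, List.foldl_append]
    refine card_mul_le T1 toPerm.ker (pt j2) f ?_ (fun i => ?_) (fun c hc => ⟨?_, hkerfix c hc 253 (by norm_num)⟩)
      fun c hc => hkerfix c hc j2 basePts_lt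
    · intro i j e
      have hi : i.val < twoOrbit.length := hlen.symm ▸ i.isLt
      have hj : j.val < twoOrbit.length := hlen.symm ▸ j.isLt
      have ok : ∀ w x, rowOK 21 x = true → rowOK 21 (mvW x w) = true := by
        intro w
        induction w with
        | nil => intro x hx; exact hx
        | cons b w ih => intro x _; exact ih _ (rowOK_mv _ _)
      have e' := fv_inj (ok _ _ (pt_data basePts_lt).1) (ok _ _ (pt_data basePts_lt).1) e
      rw [List.getD_eq_getElem _ _ hi, List.getD_eq_getElem _ _ hj] at e'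
      rw [cd_def] at e'
      exact Fin.ext ((List.Nodup.getElem_inj_iff (List.Nodup.of_map _ hnd)).1
        (List.inj_on_of_nodup_map hnd (List.getElem_mem hi) (List.getElem_mem hj) e'))
    · obtain ⟨c, hc, e⟩ := hel (twoOrbit.getD i.val []) (fun a ha => by
        rw [List.getD_eq_getElem _ _ (hlen.symm ▸ i.isLt)] at ha
        simpa [Nat.blt_eq] using List.all_eq_true.1 (List.all_eq_true.1 hwo _ (List.getElem_mem _)) a ha)
        (cd j2) (pt_data basePts_lt).1
      exact ⟨c, hc, e⟩
    · exact counts.2.2 ▸ mem_stabilizer_iff.2 (hkerfix c hc 0 (by norm_num))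
  have h2 : 3500 * Nat.card T1 ≤ Nat.card HC := by
    refine card_mul_le HC T1 p1 (fun i : Fin 3500 => pt (253 + i.val)) (fun i j e => ?_) (fun i => ?_) inf_le_left
      fun c hc => hc.2
    · exact Fin.ext (by have := pt_inj _ (by omega) _ (by omega) e; omega)
    · obtain ⟨h, hh, e⟩ := rep_reach (253 + i.val) (by omega)
      refine ⟨h, hh, ?_⟩
      have hrep : rep (253 + i.val) = 253 := by
        have hi := i.isLt
        unfold rep
        rw [show Nat.beq (253 + i.val) 0 = false from Bool.eq_false_iff.2 fun h => by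
          have := Nat.eq_of_beq_eq_true h; omega,
          show Nat.blt (253 + i.val) 253 = false from Bool.eq_false_iff.2 fun h => by
            rw [Nat.blt_eq] at h; omega,
          show Nat.blt (253 + i.val) 3753 = true by rw [Nat.blt_eq]; omega]
        rfl
      rw [hrep] at e
      exact e
  rw [card_HC] at h2
  omega

end Cfsg.Lib.LyCent
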