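import Cfsg.Agent.LyPres.Simple
import Cfsg.Agent.Simplicity.PrimeCriterion
import Cfsg.Agent.LyCent.Prim

/-!
The centralizer of the element of order three modulo its centre is simple of order 898128000.
-/

set_option autoImplicit false
set_option maxRecDepth 100000
set_option maxHeartbeats 400000
set_option Elab.async false

namespace Cfsg.Lib.LyCent

open Cfsg.Spor Cfsg.Lib.LyPres MulAction

attribute [local irreducible] rho111 fv basis21 ptsL red comb ptAt

theorem elev_facts : matOK 21 (elev21.getD 0 []) = true ∧ elev21.length = 3 ∧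
    ((List.range 3).all fun i => matsL.getD (7 + i) [] == elev21.getD i []) = true := by decide +kernel

theorem mpow_toMat {A : List ℕ} (hA : matOK 21 A = true) :
    ∀ n : ℕ, matOK 21 (mpow 21 A n) = true ∧ toMat 21 (mpow 21 A n) = toMat 21 A ^ n
  | 0 => ⟨matOK_idMat 21, by rw [pow_zero]; exact toMat_idMat 21⟩
  | n + 1 => by
    obtain ⟨h1, h2⟩ := mpow_toMat hA n
    exact ⟨matOK_mmul h1, by rw [pow_succ, ← h2]; exact toMat_mmul (by norm_num) h1 hA⟩

theorem move_pow {g : ℕ} (hg : g < 10) : ∀ n : ℕ, Bm * rM (cgen g ^ n) = Rm g ^ n * Bm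
  | 0 => by rw [pow_zero, pow_zero, rM_one, Matrix.mul_one, Matrix.one_mul]
  | n + 1 => by
    have h1 : Bm * rM (cgen g) = Rm g * Bm := basis_move hg
    rw [pow_succ', rM_mul, ← Matrix.mul_assoc, h1, Matrix.mul_assoc, move_pow hg n, ← Matrix.mul_assoc, ← pow_succ']

/-- An element of order eleven modulo the kernel, as an element of the centralizer. -/
def eg (i : ℕ) : CL := if hi : i < 3 then ⟨cgen (7 + i), by
  rw [cgen_c hi]
  exact mul_mem (toLy_mem (HF_le_cent (c_mem hi))) z_mem⟩ else 1

theorem eg_val {i : ℕ} (hi : i < 3) : (eg i : Spor.Ly) = toLy (wval fgen (cWords.getD i [])) * zL := by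
  rw [eg, dif_pos hi]
  exact cgen_c hi

theorem eg_pow {i : ℕ} (hi : i < 3) : toPerm (eg i ^ 11) = 1 := by
  refine Equiv.ext fun p => ?_
  obtain ⟨k, rfl⟩ := ptO_surj p
  obtain ⟨-, hl, he⟩ := elev_facts
  have he' := List.all_eq_true.1 he i (List.mem_range.2 hi)
  rw [beq_iff_eq] at he'
  have h11 : Rm (7 + i) ^ 11 = 1 := by
    have hp := List.all_eq_true.1 base_ok.2.2.2.2.2.2.2.2 (mpow 21 (elev21.getD i []) 11 == idMat 21)
      (List.mem_map.2 ⟨_, by rw [List.getD_eq_getElem _ _ (hl.symm ▸ hi)]; exact List.getElem_mem _, rfl⟩)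
    simp only [id, beq_iff_eq] at hp
    have hok : matOK 21 (elev21.getD i []) = true := he' ▸ mat21_ok (by omega)
    rw [Rm, he', ← (mpow_toMat hok 11).2, hp, toMat_idMat]
  have hfix : Matrix.vecMul (pt k.val) (rM (cgen (7 + i) ^ 11)) = pt k.val := by
    rw [pt, fv, Matrix.vecMul_vecMul, move_pow (by omega), h11, Matrix.one_mul]
  show eg i ^ 11 • ptO k = ptO k
  refine Subtype.ext ?_
  show Matrix.vecMul (pt k.val) (rM ((eg i ^ 11 : CL) : Spor.Ly)⁻¹) = pt k.val
  conv_lhs => rw [← hfix]
  rw [Matrix.vecMul_vecMul, ← rM_mul, Subgroup.coe_pow, eg, dif_pos hi, mul_inv_cancel, rM_one, Matrix.vecMul_one]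

/-- The subgroup generated by the elements of exponent eleven. -/
def TG : Subgroup RG := Subgroup.closure {g : RG | g ^ 11 = 1}

/-- The map onto the induced group. -/
def toRG : CL →* RG := toPerm.rangeRestrict

theorem eg_TG {i : ℕ} (hi : i < 3) : eg i ∈ TG.comap toRG := by
  refine Subgroup.subset_closure ?_
  show toRG (eg i) ^ 11 = 1
  rw [← map_pow]
  exact Subtype.ext (eg_pow hi)

theorem gen_top : TG = ⊤ := by
  obtain ⟨-, -, -, -, -, h0, h2, h1, h3, -, hl, -⟩ := cgen_words
  set T := TG.comap toRG with hT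
  have hc : ∀ i, i = 1 ∨ i = 2 → ∀ g, g < 4 → hWords.getD g [] = cWords.getD i [] ++ winv (cWords.getD 0 []) →
      cg g ∈ T := by
    intro i hi g hg he
    have e : cg g = eg i * (eg 0)⁻¹ := Subtype.ext (by
      rw [cg_val (by omega), cgen_h hg, hgen, he, wval_append, wval_winv, map_mul, map_inv, Subgroup.coe_mul,
        Subgroup.coe_inv, eg_val (by omega), eg_val (by omega)]
      group)
    rw [e]
    exact mul_mem (eg_TG (by omega)) (inv_mem (eg_TG (by norm_num)))
  have g0 : cg 0 ∈ T := hc 1 (Or.inl rfl) 0 (by norm_num) h0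
  have g2 : cg 2 ∈ T := hc 2 (Or.inr rfl) 2 (by norm_num) h2
  have gi : ∀ g g', g < 4 → g' < 4 → hWords.getD g' [] = winv (hWords.getD g []) → cg g' = (cg g)⁻¹ := by
    intro g g' hg hg' he
    exact Subtype.ext (by
      rw [Subgroup.coe_inv, cg_val (by omega), cg_val (by omega), cgen_h hg, cgen_h hg', hgen, hgen, he, wval_winv,
        map_inv])
  have g4 : ∀ g < 4, cg g ∈ T := by
    intro g hg
    rcases (show g = 0 ∨ g = 1 ∨ g = 2 ∨ g = 3 by omega) with rfl | rfl | rfl | rfl
    · exact g0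
    · rw [gi 0 1 (by norm_num) (by norm_num) h1]; exact inv_mem g0
    · exact g2
    · rw [gi 2 3 (by norm_num) (by norm_num) h3]; exact inv_mem g2
  have hH : ∀ a ∈ HF, ∃ c ∈ T, (c : Spor.Ly) = toLy a := by
    intro a ha
    induction ha using Subgroup.closure_induction with
    | mem x hx =>
      obtain ⟨g, hg, rfl⟩ := hx
      exact ⟨cg g, g4 g hg, by rw [cg_val (by omega), cgen_h hg]⟩
    | one => exact ⟨1, one_mem _, by rw [map_one]; rfl⟩
    | mul x y _ _ hx hy =>
      obtain ⟨c, hc, e⟩ := hx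
      obtain ⟨d, hd, e'⟩ := hy
      exact ⟨c * d, mul_mem hc hd, by rw [Subgroup.coe_mul, e, e', map_mul]⟩
    | inv x _ hx =>
      obtain ⟨c, hc, e⟩ := hx
      exact ⟨c⁻¹, inv_mem hc, by rw [Subgroup.coe_inv, e, map_inv]⟩
  obtain ⟨c0, hc0, e0⟩ := hH _ (c_mem (show 0 < 3 by norm_num))
  have gz : cg 4 ∈ T := by
    have e : cg 4 = c0⁻¹ * eg 0 := Subtype.ext (by
      rw [cg_val (by norm_num), cgen_z.1, Subgroup.coe_mul, Subgroup.coe_inv, e0, eg_val (by norm_num),
        inv_mul_cancel_left])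
    rw [e]
    exact mul_mem (inv_mem hc0) (eg_TG (by norm_num))
  have gz' : cg 5 ∈ T := by
    have e : cg 5 = (cg 4)⁻¹ := Subtype.ext (by
      rw [Subgroup.coe_inv, cg_val (by norm_num), cg_val (by norm_num), cgen_z.1, cgen_z.2])
    rw [e]
    exact inv_mem gz
  have hCG : CG ≤ T := by
    refine (Subgroup.closure_le _).2 ?_
    rintro _ ⟨g, hg, rfl⟩
    rcases Nat.lt_or_ge g 4 with h | h
    · exact g4 g h
    · rcases (show g = 4 ∨ g = 5 by omega) with rfl | rfl
      exacts [gz, gz']
  rw [eq_top_iff]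
  rintro r -
  obtain ⟨c, rfl⟩ := MonoidHom.rangeRestrict_surjective toPerm r
  exact hCG (CG_top ▸ Subgroup.mem_top c)

theorem ker_card : Nat.card toPerm.ker = 3 ∧ Subgroup.zpowers (⟨xL, x_mem⟩ : CL) = toPerm.ker ∧
    Nat.card RG = 898128000 := by
  haveI := finite_Ly
  have ho : orderOf (⟨xL, x_mem⟩ : CL) = 3 := by
    rw [← orderOf_injective CL.subtype Subtype.val_injective]
    show orderOf xL = 3
    rw [xL, orderOf_injective toLy toLy_injective, orderOf_x0]
  have hle : Subgroup.zpowers (⟨xL, x_mem⟩ : CL) ≤ toPerm.ker := by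
    rw [Subgroup.zpowers_le]
    exact x_in_ker
  have h3 : Nat.card (Subgroup.zpowers (⟨xL, x_mem⟩ : CL)) = 3 := by rw [Nat.card_zpowers, ho]
  have e := Subgroup.eq_of_le_of_card_ge hle (by rw [h3]; exact ker_le_three)
  have hk : Nat.card toPerm.ker = 3 := by rw [← e, h3]
  refine ⟨hk, e, ?_⟩
  have h := Subgroup.card_mul_index toPerm.ker
  rw [Subgroup.index_ker, hk, counts.1] at h
  show Nat.card toPerm.range = _
  omega

theorem simple_RG : IsSimpleGroup RG := by
  haveI := pts_finite
  haveI := primitive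
  haveI : Nonempty Pts := ⟨base⟩
  haveI : Nontrivial RG := Finite.one_lt_card_iff_nontrivial.1 (by rw [ker_card.2.2]; norm_num)
  exact Cfsg.Lib.Simplicity.isSimpleGroup_of_prime_degree_divisor (α := Pts) (p := 11) (by norm_num)
    (by rw [card_ptO]; norm_num) (by rw [ker_card.2.2]; norm_num) gen_top

theorem center_eq_ker : Subgroup.center CL = toPerm.ker := by
  haveI := simple_RG
  haveI := pts_finite
  apply le_antisymm
  · intro c hc
    have h1 : toRG c ∈ Subgroup.center RG := Subgroup.mem_center_iff.2 fun r => by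
      obtain ⟨d, rfl⟩ := MonoidHom.rangeRestrict_surjective toPerm r
      show toRG d * toRG c = toRG c * toRG d
      rw [← map_mul, ← map_mul, Subgroup.mem_center_iff.1 hc d]
    rcases (inferInstance : (Subgroup.center RG).Normal).eq_bot_or_eq_top with h | h
    · rw [h, Subgroup.mem_bot] at h1
      rw [← MonoidHom.mem_ker, toRG, MonoidHom.ker_rangeRestrict] at h1
      exact h1
    · exfalso
      letI : CommGroup RG := { (inferInstance : Group RG) with
        mul_comm := fun a b => Subgroup.mem_center_iff.1 (h ▸ Subgroup.mem_top b) a }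
      have := IsSimpleGroup.prime_card (α := RG)
      rw [ker_card.2.2] at this
      norm_num at this
  · rw [← ker_card.2.1, Subgroup.zpowers_le, Subgroup.mem_center_iff]
    intro c
    exact Subtype.ext (Subgroup.mem_centralizer_singleton_iff.1 c.2)

/-- The statement for the presented Lyons group. -/
theorem lyons_cent : orderOf xL = 3 ∧ Nat.card (Subgroup.center CL) = 3 ∧ Cfsg.IsMcL (CL ⧸ Subgroup.center CL) := by
  refine ⟨by rw [xL, orderOf_injective toLy toLy_injective, orderOf_x0], by rw [center_eq_ker]; exact ker_card.1, ?_⟩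
  let e : CL ⧸ Subgroup.center CL ≃* RG :=
    (QuotientGroup.quotientMulEquivOfEq center_eq_ker).trans (QuotientGroup.quotientKerEquivRange toPerm)
  haveI := simple_RG
  haveI : Nontrivial (CL ⧸ Subgroup.center CL) := e.toEquiv.nontrivial
  exact ⟨IsSimpleGroup.isSimpleGroup_of_surjective e.symm.toMonoidHom e.symm.surjective,
    (Nat.card_congr e.toEquiv).trans ker_card.2.2⟩

end Cfsg.Lib.LyCent
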