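import Cfsg.Agent.LyCent.NodeDef

/-!
The lists at the first coset and their candidates.
-/

set_option autoImplicit false
set_option maxRecDepth 100000
set_option maxHeartbeats 4000000
set_option Elab.async false

namespace Cfsg.Lib.LyCent

open Cfsg.Spor Cfsg.Lib.LyPres

theorem one_words : reps1.all (fun w => w.all fun i => Nat.blt i cov1.gens.length) = true ∧
    k1Words.all (fun w => w.all fun i => Nat.blt i cov1.gens.length) = true ∧ reps1.length = 96 ∧
    ((repMats.map frameOf).Nodup) ∧
    (repMats.all fun R => mmul 7 frameP (frameOf R) == frameOf R) = true ∧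
    (repMats.all fun R => mmul 7 frameP (mmul 7 R (frameOf R)) == mmul 7 R (frameOf R)) = true ∧
    k1Words.map (tmat (gensAt cov1)) = cMats ∧ repMats.getD 0 [] = idMat 7 ∧ threeReps.length = 8 := by
  decide +kernel

theorem cube_hits : ((List.range 96).all fun k => !cubeFix k || Nat.beq k 0 || (threeReps.map Prod.fst).contains k) =
    true := by
  decide +kernel

theorem three_ok : threeReps.all threeOK = true := by decide +kernel

end Cfsg.Lib.LyCent
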