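import Cfsg.Agent.LyCent.NodeDef

/-!
The lists at the small stabilisers are complete and have few candidates.
-/

set_option autoImplicit false
set_option maxRecDepth 100000
set_option maxHeartbeats 4000000
set_option Elab.async false

namespace Cfsg.Lib.LyCent

open Cfsg.Spor Cfsg.Lib.LyPres

theorem list6 : facOK cov6 fac6 = true ∧ (listAt cov6 fac6).length = 6048 ∧
    distinctL ((listAt cov6 fac6).map (sepCode sep6)) 0 = true := by decide +kernel

theorem count6 : Nat.ble ((listAt cov6 fac6).countP goodM) 56 = true := by decide +kernel

theorem list9 : facOK cov9 fac9 = true ∧ (listAt cov9 fac9).length = 2880 ∧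
    distinctL ((listAt cov9 fac9).map (sepCode sep9)) 0 = true := by decide +kernel

theorem count9 : Nat.ble ((listAt cov9 fac9).countP goodM) 20 = true := by decide +kernel

theorem list12 : facOK cov12 fac12 = true ∧ (listAt cov12 fac12).length = 1008 ∧
    distinctL ((listAt cov12 fac12).map (sepCode sep12)) 0 = true := by decide +kernel

theorem count12 : Nat.ble ((listAt cov12 fac12).countP goodM) 2 = true := by decide +kernel

end Cfsg.Lib.LyCent
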