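import Cfsg.Agent.LyPres.InvolCent
import Cfsg.Agent.LyCent.NodeSmallCheck
import Cfsg.Agent.LyCent.NodeOneCheck

/-!
The numbers of candidates for conjugates of the element of order three in the stabilisers of the numbered cosets.
-/

set_option autoImplicit false
set_option maxRecDepth 100000
set_option maxHeartbeats 4000000
set_option Elab.async false

namespace Cfsg.Lib.LyCent

open Cfsg.Spor Cfsg.Lib.LyPres

theorem good_small (N : NodeCov) (fs : List (List (List ℕ))) (v : List ℕ) {len c : ℕ}
    (hf : N.factsOK live5 = true) (hL : facOK N fs = true ∧ (listAt N fs).length = len ∧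
      distinctL ((listAt N fs).map (sepCode v)) 0 = true)
    (hc : Nat.ble ((listAt N fs).countP goodM) c = true) (hcard : Nat.card (stabN N.node) = len) :
    Nat.card {s : stabN N.node // IsGood (s : F)} ≤ c := by
  haveI := card_F.1
  obtain ⟨hok, hlen, hd⟩ := hL
  have hmem : ∀ M ∈ listAt N fs, ∃ a ∈ stabN N.node, El M a := by
    refine prodL_mem _ fun f hf' A hA => ?_
    obtain ⟨f0, hf0, rfl⟩ := List.mem_map.1 hf'
    obtain ⟨w, hw, rfl⟩ := List.mem_map.1 hA
    refine tmat_mem (c := N.gens.length) (fun g hg => stab_gens hf hg) w fun i hi => ?_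
    simpa [Nat.blt_eq] using List.all_eq_true.1 (List.all_eq_true.1 (List.all_eq_true.1 hok _ hf0) _ hw) i hi
  refine (card_good_le _ (listAt N fs) fun s hs _ => ?_).trans (Nat.le_of_ble_eq_true hc)
  exact all_listed hmem _ (distinctL_sound _ _ hd).1 (by rw [hcard, hlen]) s hs

theorem cMats_el : ∀ C ∈ cMats, ∃ a ∈ Qc, El C a := by
  intro C hC
  simp only [cMats, List.mem_cons, List.not_mem_nil, or_false] at hC
  have key : ∀ k ∈ cSet, ∃ a ∈ Qc, El (m7 [2 * k]) a := fun k hk => by
    refine ⟨fgen k, Subgroup.subset_closure ⟨k, hk, rfl⟩, ?_⟩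
    have h := El.word [2 * k] (by
      simp only [cSet, List.mem_cons, List.not_mem_nil, or_false] at hk
      rcases hk with rfl | rfl | rfl | rfl | rfl <;> decide)
    simpa [wval] using h
  rcases hC with rfl | rfl | rfl | rfl | rfl
  · exact key 2 (by decide)
  · exact key 5 (by decide)
  · exact key 6 (by decide)
  · exact key 7 (by decide)
  · exact key 8 (by decide)

theorem expMat_el : ∀ (cs : List (List ℕ)) (es : List ℕ), (∀ C ∈ cs, ∃ a ∈ Qc, El C a) →
    ∃ a ∈ Qc, El (expMat cs es) a
  | [], _, _ => ⟨1, one_mem _, El.one⟩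
  | _ :: _, [], _ => ⟨1, one_mem _, El.one⟩
  | c :: cs, e :: es, h => by
    obtain ⟨a, ha, hA⟩ := h c List.mem_cons_self
    obtain ⟨b, hb, hB⟩ := expMat_el cs es fun C hC => h C (List.mem_cons_of_mem c hC)
    have hp : ∀ m : ℕ, El (mpow 7 c m) (a ^ m) := fun m => by
      induction m with
      | zero => rw [pow_zero]; exact El.one
      | succ m ih => rw [pow_succ]; exact ih.mul hA
    exact ⟨a ^ e * b, mul_mem (pow_mem ha e) hb, (hp e).mul hB⟩

theorem card_Qc : Nat.card Qc = 3125 := by
  haveI := card_F.1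
  exact le_antisymm (Fx_eq ▸ card_Fx) card_Qc_ge

/-- The elements fixing the frame fix every matrix in its plane. -/
theorem qc_plane {q : F} (hq : q ∈ Qc) {X : List ℕ} (hX : matOK 7 X = true) (hP : mmul 7 frameP X = X) :
    img q (toMat 7 X) = toMat 7 X := by
  have hfix : img q (toMat 7 frameP) = toMat 7 frameP := Qc_le_Fx hq
  have hP' : toMat 7 X = toMat 7 frameP * toMat 7 X := by
    rw [← toMat_mmul (by norm_num) (by decide) hX, hP]
  conv_lhs => rw [hP', img, ← Matrix.mul_assoc, ← img, hfix]
  exact hP'.symm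

theorem fx_of_frame {g : F} (h : img g (toMat 7 frameP) = toMat 7 frameP) : g ∈ Qc := Fx_eq ▸ (h : g ∈ Fx)

theorem tr7_one : tr7 (idMat 7) = 2 := by decide +kernel

/-- An element of order three fixing the frame up to a representative of order three is conjugate to it by an
element fixing the frame; so there are at most twenty-five. -/
theorem coset_good {p : ℕ × List (List ℕ)} (hp : threeOK p = true) {y : F} (hy : El (repMats.getD p.1 []) y) :
    Nat.card {q : Qc // IsGood (y * (q : F))} ≤ 25 := by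
  classical
  haveI := card_F.1
  obtain ⟨-, -, -, -, hplane, hplane2, -⟩ := one_words
  simp only [threeOK, Bool.and_eq_true, beq_iff_eq, Nat.blt_eq, List.all_eq_true] at hp
  obtain ⟨⟨⟨⟨hlt, h3⟩, hlen⟩, hcomm⟩, hd⟩ := hp
  set R := repMats.getD p.1 [] with hR
  have hRm : R ∈ repMats := by
    have h96 : p.1 < repMats.length := by rw [repMats, List.length_map, one_words.2.2.1]; exact hlt
    rw [hR, List.getD_eq_getElem _ _ h96]
    exact List.getElem_mem h96
  have hy3 : y * (y * y) = 1 := El.unique (hy.mul (hy.mul hy)) (h3 ▸ El.one)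
  have hyinv : y⁻¹ = y * y := inv_eq_of_mul_eq_one_right hy3
  set X1 := frameOf R
  set X2 := mmul 7 R X1
  have ok1 : matOK 7 X1 = true := matOK_mmul hy.1
  have a1 : img y (toMat 7 frameP) = toMat 7 X1 := img_el hy (by decide)
  have a2 : img y (toMat 7 X1) = toMat 7 X2 := img_el hy ok1
  have a3 : img y (toMat 7 X2) = toMat 7 frameP := by
    rw [← a2, ← a1, ← img_mul, ← img_mul, mul_assoc, hy3, img_one]
  have hconj : ∀ q ∈ Qc, y * q * y⁻¹ ∈ Qc := fun q hq => fx_of_frame (by
    rw [hyinv, img_mul, img_mul, img_mul, a1, a2, qc_plane hq (matOK_mmul hy.1)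
      (beq_iff_eq.1 (List.all_eq_true.1 hplane2 _ hRm)), a3])
  let C : Subgroup Qc := (Subgroup.centralizer ({y} : Set F)).subgroupOf Qc
  have hC : 125 ≤ Nat.card C := by
    let S := Qc ⊓ Subgroup.centralizer ({y} : Set F)
    have hS : ∀ M ∈ centList p.2, ∃ a ∈ S, El M a := by
      refine prodL_mem _ fun f hf => ?_
      obtain ⟨e, he, rfl⟩ := List.mem_map.1 hf
      obtain ⟨a, ha, hA⟩ := expMat_el cMats e cMats_el
      refine pows_mem ⟨ha, Subgroup.mem_centralizer_singleton_iff.2 (El.unique (hA.mul hy) ?_)⟩ hA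
      rw [← hcomm e he]
      exact hy.mul hA
    choose f hf hE using hS
    have hnd := List.Nodup.of_map entCode (distinctL_sound _ _ hd).1
    let φ : Fin (centList p.2).length → C := fun i =>
      ⟨⟨f _ (List.getElem_mem i.isLt), (hf _ _).1⟩, (hf _ (List.getElem_mem i.isLt)).2⟩
    have hinj : Function.Injective φ := fun i j e => by
      have e' : f _ (List.getElem_mem i.isLt) = f _ (List.getElem_mem j.isLt) :=
        congrArg (fun c : C => ((c : Qc) : F)) e
      exact Fin.ext ((List.Nodup.getElem_inj_iff hnd).1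
        (El.eq_of (hE _ (List.getElem_mem i.isLt)) (e' ▸ hE _ (List.getElem_mem j.isLt))))
    have := Nat.card_le_card_of_injective φ hinj
    rwa [Nat.card_eq_fintype_card (α := Fin _), Fintype.card_fin, hlen] at this
  have hidx : Nat.card (Qc ⧸ C) ≤ 25 := by
    have h := C.card_mul_index
    rw [card_Qc] at h
    show C.index ≤ 25
    nlinarith
  have hex : ∀ z : {q : Qc // IsGood (y * (q : F))}, ∃ q : Qc, (q : F)⁻¹ * (y * (z.1 : F)) * q = y := by
    rintro ⟨q1, hg, -⟩
    haveI : Fact (Nat.Prime 3) := ⟨Nat.prime_three⟩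
    haveI : Fintype Qc := Fintype.ofFinite _
    set z := y * (q1 : F) with hz
    have hmem : ∀ q : Qc, z * q * y⁻¹ ∈ Qc := fun q => by
      rw [hz, mul_assoc y]
      exact hconj _ (mul_mem q1.2 q.2)
    let T : Qc → Qc := fun q => ⟨z * q * y⁻¹, hmem q⟩
    have hT : ∀ q, T (T (T q)) = q := fun q => Subtype.ext (by
      show z * (z * (z * q * y⁻¹) * y⁻¹) * y⁻¹ = (q : F)
      calc z * (z * (z * q * y⁻¹) * y⁻¹) * y⁻¹ = (z * (z * z)) * q * (y * (y * y))⁻¹ := by group
        _ = q := by rw [hg, hy3, one_mul, inv_one, mul_one])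
    let σ : Equiv.Perm Qc := ⟨T, fun q => T (T q), hT, hT⟩
    have hσ : σ ^ 3 ^ 1 = 1 := Equiv.ext fun q => hT q
    obtain ⟨q, hq⟩ := Equiv.Perm.exists_fixed_point_of_prime (p := 3) (σ := σ) (n := 1)
      (by rw [← Nat.card_eq_fintype_card, card_Qc]; norm_num) hσ
    refine ⟨q, ?_⟩
    have e : z * q * y⁻¹ = (q : F) := congrArg Subtype.val hq
    calc (q : F)⁻¹ * z * q = (q : F)⁻¹ * (z * q * y⁻¹) * y := by group
      _ = y := by rw [e, inv_mul_cancel, one_mul]
  choose c hc using hex
  have hinj : Function.Injective fun z => ((c z : Qc) : Qc ⧸ C) := by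
    intro z w e
    have hm : (c z)⁻¹ * c w ∈ C := QuotientGroup.eq.1 e
    have hm' := Subgroup.mem_centralizer_singleton_iff.1 (Subgroup.mem_subgroupOf.1 hm)
    simp only [Subgroup.coe_mul, Subgroup.coe_inv] at hm'
    have e2 : y * (z.1 : F) = y * (w.1 : F) := by
      calc y * (z.1 : F) = (c z : F) * ((c z : F)⁻¹ * (y * (z.1 : F)) * c z) * (c z : F)⁻¹ := by group
        _ = (c z : F) * (y * ((c z : F)⁻¹ * c w)) * (c w : F)⁻¹ := by rw [hc z]; group
        _ = (c w : F) * y * (c w : F)⁻¹ := by rw [← hm']; group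
        _ = (c w : F) * ((c w : F)⁻¹ * (y * (w.1 : F)) * c w) * (c w : F)⁻¹ := by rw [hc w]
        _ = y * (w.1 : F) := by group
    exact Subtype.ext (Subtype.ext (mul_left_cancel e2))
  exact (Nat.card_le_card_of_injective _ hinj).trans hidx

theorem good_one : Nat.card {s : stabN 1 // IsGood (s : F)} ≤ 200 := by
  classical
  haveI := card_F.1
  obtain ⟨hw, hk, hlen, hnd, hplane, hplane2, hkc, hzero, hlen8⟩ := one_words
  have hgen : ∀ g < cov1.gens.length, ∃ a ∈ stabN 1, El ((gensAt cov1).getD g []) a :=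
    fun g hg => live5_nodes.1 ▸ stab_gens cov1_facts hg
  have hwl : ∀ W : List (List ℕ), W.all (fun w => w.all fun i => Nat.blt i cov1.gens.length) = true →
      ∀ A ∈ W.map (tmat (gensAt cov1)), ∃ a ∈ stabN 1, El A a := by
    intro W hW A hA
    obtain ⟨w, hw', rfl⟩ := List.mem_map.1 hA
    exact tmat_mem (c := cov1.gens.length) hgen w fun i hi => by
      simpa [Nat.blt_eq] using List.all_eq_true.1 (List.all_eq_true.1 hW _ hw') i hi
  have hQle : Qc ≤ stabN 1 := by
    refine (Subgroup.closure_le _).2 ?_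
    rintro _ ⟨k, hk', rfl⟩
    have hC : m7 [2 * k] ∈ cMats := by
      simp only [cSet, List.mem_cons, List.not_mem_nil, or_false] at hk'
      rcases hk' with rfl | rfl | rfl | rfl | rfl <;> simp [cMats]
    obtain ⟨a, ha, hA⟩ := hwl k1Words hk _ (hkc.symm ▸ hC)
    have hE : El (m7 [2 * k]) (fgen k) := by
      have h := El.word [2 * k] (by
        simp only [cSet, List.mem_cons, List.not_mem_nil, or_false] at hk'
        rcases hk' with rfl | rfl | rfl | rfl | rfl <;> decide)
      simpa [wval] using h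
    rw [SetLike.mem_coe, El.unique hE hA]
    exact ha
  have hR : ∀ i : Fin 96, ∃ a ∈ stabN 1, El (repMats.getD i.val []) a := by
    intro i
    have h96 : i.val < repMats.length := by rw [repMats, List.length_map, hlen]; exact i.isLt
    rw [List.getD_eq_getElem _ _ h96]
    exact hwl reps1 hw _ (List.getElem_mem h96)
  choose r hrS hrE using hR
  have hmem : ∀ i : Fin 96, repMats.getD i.val [] ∈ repMats := fun i => by
    have h96 : i.val < repMats.length := by rw [repMats, List.length_map, hlen]; exact i.isLt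
    rw [List.getD_eq_getElem _ _ h96]
    exact List.getElem_mem h96
  have himg : ∀ (i : Fin 96) (q : Qc),
      img (r i * q) (toMat 7 frameP) = toMat 7 (frameOf (repMats.getD i.val [])) := fun i q => by
    rw [img_mul, qc_plane q.2 (by decide) (by decide +kernel), img_el (hrE i) (by decide)]
    rfl
  let φ : Fin 96 × Qc → stabN 1 := fun z => ⟨r z.1 * z.2, mul_mem (hrS _) (hQle z.2.2)⟩
  have hinj : Function.Injective φ := by
    rintro ⟨i, q⟩ ⟨j, u⟩ e
    have e' := congrArg Subtype.val e
    have e1 := congrArg (fun g => img g (toMat 7 frameP)) e'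
    simp only [φ, himg] at e1
    have e2 := toMat_inj (matOK_mmul (hrE i).1) (matOK_mmul (hrE j).1) e1
    have hi : i.val < repMats.length := by rw [repMats, List.length_map, hlen]; exact i.isLt
    have hj : j.val < repMats.length := by rw [repMats, List.length_map, hlen]; exact j.isLt
    rw [List.getD_eq_getElem _ _ hi, List.getD_eq_getElem _ _ hj] at e2
    have hij : i = j := Fin.ext (List.inj_on_of_nodup_map hnd (List.getElem_mem hi) (List.getElem_mem hj) e2 |>
      (List.Nodup.getElem_inj_iff (List.Nodup.of_map _ hnd)).1)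
    subst hij
    simp only [φ, mul_right_inj] at e'
    rw [Subtype.ext e']
  have hbij := (Nat.bijective_iff_injective_and_card φ).2 ⟨hinj, by
    rw [card_stab_exact 1 (by decide), Nat.card_prod, Nat.card_eq_fintype_card (α := Fin 96), Fintype.card_fin,
      card_Qc]
    rfl⟩
  have hhit : ∀ (i : Fin 96) (q : Qc), IsGood (r i * (q : F)) → ∃ t : Fin 8, (threeReps.getD t.val (0, [])).1 = i.val := by
    intro i q hg
    set s := r i * (q : F) with hs
    set R := repMats.getD i.val [] with hRdef
    set X1 := frameOf R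
    set X2 := mmul 7 R X1
    have ok1 : matOK 7 X1 = true := matOK_mmul (hrE i).1
    have ok2 : matOK 7 X2 = true := matOK_mmul (hrE i).1
    have a1 : img s (toMat 7 frameP) = toMat 7 X1 := himg i q
    have a2 : img s (toMat 7 X1) = toMat 7 X2 := by
      rw [hs, img_mul, qc_plane q.2 ok1 (beq_iff_eq.1 (List.all_eq_true.1 hplane _ (hmem i))), img_el (hrE i) ok1]
    have a3 : img s (toMat 7 X2) = toMat 7 (mmul 7 R X2) := by
      rw [hs, img_mul, qc_plane q.2 ok2 (beq_iff_eq.1 (List.all_eq_true.1 hplane2 _ (hmem i))), img_el (hrE i) ok2]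
    have e := congrArg (fun g => img g (toMat 7 frameP)) hg.1
    simp only [img_mul, img_one, a1, a2, a3] at e
    have hc : cubeFix i.val = true := by
      rw [cubeFix, beq_iff_eq]
      exact toMat_inj (matOK_mmul (hrE i).1) (by decide) e
    have h := List.all_eq_true.1 cube_hits i.val (List.mem_range.2 i.isLt)
    simp only [hc, Bool.not_true, Bool.false_or, Bool.or_eq_true, List.contains_iff_mem, List.mem_map] at h
    rcases h with h | ⟨p, hp, hp1⟩
    · exfalso
      have hi0 : i.val = 0 := Nat.eq_of_beq_eq_true h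
      have hr1 : r i = 1 := El.unique (hrE i) (by rw [hi0, hzero]; exact El.one)
      rw [hs, hr1, one_mul] at hg
      have hd1 : orderOf q ∣ 3125 := card_Qc ▸ orderOf_dvd_natCard q
      have hd3 : orderOf q ∣ 3 := orderOf_dvd_of_pow_eq_one (Subtype.ext (by
        rw [pow_three, Subgroup.coe_mul, Subgroup.coe_mul]; exact hg.1))
      have h1 : q = 1 := orderOf_eq_one_iff.1 (Nat.dvd_one.1 (by
        have h := Nat.dvd_gcd hd1 hd3
        rwa [show Nat.gcd 3125 3 = 1 by decide +kernel] at h))
      have htr := hg.2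
      rw [h1, Subgroup.coe_one, El.trace El.one, tr7_one] at htr
      exact absurd htr (by decide)
    · obtain ⟨t, ht, rfl⟩ := List.getElem_of_mem hp
      exact ⟨⟨t, hlen8 ▸ ht⟩, by rw [List.getD_eq_getElem _ _ ht]; exact hp1⟩
  have hlt : ∀ t : Fin 8, (threeReps.getD t.val (0, [])).1 < 96 ∧ threeOK (threeReps.getD t.val (0, [])) = true := by
    intro t
    have ht : t.val < threeReps.length := hlen8.symm ▸ t.isLt
    rw [List.getD_eq_getElem _ _ ht]
    have h := List.all_eq_true.1 three_ok _ (List.getElem_mem ht)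
    refine ⟨?_, h⟩
    simp only [threeOK, Bool.and_eq_true, Nat.blt_eq] at h
    exact h.1.1.1.1
  have hA : ∀ t : Fin 8, Nat.card {q : Qc // IsGood (r ⟨_, (hlt t).1⟩ * (q : F))} ≤ 25 := fun t =>
    coset_good (hlt t).2 (hrE ⟨_, (hlt t).1⟩)
  haveI : Fintype Qc := Fintype.ofFinite _
  let B := Σ t : Fin 8, {q : Qc // IsGood (r ⟨_, (hlt t).1⟩ * (q : F))}
  have hdec : ∀ s : {s : stabN 1 // IsGood (s : F)}, ∃ z : B, r ⟨_, (hlt z.1).1⟩ * (z.2.1 : F) = ((s.1 : stabN 1) : F) := by
    intro s
    obtain ⟨⟨i, q⟩, hz⟩ := hbij.2 s.1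
    have e : r i * (q : F) = ((s.1 : stabN 1) : F) := congrArg Subtype.val hz
    obtain ⟨t, ht⟩ := hhit i q (e.symm ▸ s.2)
    obtain rfl : (⟨_, (hlt t).1⟩ : Fin 96) = i := Fin.ext ht
    exact ⟨⟨t, q, e.symm ▸ s.2⟩, e⟩
  choose g hg using hdec
  have hinj2 : Function.Injective g := fun s t e => by
    apply Subtype.ext
    apply Subtype.ext
    rw [← hg s, ← hg t, e]
  refine (Nat.card_le_card_of_injective g hinj2).trans ?_
  rw [Nat.card_sigma]
  calc _ ≤ ∑ _t : Fin 8, 25 := Finset.sum_le_sum fun t _ => hA t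
    _ = 200 := by simp

/-- The bounds on the candidates. -/
def hB : ℕ → ℕ
  | 1 => 200
  | 6 => 56
  | 9 => 20
  | _ => 2

theorem card_good : ∀ n ∈ live5, n ≠ 0 → Nat.card {s : stabN n // IsGood (s : F)} ≤ hB n := by
  obtain ⟨h1, h6, h9, h12, -⟩ := live5_nodes
  intro n hn h0
  have hex := card_stab_exact n hn
  simp only [live5, List.mem_cons, List.not_mem_nil, or_false] at hn
  rcases hn with rfl | rfl | rfl | rfl | rfl
  · exact absurd rfl h0
  · exact good_one
  · have h := good_small cov6 fac6 sep6 cov6_facts list6 count6 (by rw [h6, hex]; rfl)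
    rw [h6] at h
    exact h
  · have h := good_small cov9 fac9 sep9 cov9_facts list9 count9 (by rw [h9, hex]; rfl)
    rw [h9] at h
    exact h
  · have h := good_small cov12 fac12 sep12 cov12_facts list12 count12 (by rw [h12, hex]; rfl)
    rw [h12] at h
    exact h

end Cfsg.Lib.LyCent
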