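import Cfsg.Agent.LyPres.Cov1Data
import Cfsg.Agent.LyPres.Cov6Data
import Cfsg.Agent.LyPres.Cov9Data
import Cfsg.Agent.LyPres.Cov12Data
import Cfsg.Agent.LyPres.OrbK1
import Cfsg.Agent.LyPres.Cosets
import Cfsg.Agent.LyCent.Lists

/-!
Lists of the elements of the stabilisers of the numbered cosets.
-/

set_option autoImplicit false
set_option maxRecDepth 100000
set_option maxHeartbeats 4000000
set_option Elab.async false

namespace Cfsg.Lib.LyCent

open Cfsg.Spor Cfsg.Lib.LyPres

/-- The matrices of the known generators of a stabiliser. -/
def gensAt (N : NodeCov) : List (List ℕ) := N.gens.map fun k => (crt.fact k).d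

/-- All elements of a stabiliser from a factorization. -/
def listAt (N : NodeCov) (fs : List (List (List ℕ))) : List (List ℕ) :=
  prodL (fs.map fun f => f.map (tmat (gensAt N)))

/-- The words are in the generators. -/
def facOK (N : NodeCov) (fs : List (List (List ℕ))) : Bool :=
  fs.all fun f => f.all fun w => w.all fun i => Nat.blt i N.gens.length

/-- The image of a vector under an element, as a number. -/
def sepCode (v M : List ℕ) : ℕ := colCode (mmul 7 M v)

/-- The representatives of the frames at the first coset. -/
def repMats : List (List ℕ) := reps1.map (tmat (gensAt cov1))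

/-- The code of an element fixing the frame. -/
def entCode (M : List ℕ) : ℕ := ent1.foldl (fun c p => 5 * c + fld (M.getD p.1 0) p.2) 0

/-- The frame of an element. -/
def frameOf (M : List ℕ) : List ℕ := mmul 7 M frameP

/-- The five elements fixing the frame. -/
def cMats : List (List ℕ) := [m7 [4], m7 [10], m7 [12], m7 [14], m7 [16]]

/-- The element fixing the frame with given exponents. -/
def expMat : List (List ℕ) → List ℕ → List ℕ
  | c :: cs, e :: es => mmul 7 (mpow 7 c e) (expMat cs es)
  | _, _ => idMat 7

/-- The elements fixing the frame that commute with a representative of order three. -/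
def centList (gs : List (List ℕ)) : List (List ℕ) := prodL (gs.map fun e => pows (expMat cMats e))

/-- The check of a representative of order three. -/
def threeOK (p : ℕ × List (List ℕ)) : Bool :=
  let R := repMats.getD p.1 []
  Nat.blt p.1 96 && (mmul 7 R (mmul 7 R R) == idMat 7) && ((centList p.2).length == 125) &&
    (p.2.all fun e => mmul 7 R (expMat cMats e) == mmul 7 (expMat cMats e) R) &&
    distinctL ((centList p.2).map entCode) 0

/-- The third power of a representative fixes the frame. -/
def cubeFix (k : ℕ) : Bool :=
  let R := repMats.getD k []
  mmul 7 R (mmul 7 R (frameOf R)) == frameP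

end Cfsg.Lib.LyCent
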