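import Cfsg.Agent.LyPres.Packed
import Cfsg.Agent.LyCent.RepData
import Cfsg.Agent.LyCent.PointBData

/-!
The points of the fixed space permuted by the centralizer, and what is checked of them.
-/

set_option autoImplicit false

namespace Cfsg.Lib.LyCent

open Cfsg.Lib.LyPres

/-- A point by number, with an earlier point and the generator leading to it. -/
def ptAt (k : ℕ) : ℕ × ℕ × ℕ := (ptsL.getD (k / 64) []).getD (k % 64) (0, 0, 0)

/-- The image of a point under a matrix. -/
def mv (x : ℕ) (A : List ℕ) : ℕ := red 21 (comb x A)

/-- The image under a word in the six generators. -/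
def mvW (x : ℕ) (w : List ℕ) : ℕ := w.foldl (fun v i => mv v (mats21.getD i [])) x

/-- The check of a point: it comes from an earlier one, and inside a suborbit by the first four generators from
the same suborbit. -/
def ptOK (k : ℕ) : Bool :=
  let p := ptAt k
  rowOK 21 p.1 && (Nat.beq k 0 || (Nat.blt p.2.1 k && Nat.blt p.2.2 6 &&
    mv (ptAt p.2.1).1 (mats21.getD p.2.2 []) == p.1 &&
    (blkStart.contains k || (Nat.blt p.2.2 4 && blkStart.all fun s => !Nat.ble s k || Nat.ble s p.2.1))))

/-- A range of points is checked. -/
def ptRange (lo n : ℕ) : Bool := (List.range' lo n).all ptOK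

/-- Increasing numbers. -/
def incr21 : List ℕ → Bool
  | a :: b :: l => Nat.blt a b && incr21 (b :: l)
  | _ => true

/-- The points differ. -/
def ptDistinct : Bool :=
  Nat.beq ptSort.length 7128 && ptSort.all (fun k => Nat.blt k 7128) && incr21 (ptSort.map fun k => (ptAt k).1)

theorem ptRange_cat {a b k c n : ℕ} (hk : a + b = k) (hn : b + c = n) (h1 : ptRange a b = true)
    (h2 : ptRange k c = true) : ptRange a n = true := by
  subst hk hn
  rw [ptRange] at *
  rw [← List.range'_append_1, List.all_append, h1, h2]
  rfl

end Cfsg.Lib.LyCent
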