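import Cfsg.Agent.LyCent.Node
import Cfsg.Agent.LyCent.Class

/-!
The element of order three fixes at most 7128 cosets of the subgroup on nine letters, so its centralizer has at
most 2694384000 elements.
-/

set_option autoImplicit false
set_option maxRecDepth 100000
set_option Elab.async false

namespace Cfsg.Lib.LyCent

open Cfsg.Spor Cfsg.Lib.LyPres

/-- The element of order three in the presented Lyons group. -/
def xL : Spor.Ly := toLy x0

theorem x0_good (a : F) : IsGood (a⁻¹ * x0 * a) := by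
  constructor
  · calc a⁻¹ * x0 * a * (a⁻¹ * x0 * a * (a⁻¹ * x0 * a)) = a⁻¹ * (x0 * (x0 * x0)) * a := by group
      _ = 1 := by rw [x0_cube, mul_one, inv_mul_cancel]
  · rw [map_mul, map_mul, map_inv, Units.val_mul, Units.val_mul, Matrix.trace_units_conj', El.trace x0_el,
      show tr7 xMat = 3 by decide +kernel]
    rfl

/-- The bound on the fixed cosets in an orbit. -/
def fixX : ℕ → ℕ
  | 0 => 1
  | 1 => 252
  | 6 => 3500
  | 9 => 2625
  | _ => 750

open Classical in
theorem fix_x [Fintype F] {n : ℕ} (hn : n ∈ live5) :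
    ((orb5 n).filter fun q => xL • q = q).card ≤ fixX n := by
  classical
  haveI := card_F.1
  rcases eq_or_ne n 0 with rfl | h0
  · refine (Finset.card_filter_le _ _).trans ?_
    exact (card_orb5 hn).trans (le_of_eq (by decide +kernel))
  set Q := (orb5 n).filter fun q => xL • q = q with hQ
  have hrep : ∀ q : Q, ∃ a : F, toLy a • qN n = (q : Spor.Ly ⧸ KL) := fun q => by
    obtain ⟨a, -, ha⟩ := Finset.mem_image.1 (Finset.mem_filter.1 q.2).1
    exact ⟨a, ha⟩
  choose r hr using hrep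
  have hst : ∀ s ∈ stabN n, toLy s • qN n = qN n := by
    intro s hs
    show ((toLy s * (crt.v n)⁻¹ : Spor.Ly) : Spor.Ly ⧸ KL) = (((crt.v n)⁻¹ : Spor.Ly) : Spor.Ly ⧸ KL)
    rw [QuotientGroup.eq]
    have : crt.v n * toLy s⁻¹ * (crt.v n)⁻¹ ∈ KL := (stabN n).inv_mem hs
    simpa [mul_assoc] using this
  have hmem : ∀ a : F, xL • (toLy a • qN n) = toLy a • qN n → a⁻¹ * x0 * a ∈ stabN n := by
    intro a ha
    rw [← inv_smul_eq_iff, smul_smul, smul_smul, show xL = toLy x0 from rfl, ← map_inv, ← map_mul, ← map_mul] at ha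
    have h2 : ((toLy (a⁻¹ * x0 * a) * (crt.v n)⁻¹ : Spor.Ly) : Spor.Ly ⧸ KL) = (((crt.v n)⁻¹ : Spor.Ly) : Spor.Ly ⧸ KL) :=
      (by simpa only [mul_assoc] using ha : toLy (a⁻¹ * x0 * a) • qN n = qN n)
    rw [QuotientGroup.eq] at h2
    have h3 : (a⁻¹ * x0 * a)⁻¹ ∈ stabN n := by
      show crt.v n * toLy (a⁻¹ * x0 * a)⁻¹ * (crt.v n)⁻¹ ∈ KL
      simpa [mul_assoc] using h2
    simpa using (stabN n).inv_mem h3
  have hfix : ∀ z : Q × stabN n, xL • (toLy (r z.1 * z.2) • qN n) = toLy (r z.1 * z.2) • qN n := by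
    intro z
    rw [map_mul, mul_smul, hst _ z.2.2, hr]
    exact (Finset.mem_filter.1 z.1.2).2
  let R := {s : stabN n // IsGood (s : F)}
  let u : Q × stabN n → R := fun z => ⟨⟨_, hmem _ (hfix z)⟩, x0_good _⟩
  let pick : R → F := fun s => if h : ∃ z, u z = s then r h.choose.1 * h.choose.2 else 1
  have hpick : ∀ z, (r z.1 * (z.2 : F)) * (pick (u z))⁻¹ ∈ Subgroup.centralizer ({x0} : Set F) := by
    intro z
    have h : ∃ z', u z' = u z := ⟨z, rfl⟩
    simp only [pick, dif_pos h]
    have e : (r h.choose.1 * (h.choose.2 : F))⁻¹ * x0 * (r h.choose.1 * (h.choose.2 : F)) =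
        (r z.1 * (z.2 : F))⁻¹ * x0 * (r z.1 * (z.2 : F)) := congrArg (fun s : R => ((s.1 : stabN n) : F)) h.choose_spec
    generalize r h.choose.1 * (h.choose.2 : F) = b at e ⊢
    generalize r z.1 * (z.2 : F) = a at e ⊢
    rw [Subgroup.mem_centralizer_singleton_iff]
    calc a * b⁻¹ * x0 = a * (b⁻¹ * x0 * b) * b⁻¹ := by group
      _ = x0 * (a * b⁻¹) := by rw [e]; group
  have hψ : Function.Injective fun z : Q × stabN n =>
      ((u z, ⟨_, hpick z⟩) : R × Subgroup.centralizer ({x0} : Set F)) := by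
    intro z w e
    simp only [Prod.mk.injEq, Subtype.mk.injEq] at e
    obtain ⟨eu, ec⟩ := e
    have eu' : u z = u w := eu
    have e2 : r z.1 * (z.2 : F) = r w.1 * (w.2 : F) := by
      have e3 : r z.1 * (z.2 : F) * (pick (u z))⁻¹ = r w.1 * (w.2 : F) * (pick (u w))⁻¹ := ec
      rw [eu'] at e3
      exact mul_right_cancel e3
    have e4 := congrArg (fun a => toLy a • qN n) e2
    simp only [map_mul, mul_smul, hst _ z.2.2, hst _ w.2.2, hr] at e4
    have e5 : z.1 = w.1 := Subtype.ext e4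
    rw [e5] at e2
    exact Prod.ext e5 (Subtype.ext (mul_left_cancel e2))
  have h := Nat.card_le_card_of_injective _ hψ
  rw [Nat.card_prod, Nat.card_prod, Nat.card_eq_fintype_card (α := Q), Fintype.card_coe, card_cent_x0,
    card_stab_exact n hn] at h
  have hR : Nat.card R ≤ hB n := card_good n hn h0
  simp only [live5, List.mem_cons, List.not_mem_nil, or_false] at hn
  rcases hn with rfl | rfl | rfl | rfl | rfl
  · exact absurd rfl h0
  all_goals
    simp only [ord5, hB, fixX] at h hR ⊢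
    omega

theorem cent_le : Nat.card (Subgroup.centralizer ({xL} : Set Spor.Ly)) ≤ 2694384000 := by
  classical
  haveI := finite_Ly
  haveI := card_F.1
  haveI : Fintype F := Fintype.ofFinite _
  haveI : Fintype (Spor.Ly ⧸ KL) := Fintype.ofFinite _
  set C := Subgroup.centralizer ({xL} : Set Spor.Ly)
  let Fix : Finset (Spor.Ly ⧸ KL) := Finset.univ.filter fun q => xL • q = q
  have hFix : Fix.card ≤ 7128 := by
    have h1 : Fix ⊆ live5.toFinset.biUnion fun n => (orb5 n).filter fun q => xL • q = q := by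
      intro q hq
      obtain ⟨n, hn, hq'⟩ := cover5 q
      exact Finset.mem_biUnion.2 ⟨n, List.mem_toFinset.2 hn, Finset.mem_filter.2 ⟨hq', (Finset.mem_filter.1 hq).2⟩⟩
    refine (Finset.card_le_card h1).trans (Finset.card_biUnion_le.trans
      ((Finset.sum_le_sum (g := fixX) fun n hn => fix_x (List.mem_toFinset.1 hn)).trans ?_))
    rw [List.sum_toFinset _ (by decide : live5.Nodup)]
    decide +kernel
  have hq : ∀ c : C, (((c : Spor.Ly)) : Spor.Ly ⧸ KL) ∈ Fix := fun c => by
    refine Finset.mem_filter.2 ⟨Finset.mem_univ _, ?_⟩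
    show ((xL * c : Spor.Ly) : Spor.Ly ⧸ KL) = _
    rw [← Subgroup.mem_centralizer_singleton_iff.1 c.2, QuotientGroup.eq, mul_inv_rev, inv_mul_cancel_right]
    exact inv_mem (⟨x0, rfl⟩ : xL ∈ KL)
  let pick : Fix → C := fun q => if h : ∃ c : C, ((c : Spor.Ly) : Spor.Ly ⧸ KL) = q then h.choose else 1
  have hpick : ∀ c : C, ∃ a : F, (toLy a = ((pick ⟨_, hq c⟩ : C) : Spor.Ly)⁻¹ * c) ∧
      a ∈ Subgroup.centralizer ({x0} : Set F) := by
    intro c
    have h : ∃ d : C, ((d : Spor.Ly) : Spor.Ly ⧸ KL) = ((c : Spor.Ly) : Spor.Ly ⧸ KL) := ⟨c, rfl⟩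
    simp only [pick, dif_pos h]
    obtain ⟨a, ha⟩ := QuotientGroup.eq.1 h.choose_spec
    refine ⟨a, ha, Subgroup.mem_centralizer_singleton_iff.2 (toLy_injective ?_)⟩
    rw [map_mul, map_mul, ha]
    exact Subgroup.mem_centralizer_singleton_iff.1 (mul_mem (inv_mem h.choose.2) c.2)
  choose φ hφ hφC using hpick
  have hinj : Function.Injective fun c : C =>
      ((⟨_, hq c⟩, ⟨φ c, hφC c⟩) : Fix × Subgroup.centralizer ({x0} : Set F)) := by
    intro c d e
    simp only [Prod.mk.injEq, Subtype.mk.injEq] at e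
    have e1 : (⟨_, hq c⟩ : Fix) = ⟨_, hq d⟩ := Subtype.ext e.1
    have e2 := hφ c
    rw [e.2, hφ d, e1] at e2
    exact Subtype.ext (mul_left_cancel e2).symm
  have h := Nat.card_le_card_of_injective _ hinj
  rw [Nat.card_prod, Nat.card_eq_fintype_card (α := Fix), Fintype.card_coe, card_cent_x0] at h
  exact h.trans ((Nat.mul_le_mul_right _ hFix).trans (le_of_eq (by norm_num)))

end Cfsg.Lib.LyCent
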