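import Cfsg.Agent.LyPres.Orbit

/-!
First half of the orbit of the fixed vector of the element of order three.
-/

set_option autoImplicit false
set_option maxRecDepth 100000
set_option maxHeartbeats 4000000

namespace Cfsg.Lib.LyCent

/-- A block of images of the fixed vector. -/
def vOrbB0 : List (List ℕ × ℕ × ℕ) :=
  [([0,0,3,1,1,0,0],0,0),
   ([0,0,4,1,2,0,0],0,0),
   ([0,0,1,2,1,0,0],0,1),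
   ([2,2,3,1,1,0,0],0,2),
   ([0,0,3,3,2,0,0],1,1),
   ([1,2,4,1,2,0,0],1,2),
   ([0,0,1,0,2,0,0],2,0),
   ([0,0,1,3,1,0,0],2,1),
   ([4,4,1,2,1,0,0],2,2),
   ([0,1,4,1,2,0,0],3,0),
   ([4,2,1,2,1,0,0],3,1),
   ([4,4,3,1,1,0,0],3,2),
   ([0,0,3,1,1,3,3],3,3),
   ([2,1,3,3,2,0,0],4,2),
   ([4,2,3,1,1,0,0],5,0),
   ([3,2,3,3,2,0,0],5,1),
   ([2,4,4,1,2,0,0],5,2),
   ([0,0,4,1,2,4,3],5,3),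
   ([0,0,3,2,2,0,0],6,1),
   ([4,0,1,0,2,0,0],6,2),
   ([0,0,2,0,1,0,0],7,0),
   ([0,0,3,4,1,0,0],7,1),
   ([4,1,1,3,1,0,0],7,2),
   ([0,2,1,0,2,0,0],8,0),
   ([3,4,1,3,1,0,0],8,1),
   ([3,3,1,2,1,0,0],8,2),
   ([0,0,1,2,1,1,1],8,3),
   ([1,1,3,3,2,0,0],9,1),
   ([1,3,4,1,2,0,0],9,2),
   ([0,0,4,1,2,0,4],9,3),
   ([2,4,1,0,2,0,0],10,0),
   ([1,2,1,3,1,0,0],10,1),
   ([3,1,1,2,1,0,0],10,2),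
   ([0,0,1,2,1,1,3],10,3),
   ([0,2,4,1,2,0,0],11,0),
   ([3,4,1,2,1,0,0],11,1),
   ([1,1,3,1,1,0,0],11,2),
   ([0,0,3,1,1,1,1],11,3),
   ([0,0,4,1,2,0,3],12,0),
   ([2,4,3,3,4,3,3],12,2),
   ([3,3,3,1,1,0,0],12,3),
   ([1,2,3,3,2,0,0],13,0),
   ([3,1,1,0,2,0,0],13,1),
   ([4,2,3,3,2,0,0],13,2),
   ([0,0,3,3,2,3,4],13,3),
   ([1,2,1,2,1,0,0],14,1),
   ([1,4,3,1,1,0,0],14,2),
   ([0,0,3,1,1,1,3],14,3),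
   ([1,0,3,3,2,0,0],15,0),
   ([0,3,3,3,2,0,0],15,2),
   ([0,0,3,3,2,2,3],15,3),
   ([3,4,3,1,1,0,0],16,0),
   ([1,4,3,3,2,0,0],16,1),
   ([3,1,4,1,2,0,0],16,2),
   ([0,0,4,1,2,3,1],16,3),
   ([0,0,3,1,1,2,1],17,0),
   ([1,3,4,2,0,4,3],17,2),
   ([4,3,4,1,2,0,0],17,3),
   ([0,0,2,3,3,0,0],18,0),
   ([0,0,4,4,2,0,0],18,1),
   ([2,4,3,2,2,0,0],18,2),
   ([4,1,1,2,1,0,0],19,0),
   ([4,0,3,2,2,0,0],19,1),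
   ([3,0,1,0,2,0,0],19,2),
   ([0,0,1,0,2,1,0],19,3),
   ([3,0,2,0,1,0,0],20,2),
   ([0,0,2,1,4,0,0],21,0),
   ([2,3,3,4,1,0,0],21,2),
   ([0,1,3,4,1,0,0],22,1),
   ([3,2,1,3,1,0,0],22,2),
   ([0,0,1,3,1,1,4],22,3),
   ([2,2,3,2,2,0,0],23,1),
   ([4,2,1,0,2,0,0],23,2),
   ([0,0,1,0,2,0,3],23,3),
   ([4,3,2,0,1,0,0],24,0),
   ([2,4,3,4,1,0,0],24,1),
   ([2,0,1,3,1,0,0],24,2),
   ([0,0,1,3,1,2,1],24,3),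
   ([0,4,1,0,2,0,0],25,0),
   ([1,3,1,3,1,0,0],25,1),
   ([2,2,1,2,1,0,0],25,2),
   ([0,0,1,2,1,2,2],25,3),
   ([0,0,1,0,2,0,1],26,0),
   ([4,3,1,1,2,1,1],26,2),
   ([1,1,1,2,1,0,0],26,3),
   ([2,1,1,0,2,0,0],27,1),
   ([0,0,3,3,2,4,4],27,3),
   ([3,1,3,1,1,0,0],28,0),
   ([4,3,3,3,2,0,0],28,1),
   ([2,0,4,1,2,0,0],28,2),
   ([0,0,4,1,2,4,2],28,3),
   ([0,0,3,1,1,2,2],29,0),
   ([1,2,4,1,1,0,4],29,2),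
   ([0,4,4,1,2,0,0],29,3),
   ([1,4,3,2,2,0,0],30,1),
   ([1,4,1,0,2,0,0],30,2),
   ([0,0,1,0,2,3,1],30,3),
   ([4,2,2,0,1,0,0],31,0),
   ([3,2,3,4,1,0,0],31,1),
   ([0,3,1,3,1,0,0],31,2),
   ([0,0,1,3,1,4,3],31,3),
   ([2,0,1,2,1,0,0],32,2),
   ([0,0,1,2,1,2,4],32,3),
   ([0,0,1,0,2,1,2],33,0),
   ([4,3,1,1,4,1,3],33,2),
   ([1,3,1,2,1,0,0],33,3),
   ([2,2,3,3,2,0,0],34,1),
   ([1,4,4,1,2,0,0],34,2),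
   ([4,3,1,0,2,0,0],35,0),
   ([2,4,1,3,1,0,0],35,1),
   ([2,3,1,2,1,0,0],35,2),
   ([0,0,1,2,1,2,1],35,3),
   ([0,3,4,1,2,0,0],36,0),
   ([2,1,1,2,1,0,0],36,1),
   ([0,0,3,1,1,4,4],36,3),
   ([0,0,4,1,2,0,1],37,0),
   ([2,1,3,0,2,1,1],37,2),
   ([0,0,3,3,2,3,3],38,1),
   ([1,2,4,1,0,0,3],38,2),
   ([3,4,2,2,1,0,3],39,0),
   ([1,4,3,2,4,1,3],39,1),
   ([4,2,3,0,2,3,3],39,2),
   ([3,3,3,3,4,3,1],39,3),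
   ([3,2,1,0,2,0,0],41,1),
   ([3,3,3,3,2,0,0],41,2)]

/-- A block of images of the fixed vector. -/
def vOrbB1 : List (List ℕ × ℕ × ℕ) :=
  [([0,0,3,3,2,4,3],41,3),
   ([4,1,3,2,2,0,0],42,1),
   ([0,0,1,0,2,2,4],42,3),
   ([2,4,3,3,2,0,0],43,0),
   ([1,2,1,0,2,0,0],43,1),
   ([1,3,3,3,2,0,0],43,2),
   ([0,0,3,3,2,1,3],43,3),
   ([0,0,3,3,2,3,1],44,0),
   ([2,3,3,0,1,3,4],44,2),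
   ([3,4,3,3,2,0,0],44,3),
   ([0,1,1,2,1,0,0],45,2),
   ([0,0,1,2,1,4,3],45,3),
   ([0,4,1,2,1,0,0],46,1),
   ([0,0,3,1,1,4,1],46,3),
   ([0,0,4,1,2,1,2],47,0),
   ([2,1,3,0,4,1,3],47,2),
   ([1,3,3,1,1,0,0],47,3),
   ([1,0,1,0,2,0,0],48,1),
   ([3,1,3,3,2,0,0],48,2),
   ([0,0,3,3,2,4,0],48,3),
   ([3,3,1,0,2,0,0],49,1),
   ([0,0,3,3,2,0,2],49,3),
   ([0,0,3,3,2,3,0],50,0),
   ([2,4,3,1,0,2,3],50,2),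
   ([2,3,3,3,2,0,0],50,3),
   ([2,4,1,2,1,0,0],51,1),
   ([0,1,3,1,1,0,0],51,2),
   ([2,0,3,3,2,0,0],52,0),
   ([3,0,3,3,2,0,0],52,2),
   ([0,0,3,3,2,4,1],52,3),
   ([2,1,3,1,1,0,0],53,0),
   ([4,1,3,3,2,0,0],53,1),
   ([0,0,4,1,2,2,4],53,3),
   ([0,0,3,1,1,4,2],54,0),
   ([1,4,4,3,3,3,1],54,2),
   ([0,0,1,2,1,3,1],55,1),
   ([2,0,3,4,2,2,1],55,2),
   ([3,1,0,2,1,2,1],56,0),
   ([4,3,3,2,0,2,3],56,1),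
   ([2,3,4,3,3,4,3],56,2),
   ([4,3,4,2,0,4,2],56,3),
   ([0,0,1,1,3,0,0],58,1),
   ([3,1,2,3,3,0,0],58,2),
   ([1,3,4,4,2,0,0],59,2),
   ([3,4,2,3,3,0,0],60,0),
   ([1,4,4,4,2,0,0],60,1),
   ([4,3,3,2,2,0,0],60,2),
   ([0,0,3,2,2,3,1],60,3),
   ([0,1,1,3,1,0,0],61,1),
   ([3,0,1,2,1,0,0],61,2),
   ([0,0,1,2,1,1,4],61,3),
   ([4,1,2,3,3,0,0],62,0),
   ([4,0,4,4,2,0,0],62,1),
   ([0,0,3,2,2,1,0],62,3),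
   ([3,2,1,2,1,0,0],63,0),
   ([3,0,3,2,2,0,0],63,1),
   ([2,0,1,0,2,0,0],63,2),
   ([0,0,1,0,2,2,0],63,3),
   ([0,0,1,2,1,2,3],64,0),
   ([4,4,1,4,2,1,0],64,2),
   ([3,0,3,1,1,0,0],65,1),
   ([1,0,2,0,1,0,0],65,2),
   ([0,0,2,0,1,2,0],65,3),
   ([0,0,3,0,4,0,0],66,1),
   ([3,2,2,1,4,0,0],66,2),
   ([4,0,2,1,4,0,0],67,0),
   ([0,3,2,0,1,0,0],67,1),
   ([4,1,3,4,1,0,0],67,2),
   ([0,0,3,4,1,3,2],67,3),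
   ([4,4,2,1,4,0,0],68,0),
   ([1,1,2,0,1,0,0],68,1),
   ([0,0,3,4,1,0,4],68,3),
   ([0,2,3,4,1,0,0],69,1),
   ([2,3,1,3,1,0,0],69,2),
   ([0,0,1,3,1,2,3],69,3),
   ([0,0,2,0,1,4,0],70,0),
   ([4,0,1,2,0,1,4],70,2),
   ([1,4,1,3,1,0,0],70,3),
   ([0,1,2,3,3,0,0],71,0),
   ([4,2,4,4,2,0,0],71,1),
   ([0,0,3,2,2,3,3],71,3),
   ([1,2,3,2,2,0,0],72,1),
   ([0,0,1,0,2,1,3],72,3),
   ([0,0,1,2,1,4,4],73,0),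
   ([4,0,1,0,0,0,3],73,2),
   ([0,3,1,0,2,0,0],73,3),
   ([2,3,3,1,1,0,0],74,1),
   ([2,3,2,0,1,0,0],74,2),
   ([0,0,2,0,1,1,2],74,3),
   ([3,4,2,1,4,0,0],75,0),
   ([1,4,2,0,1,0,0],75,1),
   ([4,2,3,4,1,0,0],75,2),
   ([0,0,3,4,1,3,1],75,3),
   ([2,0,3,4,1,0,0],76,1),
   ([1,1,1,3,1,0,0],76,2),
   ([0,0,1,3,1,3,0],76,3),
   ([0,0,2,0,1,2,4],77,0),
   ([4,4,1,1,2,2,1],77,2),
   ([2,1,1,3,1,0,0],77,3),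
   ([4,4,3,2,2,0,0],78,1),
   ([4,4,1,0,2,0,0],78,2),
   ([3,1,2,0,1,0,0],79,0),
   ([4,3,3,4,1,0,0],79,1),
   ([0,4,1,3,1,0,0],79,2),
   ([0,0,1,3,1,4,2],79,3),
   ([0,1,1,0,2,0,0],80,0),
   ([4,2,1,3,1,0,0],80,1),
   ([0,0,1,2,1,3,3],80,3),
   ([0,0,1,0,2,0,2],81,0),
   ([4,2,1,0,3,2,2],81,2),
   ([0,0,3,2,2,1,1],82,1),
   ([4,0,1,0,3,0,1],82,2),
   ([1,3,2,2,0,0,1],83,0),
   ([2,3,0,3,2,2,1],83,1),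
   ([3,4,1,0,3,1,1],83,2),
   ([1,1,1,1,2,1,2],83,3),
   ([3,1,3,2,2,0,0],85,1),
   ([1,1,1,0,2,0,0],85,2),
   ([0,0,1,0,2,3,4],85,3),
   ([0,0,3,3,2,0,4],86,0),
   ([2,2,3,4,1,4,4],86,2),
   ([4,4,3,3,2,0,0],86,3),
   ([2,1,4,1,2,0,0],87,0),
   ([0,3,3,1,1,0,0],87,2),
   ([0,0,3,1,1,2,4],87,3)]

/-- A block of images of the fixed vector. -/
def vOrbB2 : List (List ℕ × ℕ × ℕ) :=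
  [([2,3,1,0,2,0,0],88,1),
   ([0,0,3,3,2,1,2],88,3),
   ([3,2,4,1,2,0,0],89,2),
   ([0,0,4,1,2,3,0],89,3),
   ([0,0,3,1,1,4,3],90,0),
   ([1,3,4,2,4,4,2],90,2),
   ([4,2,4,1,2,0,0],90,3),
   ([0,0,4,1,2,0,2],91,0),
   ([0,0,1,2,1,4,2],91,1),
   ([2,0,3,4,3,2,2],91,2),
   ([4,2,1,4,4,2,2],92,0),
   ([3,2,2,2,1,4,4],92,1),
   ([2,4,4,1,0,0,4],92,2),
   ([0,4,4,1,1,4,3],92,3),
   ([1,1,4,1,2,0,0],93,2),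
   ([2,0,2,3,3,0,0],94,0),
   ([0,4,4,4,2,0,0],94,1),
   ([3,3,3,2,2,0,0],94,2),
   ([0,0,3,2,2,4,1],94,3),
   ([0,4,3,2,2,0,0],95,1),
   ([0,0,1,0,2,4,1],95,3),
   ([4,2,1,2,3,3,1],96,2),
   ([1,2,3,1,1,0,0],97,1),
   ([2,2,2,0,1,0,0],97,2),
   ([0,0,2,0,1,1,3],97,3),
   ([1,0,2,1,4,0,0],98,0),
   ([0,2,2,0,1,0,0],98,1),
   ([0,0,3,4,1,2,3],98,3),
   ([3,3,3,4,1,0,0],99,1),
   ([4,4,1,3,1,0,0],99,2),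
   ([0,0,1,3,1,0,2],99,3),
   ([0,0,2,0,1,2,1],100,0),
   ([4,2,1,4,4,4,3],100,2),
   ([4,3,1,3,1,0,0],100,3),
   ([1,4,1,2,1,0,0],101,2),
   ([0,0,1,2,1,3,0],101,3),
   ([4,2,1,0,0,2,4],102,2),
   ([0,0,1,2,1,3,4],103,0),
   ([0,0,3,2,2,3,2],103,1),
   ([4,4,1,4,4,1,2],103,2),
   ([1,3,1,1,4,1,2],104,0),
   ([2,3,2,0,4,4,3],104,1),
   ([3,4,1,0,2,1,3],104,2),
   ([0,2,1,2,1,0,0],105,2),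
   ([0,1,3,3,2,0,0],106,0),
   ([2,0,3,1,1,0,0],107,0),
   ([0,4,3,3,2,0,0],107,1),
   ([0,0,4,1,2,4,1],107,3),
   ([2,3,3,2,2,0,0],108,1),
   ([3,4,2,0,1,0,0],109,0),
   ([1,4,3,4,1,0,0],109,1),
   ([1,0,1,3,1,0,0],109,2),
   ([0,0,1,3,1,3,1],109,3),
   ([0,0,1,2,1,3,2],110,3),
   ([4,2,1,0,2,2,1],111,2),
   ([1,0,4,1,2,0,0],112,2),
   ([3,1,1,3,1,0,0],113,1),
   ([1,0,1,2,1,0,0],113,2),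
   ([2,3,3,2,0,4,4],114,2),
   ([0,0,3,3,2,1,1],115,1),
   ([1,2,4,1,3,0,1],115,2),
   ([1,2,0,3,0,0,1],116,0),
   ([3,1,0,2,2,2,1],116,1),
   ([4,0,3,4,3,1,1],116,2),
   ([1,1,3,0,2,3,4],116,3),
   ([0,0,3,3,2,0,3],117,0),
   ([2,3,3,0,0,3,3],117,2),
   ([4,2,4,2,2,4,4],118,0),
   ([3,2,1,1,0,3,3],118,1),
   ([2,4,4,1,3,0,3],118,2),
   ([0,3,4,1,0,4,3],118,3),
   ([4,3,3,3,4,4,4],119,0),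
   ([2,4,2,3,1,3,3],119,1),
   ([1,3,2,2,4,0,3],119,2),
   ([0,3,2,2,1,2,1],119,3),
   ([2,0,1,2,2,1,2],120,0),
   ([0,4,1,1,4,4,3],120,1),
   ([3,2,3,1,2,1,3],120,2),
   ([1,3,3,2,4,4,1],120,3),
   ([2,4,0,3,0,0,3],121,0),
   ([1,2,0,2,2,1,3],121,1),
   ([1,4,3,2,0,3,3],121,2),
   ([3,3,3,0,2,1,3],121,3),
   ([0,4,2,2,1,4,2],122,0),
   ([0,1,3,0,0,3,1],122,2),
   ([3,1,3,3,4,2,2],122,3),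
   ([0,2,3,2,2,0,0],123,1),
   ([2,2,1,0,2,0,0],123,2),
   ([0,0,1,0,2,2,3],123,3),
   ([1,3,1,0,2,0,0],124,1),
   ([0,0,3,3,2,2,2],124,3),
   ([0,0,3,3,2,2,1],125,0),
   ([2,2,3,4,0,4,3],125,2),
   ([3,0,2,3,3,0,0],126,0),
   ([0,1,4,4,2,0,0],126,1),
   ([1,0,3,2,2,0,0],126,2),
   ([0,0,3,2,2,1,4],126,3),
   ([4,3,1,3,1,2,4],127,2),
   ([4,0,3,3,2,0,0],128,2),
   ([3,2,3,2,2,0,0],129,1),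
   ([0,0,1,0,2,4,3],129,3),
   ([0,0,3,3,2,4,2],130,3),
   ([2,0,3,2,0,1,3],131,2),
   ([2,3,3,0,3,3,1],132,2),
   ([4,0,3,1,3,3,1],133,0),
   ([0,3,4,1,1,2,4],133,1),
   ([4,0,3,2,0,3,4],133,2),
   ([3,4,3,0,1,3,2],133,3),
   ([4,0,1,2,1,0,0],135,2),
   ([0,0,1,2,1,0,4],135,3),
   ([0,0,1,0,2,2,1],136,0),
   ([4,0,1,3,4,4,3],136,2),
   ([4,3,1,2,1,0,0],136,3),
   ([0,0,1,2,1,0,1],137,3),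
   ([0,0,4,1,2,1,0],138,0),
   ([2,3,3,2,2,4,1],138,2),
   ([4,1,3,1,1,0,0],138,3),
   ([0,0,3,1,1,3,4],139,0),
   ([0,0,3,3,2,3,2],139,1),
   ([1,1,4,0,4,1,2],139,2),
   ([1,2,4,2,4,1,2],140,0),
   ([3,1,2,4,4,4,3],140,1),
   ([4,0,3,4,2,1,3],140,2),
   ([1,3,3,0,4,3,4],140,3),
   ([0,0,1,0,2,4,0],142,3)]

/-- A block of images of the fixed vector. -/
def vOrbB3 : List (List ℕ × ℕ × ℕ) :=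
  [([4,1,1,0,2,0,0],143,1),
   ([0,2,3,3,2,0,0],143,2),
   ([0,0,3,3,2,2,4],143,3),
   ([2,2,3,4,2,4,0],144,2),
   ([1,3,3,2,2,0,0],145,1),
   ([0,0,1,0,2,2,2],145,3),
   ([2,1,3,3,4,0,2],146,2),
   ([0,0,3,3,2,1,4],147,0),
   ([0,0,1,0,2,3,0],147,1),
   ([2,3,3,0,2,3,0],147,2),
   ([3,4,2,4,0,3,0],148,0),
   ([1,4,0,1,0,0,3],148,1),
   ([4,4,3,4,3,2,3],148,2),
   ([2,3,3,1,0,3,1],148,3),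
   ([3,4,1,0,2,0,0],150,0),
   ([4,4,4,1,2,0,0],151,0),
   ([0,0,3,1,1,0,4],151,3),
   ([0,0,3,3,2,2,0],153,3),
   ([0,0,3,3,2,1,0],154,0),
   ([2,2,3,4,3,4,1],154,2),
   ([4,3,3,1,1,0,0],155,2),
   ([1,0,4,4,1,2,4],157,2),
   ([0,0,1,2,1,1,2],158,1),
   ([2,3,3,2,3,4,2],158,2),
   ([2,0,2,3,1,4,2],159,0),
   ([0,4,3,1,3,4,1],159,1),
   ([2,2,4,0,4,3,1],159,2),
   ([3,1,4,3,3,4,1],159,3),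
   ([0,0,1,0,2,4,2],160,0),
   ([0,0,1,3,1,4,1],160,1),
   ([4,1,1,4,2,3,1],160,2),
   ([2,3,4,3,1,2,4],161,0),
   ([2,0,3,1,2,3,1],161,1),
   ([4,1,3,2,3,2,1],161,2),
   ([2,1,3,4,2,3,0],161,3),
   ([2,1,4,2,0,2,4],162,0),
   ([4,1,0,3,1,3,1],162,1),
   ([3,3,0,0,2,2,1],162,2),
   ([2,1,0,2,1,2,4],162,3),
   ([1,3,3,4,4,3,0],163,0),
   ([2,3,2,2,0,0,3],163,1),
   ([1,0,3,0,3,2,3],163,2),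
   ([2,3,3,2,0,1,2],163,3),
   ([4,0,2,3,1,2,1],164,0),
   ([0,3,3,1,3,2,3],164,1),
   ([3,0,4,4,1,4,3],164,2),
   ([4,3,4,3,3,3,2],164,3),
   ([1,3,0,2,1,4,3],165,0),
   ([0,3,4,3,2,4,2],165,2),
   ([4,2,4,2,0,1,2],165,3),
   ([0,0,1,4,3,0,0],166,1),
   ([4,2,1,1,3,0,0],166,2),
   ([2,1,3,2,2,0,0],167,0),
   ([4,1,1,1,3,0,0],167,1),
   ([1,2,2,3,3,0,0],167,2),
   ([0,0,2,3,3,2,4],167,3),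
   ([3,1,1,1,3,0,0],168,0),
   ([2,1,4,4,2,0,0],168,2),
   ([0,0,4,4,2,4,2],168,3),
   ([2,4,1,1,3,0,0],169,1),
   ([1,0,2,3,3,0,0],169,2),
   ([0,0,2,3,3,2,1],169,3),
   ([2,0,1,1,3,0,0],170,0),
   ([2,2,4,4,2,0,0],170,2),
   ([0,0,4,4,2,4,1],170,3),
   ([1,3,2,3,3,0,0],171,0),
   ([2,3,4,4,2,0,0],171,1),
   ([0,0,3,2,2,1,2],171,3),
   ([0,0,2,3,3,4,2],172,0),
   ([2,1,3,4,3,3,1],172,2),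
   ([4,4,2,0,1,0,0],173,0),
   ([1,1,3,4,1,0,0],173,1),
   ([0,0,1,3,1,0,4],173,3),
   ([3,0,1,3,1,0,0],174,1),
   ([0,0,1,2,1,2,0],174,3),
   ([4,3,1,1,0,1,4],175,2),
   ([0,1,1,1,3,0,0],176,1),
   ([2,2,2,3,3,0,0],176,2),
   ([0,0,2,3,3,1,4],176,3),
   ([4,0,4,1,2,0,0],177,1),
   ([0,3,4,4,2,0,0],177,2),
   ([0,0,4,4,2,1,0],177,3),
   ([0,0,2,3,3,2,3],178,0),
   ([2,3,3,1,2,1,0],178,2),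
   ([0,2,1,3,1,0,0],179,1),
   ([3,2,2,3,3,0,0],180,0),
   ([3,0,4,4,2,0,0],180,1),
   ([0,0,3,2,2,2,0],180,3),
   ([2,0,3,2,2,0,0],181,1),
   ([0,0,1,2,1,4,1],182,0),
   ([4,3,1,3,2,2,0],182,2),
   ([0,0,1,3,1,0,3],183,1),
   ([4,2,1,0,4,2,3],183,2),
   ([0,2,0,2,2,2,3],184,0),
   ([3,4,1,1,2,1,0],184,1),
   ([3,1,1,3,2,1,0],184,2),
   ([1,0,1,4,2,1,1],184,3),
   ([0,2,3,1,1,0,0],185,2),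
   ([0,0,3,1,1,2,0],185,3),
   ([1,0,3,1,1,0,0],186,1),
   ([4,0,2,0,1,0,0],186,2),
   ([3,3,2,3,1,2,0],187,2),
   ([2,0,2,0,1,0,0],187,3),
   ([0,0,4,2,4,0,0],188,0),
   ([0,0,2,4,4,0,0],188,1),
   ([2,0,3,0,4,0,0],188,2),
   ([1,0,3,4,1,0,0],189,0),
   ([0,2,3,0,4,0,0],189,1),
   ([1,4,2,1,4,0,0],189,2),
   ([0,0,2,1,4,2,3],189,3),
   ([4,0,3,0,4,0,0],190,1),
   ([2,2,2,1,4,0,0],190,2),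
   ([0,0,2,1,4,1,0],190,3),
   ([2,2,1,3,1,0,0],191,0),
   ([3,3,2,0,1,0,0],191,2),
   ([0,0,2,0,1,0,2],191,3),
   ([3,0,2,1,4,0,0],192,0),
   ([0,1,2,0,1,0,0],192,1),
   ([0,0,3,4,1,1,4],192,3),
   ([0,0,2,1,4,2,0],193,0),
   ([2,0,3,1,3,3,2],193,2),
   ([3,4,3,0,4,0,0],194,1),
   ([2,1,2,1,4,0,0],194,2),
   ([0,0,2,1,4,1,1],194,3),
   ([4,1,2,0,1,0,0],195,2)]

/-- A block of images of the fixed vector. -/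
def vOrbB4 : List (List ℕ × ℕ × ℕ) :=
  [([0,0,2,0,1,4,4],195,3),
   ([0,0,2,1,4,2,2],196,0),
   ([2,3,3,4,0,0,4],196,2),
   ([0,4,3,4,1,0,0],196,3),
   ([3,3,2,1,4,0,0],197,0),
   ([0,0,3,4,1,0,3],197,3),
   ([0,3,3,4,1,0,0],198,1),
   ([0,0,1,3,1,3,2],198,3),
   ([0,0,2,0,1,3,0],199,0),
   ([4,4,1,1,4,2,3],199,2),
   ([0,0,3,1,1,4,0],200,1),
   ([3,1,2,1,1,4,0],200,2),
   ([4,1,4,3,0,4,0],201,0),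
   ([4,0,0,2,0,0,4],201,1),
   ([3,3,1,1,4,1,4],201,2),
   ([1,4,1,2,0,1,0],201,3),
   ([1,1,1,1,3,0,0],203,1),
   ([0,0,2,3,3,0,4],203,3),
   ([0,0,4,4,2,1,3],204,3),
   ([0,0,2,3,3,0,3],205,0),
   ([2,1,3,4,0,3,3],205,2),
   ([4,2,2,3,3,0,0],206,0),
   ([3,2,4,4,2,0,0],206,1),
   ([0,0,3,2,2,4,3],206,3),
   ([4,4,1,4,0,1,3],207,2),
   ([0,0,1,0,2,0,4],208,0),
   ([0,0,1,3,1,3,4],208,1),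
   ([4,0,1,3,0,4,4],208,2),
   ([4,1,2,3,2,4,4],209,0),
   ([4,0,1,0,0,3,3],209,1),
   ([3,0,1,0,3,0,3],209,2),
   ([0,3,1,0,0,1,0],209,3),
   ([0,3,1,2,1,0,0],211,1),
   ([4,0,3,1,1,0,0],211,2),
   ([0,0,3,1,1,3,2],211,3),
   ([4,0,1,3,1,0,0],212,0),
   ([0,0,2,0,1,3,2],212,3),
   ([3,4,2,4,3,1,2],213,2),
   ([1,2,2,0,1,0,0],213,3),
   ([2,4,3,0,4,0,0],214,1),
   ([1,1,2,1,4,0,0],214,2),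
   ([0,0,2,1,4,2,1],214,3),
   ([0,4,3,1,1,0,0],215,1),
   ([0,0,2,0,1,4,1],215,3),
   ([2,4,2,1,4,0,0],216,0),
   ([0,0,3,4,1,1,3],216,3),
   ([0,0,2,1,4,4,2],217,0),
   ([3,1,3,4,1,0,0],217,3),
   ([2,3,2,1,4,0,0],218,0),
   ([0,0,3,4,1,3,0],218,3),
   ([2,1,3,4,1,0,0],219,1),
   ([0,0,1,3,1,4,4],219,3),
   ([0,0,2,0,1,1,4],220,0),
   ([4,3,1,0,1,3,0],220,2),
   ([0,0,1,3,1,1,3],221,0),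
   ([0,0,3,1,1,1,4],221,1),
   ([3,3,2,3,0,2,4],221,2),
   ([2,4,2,0,1,0,0],221,3),
   ([0,2,2,2,0,2,4],222,0),
   ([3,4,0,3,2,3,1],222,1),
   ([3,4,1,4,3,2,1],222,2),
   ([2,1,1,1,2,1,1],222,3),
   ([0,2,2,3,3,0,0],224,0),
   ([3,4,4,4,2,0,0],224,1),
   ([3,4,3,2,2,0,0],225,1),
   ([0,0,1,0,2,1,1],225,3),
   ([1,3,2,1,4,0,0],227,0),
   ([0,0,3,4,1,1,2],227,3),
   ([4,4,3,4,1,0,0],228,1),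
   ([0,0,1,3,1,0,1],228,3),
   ([0,0,2,0,1,4,3],229,0),
   ([4,2,1,4,3,4,2],229,2),
   ([1,1,3,2,2,0,0],230,1),
   ([1,2,3,4,1,0,0],231,1),
   ([3,3,1,3,1,0,0],231,2),
   ([4,1,1,4,4,3,3],232,2),
   ([0,0,3,2,2,2,2],233,1),
   ([4,0,1,0,4,0,2],233,2),
   ([2,4,3,4,3,0,2],234,0),
   ([1,2,4,3,3,4,2],234,1),
   ([3,0,1,3,0,2,2],234,2),
   ([2,2,1,0,3,1,3],234,3),
   ([0,0,2,3,3,0,1],235,0),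
   ([0,0,4,4,2,2,1],235,1),
   ([2,3,3,1,3,1,1],235,2),
   ([4,1,3,4,3,3,3],236,0),
   ([4,0,4,3,3,1,1],236,1),
   ([3,0,1,0,4,0,1],236,2),
   ([0,1,1,0,3,1,0],236,3),
   ([3,1,1,1,2,3,3],237,0),
   ([4,3,1,2,0,1,1],237,1),
   ([4,2,2,2,1,0,1],237,2),
   ([0,1,2,2,0,4,2],237,3),
   ([4,0,2,4,1,2,4],238,0),
   ([0,3,3,0,2,3,1],238,1),
   ([2,2,0,1,3,2,1],238,2),
   ([2,1,0,3,2,3,2],238,3),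
   ([4,3,3,4,3,0,1],239,0),
   ([2,4,4,3,3,2,1],239,1),
   ([2,3,1,4,4,1,1],239,2),
   ([1,1,1,0,3,2,1],239,3),
   ([0,3,2,2,0,3,4],240,0),
   ([0,2,1,0,4,1,2],240,2),
   ([1,2,1,1,2,4,4],240,3),
   ([2,1,2,3,3,0,0],241,0),
   ([4,1,4,4,2,0,0],241,1),
   ([0,0,3,2,2,2,4],241,3),
   ([0,0,1,0,2,4,4],242,3),
   ([4,2,1,2,1,3,4],243,2),
   ([2,1,3,3,1,0,4],244,2),
   ([0,1,2,1,4,0,4],245,0),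
   ([4,2,2,0,1,3,4],245,1),
   ([4,1,3,0,0,4,4],245,2),
   ([4,4,3,4,1,3,3],245,3),
   ([3,3,4,1,2,0,0],247,2),
   ([0,0,4,1,2,3,4],247,3),
   ([2,2,4,1,2,0,0],248,0),
   ([0,0,3,1,1,0,2],248,3),
   ([0,0,4,1,2,1,3],249,0),
   ([2,0,3,4,0,2,4],249,2),
   ([2,4,3,1,1,0,0],249,3),
   ([0,3,3,2,2,0,0],250,1),
   ([0,0,1,0,2,3,2],250,3),
   ([2,0,3,2,4,1,2],251,2),
   ([0,0,4,1,2,2,3],252,3)]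

/-- A block of images of the fixed vector. -/
def vOrbB5 : List (List ℕ × ℕ × ℕ) :=
  [([1,4,4,3,2,3,0],253,2),
   ([3,0,4,1,2,0,0],253,3),
   ([0,0,4,1,2,2,1],254,0),
   ([2,3,3,2,4,4,3],254,2),
   ([3,1,3,0,4,4,3],255,0),
   ([4,3,2,1,4,1,2],255,1),
   ([2,3,4,3,1,4,2],255,2),
   ([4,2,4,2,4,4,2],255,3),
   ([1,2,4,1,4,0,2],257,2),
   ([0,0,1,3,1,1,2],258,1),
   ([4,0,1,3,3,4,2],258,2),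
   ([2,3,1,0,3,0,2],259,0),
   ([2,0,4,2,3,4,2],259,1),
   ([4,1,3,2,0,2,2],259,2),
   ([2,2,3,4,3,3,0],259,3),
   ([2,4,4,1,1,0,2],260,0),
   ([1,2,3,3,4,4,2],260,1),
   ([3,3,1,2,1,2,2],260,2),
   ([2,2,1,4,4,1,3],260,3),
   ([1,0,3,3,4,0,4],261,0),
   ([0,2,2,3,1,3,4],261,1),
   ([1,2,2,3,0,4,4],261,2),
   ([4,4,2,2,1,2,3],261,3),
   ([3,4,4,2,2,2,2],262,0),
   ([1,4,1,1,0,4,4],262,1),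
   ([3,1,4,1,4,0,4],262,2),
   ([0,4,4,1,0,3,1],262,3),
   ([1,1,1,4,4,2,1],263,0),
   ([1,2,4,2,4,4,3],263,2),
   ([4,3,4,1,1,0,1],263,3),
   ([2,3,4,1,2,0,0],264,2),
   ([0,0,4,1,2,4,4],264,3),
   ([0,0,2,3,3,3,0],265,3),
   ([1,2,4,4,2,0,0],266,2),
   ([0,0,4,4,2,0,1],266,3),
   ([0,4,2,3,3,0,0],267,0),
   ([0,0,2,3,3,1,0],268,0),
   ([2,0,3,3,3,4,1],268,2),
   ([1,1,2,3,3,0,0],269,0),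
   ([4,4,4,4,2,0,0],269,1),
   ([0,0,3,2,2,0,1],269,3),
   ([0,0,1,2,1,1,0],270,0),
   ([4,1,1,1,3,4,1],270,2),
   ([2,4,0,4,1,4,2],271,0),
   ([1,2,3,0,3,4,1],271,1),
   ([3,3,1,4,4,3,1],271,2),
   ([3,1,1,2,3,1,3],271,3),
   ([0,0,2,0,1,3,3],273,3),
   ([3,4,2,4,4,1,3],274,2),
   ([1,3,2,0,1,0,0],274,3),
   ([1,0,3,0,4,0,0],275,1),
   ([4,2,2,1,4,0,0],275,2),
   ([0,0,2,1,4,4,0],275,3),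
   ([3,2,2,0,1,0,0],276,2),
   ([0,0,2,0,1,0,3],276,3),
   ([0,0,2,1,4,3,0],277,0),
   ([2,1,3,2,4,2,3],277,2),
   ([0,4,2,1,4,0,0],278,0),
   ([0,0,3,4,1,2,2],278,3),
   ([3,4,3,4,1,0,0],279,1),
   ([0,0,1,3,1,1,1],279,3),
   ([0,0,2,0,1,1,1],280,0),
   ([4,1,1,3,3,0,2],280,2),
   ([0,0,1,3,1,2,4],281,0),
   ([0,0,3,1,1,3,1],281,1),
   ([3,3,2,3,2,2,1],281,2),
   ([2,1,2,0,1,0,0],281,3),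
   ([2,4,4,1,1,2,1],282,0),
   ([1,2,3,3,4,2,3],282,1),
   ([3,1,1,0,2,4,3],282,2),
   ([4,3,1,4,4,1,3],282,3),
   ([0,0,1,0,2,1,4],285,0),
   ([4,1,1,4,1,3,0],285,2),
   ([2,4,2,3,2,1,3],286,0),
   ([1,2,1,0,0,1,4],286,1),
   ([3,0,1,3,4,2,4],286,2),
   ([2,4,1,0,0,1,3],286,3),
   ([4,1,1,4,0,3,4],287,2),
   ([0,0,2,3,3,2,0],288,0),
   ([0,0,4,4,2,0,2],288,1),
   ([2,1,3,4,4,3,2],288,2),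
   ([0,2,4,1,1,3,4],289,0),
   ([3,4,3,3,4,3,2],289,1),
   ([3,1,1,3,1,1,2],289,2),
   ([1,2,1,4,4,1,1],289,3),
   ([3,1,1,1,4,3,4],290,0),
   ([4,3,2,0,4,3,2],290,1),
   ([0,4,1,0,1,1,2],290,2),
   ([1,2,1,1,4,4,2],290,3),
   ([4,0,2,4,2,2,1],291,0),
   ([0,3,1,4,4,2,3],291,1),
   ([0,4,2,1,2,4,3],291,2),
   ([4,3,1,2,1,1,2],292,0),
   ([2,4,3,2,2,4,3],292,1),
   ([2,3,1,4,0,1,3],292,2),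
   ([1,3,1,0,2,2,1],292,3),
   ([0,0,1,2,1,0,3],293,3),
   ([0,0,3,1,1,3,0],295,3),
   ([0,0,3,3,2,0,1],296,3),
   ([0,0,3,1,1,1,0],297,0),
   ([1,3,4,2,3,4,1],297,2),
   ([4,1,4,1,2,0,0],297,3),
   ([4,0,2,3,3,0,0],298,0),
   ([4,2,3,2,2,0,0],298,2),
   ([2,0,2,1,4,0,0],300,0),
   ([0,4,2,0,1,0,0],300,1),
   ([0,0,3,4,1,4,1],300,3),
   ([0,0,1,3,1,4,0],301,3),
   ([0,0,2,0,1,4,2],302,0),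
   ([4,3,1,0,2,3,1],302,2),
   ([4,1,1,4,3,3,2],303,2),
   ([2,4,1,2,1,2,4],304,0),
   ([1,2,3,2,2,3,1],304,1),
   ([3,0,1,3,3,2,1],304,2),
   ([2,1,1,0,2,1,3],304,3),
   ([0,0,4,1,2,4,0],305,3),
   ([0,0,1,2,1,4,0],307,3),
   ([4,0,3,4,4,0,4],308,0),
   ([4,4,3,2,0,3,2],308,3),
   ([2,0,3,2,3,1,1],309,2),
   ([4,2,0,3,3,3,3],310,0),
   ([3,2,4,4,3,1,1],310,1),
   ([2,4,4,1,4,0,1],310,2),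
   ([0,1,4,1,3,4,3],310,3),
   ([3,2,1,3,0,1,1],311,1)]

/-- A block of images of the fixed vector. -/
def vOrbB6 : List (List ℕ × ℕ × ℕ) :=
  [([1,3,0,3,1,0,1],311,2),
   ([0,1,0,3,0,4,3],311,3),
   ([2,1,1,4,2,2,4],312,0),
   ([3,3,0,0,3,2,1],312,2),
   ([2,1,0,2,2,2,4],312,3),
   ([4,1,1,0,3,0,1],313,0),
   ([4,0,4,2,3,2,1],313,1),
   ([1,2,3,3,4,1,1],313,2),
   ([1,1,3,4,3,1,0],313,3),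
   ([0,3,0,3,0,3,1],314,0),
   ([3,3,3,2,1,3,4],314,2),
   ([3,4,3,0,2,4,4],314,3),
   ([0,0,1,0,2,3,3],315,1),
   ([2,1,3,3,0,0,3],315,2),
   ([4,0,1,4,1,0,3],316,0),
   ([0,3,3,0,0,1,3],316,1),
   ([4,0,3,2,3,3,3],316,2),
   ([3,3,3,0,0,3,2],316,3),
   ([1,2,0,4,2,3,4],317,1),
   ([0,2,4,3,1,4,4],317,2),
   ([4,4,4,2,2,1,3],317,3),
   ([1,0,3,3,1,0,3],318,0),
   ([0,2,3,1,0,1,3],318,1),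
   ([2,1,1,3,3,3,3],318,2),
   ([3,3,1,1,0,2,3],318,3),
   ([3,4,0,3,3,4,4],319,0),
   ([1,4,4,4,3,3,3],319,1),
   ([3,1,4,1,1,0,3],319,2),
   ([0,3,4,1,3,3,1],319,3),
   ([2,2,4,2,2,2,1],320,0),
   ([1,1,4,2,3,4,3],320,2),
   ([4,3,4,1,0,0,2],320,3),
   ([1,3,2,2,1,0,4],321,0),
   ([2,3,3,2,4,3,4],321,1),
   ([1,0,3,4,3,4,4],321,2),
   ([4,4,3,3,4,1,2],321,3),
   ([3,4,4,3,3,0,3],322,0),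
   ([1,4,4,4,1,1,3],322,1),
   ([0,2,2,0,4,3,3],322,2),
   ([3,3,2,3,1,3,1],322,3),
   ([3,1,4,4,0,4,4],323,0),
   ([4,3,0,1,4,3,3],323,1),
   ([4,2,2,2,2,0,3],323,2),
   ([0,3,2,2,4,4,2],323,3),
   ([2,2,3,3,4,2,4],324,0),
   ([3,0,2,0,2,2,1],324,2),
   ([2,1,2,2,1,0,2],324,3),
   ([2,0,2,4,2,3,2],325,1),
   ([1,2,1,2,2,3,0],325,3),
   ([1,1,1,1,4,2,1],326,0),
   ([4,4,2,0,4,2,3],326,1),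
   ([4,2,1,2,2,4,3],326,2),
   ([4,3,1,1,4,0,1],326,3),
   ([1,0,1,3,4,1,2],327,0),
   ([0,2,2,3,2,4,3],327,1),
   ([1,3,3,1,2,2,3],327,3),
   ([3,1,1,2,2,1,0],328,0),
   ([3,3,3,3,0,4,1],328,2),
   ([4,1,3,2,4,4,2],328,3),
   ([1,4,1,3,0,3,3],329,1),
   ([2,0,0,3,3,0,3],329,2),
   ([4,2,1,4,2,1,2],330,0),
   ([3,2,1,4,2,4,3],330,1),
   ([1,0,0,1,0,1,3],330,2),
   ([1,3,0,2,2,4,3],330,3),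
   ([2,0,3,4,4,0,3],331,0),
   ([0,4,2,2,0,1,3],331,1),
   ([3,0,3,4,3,3,3],331,2),
   ([3,3,3,2,0,4,1],331,3),
   ([0,4,0,3,0,1,2],332,0),
   ([0,2,3,4,0,1,3],332,2),
   ([1,3,3,0,2,2,2],332,3),
   ([1,1,3,3,4,4,3],333,0),
   ([4,4,2,3,1,1,2],333,1),
   ([3,4,2,3,3,4,2],333,2),
   ([4,4,1,4,1,4,2],334,0),
   ([1,1,3,0,0,4,1],334,1),
   ([2,3,3,2,1,3,1],334,2),
   ([3,1,3,0,0,0,4],334,3),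
   ([3,3,2,3,3,0,0],336,0),
   ([0,0,3,2,2,0,3],336,3),
   ([4,3,1,3,0,2,3],338,2),
   ([2,4,3,1,4,2,2],340,2),
   ([2,4,3,1,3,2,1],341,2),
   ([0,1,0,4,2,2,1],342,0),
   ([4,2,1,4,0,2,3],342,1),
   ([4,1,3,0,3,4,3],342,2),
   ([4,3,3,4,0,3,3],342,3),
   ([3,0,1,1,3,0,0],343,1),
   ([4,4,1,1,3,0,0],344,0),
   ([0,0,4,4,2,0,4],344,3),
   ([1,4,2,3,3,0,0],345,0),
   ([1,0,4,4,2,0,0],345,1),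
   ([0,0,3,2,2,4,0],345,3),
   ([0,0,2,3,3,4,0],346,0),
   ([2,3,3,1,1,1,4],346,2),
   ([1,3,2,0,1,1,3],347,0),
   ([2,3,3,4,1,1,4],347,1),
   ([3,2,1,1,0,2,4],347,2),
   ([2,4,1,3,1,1,2],347,3),
   ([0,2,4,4,2,0,0],349,1),
   ([0,1,3,2,2,0,0],349,2),
   ([0,0,3,2,2,2,3],349,3),
   ([4,1,1,1,0,4,3],350,2),
   ([2,2,3,4,4,4,2],351,2),
   ([2,3,3,4,4,1,2],352,0),
   ([2,0,2,2,0,4,3],352,1),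
   ([4,3,3,1,3,1,3],352,2),
   ([1,3,3,2,0,3,0],352,3),
   ([4,0,2,0,2,4,2],353,0),
   ([0,3,1,3,3,4,1],353,1),
   ([4,0,3,2,4,3,1],353,2),
   ([3,1,3,0,3,3,2],353,3),
   ([4,1,3,0,1,4,2],354,0),
   ([4,0,3,4,3,4,1],354,1),
   ([1,4,3,3,4,3,1],354,2),
   ([3,1,3,1,3,1,0],354,3),
   ([3,3,2,2,1,1,4],355,1),
   ([1,3,4,4,0,2,4],355,2),
   ([4,1,3,4,4,3,1],356,0),
   ([4,0,2,2,0,2,4],356,1),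
   ([1,1,3,4,4,3,4],356,2),
   ([3,4,3,2,0,1,0],356,3),
   ([4,3,3,1,3,2,0],357,0),
   ([0,1,3,2,3,3,2],357,2)]

/-- A block of images of the fixed vector. -/
def vOrbB7 : List (List ℕ × ℕ × ℕ) :=
  [([3,2,3,0,1,2,1],357,3),
   ([4,4,1,2,0,0,4],359,2),
   ([4,3,1,3,3,2,1],360,2),
   ([4,1,3,1,2,2,1],361,0),
   ([4,0,1,2,4,2,3],361,1),
   ([4,3,1,3,4,1,0],361,3),
   ([4,4,1,2,2,0,1],363,2),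
   ([0,0,3,1,1,2,3],364,0),
   ([1,1,4,0,2,1,0],364,2),
   ([4,0,2,3,3,1,0],365,0),
   ([0,3,4,4,2,0,1],365,1),
   ([4,3,3,3,3,4,1],365,2),
   ([4,1,3,2,2,3,2],365,3),
   ([2,4,3,3,0,3,4],367,2),
   ([2,3,3,0,4,3,2],368,2),
   ([0,3,1,0,1,3,4],369,0),
   ([2,0,4,4,1,1,2],369,2),
   ([1,2,4,0,4,4,4],369,3),
   ([4,2,3,0,4,3,4],370,0),
   ([3,2,2,1,4,3,2],370,1),
   ([2,0,4,1,1,1,2],370,2),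
   ([2,1,1,4,3,2,1],371,0),
   ([4,1,4,3,4,2,3],371,1),
   ([1,0,2,0,2,4,3],371,2),
   ([4,3,2,4,4,2,4],371,3),
   ([4,1,4,3,1,1,2],372,0),
   ([4,0,3,1,2,4,3],372,1),
   ([1,2,3,3,0,1,3],372,2),
   ([1,3,3,4,2,1,0],372,3),
   ([3,1,4,2,4,3,1],373,0),
   ([3,0,3,2,3,3,4],373,2),
   ([3,4,3,0,4,4,2],373,3),
   ([4,1,1,1,2,4,0],374,2),
   ([2,4,3,1,1,2,4],377,2),
   ([0,1,4,3,1,3,2],378,0),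
   ([4,2,3,1,2,4,0],378,1),
   ([4,1,3,0,2,4,0],378,2),
   ([4,0,3,4,2,3,3],378,3),
   ([4,3,4,4,2,0,0],379,1),
   ([0,0,3,2,2,4,2],379,3),
   ([0,0,1,2,1,0,2],380,0),
   ([4,3,1,3,4,2,2],380,2),
   ([1,2,2,2,1,1,1],381,0),
   ([3,1,3,2,4,2,2],381,1),
   ([4,2,3,3,1,0,2],381,2),
   ([0,2,3,3,4,3,4],381,3),
   ([2,0,3,2,1,1,4],382,2),
   ([0,0,3,2,2,3,0],383,1),
   ([4,2,1,2,2,3,0],383,2),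
   ([4,0,0,3,0,1,4],384,0),
   ([0,3,0,2,2,3,0],384,1),
   ([4,0,3,2,2,3,0],384,2),
   ([3,0,3,0,2,3,2],384,3),
   ([4,3,3,1,0,1,4],385,0),
   ([2,4,0,4,0,3,0],385,1),
   ([1,4,2,1,0,3,0],385,2),
   ([3,0,2,4,0,2,1],385,3),
   ([2,0,1,0,4,4,4],386,0),
   ([0,4,2,1,0,3,3],386,1),
   ([1,1,0,1,3,0,3],386,2),
   ([0,3,0,1,0,4,1],386,3),
   ([0,2,1,0,3,3,0],387,0),
   ([3,4,4,2,3,0,3],387,1),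
   ([1,0,3,2,1,2,3],387,2),
   ([2,3,3,4,3,1,1],387,3),
   ([4,0,2,4,0,4,2],388,0),
   ([4,2,3,3,1,3,1],388,2),
   ([3,1,3,1,0,3,2],388,3),
   ([0,0,4,1,2,1,1],390,3),
   ([0,0,4,1,2,2,2],391,0),
   ([2,2,3,1,0,0,4],391,2),
   ([2,4,3,1,2,2,0],392,2),
   ([2,0,3,2,2,1,0],393,2),
   ([4,2,4,2,3,0,1],394,1),
   ([4,1,3,0,4,4,1],394,2),
   ([0,0,3,1,1,1,2],395,3),
   ([1,0,3,0,1,1,4],396,1),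
   ([2,4,4,4,1,4,0],396,3),
   ([4,3,1,1,3,1,2],397,2),
   ([4,0,4,0,0,4,3],398,0),
   ([0,3,0,0,3,1,2],398,1),
   ([4,3,3,3,0,4,2],398,2),
   ([4,2,3,2,3,3,2],398,3),
   ([0,2,2,4,3,4,2],399,2),
   ([4,2,2,3,1,3,0],399,3),
   ([1,1,3,0,1,1,0],400,0),
   ([4,4,3,4,3,0,1],400,1),
   ([2,2,3,2,4,4,1],400,2),
   ([4,1,3,1,3,0,1],400,3),
   ([0,1,1,0,1,4,2],401,0),
   ([4,2,3,4,4,4,1],401,1),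
   ([3,4,4,2,0,3,1],401,2),
   ([3,1,4,0,4,3,3],401,3),
   ([2,1,2,3,1,1,0],402,0),
   ([4,3,4,4,4,4,1],402,2),
   ([4,1,4,3,3,2,4],402,3),
   ([4,1,1,1,4,4,2],403,2),
   ([0,0,2,0,1,1,0],404,0),
   ([0,0,3,4,1,0,1],404,1),
   ([4,2,1,4,2,4,1],404,2),
   ([3,0,0,2,2,4,2],405,0),
   ([0,1,1,1,2,4,1],405,1),
   ([3,1,1,1,3,3,1],405,2),
   ([3,1,1,4,2,1,4],405,3),
   ([0,3,1,4,1,1,4],406,1),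
   ([3,2,4,1,0,2,4],406,2),
   ([2,4,4,3,1,3,2],406,3),
   ([2,3,1,3,4,4,2],407,0),
   ([2,0,2,3,2,4,1],407,1),
   ([4,4,3,3,3,3,1],407,2),
   ([3,1,3,1,2,3,0],407,3),
   ([3,0,4,0,0,2,4],408,0),
   ([0,1,0,0,3,3,1],408,1),
   ([1,3,3,0,4,2,1],408,2),
   ([2,1,3,2,3,1,4],408,3),
   ([1,2,4,3,1,1,4],409,0),
   ([4,1,3,1,2,3,0],409,2),
   ([3,0,3,4,2,3,4],409,3),
   ([1,2,0,2,1,1,3],410,0),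
   ([3,1,3,2,0,1,4],410,1),
   ([3,3,4,0,4,2,4],410,2),
   ([2,4,4,2,0,3,4],410,3),
   ([3,0,0,2,4,4,2],411,0),
   ([0,1,2,4,1,4,1],411,1),
   ([4,4,0,0,2,3,1],411,2)]

/-- A block of images of the fixed vector. -/
def vOrbB8 : List (List ℕ × ℕ × ℕ) :=
  [([3,1,0,3,1,1,4],411,3),
   ([0,4,4,4,4,2,4],412,0),
   ([1,3,2,2,2,3,1],412,1),
   ([3,1,0,3,3,2,1],412,2),
   ([2,1,0,0,2,2,2],412,3),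
   ([1,2,4,2,0,1,3],413,0),
   ([2,3,0,0,0,2,4],413,2),
   ([2,4,0,2,1,3,4],413,3),
   ([4,3,0,3,4,3,0],414,1),
   ([3,3,3,1,4,3,0],414,2),
   ([3,0,3,4,4,4,2],414,3),
   ([4,0,1,1,2,4,4],415,0),
   ([0,3,1,2,0,3,3],415,1),
   ([0,2,2,2,3,0,3],415,2),
   ([0,3,2,2,0,3,2],415,3),
   ([1,4,2,0,2,3,0],416,0),
   ([1,0,1,3,3,0,3],416,1),
   ([3,3,3,3,1,2,3],416,2),
   ([2,3,3,0,3,4,0],416,3),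
   ([4,0,3,4,4,3,4],417,0),
   ([4,1,3,1,2,1,2],417,2),
   ([1,2,3,2,0,3,2],417,3),
   ([4,0,4,4,1,3,1],418,1),
   ([2,4,2,1,2,2,1],418,2),
   ([2,2,3,0,1,3,0],419,0),
   ([3,3,3,4,3,0,3],419,1),
   ([2,3,3,4,1,2,3],419,2),
   ([2,3,3,1,3,0,2],419,3),
   ([3,2,4,4,1,2,1],420,0),
   ([3,0,3,0,1,2,3],420,1),
   ([4,4,4,0,4,4,3],420,2),
   ([4,3,4,4,1,2,0],420,3),
   ([1,3,2,3,1,2,0],421,0),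
   ([0,1,4,0,0,3,2],421,2),
   ([3,2,4,3,3,1,2],421,3),
   ([3,1,4,2,0,2,1],422,0),
   ([4,3,0,3,1,2,3],422,1),
   ([1,3,0,3,4,4,3],422,2),
   ([4,3,0,2,1,4,2],422,3),
   ([2,2,0,1,4,4,3],423,0),
   ([3,3,2,0,2,1,2],423,1),
   ([1,0,4,4,4,4,2],423,2),
   ([4,2,4,3,2,0,2],423,3),
   ([0,0,2,2,3,0,0],425,1),
   ([4,3,1,4,3,0,0],425,2),
   ([2,4,4,4,2,0,0],426,0),
   ([1,2,1,4,3,0,0],426,1),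
   ([3,4,1,1,3,0,0],426,2),
   ([0,0,1,1,3,1,3],426,3),
   ([3,1,4,4,2,0,0],427,1),
   ([0,0,3,2,2,3,4],427,3),
   ([0,1,1,4,3,0,0],428,1),
   ([3,3,1,1,3,0,0],428,2),
   ([0,0,1,1,3,1,4],428,3),
   ([3,2,1,1,3,0,0],429,1),
   ([4,3,2,3,3,0,0],429,2),
   ([0,0,2,3,3,4,3],429,3),
   ([0,0,3,2,2,1,3],430,0),
   ([3,4,2,1,2,2,4],430,2),
   ([2,4,2,3,3,0,0],430,3),
   ([4,1,1,4,3,0,0],431,1),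
   ([2,3,1,1,3,0,0],431,2),
   ([0,0,1,1,3,2,4],431,3),
   ([1,2,1,1,3,0,0],432,0),
   ([0,0,4,4,2,3,4],432,3),
   ([0,0,1,1,3,4,3],433,0),
   ([1,4,4,0,4,4,2],433,2),
   ([1,4,1,4,3,0,0],434,1),
   ([0,0,1,1,3,3,1],434,3),
   ([1,0,1,1,3,0,0],435,1),
   ([3,4,2,1,4,2,1],436,2),
   ([2,0,1,4,3,0,0],437,1),
   ([0,0,1,1,3,3,0],437,3),
   ([0,0,4,4,2,3,3],438,3),
   ([0,0,1,1,3,1,0],439,0),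
   ([1,4,4,0,3,4,1],439,2),
   ([4,3,1,1,3,0,0],440,1),
   ([4,4,2,3,3,0,0],440,2),
   ([4,0,1,1,3,0,0],441,0),
   ([0,0,4,4,2,3,2],441,3),
   ([0,0,2,3,3,3,4],442,0),
   ([2,3,3,1,4,1,2],442,2),
   ([0,0,1,1,3,1,2],443,1),
   ([3,2,2,4,0,4,2],443,2),
   ([1,2,1,0,3,4,2],444,0),
   ([3,1,4,2,3,4,1],444,1),
   ([4,1,3,1,4,3,1],444,2),
   ([3,1,3,4,3,3,4],444,3),
   ([0,3,2,1,4,0,0],446,0),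
   ([0,0,3,4,1,4,4],446,3),
   ([0,0,2,0,1,2,2],447,0),
   ([4,1,1,3,0,0,4],447,2),
   ([3,0,3,4,1,0,0],448,1),
   ([0,0,1,3,1,2,0],448,3),
   ([4,2,1,0,1,2,0],449,2),
   ([1,3,3,3,1,4,0],450,0),
   ([2,3,3,1,0,0,4],450,1),
   ([3,4,1,0,4,1,4],450,2),
   ([1,4,1,1,0,1,2],450,3),
   ([1,1,1,4,3,0,0],451,1),
   ([0,0,1,1,3,0,4],451,3),
   ([0,3,2,3,3,0,0],452,2),
   ([0,0,2,3,3,3,3],452,3),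
   ([3,0,2,2,2,1,4],453,2),
   ([2,2,1,1,3,0,0],455,0),
   ([1,1,4,4,2,0,0],455,2),
   ([0,0,1,1,3,2,3],456,0),
   ([1,2,4,3,2,1,0],456,2),
   ([0,0,1,1,3,0,3],457,1),
   ([3,4,2,1,1,2,3],457,2),
   ([2,3,2,3,3,0,0],457,3),
   ([4,0,1,3,4,2,3],458,0),
   ([0,3,2,3,2,1,0],458,1),
   ([4,4,3,0,2,1,0],458,2),
   ([1,0,3,1,2,3,2],458,3),
   ([2,2,3,4,1,0,0],459,1),
   ([0,2,1,1,3,0,0],460,1),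
   ([0,0,4,4,2,2,0],461,3),
   ([0,0,2,3,3,4,1],462,0),
   ([2,2,3,0,2,2,0],462,2),
   ([2,0,4,4,2,0,0],463,1),
   ([4,0,1,3,2,4,1],464,2),
   ([2,3,4,0,2,2,0],465,1),
   ([3,2,1,1,2,2,0],465,2),
   ([2,0,1,3,2,1,2],465,3)]

/-- A block of images of the fixed vector. -/
def vOrbB9 : List (List ℕ × ℕ × ℕ) :=
  [([0,0,3,4,1,3,3],466,1),
   ([4,1,1,3,4,0,3],466,2),
   ([2,4,0,1,0,3,0],467,0),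
   ([1,2,0,4,4,0,3],467,1),
   ([3,0,1,3,2,2,3],467,2),
   ([2,3,1,0,4,1,3],467,3),
   ([3,3,1,4,2,3,0],468,0),
   ([2,2,1,4,2,0,3],468,1),
   ([0,4,0,0,0,2,3],468,2),
   ([2,3,0,2,2,0,3],468,3),
   ([4,3,2,2,0,2,3],469,0),
   ([2,4,0,3,2,1,0],469,1),
   ([2,0,1,0,2,1,0],469,2),
   ([1,0,1,1,2,2,1],469,3),
   ([2,1,4,2,3,2,3],470,0),
   ([4,1,4,0,2,1,0],470,1),
   ([2,1,1,2,2,1,0],470,2),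
   ([1,0,1,3,2,2,4],470,3),
   ([1,4,0,2,2,0,1],471,0),
   ([0,2,1,3,3,1,1],471,2),
   ([1,1,1,4,2,4,0],471,3),
   ([0,0,3,1,1,0,3],472,3),
   ([2,0,3,4,1,2,0],473,2),
   ([3,2,3,1,1,0,0],474,2),
   ([0,4,4,3,3,4,1],476,0),
   ([1,3,4,4,1,2,0],476,1),
   ([1,2,2,1,1,2,0],476,2),
   ([2,0,2,3,1,2,2],476,3),
   ([1,4,4,2,4,0,0],478,2),
   ([0,0,4,3,4,0,0],479,1),
   ([3,3,2,4,4,0,0],479,2),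
   ([2,3,4,2,4,0,0],480,0),
   ([2,0,2,4,4,0,0],480,1),
   ([0,0,3,0,4,3,0],480,3),
   ([0,0,3,4,1,4,0],481,3),
   ([3,3,4,2,4,0,0],482,0),
   ([2,2,2,4,4,0,0],482,1),
   ([2,2,3,0,4,0,0],482,2),
   ([0,0,3,0,4,0,3],482,3),
   ([0,4,3,0,4,0,0],483,1),
   ([4,1,2,1,4,0,0],483,2),
   ([0,0,2,1,4,4,1],483,3),
   ([3,0,2,4,2,2,3],484,2),
   ([4,1,4,2,4,0,0],485,0),
   ([4,0,2,4,4,0,0],485,1),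
   ([0,0,3,0,4,1,0],485,3),
   ([4,2,3,0,4,0,0],486,1),
   ([0,0,2,1,4,3,3],486,3),
   ([3,1,2,0,4,1,0],487,2),
   ([0,0,1,3,1,3,3],488,3),
   ([3,0,2,0,3,0,2],490,2),
   ([3,0,3,0,4,0,0],491,1),
   ([1,2,2,1,4,0,0],491,2),
   ([0,0,2,0,1,0,4],492,3),
   ([2,2,3,3,0,1,4],493,2),
   ([0,0,3,0,4,2,0],494,1),
   ([3,0,2,4,4,2,0],494,2),
   ([2,3,3,0,1,2,0],495,0),
   ([2,0,3,4,3,0,2],495,1),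
   ([4,4,3,3,0,3,2],495,2),
   ([3,2,3,1,3,3,0],495,3),
   ([4,3,4,2,4,0,0],496,0),
   ([2,4,2,4,4,0,0],496,1),
   ([0,0,3,0,4,2,1],496,3),
   ([3,1,3,0,4,0,0],497,1),
   ([0,0,2,1,4,3,4],497,3),
   ([3,1,2,0,0,1,1],498,2),
   ([3,1,2,1,0,4,4],500,2),
   ([0,0,3,4,1,0,2],501,0),
   ([0,0,3,0,4,4,2],501,1),
   ([3,0,2,4,1,2,2],501,2),
   ([4,0,0,4,2,2,2],502,0),
   ([0,3,1,4,0,4,4],502,1),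
   ([4,1,3,4,4,0,4],502,2),
   ([0,4,3,4,0,3,2],502,3),
   ([1,3,3,0,4,0,0],504,1),
   ([0,0,2,1,4,4,4],505,0),
   ([2,3,3,4,4,0,3],505,2),
   ([4,3,1,0,3,3,2],507,2),
   ([3,2,2,2,1,3,0],508,2),
   ([0,2,1,1,4,3,0],509,0),
   ([3,4,2,0,4,0,3],509,1),
   ([3,4,1,4,2,2,3],509,2),
   ([2,3,1,1,4,1,1],509,3),
   ([0,0,4,1,2,3,2],510,0),
   ([2,3,3,2,1,4,0],510,2),
   ([2,1,2,3,0,3,2],511,0),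
   ([4,1,0,2,1,4,0],511,1),
   ([1,4,2,2,1,4,0],511,2),
   ([4,0,2,1,1,2,4],511,3),
   ([3,0,1,2,0,3,2],512,0),
   ([0,1,0,3,0,4,0],512,1),
   ([0,3,4,4,0,4,0],512,2),
   ([4,0,4,3,0,1,4],512,3),
   ([4,1,2,0,3,2,2],513,0),
   ([4,0,4,2,0,4,4],513,1),
   ([4,4,0,2,4,0,4],513,2),
   ([0,4,0,2,0,1,0],513,3),
   ([0,4,1,1,4,4,0],514,0),
   ([1,3,2,0,4,0,4],514,1),
   ([2,4,1,0,3,1,4],514,2),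
   ([1,4,1,1,4,2,2],514,3),
   ([2,0,4,3,0,2,3],515,0),
   ([0,2,1,1,0,1,0],515,2),
   ([1,0,1,2,0,4,1],515,3),
   ([2,1,1,4,3,0,0],516,1),
   ([0,3,1,1,3,0,0],516,2),
   ([0,0,1,1,3,4,4],516,3),
   ([3,1,2,3,2,0,4],517,2),
   ([1,2,4,3,0,1,3],518,2),
   ([0,0,3,2,2,4,4],519,0),
   ([0,0,1,1,3,3,3],519,1),
   ([3,1,2,3,1,0,3],519,2),
   ([1,2,0,4,2,0,3],520,0),
   ([3,1,1,4,0,1,3],520,1),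
   ([4,1,3,1,3,3,3],520,2),
   ([3,3,3,4,0,3,4],520,3),
   ([0,0,2,3,3,1,3],521,3),
   ([0,0,4,4,2,2,3],522,3),
   ([2,0,3,3,0,4,3],523,2),
   ([0,2,1,3,3,1,2],524,0),
   ([3,4,4,4,0,4,3],524,1),
   ([3,1,1,3,3,1,3],524,2),
   ([1,3,1,4,0,1,1],524,3),
   ([4,0,1,0,1,0,4],525,2)]

/-- A block of images of the fixed vector. -/
def vOrbB10 : List (List ℕ × ℕ × ℕ) :=
  [([0,0,2,0,1,3,1],526,0),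
   ([0,0,3,4,1,2,4],526,1),
   ([4,3,1,0,0,3,4],526,2),
   ([4,1,0,3,4,0,4],527,0),
   ([4,0,2,3,0,3,4],527,1),
   ([3,2,1,4,4,4,4],527,2),
   ([4,4,1,3,0,1,0],527,3),
   ([3,0,1,0,0,0,4],528,0),
   ([0,1,0,0,2,3,4],528,1),
   ([2,3,2,4,1,4,4],528,2),
   ([4,4,2,3,2,1,4],528,3),
   ([4,1,2,3,2,0,3],529,0),
   ([4,0,1,0,0,1,3],529,1),
   ([3,2,1,2,3,3,3],529,2),
   ([3,3,1,0,0,1,0],529,3),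
   ([3,2,3,4,3,4,4],530,0),
   ([3,0,4,3,3,3,3],530,1),
   ([2,0,1,0,1,0,3],530,2),
   ([0,3,1,0,3,2,0],530,3),
   ([2,2,2,3,2,2,3],531,0),
   ([4,2,1,4,0,1,0],531,2),
   ([1,0,1,0,0,0,2],531,3),
   ([0,0,4,1,2,2,0],534,0),
   ([2,4,3,3,3,3,2],534,2),
   ([4,0,3,4,1,0,0],535,1),
   ([0,0,1,3,1,1,0],535,3),
   ([3,2,2,2,3,3,2],536,2),
   ([4,3,4,2,1,3,4],537,0),
   ([2,4,3,2,3,3,2],537,1),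
   ([1,1,2,3,0,1,2],537,2),
   ([1,2,2,4,3,2,1],537,3),
   ([3,4,4,2,4,0,0],539,0),
   ([1,4,2,4,4,0,0],539,1),
   ([4,4,3,0,4,0,0],539,2),
   ([0,0,3,0,4,3,1],539,3),
   ([2,1,3,0,4,0,0],540,1),
   ([4,3,2,1,4,0,0],540,2),
   ([0,0,3,1,1,0,1],542,3),
   ([3,1,2,1,2,4,1],543,2),
   ([1,4,3,0,4,0,0],544,1),
   ([0,1,2,1,4,0,0],544,2),
   ([0,0,2,1,4,3,1],544,3),
   ([0,0,2,1,4,1,2],545,0),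
   ([2,2,3,3,4,1,3],545,2),
   ([1,3,3,4,1,0,0],545,3),
   ([0,0,3,4,1,4,3],546,0),
   ([0,0,3,0,4,1,2],546,1),
   ([3,3,2,2,1,4,2],546,2),
   ([0,3,3,0,4,0,0],548,1),
   ([0,0,2,1,4,3,2],548,3),
   ([0,0,2,1,4,1,4],549,0),
   ([2,0,3,1,1,3,0],549,2),
   ([0,0,3,4,1,3,4],550,3),
   ([4,2,1,4,0,4,4],551,2),
   ([3,4,2,4,0,1,4],552,2),
   ([1,3,4,0,4,1,4],553,0),
   ([2,3,2,1,1,3,0],553,1),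
   ([3,0,1,2,1,3,0],553,2),
   ([3,0,1,0,1,1,2],553,3),
   ([4,0,1,2,4,1,3],554,2),
   ([2,1,3,0,0,1,4],555,2),
   ([0,4,2,1,1,1,3],556,0),
   ([1,3,3,3,0,1,4],556,1),
   ([1,2,2,1,4,2,4],556,2),
   ([2,4,2,3,0,2,2],556,3),
   ([3,3,1,1,2,1,3],558,0),
   ([2,2,1,2,0,1,4],558,1),
   ([3,4,2,0,4,2,4],558,2),
   ([2,4,2,2,0,0,3],558,3),
   ([4,3,2,4,1,4,2],559,0),
   ([2,4,3,0,2,4,1],559,1),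
   ([3,2,0,0,3,3,1],559,2),
   ([3,1,0,3,2,2,1],559,3),
   ([2,4,2,2,3,3,1],560,1),
   ([2,0,1,2,4,2,1],560,2),
   ([1,2,2,2,0,0,1],561,0),
   ([1,2,1,0,3,1,1],561,2),
   ([1,1,1,1,2,3,4],561,3),
   ([0,0,3,2,2,2,1],564,3),
   ([4,4,1,4,3,1,1],565,2),
   ([4,3,3,0,4,0,0],566,1),
   ([2,2,3,3,3,1,2],567,2),
   ([0,2,2,1,4,0,0],568,0),
   ([0,0,3,4,1,1,1],568,3),
   ([4,1,1,3,2,0,1],569,2),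
   ([3,1,2,1,4,4,3],570,2),
   ([2,4,2,4,4,4,3],571,0),
   ([1,2,2,2,3,1,2],571,1),
   ([3,1,1,0,0,4,2],571,2),
   ([4,2,1,4,3,1,3],571,3),
   ([0,0,1,3,1,2,2],574,3),
   ([3,0,4,1,1,0,3],575,0),
   ([0,1,3,3,4,1,3],575,1),
   ([3,3,1,4,4,1,4],575,3),
   ([0,0,2,3,3,0,2],576,0),
   ([2,2,3,0,4,2,2],576,2),
   ([4,1,0,1,0,1,1],577,0),
   ([4,0,0,4,4,2,2],577,1),
   ([3,0,1,0,1,0,2],577,2),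
   ([0,2,1,0,4,1,0],577,3),
   ([1,4,4,2,3,2,2],578,1),
   ([4,2,3,4,0,0,2],578,2),
   ([0,2,3,4,3,3,1],578,3),
   ([4,2,2,3,1,4,3],579,0),
   ([3,2,3,1,3,1,2],579,1),
   ([2,4,4,4,0,4,2],579,2),
   ([4,2,4,3,3,4,3],579,3),
   ([3,2,0,3,4,0,2],580,0),
   ([3,0,2,3,0,4,2],580,1),
   ([2,4,1,1,2,2,2],580,2),
   ([2,2,1,3,0,2,0],580,3),
   ([0,1,3,4,3,1,2],581,0),
   ([1,1,1,4,1,1,3],581,2),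
   ([1,3,1,0,3,3,3],581,3),
   ([0,0,1,1,3,1,1],582,1),
   ([3,1,2,3,4,0,1],582,2),
   ([1,1,4,2,3,2,1],583,2),
   ([4,0,3,0,1,0,1],584,0),
   ([0,3,3,4,3,2,1],584,1),
   ([4,4,3,0,4,1,1],584,2),
   ([1,1,3,1,3,3,2],584,3),
   ([0,1,4,2,3,1,3],585,1),
   ([1,1,3,1,1,3,3],585,2),
   ([3,3,3,4,3,1,4],585,3),
   ([4,1,2,3,1,0,1],586,0)]

/-- A block of images of the fixed vector. -/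
def vOrbB11 : List (List ℕ × ℕ × ℕ) :=
  [([4,0,3,1,3,2,1],586,1),
   ([0,0,4,2,4,1,1],586,2),
   ([1,1,4,3,3,1,0],586,3),
   ([3,2,0,1,0,3,3],587,0),
   ([3,0,0,4,4,1,1],587,1),
   ([2,0,1,0,0,0,1],587,2),
   ([0,1,1,0,4,2,0],587,3),
   ([4,0,1,4,3,1,0],588,2),
   ([1,0,1,0,3,0,4],588,3),
   ([2,1,2,2,0,0,3],589,0),
   ([4,1,0,3,2,1,3],589,1),
   ([2,0,1,3,0,3,3],589,2),
   ([3,3,1,1,2,2,4],589,3),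
   ([1,3,4,3,0,0,1],590,0),
   ([2,3,0,2,0,2,1],590,1),
   ([3,1,1,1,1,1,1],590,2),
   ([1,1,1,2,0,1,2],590,3),
   ([1,2,2,3,1,1,1],591,1),
   ([2,1,2,2,2,0,1],591,2),
   ([0,1,2,2,1,1,3],591,3),
   ([4,4,1,1,2,4,3],592,0),
   ([3,1,2,3,2,4,2],592,2),
   ([4,2,2,2,0,0,4],592,3),
   ([4,0,1,0,1,1,4],593,1),
   ([2,1,2,2,0,2,4],593,2),
   ([2,4,2,4,1,1,0],593,3),
   ([2,2,0,3,0,4,2],594,0),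
   ([3,3,0,2,2,4,1],594,1),
   ([2,0,3,2,3,3,1],594,2),
   ([3,1,3,0,2,0,2],594,3),
   ([0,1,2,1,0,2,4],595,0),
   ([4,2,0,4,3,3,1],595,1),
   ([2,2,0,4,4,2,1],595,2),
   ([2,1,0,1,3,3,3],595,3),
   ([1,2,2,4,1,2,0],596,0),
   ([2,4,0,0,4,3,2],596,2),
   ([3,2,0,3,2,3,4],596,3),
   ([2,3,4,2,3,1,1],597,1),
   ([1,1,3,4,4,0,1],597,2),
   ([3,4,2,3,1,2,4],598,0),
   ([1,4,3,1,3,3,1],598,1),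
   ([3,3,4,1,4,2,1],598,2),
   ([2,1,4,3,3,3,1],598,3),
   ([4,0,4,1,1,0,1],599,0),
   ([0,3,3,3,4,2,1],599,1),
   ([1,0,1,3,0,1,1],599,2),
   ([1,1,1,4,4,3,2],599,3),
   ([0,3,3,4,3,2,4],600,0),
   ([0,4,1,3,4,2,1],600,2),
   ([2,1,1,0,3,4,4],600,3),
   ([2,2,1,1,2,3,1],601,0),
   ([3,3,1,2,0,2,4],601,1),
   ([3,4,2,4,4,3,4],601,2),
   ([3,4,2,2,0,0,2],601,3),
   ([3,3,0,1,0,3,4],602,0),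
   ([2,2,0,4,4,3,2],602,1),
   ([4,1,1,4,1,1,2],602,2),
   ([1,2,1,0,4,0,3],602,3),
   ([0,0,4,4,2,1,4],605,3),
   ([2,2,3,0,1,2,4],606,2),
   ([4,1,1,1,1,4,4],607,2),
   ([2,4,1,0,2,3,1],608,0),
   ([1,2,1,3,1,2,4],608,1),
   ([3,3,1,4,0,3,4],608,2),
   ([3,4,1,2,1,1,3],608,3),
   ([1,2,1,1,0,2,2],609,0),
   ([3,1,0,4,1,4,4],609,1),
   ([4,2,3,3,0,0,4],609,2),
   ([0,4,3,3,1,3,4],609,3),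
   ([4,4,3,4,1,2,2],610,0),
   ([1,1,3,0,4,4,4],610,1),
   ([3,3,2,1,3,0,4],610,2),
   ([0,4,2,1,4,0,4],610,3),
   ([2,4,1,3,1,3,1],611,0),
   ([1,2,3,1,1,2,4],611,1),
   ([2,4,2,2,0,3,4],611,2),
   ([3,4,2,0,1,1,3],611,3),
   ([3,0,1,4,1,0,4],612,0),
   ([0,1,3,0,0,3,4],612,1),
   ([1,2,3,1,4,4,4],612,2),
   ([4,4,3,0,0,1,4],612,3),
   ([0,2,2,1,4,0,3],613,0),
   ([1,4,3,1,4,3,3],613,2),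
   ([3,3,3,4,1,1,1],613,3),
   ([1,4,4,3,1,3,4],615,2),
   ([3,4,4,1,2,0,0],615,3),
   ([0,0,4,1,2,3,3],616,3),
   ([2,2,3,1,3,0,2],617,2),
   ([1,1,4,0,0,1,3],618,2),
   ([2,3,0,4,2,1,3],619,0),
   ([2,0,1,4,0,1,4],619,1),
   ([4,1,3,2,4,2,4],619,2),
   ([2,4,3,4,0,3,0],619,3),
   ([3,3,4,4,2,0,0],621,1),
   ([0,0,3,2,2,0,2],621,3),
   ([4,2,1,2,4,3,2],622,2),
   ([2,3,1,2,2,3,4],623,0),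
   ([2,0,1,1,4,3,2],623,1),
   ([4,3,3,1,1,1,2],623,2),
   ([1,2,3,2,4,3,0],623,3),
   ([1,0,4,4,0,2,3],624,2),
   ([2,0,0,1,4,1,4],625,0),
   ([0,4,2,0,2,3,0],625,1),
   ([2,2,4,0,2,3,0],625,2),
   ([3,0,4,3,2,4,1],625,3),
   ([1,0,4,4,3,2,1],627,2),
   ([4,0,1,2,2,2,1],628,0),
   ([0,3,1,1,4,2,3],628,1),
   ([4,3,3,3,2,4,3],628,2),
   ([4,3,3,2,4,3,2],628,3),
   ([2,1,4,2,4,2,1],629,0),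
   ([4,1,2,4,4,2,3],629,1),
   ([0,2,3,1,2,4,3],629,2),
   ([4,3,3,0,4,2,4],629,3),
   ([1,3,3,4,1,3,4],630,0),
   ([2,4,2,0,1,1,2],630,2),
   ([1,2,2,1,4,1,2],630,3),
   ([4,0,3,4,2,4,3],631,0),
   ([0,3,1,4,1,1,2],631,1),
   ([3,0,4,4,3,4,2],631,2),
   ([4,2,4,3,1,3,2],631,3),
   ([2,4,3,0,4,4,3],632,0),
   ([0,2,4,3,1,4,2],632,2),
   ([4,2,4,2,4,1,3],632,3),
   ([4,2,2,0,0,1,1],633,0)]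

/-- A block of images of the fixed vector. -/
def vOrbB12 : List (List ℕ × ℕ × ℕ) :=
  [([3,2,0,0,4,2,2],633,1),
   ([0,2,4,1,4,4,3],633,3),
   ([0,0,2,0,1,3,4],634,0),
   ([4,0,1,2,3,1,2],634,2),
   ([4,1,1,4,0,4,3],635,0),
   ([4,0,0,1,3,1,2],635,1),
   ([3,2,1,4,0,4,2],635,2),
   ([4,2,1,3,3,1,0],635,3),
   ([0,3,4,3,3,2,2],636,1),
   ([1,3,1,0,0,0,2],636,2),
   ([0,2,1,0,3,3,2],636,3),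
   ([2,3,1,3,2,4,3],637,0),
   ([2,0,1,0,3,1,2],637,1),
   ([3,0,4,3,0,4,2],637,2),
   ([4,2,4,2,3,3,0],637,3),
   ([3,0,3,4,4,0,2],638,0),
   ([2,2,3,2,0,1,4],638,3),
   ([0,1,1,0,3,1,4],639,0),
   ([4,2,3,1,3,3,0],639,2),
   ([3,4,1,4,4,1,1],640,0),
   ([1,4,2,2,1,2,2],640,1),
   ([3,1,4,1,3,0,2],640,2),
   ([0,2,4,1,1,3,1],640,3),
   ([4,2,2,2,1,4,3],641,0),
   ([3,2,3,2,4,1,2],641,1),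
   ([3,4,3,4,1,4,2],641,2),
   ([4,2,3,3,4,4,3],641,3),
   ([0,4,1,0,2,0,2],642,0),
   ([1,3,1,3,1,4,2],642,1),
   ([2,0,1,0,3,2,2],642,2),
   ([2,2,1,2,1,2,2],642,3),
   ([0,1,4,1,1,1,2],643,0),
   ([1,4,1,3,2,1,3],643,2),
   ([1,3,1,4,4,3,3],643,3),
   ([1,0,3,2,4,4,4],644,1),
   ([3,1,3,3,3,0,4],644,2),
   ([0,4,3,3,4,4,0],644,3),
   ([3,3,4,3,3,3,1],645,0),
   ([2,2,4,4,1,2,4],645,1),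
   ([3,0,2,0,0,3,4],645,2),
   ([3,4,2,3,1,0,3],645,3),
   ([4,2,2,1,1,0,4],646,0),
   ([3,2,3,3,0,3,4],646,1),
   ([4,4,2,4,4,4,4],646,2),
   ([4,4,2,3,0,4,3],646,3),
   ([0,2,3,3,4,3,0],647,0),
   ([2,1,2,0,4,2,3],647,2),
   ([2,3,2,2,1,1,1],647,3),
   ([2,4,0,4,2,4,2],648,1),
   ([4,1,4,0,4,2,2],648,2),
   ([2,0,3,3,1,0,4],649,0),
   ([0,4,3,1,0,3,4],649,1),
   ([0,2,1,2,4,4,4],649,2),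
   ([4,4,1,1,0,4,1],649,3),
   ([2,1,2,0,0,2,2],650,0),
   ([4,1,0,0,4,4,4],650,1),
   ([4,3,4,1,3,0,4],650,2),
   ([0,4,4,1,4,2,4],650,3),
   ([1,1,4,2,2,4,2],651,0),
   ([1,3,4,3,1,3,1],651,2),
   ([3,1,4,1,0,0,1],651,3),
   ([2,1,3,3,4,3,1],652,1),
   ([0,2,1,2,0,2,1],652,2),
   ([2,1,1,4,4,4,4],652,3),
   ([4,2,3,0,4,2,1],653,0),
   ([3,2,2,1,4,2,3],653,1),
   ([2,2,4,3,2,4,3],653,2),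
   ([4,3,4,2,4,4,3],653,3),
   ([1,3,4,2,1,4,4],656,2),
   ([3,3,2,0,3,3,0],657,2),
   ([0,0,4,4,2,4,3],658,3),
   ([1,3,4,4,3,0,1],659,2),
   ([3,0,2,2,3,1,0],661,2),
   ([2,3,0,0,4,1,0],662,0),
   ([2,0,2,1,3,0,1],662,1),
   ([4,1,3,3,3,3,0],662,3),
   ([2,1,1,1,3,0,0],663,1),
   ([0,0,2,3,3,4,4],663,3),
   ([0,0,4,4,2,1,1],664,3),
   ([2,4,3,2,3,0,1],665,2),
   ([4,3,1,1,1,1,0],666,2),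
   ([3,0,4,4,2,1,0],667,0),
   ([0,1,1,4,3,0,1],667,1),
   ([3,4,1,2,4,4,1],667,2),
   ([4,1,1,1,3,1,4],667,3),
   ([3,4,1,2,3,4,3],668,0),
   ([1,4,4,0,1,1,2],668,1),
   ([2,3,0,0,3,4,2],668,2),
   ([4,2,0,4,1,3,1],668,3),
   ([4,2,2,0,2,1,0],669,0),
   ([3,2,1,3,3,0,1],669,1),
   ([3,3,3,1,4,4,1],669,2),
   ([0,4,4,1,1,4,2],670,0),
   ([1,3,3,3,4,4,1],670,1),
   ([2,3,1,1,0,3,1],670,2),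
   ([3,1,1,4,4,2,2],670,3),
   ([2,1,0,4,1,1,2],671,0),
   ([2,4,1,1,1,1,3],671,2),
   ([1,3,1,2,3,2,4],671,3),
   ([3,2,2,2,4,3,3],672,2),
   ([4,3,1,4,3,1,2],673,0),
   ([2,4,4,3,4,4,3],673,1),
   ([1,1,2,3,2,1,3],673,2),
   ([1,3,2,4,4,2,1],673,3),
   ([1,0,2,4,4,0,0],675,1),
   ([0,0,3,0,4,4,0],675,3),
   ([1,2,3,0,4,0,0],676,1),
   ([0,0,2,1,4,1,3],676,3),
   ([3,3,2,2,4,4,0],677,2),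
   ([0,0,2,0,1,2,3],678,3),
   ([3,0,2,0,4,0,3],679,2),
   ([3,4,2,3,4,3,0],680,2),
   ([3,1,1,1,4,0,3],681,1),
   ([4,3,3,0,2,2,3],681,2),
   ([3,1,2,1,4,0,0],682,2),
   ([0,0,2,1,4,0,1],682,3),
   ([0,0,2,1,4,0,2],683,0),
   ([2,1,3,2,3,2,2],683,2),
   ([0,0,3,4,1,2,1],684,3),
   ([0,0,2,0,1,0,1],685,0),
   ([4,0,1,2,2,1,1],685,2),
   ([3,4,2,4,2,1,1],686,2),
   ([3,0,1,4,0,1,1],687,0),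
   ([0,1,0,1,3,2,2],687,1),
   ([3,2,1,3,0,0,2],687,2)]

/-- A block of images of the fixed vector. -/
def vOrbB13 : List (List ℕ × ℕ × ℕ) :=
  [([0,2,1,3,3,1,4],687,3),
   ([4,4,1,1,0,2,4],688,2),
   ([2,4,3,3,2,3,1],689,2),
   ([0,4,1,0,0,2,4],690,0),
   ([1,3,0,0,2,3,1],690,1),
   ([1,2,2,1,3,2,1],690,2),
   ([2,1,2,3,2,2,2],690,3),
   ([3,4,1,4,4,2,4],692,0),
   ([1,4,2,2,1,3,1],692,1),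
   ([3,4,4,4,2,2,1],692,2),
   ([2,1,4,1,1,3,1],692,3),
   ([4,2,2,2,1,3,0],693,0),
   ([3,2,3,2,4,0,3],693,1),
   ([3,1,3,1,2,2,3],693,2),
   ([2,3,3,3,4,4,3],693,3),
   ([2,1,1,2,1,2,1],694,0),
   ([4,1,3,2,2,2,3],694,1),
   ([2,2,1,1,0,4,3],694,2),
   ([4,3,1,0,2,2,4],694,3),
   ([1,3,4,1,1,1,2],695,0),
   ([3,0,1,3,2,1,3],695,2),
   ([1,3,1,4,4,1,2],695,3),
   ([0,0,3,2,2,0,4],696,1),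
   ([4,4,1,4,1,1,4],696,2),
   ([3,0,3,0,0,1,4],697,0),
   ([0,1,0,0,1,3,0],697,1),
   ([3,1,1,1,1,3,0],697,2),
   ([3,0,1,4,1,1,4],697,3),
   ([3,4,1,0,0,1,2],698,0),
   ([1,4,0,0,2,4,3],698,1),
   ([1,3,2,3,2,3,1],698,3),
   ([4,2,2,3,2,4,0],699,0),
   ([3,2,1,0,0,0,4],699,1),
   ([0,1,1,4,4,1,4],699,2),
   ([1,4,1,0,0,4,3],699,3),
   ([3,0,1,2,4,1,4],700,1),
   ([2,4,1,1,3,2,4],700,2),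
   ([2,4,1,3,4,2,0],700,3),
   ([3,4,2,3,2,1,2],701,0),
   ([1,3,1,4,3,1,3],701,2),
   ([1,3,1,0,0,3,1],701,3),
   ([3,0,1,3,3,3,1],702,0),
   ([0,1,4,4,0,2,4],702,1),
   ([3,4,1,4,0,1,4],702,3),
   ([0,0,1,1,3,2,0],703,1),
   ([3,4,2,1,3,2,0],703,2),
   ([1,3,4,4,4,0,2],704,2),
   ([1,2,3,2,0,2,0],705,0),
   ([3,1,0,3,4,0,2],705,1),
   ([4,1,3,1,1,3,2],705,2),
   ([3,2,3,4,4,3,4],705,3),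
   ([2,2,2,2,1,2,4],706,1),
   ([1,1,4,3,0,3,4],706,2),
   ([3,4,4,1,1,0,3],706,3),
   ([4,3,2,2,1,2,0],707,0),
   ([2,4,3,2,4,0,2],707,1),
   ([0,2,3,0,1,3,2],707,2),
   ([3,2,3,3,4,2,1],707,3),
   ([2,1,2,0,1,3,4],708,0),
   ([4,1,3,4,1,3,2],708,1),
   ([2,1,1,2,3,1,2],708,2),
   ([4,2,4,1,1,0,1],709,0),
   ([0,4,1,3,0,1,1],709,2),
   ([1,1,1,4,4,4,3],709,3),
   ([2,1,1,1,4,3,1],710,0),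
   ([4,1,2,0,4,2,4],710,1),
   ([2,0,1,3,3,3,4],710,2),
   ([3,4,1,1,4,2,4],710,3),
   ([1,3,2,4,2,2,0],711,0),
   ([2,3,1,4,4,0,2],711,1),
   ([2,0,2,2,1,3,2],711,2),
   ([3,2,2,0,4,1,2],711,3),
   ([1,1,4,0,4,3,4],712,0),
   ([4,4,2,1,1,3,2],712,1),
   ([1,2,1,0,1,0,1],712,3),
   ([4,2,1,1,4,4,3],713,0),
   ([4,0,2,1,2,3,1],714,1),
   ([2,1,2,2,3,2,1],714,2),
   ([2,1,2,4,2,1,0],714,3),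
   ([2,2,4,1,1,3,0],715,0),
   ([3,3,3,3,4,0,3],715,1),
   ([4,4,1,2,2,2,3],715,2),
   ([1,1,4,0,2,2,1],716,0),
   ([4,4,1,3,2,2,3],716,1),
   ([3,2,2,2,0,4,3],716,2),
   ([4,3,2,1,2,0,1],716,3),
   ([1,3,1,0,2,3,4],717,0),
   ([2,3,1,3,1,3,2],717,1),
   ([3,1,1,1,3,1,2],717,2),
   ([1,2,1,2,1,1,2],717,3),
   ([3,4,2,3,3,2,1],718,0),
   ([1,4,4,4,2,2,3],718,1),
   ([4,4,3,3,0,4,3],718,2),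
   ([4,3,3,2,2,3,1],718,3),
   ([4,0,1,3,3,1,2],719,0),
   ([0,3,4,4,0,4,3],719,1),
   ([1,0,1,3,3,1,3],719,2),
   ([1,3,1,4,0,3,2],719,3),
   ([3,1,1,2,1,2,4],720,0),
   ([0,1,1,3,3,2,1],720,2),
   ([2,1,1,0,2,4,2],720,3),
   ([4,4,1,2,4,0,3],721,2),
   ([0,0,4,1,2,1,4],722,0),
   ([2,4,3,3,1,3,0],722,2),
   ([2,1,3,3,3,0,1],723,2),
   ([2,1,3,0,1,1,0],724,2),
   ([4,3,1,0,3,0,1],725,1),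
   ([2,3,4,3,4,4,1],725,2),
   ([4,1,4,2,3,4,2],725,3),
   ([4,2,1,4,1,4,0],732,2),
   ([3,1,2,1,3,4,2],733,2),
   ([1,3,1,2,1,4,2],734,0),
   ([3,0,1,2,3,3,1],734,2),
   ([3,1,1,0,2,1,2],734,3),
   ([0,1,2,2,3,0,2],735,1),
   ([3,1,1,1,0,3,2],735,2),
   ([3,2,1,4,3,1,4],735,3),
   ([1,4,1,3,1,1,4],736,1),
   ([1,1,1,0,0,2,4],736,2),
   ([2,4,1,2,1,3,1],736,3),
   ([4,2,2,3,3,4,2],737,0),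
   ([3,2,4,4,2,4,1],737,1),
   ([3,3,3,4,3,3,1],737,2),
   ([3,1,3,2,2,4,3],737,3),
   ([3,2,1,4,0,2,4],738,0)]

/-- A block of images of the fixed vector. -/
def vOrbB14 : List (List ℕ × ℕ × ℕ) :=
  [([3,0,0,1,3,3,1],738,1),
   ([2,4,1,1,4,2,1],738,2),
   ([2,1,1,3,3,2,0],738,3),
   ([1,0,1,4,0,1,3],739,2),
   ([1,3,4,2,2,4,0],740,2),
   ([4,0,1,3,1,4,0],741,2),
   ([4,0,0,3,4,4,4],742,1),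
   ([1,3,3,4,3,0,4],742,2),
   ([0,4,3,4,4,1,0],742,3),
   ([0,2,3,4,4,2,0],743,0),
   ([1,0,3,4,2,3,2],743,2),
   ([3,2,3,2,0,1,1],743,3),
   ([2,3,4,0,0,0,1],744,0),
   ([2,0,0,0,3,2,1],744,1),
   ([4,3,3,1,4,1,1],744,2),
   ([1,1,3,2,3,3,0],744,3),
   ([1,2,4,1,3,1,3],745,1),
   ([4,0,0,0,1,3,3],745,2),
   ([3,3,0,3,3,1,3],745,3),
   ([1,0,3,3,0,0,1],746,0),
   ([0,2,0,2,3,2,1],746,1),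
   ([4,4,4,3,4,1,1],746,2),
   ([1,1,4,4,3,2,3],746,3),
   ([3,4,2,0,0,3,3],747,0),
   ([1,4,0,0,4,1,1],747,1),
   ([0,1,4,1,4,3,1],747,3),
   ([4,4,0,3,3,2,1],748,0),
   ([1,4,4,2,1,4,3],748,2),
   ([1,0,0,3,4,0,1],749,0),
   ([0,2,2,3,0,2,1],749,1),
   ([2,2,1,2,1,1,1],749,2),
   ([1,1,1,3,0,2,3],749,3),
   ([3,1,0,2,4,3,3],750,0),
   ([4,3,2,4,1,1,1],750,1),
   ([1,4,0,3,2,0,1],750,2),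
   ([0,1,0,3,1,4,2],750,3),
   ([4,4,3,0,2,2,1],751,0),
   ([0,3,0,4,3,4,3],751,2),
   ([4,3,0,3,0,0,4],751,3),
   ([3,1,1,1,2,1,4],752,1),
   ([1,2,1,2,1,2,4],752,2),
   ([2,4,1,4,2,3,4],752,3),
   ([0,4,1,1,1,2,4],753,0),
   ([1,3,3,3,3,3,1],753,1),
   ([3,1,0,3,4,2,1],753,2),
   ([2,1,0,0,3,2,2],753,3),
   ([1,2,1,4,2,1,3],754,0),
   ([2,3,0,0,1,2,4],754,2),
   ([2,4,0,2,2,3,4],754,3),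
   ([0,1,4,3,3,1,1],755,1),
   ([3,1,1,0,4,0,1],755,2),
   ([4,1,1,3,2,2,4],756,0),
   ([4,0,1,0,3,3,1],756,1),
   ([0,2,4,0,4,2,1],756,2),
   ([2,1,4,2,3,1,0],756,3),
   ([3,2,3,2,4,2,1],757,1),
   ([0,3,1,0,3,2,3],758,0),
   ([3,3,3,3,3,1,0],758,2),
   ([2,2,3,0,2,4,2],759,0),
   ([3,3,1,3,0,4,1],759,1),
   ([0,1,0,0,1,3,1],759,2),
   ([3,1,0,3,0,0,2],759,3),
   ([0,4,0,1,1,3,1],760,0),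
   ([1,3,3,3,1,2,4],760,1),
   ([0,4,3,4,0,3,4],760,2),
   ([3,4,3,2,1,2,2],760,3),
   ([4,2,1,2,0,3,3],762,2),
   ([1,2,4,4,3,4,4],763,0),
   ([3,1,4,3,0,3,3],763,1),
   ([4,2,3,3,3,0,3],763,2),
   ([0,3,3,3,0,3,4],763,3),
   ([3,3,1,4,4,0,3],764,2),
   ([0,3,1,4,1,1,0],764,3),
   ([2,2,1,4,1,1,2],765,0),
   ([3,3,3,0,0,4,3],765,1),
   ([2,2,3,4,3,1,3],765,2),
   ([1,3,3,0,0,0,2],765,3),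
   ([4,1,4,0,0,0,3],766,0),
   ([4,0,0,0,3,1,3],766,1),
   ([1,1,3,4,1,3,3],766,2),
   ([3,3,3,2,3,1,0],766,3),
   ([0,4,1,4,1,2,0],767,0),
   ([3,2,3,0,0,2,2],767,3),
   ([4,2,3,4,0,3,1],768,0),
   ([3,2,0,1,2,2,4],768,1),
   ([1,2,0,1,1,3,4],768,2),
   ([3,4,0,4,2,4,3],768,3),
   ([3,3,3,4,2,0,4],769,0),
   ([2,2,1,4,1,3,4],769,1),
   ([1,4,4,4,0,4,4],769,2),
   ([4,4,4,3,1,0,3],769,3),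
   ([0,2,4,1,0,1,2],770,0),
   ([0,2,4,1,0,1,3],770,2),
   ([1,3,4,2,2,1,1],770,3),
   ([1,0,0,4,1,3,3],771,1),
   ([3,1,3,3,4,0,3],771,2),
   ([0,3,3,3,1,4,0],771,3),
   ([3,3,2,4,0,1,2],772,0),
   ([2,2,0,1,0,4,3],772,1),
   ([2,3,3,0,3,1,3],772,2),
   ([1,3,3,1,0,0,3],772,3),
   ([1,2,1,4,0,0,3],773,0),
   ([3,1,0,1,3,1,3],773,1),
   ([1,4,1,0,1,3,3],773,2),
   ([3,3,1,3,3,3,4],773,3),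
   ([0,4,3,3,1,3,0],774,0),
   ([2,3,1,4,3,2,3],774,2),
   ([2,3,1,1,0,2,2],774,3),
   ([2,4,4,1,3,3,4],775,1),
   ([3,1,0,4,2,4,4],775,2),
   ([2,0,3,3,0,0,3],776,0),
   ([0,4,0,2,3,1,3],776,1),
   ([2,4,4,1,1,3,3],776,2),
   ([3,3,4,4,3,4,1],776,3),
   ([4,1,2,2,1,3,3],777,1),
   ([4,3,4,1,4,0,3],777,2),
   ([2,2,0,3,3,4,2],778,0),
   ([1,2,4,3,4,3,1],778,2),
   ([0,1,4,1,0,2,4],779,0),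
   ([4,2,0,4,2,3,1],779,1),
   ([3,4,4,0,3,2,1],779,2),
   ([2,1,4,2,2,3,3],779,3),
   ([0,3,1,3,2,2,1],780,0),
   ([2,1,1,0,3,2,3],780,1),
   ([2,1,4,3,1,4,3],780,2)]

/-- A block of images of the fixed vector. -/
def vOrbB15 : List (List ℕ × ℕ × ℕ) :=
  [([4,3,4,2,3,4,4],780,3),
   ([4,3,2,3,1,4,4],782,1),
   ([4,0,1,2,2,3,1],783,0),
   ([0,3,1,1,4,2,4],783,1),
   ([4,4,3,4,3,3,4],783,2),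
   ([3,4,3,2,4,3,2],783,3),
   ([1,4,1,0,3,0,4],784,0),
   ([1,0,4,2,3,3,4],784,1),
   ([4,4,3,4,3,4,0],784,3),
   ([0,2,2,2,1,3,4],785,0),
   ([1,4,3,2,1,1,2],785,2),
   ([2,4,3,1,3,3,3],786,1),
   ([4,0,4,3,1,0,3],786,2),
   ([0,3,4,3,3,2,1],786,3),
   ([0,4,3,0,1,4,3],787,1),
   ([2,1,4,3,4,1,3],787,2),
   ([1,3,4,4,1,4,1],787,3),
   ([3,3,2,4,2,0,3],788,0),
   ([3,4,2,2,2,3,3],788,2),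
   ([3,3,2,0,4,0,3],788,3),
   ([0,4,4,3,3,4,2],789,0),
   ([1,1,2,0,2,3,1],789,2),
   ([3,1,2,3,1,2,2],789,3),
   ([2,1,2,2,4,0,4],790,0),
   ([4,1,2,4,0,3,4],790,1),
   ([4,0,4,0,4,4,4],790,2),
   ([4,4,4,4,0,2,4],790,3),
   ([1,3,4,3,2,0,3],791,0),
   ([4,2,0,3,2,3,3],791,2),
   ([3,3,0,1,4,1,2],791,3),
   ([2,4,0,0,1,4,4],792,0),
   ([1,2,3,4,2,3,3],792,1),
   ([0,3,2,2,2,1,3],792,3),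
   ([2,2,4,4,0,4,3],793,0),
   ([3,3,2,3,1,4,2],793,2),
   ([4,2,2,2,4,0,2],793,3),
   ([4,2,3,2,4,1,4],794,1),
   ([4,1,3,1,3,2,4],794,2),
   ([3,2,3,0,3,2,4],795,0),
   ([3,0,4,2,2,3,1],795,1),
   ([1,3,2,3,3,2,1],795,2),
   ([2,1,2,0,2,2,0],795,3),
   ([0,0,2,2,3,0,2],796,2),
   ([2,3,2,0,4,2,0],797,0),
   ([2,0,2,1,2,0,2],797,1),
   ([3,2,2,4,2,3,0],797,3),
   ([0,3,1,4,2,3,0],798,2),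
   ([3,0,1,2,2,4,3],798,3),
   ([2,1,2,0,4,3,1],799,1),
   ([0,1,1,4,0,2,1],799,2),
   ([2,1,1,1,4,4,4],799,3),
   ([0,2,2,4,2,3,0],800,0),
   ([3,4,1,4,4,0,3],800,1),
   ([2,3,2,0,4,1,1],800,3),
   ([2,4,3,2,4,2,1],801,0),
   ([1,2,2,4,2,2,3],801,1),
   ([3,2,1,3,0,4,3],801,2),
   ([4,3,1,2,2,1,3],801,3),
   ([1,3,1,1,4,3,3],802,0),
   ([3,0,1,1,0,0,1],802,2),
   ([0,1,1,1,4,1,2],802,3),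
   ([1,4,3,1,2,3,4],803,0),
   ([1,0,1,2,4,3,2],803,1),
   ([1,2,1,3,4,4,0],803,3),
   ([3,3,1,0,0,2,1],804,0),
   ([2,2,0,0,2,2,3],804,1),
   ([3,4,2,4,0,4,3],804,2),
   ([4,3,2,3,2,0,3],804,3),
   ([3,1,1,3,4,3,0],805,0),
   ([3,3,3,4,0,2,3],805,2),
   ([2,3,3,1,2,4,2],805,3),
   ([4,1,2,4,2,1,0],806,1),
   ([2,4,1,1,2,1,0],806,2),
   ([1,0,1,2,2,2,4],806,3),
   ([0,4,4,4,3,1,0],807,0),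
   ([4,1,3,3,0,2,2],807,3),
   ([1,1,3,3,1,4,2],808,2),
   ([2,0,0,3,4,0,3],809,0),
   ([0,4,2,3,0,1,3],809,1),
   ([0,2,1,0,3,3,3],809,2),
   ([2,3,4,1,3,4,4],810,0),
   ([2,0,4,1,3,3,3],810,1),
   ([2,1,0,3,1,0,3],810,2),
   ([0,3,0,3,3,3,0],810,3),
   ([1,2,1,1,2,3,2],811,1),
   ([3,4,1,3,4,1,2],811,2),
   ([1,0,0,2,2,2,1],812,0),
   ([0,2,1,1,2,2,3],812,1),
   ([2,1,1,0,0,4,3],812,2),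
   ([4,3,1,4,2,2,3],812,3),
   ([1,4,1,0,4,1,2],813,0),
   ([1,0,2,1,0,4,3],813,1),
   ([1,1,0,0,3,1,3],813,2),
   ([1,3,0,1,0,4,0],813,3),
   ([3,1,1,4,2,2,1],814,0),
   ([1,3,0,3,0,4,3],814,2),
   ([4,3,0,2,2,4,2],814,3),
   ([2,0,0,3,4,3,3],815,1),
   ([4,3,3,4,2,0,3],815,2),
   ([0,3,3,4,4,3,0],815,3),
   ([4,4,1,2,0,4,3],816,1),
   ([3,2,2,1,3,1,3],816,2),
   ([3,2,1,0,3,0,3],817,0),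
   ([3,0,4,2,3,1,3],817,1),
   ([3,3,3,4,3,2,0],817,3),
   ([0,3,3,3,1,4,1],818,2),
   ([4,4,1,3,0,3,2],819,1),
   ([0,4,0,2,2,1,2],819,2),
   ([3,3,0,4,2,1,2],820,0),
   ([2,2,1,4,0,4,3],820,1),
   ([2,4,3,3,3,1,3],820,2),
   ([1,3,3,4,0,0,3],820,3),
   ([3,3,3,4,2,4,3],822,2),
   ([0,2,4,3,3,3,4],823,0),
   ([3,4,4,4,1,3,2],823,1),
   ([2,4,2,2,3,1,2],823,2),
   ([4,3,3,2,2,4,3],824,0),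
   ([2,4,1,1,3,1,2],824,1),
   ([1,1,2,4,0,4,2],824,2),
   ([4,2,2,3,3,2,1],824,3),
   ([0,2,3,0,0,4,3],825,0),
   ([3,4,0,0,1,1,2],825,1),
   ([3,3,1,0,3,4,2],825,2),
   ([4,2,1,4,1,1,1],825,3),
   ([2,1,3,0,0,0,1],826,1)]

/-- A block of images of the fixed vector. -/
def vOrbB16 : List (List ℕ × ℕ × ℕ) :=
  [([3,2,3,1,1,4,1],826,2),
   ([4,0,0,1,1,4,2],827,0),
   ([4,4,3,4,2,3,1],827,2),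
   ([3,1,3,2,1,3,2],827,3),
   ([2,1,1,4,1,2,2],828,0),
   ([0,1,3,0,4,0,4],828,2),
   ([0,4,3,0,0,2,4],828,3),
   ([1,3,1,1,3,0,0],829,1),
   ([0,0,2,3,3,2,2],829,3),
   ([2,4,3,2,0,0,3],830,2),
   ([1,3,0,3,4,3,0],831,0),
   ([2,3,2,3,0,0,3],831,1),
   ([3,2,1,1,3,2,3],831,2),
   ([2,3,1,3,0,1,2],831,3),
   ([3,4,0,2,3,0,2],832,0),
   ([2,2,3,1,4,3,1],832,3),
   ([3,4,3,0,1,2,4],833,0),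
   ([1,4,3,4,3,3,1],833,1),
   ([4,4,3,4,4,2,1],833,2),
   ([2,1,3,1,3,3,1],833,3),
   ([4,4,3,4,0,2,4],834,0),
   ([1,1,0,1,2,3,1],834,1),
   ([2,1,0,4,2,0,4],834,3),
   ([2,4,1,3,3,3,0],835,0),
   ([1,2,4,4,0,0,3],835,1),
   ([3,3,1,2,3,2,3],835,2),
   ([0,1,1,3,3,2,3],836,1),
   ([1,2,3,1,1,4,3],836,2),
   ([4,3,3,0,3,1,4],836,3),
   ([1,3,0,4,2,0,3],837,0),
   ([1,3,3,1,3,3,3],837,2),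
   ([3,3,3,4,0,1,2],837,3),
   ([3,0,1,4,3,0,0],838,1),
   ([3,4,1,4,3,0,0],839,1),
   ([0,0,1,1,3,2,2],840,0),
   ([1,3,4,4,1,0,4],840,2),
   ([0,4,1,1,3,0,0],841,1),
   ([1,4,1,1,3,0,0],842,0),
   ([0,0,4,4,2,4,0],842,3),
   ([0,0,2,3,3,3,2],843,0),
   ([2,0,3,3,2,4,0],843,2),
   ([0,0,1,1,3,4,0],844,1),
   ([3,2,2,4,3,4,0],844,2),
   ([4,0,4,1,2,4,0],845,0),
   ([0,3,1,2,1,0,4],845,1),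
   ([1,4,3,1,1,3,2],845,3),
   ([4,3,3,1,1,4,3],846,1),
   ([4,2,2,4,4,1,3],846,2),
   ([1,3,2,0,1,4,2],846,3),
   ([4,0,2,1,4,4,0],847,0),
   ([0,3,2,0,1,0,4],847,1),
   ([4,0,3,3,0,1,4],847,2),
   ([1,4,3,4,1,3,2],847,3),
   ([1,0,3,3,1,1,3],848,0),
   ([0,2,3,1,0,1,4],848,1),
   ([2,2,1,4,4,2,4],848,2),
   ([2,4,1,1,0,2,3],848,3),
   ([3,4,2,0,1,3,4],849,0),
   ([1,4,1,2,3,1,2],849,2),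
   ([1,2,1,3,1,3,1],849,3),
   ([0,0,4,4,2,0,3],850,3),
   ([2,2,3,0,0,2,3],852,2),
   ([3,0,3,3,1,2,1],853,0),
   ([0,1,3,1,0,2,3],853,1),
   ([0,1,3,2,0,4,3],854,0),
   ([4,2,0,3,4,1,2],854,1),
   ([4,2,3,4,4,3,3],854,3),
   ([0,3,0,3,4,3,2],855,1),
   ([4,0,3,3,1,1,2],855,2),
   ([1,2,3,4,4,3,2],855,3),
   ([2,3,1,1,2,2,1],856,0),
   ([2,0,1,2,0,2,3],856,1),
   ([4,3,2,2,0,3,0],856,3),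
   ([1,3,3,0,1,1,2],857,0),
   ([2,3,3,4,3,4,3],857,1),
   ([1,4,3,0,1,1,3],857,2),
   ([1,3,3,1,3,1,2],857,3),
   ([3,1,3,4,4,1,4],858,0),
   ([3,4,3,4,0,3,0],858,2),
   ([3,0,3,2,0,4,2],858,3),
   ([4,0,4,2,2,1,2],859,1),
   ([2,1,2,1,4,4,2],859,2),
   ([2,2,1,4,0,1,0],860,0),
   ([3,3,0,1,3,0,1],860,1),
   ([4,0,1,4,4,4,1],860,2),
   ([4,1,1,2,2,4,2],861,0),
   ([4,0,1,1,4,4,1],861,1),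
   ([1,1,3,4,0,3,1],861,2),
   ([3,1,3,2,4,1,0],861,3),
   ([0,3,3,2,0,3,2],862,2),
   ([3,0,3,1,3,4,3],863,0),
   ([1,2,3,1,3,4,2],863,2),
   ([4,2,3,0,1,1,4],863,3),
   ([4,1,1,0,3,1,0],864,0),
   ([4,0,4,2,3,0,1],864,1),
   ([1,4,3,0,4,4,1],864,2),
   ([4,1,3,4,3,1,0],864,3),
   ([2,0,2,2,1,4,2],865,0),
   ([0,4,3,2,4,4,1],865,1),
   ([3,2,3,0,0,3,1],865,2),
   ([3,1,3,3,4,4,1],865,3),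
   ([2,1,3,0,1,2,3],866,0),
   ([0,2,3,0,3,1,0],866,2),
   ([1,0,3,1,3,2,4],866,3),
   ([1,3,2,3,1,0,4],867,1),
   ([1,1,2,1,0,1,4],867,2),
   ([3,1,2,2,4,1,3],868,0),
   ([4,3,2,4,0,1,4],868,1),
   ([2,4,4,2,4,2,4],868,2),
   ([0,1,0,3,4,4,1],869,1),
   ([1,1,3,1,0,3,1],869,2),
   ([4,1,1,1,2,1,3],870,0),
   ([2,2,2,0,4,2,4],870,2),
   ([2,4,2,2,0,1,0],870,3),
   ([0,3,3,2,0,3,1],871,0),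
   ([2,1,0,3,4,2,4],871,1),
   ([3,1,3,1,3,3,4],871,2),
   ([3,4,3,4,4,4,4],871,3),
   ([4,3,3,4,4,2,3],872,0),
   ([0,2,3,1,0,1,0],872,2),
   ([1,0,3,2,0,2,1],872,3),
   ([1,3,3,0,1,4,1],873,0),
   ([2,3,3,4,3,2,0],873,1),
   ([1,3,3,4,3,2,0],873,2),
   ([2,0,3,1,3,1,2],873,3)]

/-- A block of images of the fixed vector. -/
def vOrbB17 : List (List ℕ × ℕ × ℕ) :=
  [([4,4,4,0,0,2,0],874,0),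
   ([1,1,0,0,3,0,2],874,1),
   ([2,2,3,4,0,3,2],874,2),
   ([3,2,3,2,3,0,4],874,3),
   ([0,2,4,3,0,2,2],876,0),
   ([3,4,0,2,0,4,4],876,1),
   ([3,3,1,2,4,0,4],876,2),
   ([0,4,1,2,0,1,1],876,3),
   ([1,3,1,4,0,2,4],877,0),
   ([2,3,0,1,3,3,1],877,1),
   ([3,2,1,1,4,2,1],877,2),
   ([2,1,1,3,3,1,2],877,3),
   ([0,1,2,3,2,3,1],878,1),
   ([1,1,3,4,3,2,1],878,2),
   ([2,1,3,1,2,1,4],878,3),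
   ([4,1,2,1,3,3,0],879,0),
   ([4,0,4,1,4,0,3],879,1),
   ([3,2,1,0,2,2,3],879,2),
   ([2,3,1,2,4,1,0],879,3),
   ([3,3,1,2,4,1,0],880,2),
   ([0,2,3,2,4,3,3],881,0),
   ([3,3,1,2,3,0,1],881,2),
   ([0,1,1,2,2,1,1],881,3),
   ([2,0,3,4,4,2,3],882,2),
   ([0,3,2,1,2,2,3],883,0),
   ([2,0,4,4,2,1,0],883,2),
   ([1,0,4,0,2,4,4],883,3),
   ([4,0,1,1,3,1,0],884,1),
   ([2,0,2,2,3,1,0],884,2),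
   ([1,0,2,3,3,1,0],884,3),
   ([2,2,1,1,3,3,3],885,0),
   ([3,3,4,1,2,1,1],885,1),
   ([1,1,4,4,3,0,1],885,2),
   ([0,1,4,4,2,0,2],885,3),
   ([1,3,0,0,4,1,0],886,0),
   ([2,3,2,1,3,0,1],886,1),
   ([1,0,3,4,4,4,1],886,2),
   ([4,1,3,3,3,1,2],886,3),
   ([3,0,2,3,3,2,0],887,0),
   ([3,2,3,2,2,1,4],887,3),
   ([3,4,4,4,3,3,1],888,0),
   ([1,4,4,3,0,2,4],888,1),
   ([3,4,3,3,0,3,1],888,3),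
   ([4,0,4,2,4,2,0],889,0),
   ([0,3,2,4,4,0,2],889,1),
   ([4,0,3,2,1,3,2],889,2),
   ([3,2,3,0,4,3,2],889,3),
   ([3,3,2,1,1,2,4],890,1),
   ([4,0,1,2,0,3,4],890,2),
   ([3,4,1,0,1,0,2],890,3),
   ([2,3,4,4,1,3,4],891,0),
   ([2,0,3,0,1,3,2],891,1),
   ([1,2,4,4,1,3,0],891,3),
   ([4,2,1,0,1,0,4],892,0),
   ([2,4,4,2,4,3,1],893,0),
   ([1,2,2,4,4,2,4],893,1),
   ([1,4,3,2,3,3,4],893,2),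
   ([3,4,3,0,4,1,3],893,3),
   ([1,0,3,4,1,2,0],894,0),
   ([0,2,3,0,4,0,2],894,1),
   ([1,1,2,3,1,3,2],894,2),
   ([2,3,1,4,4,3,4],895,0),
   ([3,1,4,0,3,1,2],895,2),
   ([1,2,4,1,1,3,0],895,3),
   ([3,1,2,2,3,3,1],896,1),
   ([1,2,1,2,4,2,1],896,2),
   ([2,1,1,4,3,3,4],896,3),
   ([3,0,4,0,3,3,0],897,0),
   ([0,1,4,2,4,0,3],897,1),
   ([2,3,4,3,4,1,4],897,3),
   ([1,4,3,0,3,2,1],898,0),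
   ([1,0,4,2,2,2,3],898,1),
   ([4,1,2,1,0,4,3],898,2),
   ([4,3,2,0,2,4,0],898,3),
   ([2,4,2,2,3,2,4],899,2),
   ([2,4,2,4,4,1,2],899,3),
   ([0,1,1,4,1,3,2],900,1),
   ([0,1,4,2,3,1,2],900,2),
   ([4,1,1,3,4,2,1],901,0),
   ([4,0,2,3,2,2,3],901,1),
   ([1,3,3,2,0,4,3],901,2),
   ([4,3,3,1,2,1,0],901,3),
   ([4,2,4,4,3,1,2],902,0),
   ([3,2,4,3,0,4,3],902,1),
   ([3,2,3,2,3,1,3],902,2),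
   ([1,3,3,3,0,4,3],902,3),
   ([3,1,4,3,1,2,3],903,0),
   ([3,0,3,3,2,1,0],903,2),
   ([1,0,3,4,2,4,2],903,3),
   ([2,1,3,0,4,4,2],904,0),
   ([4,1,2,1,4,4,1],904,1),
   ([4,2,4,4,0,3,1],904,2),
   ([3,1,4,2,4,2,4],904,3),
   ([3,2,4,0,0,3,1],905,0),
   ([3,0,0,0,3,2,4],905,1),
   ([0,1,3,4,2,3,4],905,2),
   ([3,4,3,2,3,2,0],905,3),
   ([3,0,2,2,0,3,2],907,0),
   ([0,1,0,3,2,4,0],907,1),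
   ([3,4,1,2,2,4,0],907,2),
   ([4,0,1,1,2,1,4],907,3),
   ([3,4,4,1,2,1,3],908,0),
   ([1,4,1,2,1,1,4],908,1),
   ([2,4,3,1,1,3,1],908,3),
   ([4,4,3,4,2,2,0],909,0),
   ([1,1,1,4,1,0,2],909,1),
   ([1,4,4,0,3,3,2],909,2),
   ([3,2,4,3,1,0,4],909,3),
   ([2,4,1,3,4,3,2],910,0),
   ([1,2,2,3,2,4,0],910,1),
   ([1,0,3,2,2,4,0],910,2),
   ([4,0,3,1,2,1,3],910,3),
   ([3,0,0,3,0,3,2],911,0),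
   ([0,1,0,2,2,4,0],911,1),
   ([1,2,3,1,2,4,0],911,2),
   ([4,0,3,0,2,1,4],911,3),
   ([4,1,4,3,1,0,3],912,0),
   ([1,0,3,1,0,3,3],912,2),
   ([3,3,3,4,2,1,0],912,3),
   ([0,0,4,4,2,1,2],913,3),
   ([2,0,3,3,4,4,2],914,2),
   ([4,4,1,2,3,0,2],915,2),
   ([1,3,3,1,2,0,2],916,0),
   ([2,3,1,2,4,4,2],916,1),
   ([3,2,1,1,1,2,2],916,2)]

/-- A block of images of the fixed vector. -/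
def vOrbB18 : List (List ℕ × ℕ × ℕ) :=
  [([2,2,1,3,4,1,2],916,3),
   ([4,2,3,3,4,0,1],917,0),
   ([3,2,2,3,1,2,1],917,1),
   ([4,0,2,1,2,1,1],917,2),
   ([1,1,2,2,1,4,3],917,3),
   ([2,1,1,2,2,0,2],918,0),
   ([0,3,3,0,1,2,2],918,2),
   ([2,2,3,2,4,2,4],918,3),
   ([2,4,1,1,0,1,1],919,0),
   ([1,2,0,4,1,2,2],919,1),
   ([1,3,3,3,3,0,2],919,2),
   ([0,2,3,3,1,1,3],919,3),
   ([3,3,2,2,1,3,1],920,0),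
   ([2,0,3,0,3,3,4],920,2),
   ([3,4,3,3,4,0,3],920,3),
   ([2,3,0,1,1,4,0],921,0),
   ([1,4,3,2,1,3,0],921,3),
   ([0,0,4,4,2,3,0],922,1),
   ([2,4,3,2,4,1,4],923,0),
   ([1,2,2,4,2,3,0],923,1),
   ([3,0,1,2,2,1,3],923,3),
   ([4,0,1,3,0,0,4],924,1),
   ([4,0,0,2,4,1,4],924,2),
   ([1,4,0,3,0,1,0],924,3),
   ([2,2,1,4,2,1,4],925,0),
   ([0,4,0,4,2,3,0],925,2),
   ([3,0,0,2,2,0,2],925,3),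
   ([4,1,2,3,3,1,4],926,0),
   ([4,0,4,4,2,3,0],926,1),
   ([1,1,3,4,2,3,0],926,2),
   ([3,0,3,2,2,1,0],926,3),
   ([3,2,0,3,0,2,0],927,0),
   ([0,2,3,2,4,3,2],927,2),
   ([3,2,3,0,2,2,0],927,3),
   ([1,3,2,4,0,4,0],928,0),
   ([2,3,0,1,0,0,4],928,1),
   ([1,4,3,0,4,1,4],928,2),
   ([1,4,3,1,0,1,2],928,3),
   ([3,4,4,0,1,1,4],929,0),
   ([1,4,3,4,0,3,0],929,1),
   ([3,0,0,4,0,3,1],929,3),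
   ([2,0,0,1,3,1,4],930,0),
   ([0,4,4,1,0,3,0],930,1),
   ([4,3,2,3,0,3,0],930,2),
   ([3,0,2,1,0,4,1],930,3),
   ([3,2,3,1,0,2,4],931,0),
   ([1,1,2,2,1,2,1],931,2),
   ([2,1,2,4,0,2,0],931,3),
   ([2,0,0,4,4,3,4],932,1),
   ([1,1,1,1,3,4,4],932,2),
   ([4,4,1,0,4,3,0],932,3),
   ([4,4,4,1,0,1,3],933,1),
   ([3,3,2,3,3,3,3],933,2),
   ([3,3,2,1,0,0,1],933,3),
   ([0,3,2,1,0,4,4],934,0),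
   ([2,1,0,4,3,3,3],934,1),
   ([1,3,0,1,1,0,3],934,2),
   ([0,3,0,1,3,4,4],934,3),
   ([2,2,1,0,4,1,0],935,0),
   ([0,1,0,2,1,4,1],935,2),
   ([4,1,0,1,0,0,2],935,3),
   ([2,2,4,3,3,3,0],936,1),
   ([4,4,1,2,3,3,0],936,2),
   ([4,3,1,3,2,4,4],937,0),
   ([2,4,1,0,3,3,3],937,1),
   ([4,3,4,2,1,0,3],937,2),
   ([0,3,4,2,3,2,1],937,3),
   ([1,4,0,1,1,3,0],938,0),
   ([3,2,3,0,4,2,3],938,2),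
   ([4,0,3,3,4,1,1],939,2),
   ([1,1,3,4,3,3,2],939,3),
   ([4,1,3,1,0,4,3],940,0),
   ([4,0,0,4,0,1,2],940,1),
   ([2,4,2,0,2,4,2],940,2),
   ([4,2,2,4,0,1,0],940,3),
   ([2,4,1,1,0,4,2],941,0),
   ([1,2,0,4,1,4,1],941,1),
   ([1,0,3,0,2,3,1],941,2),
   ([3,1,3,3,1,1,3],941,3),
   ([1,1,4,0,3,1,1],943,2),
   ([1,0,4,4,4,2,2],944,2),
   ([0,1,2,4,0,2,2],945,0),
   ([4,2,0,1,0,4,4],945,1),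
   ([4,4,3,1,4,0,4],945,2),
   ([0,4,3,1,0,3,3],945,3),
   ([3,4,1,3,4,4,1],946,0),
   ([1,4,2,3,2,2,0],946,1),
   ([2,3,2,3,3,2,3],947,0),
   ([1,0,3,2,2,3,0],947,3),
   ([2,4,1,3,2,3,3],948,0),
   ([0,1,4,2,4,0,1],948,2),
   ([3,0,4,2,4,1,0],949,0),
   ([0,1,2,4,4,0,1],949,1),
   ([1,2,3,1,0,4,1],949,2),
   ([4,1,3,0,4,1,4],949,3),
   ([2,1,3,0,3,1,2],950,2),
   ([1,4,3,1,3,4,0],951,0),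
   ([1,0,4,1,1,0,4],951,1),
   ([3,4,3,4,0,1,4],951,2),
   ([1,4,3,0,1,4,0],951,3),
   ([3,3,4,0,1,4,0],952,2),
   ([1,3,4,4,2,3,4],953,0),
   ([2,3,1,4,3,3,2],953,1),
   ([1,2,1,1,3,1,2],953,3),
   ([4,0,4,0,0,2,3],954,1),
   ([4,3,4,0,0,1,0],954,3),
   ([2,2,1,1,1,3,4],955,0),
   ([3,3,3,3,3,3,2],955,1),
   ([0,2,0,4,0,1,2],955,2),
   ([1,2,0,0,3,0,2],955,3),
   ([1,3,4,4,3,4,3],956,0),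
   ([2,3,4,3,0,1,2],956,1),
   ([4,2,3,3,0,1,2],956,3),
   ([2,4,4,0,0,2,0],957,0),
   ([1,3,3,4,0,3,2],957,2),
   ([3,3,4,2,1,4,3],958,0),
   ([2,2,3,2,3,1,2],958,1),
   ([3,1,2,0,0,4,2],958,2),
   ([4,2,2,4,3,0,3],958,3),
   ([2,4,4,3,3,1,4],959,0),
   ([2,0,2,0,1,3,0],959,2),
   ([3,0,2,3,1,1,3],959,3),
   ([2,1,4,1,1,1,0],960,1),
   ([3,0,3,4,1,1,0],960,2),
   ([1,0,3,0,1,4,4],960,3)]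

/-- A block of images of the fixed vector. -/
def vOrbB19 : List (List ℕ × ℕ × ℕ) :=
  [([3,4,4,2,3,1,1],961,1),
   ([1,2,3,4,4,0,1],961,2),
   ([0,1,3,4,3,1,1],961,3),
   ([0,1,1,2,2,1,0],962,0),
   ([4,2,1,1,4,0,1],962,1),
   ([4,2,3,3,0,4,1],962,2),
   ([4,1,3,2,4,3,3],962,3),
   ([3,0,3,0,1,3,3],963,0),
   ([1,3,3,1,4,0,1],963,2),
   ([0,1,3,1,3,1,4],963,3),
   ([1,1,2,1,1,1,2],964,1),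
   ([4,2,1,1,3,4,2],964,2),
   ([2,4,3,2,0,1,0],965,0),
   ([1,2,0,3,4,0,1],965,1),
   ([4,1,3,4,4,1,3],965,3),
   ([2,4,3,2,0,4,1],966,1),
   ([2,1,1,0,1,0,3],967,0),
   ([4,3,4,2,2,3,3],967,2),
   ([1,2,4,3,3,2,3],968,0),
   ([3,1,4,4,1,1,0],968,1),
   ([0,1,2,2,1,1,0],968,2),
   ([1,0,2,3,1,3,4],968,3),
   ([1,3,0,0,2,1,0],969,0),
   ([2,3,1,3,4,0,1],969,1),
   ([0,2,4,0,0,4,1],969,2),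
   ([4,1,4,4,4,1,2],969,3),
   ([3,0,1,1,4,4,3],971,0),
   ([0,1,2,0,4,1,2],971,1),
   ([3,4,1,2,1,4,2],971,2),
   ([4,2,1,1,4,1,4],971,3),
   ([3,4,2,4,1,1,0],972,2),
   ([2,3,3,4,2,0,1],973,2),
   ([2,4,0,2,2,1,0],974,0),
   ([1,2,1,1,2,0,1],974,1),
   ([3,1,1,0,3,4,1],974,2),
   ([4,1,1,4,2,1,3],974,3),
   ([3,0,1,4,2,1,2],975,1),
   ([3,0,0,3,4,4,2],975,2),
   ([4,2,0,2,2,2,0],975,3),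
   ([4,4,2,2,0,1,0],976,0),
   ([1,1,0,3,2,0,1],976,1),
   ([4,4,1,2,3,4,1],976,2),
   ([4,1,1,1,2,0,4],976,3),
   ([2,1,4,4,2,4,2],977,0),
   ([4,1,1,4,3,4,1],977,1),
   ([2,0,1,3,4,3,1],977,2),
   ([3,1,1,1,3,2,4],977,3),
   ([2,1,0,2,2,4,0],978,0),
   ([2,3,1,3,1,1,4],978,2),
   ([1,4,1,4,2,2,4],978,3),
   ([2,2,3,0,0,4,0],979,0),
   ([3,3,0,0,1,0,4],979,1),
   ([4,0,1,3,0,1,4],979,2),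
   ([1,4,1,4,1,0,2],979,3),
   ([1,0,4,2,2,1,3],980,0),
   ([0,2,1,1,0,1,4],980,1),
   ([4,2,4,4,4,2,4],980,2),
   ([2,4,4,1,0,2,3],980,3),
   ([3,4,3,4,2,2,0],981,0),
   ([3,2,4,0,3,3,2],981,2),
   ([3,2,4,3,1,3,1],981,3),
   ([0,3,1,2,4,1,2],982,1),
   ([1,0,1,4,1,4,2],982,2),
   ([4,2,1,3,4,3,2],982,3),
   ([2,3,1,0,0,1,0],983,0),
   ([2,0,0,0,2,0,1],983,1),
   ([0,2,2,4,3,4,1],983,2),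
   ([4,1,2,3,2,3,0],983,3),
   ([0,2,0,0,4,4,2],984,0),
   ([3,4,2,1,3,4,1],984,1),
   ([1,2,3,0,4,3,1],984,2),
   ([3,1,3,3,3,1,1],984,3),
   ([2,1,1,3,4,1,4],985,0),
   ([3,0,3,1,2,2,4],985,3),
   ([3,0,4,0,0,1,4],986,1),
   ([4,3,4,3,4,2,4],986,2),
   ([4,4,1,1,1,4,2],987,0),
   ([1,1,3,3,3,4,1],987,1),
   ([0,3,0,2,4,3,1],987,2),
   ([3,1,0,0,3,0,4],987,3),
   ([4,3,2,4,4,3,1],988,1),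
   ([3,1,3,3,0,2,1],988,2),
   ([1,2,4,0,0,4,0],989,0),
   ([4,4,3,1,2,1,4],989,2),
   ([4,2,3,4,2,4,0],990,0),
   ([3,2,1,4,1,0,4],990,1),
   ([2,2,4,2,0,1,4],990,2),
   ([1,4,4,3,1,4,3],990,3),
   ([3,0,1,3,4,1,4],991,0),
   ([0,1,2,3,2,3,0],991,1),
   ([1,0,3,3,2,3,0],991,2),
   ([3,0,3,1,2,1,4],991,3),
   ([3,2,0,3,1,4,3],993,1),
   ([1,0,0,1,4,1,3],993,2),
   ([2,1,3,4,4,4,0],994,0),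
   ([4,1,2,2,0,0,4],994,1),
   ([0,4,3,1,4,1,4],994,2),
   ([1,4,3,2,0,2,4],994,3),
   ([0,4,1,0,1,1,3],995,0),
   ([1,3,3,4,4,1,4],995,1),
   ([2,4,4,0,4,2,2],995,3),
   ([3,4,0,2,1,3,1],996,0),
   ([3,0,4,4,4,3,4],996,2),
   ([3,0,3,1,4,1,2],997,1),
   ([3,0,0,3,1,4,2],997,2),
   ([4,2,0,2,4,2,0],997,3),
   ([4,4,0,3,2,1,0],998,0),
   ([1,1,1,0,1,0,1],998,1),
   ([3,0,2,0,2,4,1],998,2),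
   ([4,1,2,4,1,0,4],998,3),
   ([0,2,4,4,4,4,2],999,0),
   ([3,4,2,2,2,4,1],999,1),
   ([4,1,0,2,3,3,1],999,2),
   ([3,1,0,0,2,1,1],999,3),
   ([2,1,0,2,4,4,0],1000,0),
   ([3,1,0,2,0,1,4],1000,2),
   ([1,4,0,3,1,2,4],1000,3),
   ([1,1,0,0,2,1,3],1001,0),
   ([4,4,1,3,4,1,4],1001,1),
   ([1,0,4,2,3,2,4],1001,2),
   ([2,4,4,4,4,0,1],1001,3),
   ([3,1,0,0,1,4,2],1002,0),
   ([4,3,3,4,2,4,1],1002,1),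
   ([4,4,2,4,3,3,1],1002,2),
   ([3,1,2,2,2,4,2],1002,3)]

/-- A block of images of the fixed vector. -/
def vOrbB20 : List (List ℕ × ℕ × ℕ) :=
  [([2,1,4,1,3,2,4],1003,0),
   ([4,1,4,1,3,3,1],1003,1),
   ([3,0,0,1,4,2,1],1003,2),
   ([2,1,0,3,3,2,4],1003,3),
   ([1,2,4,4,4,0,2],1004,0),
   ([2,4,0,3,4,2,2],1004,2),
   ([2,2,0,0,2,3,4],1004,3),
   ([4,2,0,2,1,1,2],1005,0),
   ([3,2,3,2,0,4,3],1005,1),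
   ([2,0,4,1,3,1,3],1005,2),
   ([4,0,0,0,0,1,3],1006,0),
   ([0,3,0,0,0,1,4],1006,1),
   ([2,4,0,0,0,3,2],1006,3),
   ([2,0,0,4,0,3,4],1007,2),
   ([1,3,1,3,0,1,4],1008,0),
   ([2,3,0,2,4,3,0],1008,1),
   ([4,1,0,0,4,3,0],1008,2),
   ([3,0,0,3,4,1,2],1008,3),
   ([0,4,0,2,3,1,4],1009,0),
   ([1,3,4,0,4,3,0],1009,1),
   ([3,0,3,1,4,2,2],1009,3),
   ([0,4,3,0,1,4,2],1010,2),
   ([4,2,3,4,4,2,0],1010,3),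
   ([4,0,0,3,2,3,4],1011,1),
   ([3,3,1,2,1,4,4],1011,2),
   ([4,4,1,1,2,1,0],1011,3),
   ([2,2,4,3,0,0,3],1012,0),
   ([3,3,0,2,0,1,3],1012,1),
   ([4,4,1,4,3,3,3],1012,2),
   ([3,3,1,2,0,0,2],1012,3),
   ([3,3,2,2,3,4,4],1013,0),
   ([2,2,4,0,3,3,3],1013,1),
   ([3,1,2,2,1,0,3],1013,2),
   ([0,3,2,2,3,0,3],1013,3),
   ([2,2,1,1,2,2,0],1014,0),
   ([3,4,2,4,2,3,2],1014,2),
   ([3,2,2,2,0,0,2],1014,3),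
   ([2,0,3,0,3,1,4],1015,0),
   ([0,4,4,2,2,3,0],1015,1),
   ([4,1,2,2,2,3,0],1015,2),
   ([1,4,1,4,0,4,4],1016,0),
   ([1,0,0,1,3,3,3],1016,1),
   ([0,1,1,3,1,0,3],1016,2),
   ([0,3,1,3,3,4,0],1016,3),
   ([0,4,1,1,0,3,0],1017,0),
   ([1,3,0,4,1,0,3],1017,1),
   ([0,2,3,1,4,2,3],1017,2),
   ([2,3,3,3,1,2,2],1017,3),
   ([4,0,2,0,2,3,2],1018,0),
   ([4,4,3,1,3,4,0],1018,2),
   ([4,0,3,0,3,3,2],1018,3),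
   ([4,1,3,2,0,3,1],1019,0),
   ([4,0,0,3,4,2,4],1019,1),
   ([1,0,3,1,3,3,4],1019,2),
   ([3,4,3,4,4,1,0],1019,3),
   ([3,0,1,3,4,3,4],1020,0),
   ([0,1,2,3,2,3,2],1020,1),
   ([1,2,3,0,4,1,2],1020,2),
   ([1,2,3,1,2,1,4],1020,3),
   ([3,3,3,4,2,3,2],1021,2),
   ([4,1,4,4,1,4,2],1022,0),
   ([4,0,3,0,1,4,1],1022,1),
   ([3,4,4,0,2,2,4],1023,0),
   ([1,4,1,3,2,3,1],1023,1),
   ([0,4,2,4,3,2,1],1023,2),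
   ([2,1,2,1,2,3,1],1023,3),
   ([4,2,4,1,1,3,0],1024,1),
   ([4,4,3,2,1,3,0],1024,2),
   ([0,4,1,0,3,4,4],1025,0),
   ([1,3,4,2,3,3,3],1025,1),
   ([0,1,3,4,1,0,3],1025,2),
   ([0,3,3,4,3,2,2],1025,3),
   ([4,0,2,1,4,3,0],1026,0),
   ([0,3,2,0,1,0,3],1026,1),
   ([4,4,3,2,4,2,3],1026,2),
   ([2,3,3,4,1,3,2],1026,3),
   ([4,0,3,0,1,1,1],1027,0),
   ([4,0,3,1,0,0,2],1027,2),
   ([0,2,3,1,3,3,2],1027,3),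
   ([0,2,3,0,1,3,1],1028,1),
   ([4,3,4,2,2,2,1],1028,2),
   ([2,1,4,4,1,2,3],1028,3),
   ([0,3,3,3,4,2,3],1029,2),
   ([0,2,1,0,1,2,1],1030,0),
   ([3,4,3,4,4,2,3],1030,1),
   ([4,3,4,0,4,1,1],1030,3),
   ([0,4,4,2,1,2,0],1031,2),
   ([4,2,2,1,1,2,0],1032,2),
   ([4,4,3,2,3,2,0],1033,0),
   ([1,1,4,0,0,0,2],1033,1),
   ([1,3,4,2,2,3,2],1033,2),
   ([3,2,4,0,0,0,4],1033,3),
   ([4,3,4,0,1,2,1],1035,2),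
   ([1,3,0,2,4,3,0],1036,0),
   ([2,3,2,4,1,0,3],1036,1),
   ([4,2,0,1,4,2,3],1036,2),
   ([2,3,0,3,1,1,2],1036,3),
   ([3,1,1,3,0,2,1],1037,0),
   ([4,3,0,2,4,2,3],1037,1),
   ([1,0,0,4,2,4,3],1037,2),
   ([4,3,0,3,4,4,2],1037,3),
   ([4,3,0,3,3,4,2],1038,2),
   ([0,1,4,3,2,2,1],1039,0),
   ([2,0,0,2,2,4,3],1039,2),
   ([0,4,3,0,3,3,4],1040,0),
   ([1,2,2,4,4,1,2],1040,2),
   ([1,2,2,0,2,2,2],1040,3),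
   ([2,4,4,0,1,4,2],1041,2),
   ([4,2,4,4,4,4,0],1041,3),
   ([2,4,0,1,4,1,1],1042,0),
   ([0,3,4,3,4,0,2],1042,2),
   ([0,2,4,3,2,1,3],1042,3),
   ([0,0,4,0,3,0,0],1043,1),
   ([3,4,2,2,3,0,0],1043,2),
   ([1,3,2,4,4,0,0],1044,0),
   ([2,3,2,2,3,0,0],1044,1),
   ([3,1,1,4,3,0,0],1044,2),
   ([0,0,1,4,3,1,2],1044,3),
   ([0,0,4,4,2,3,1],1045,3),
   ([4,2,2,4,4,0,0],1046,0),
   ([3,2,2,2,3,0,0],1046,1),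
   ([0,0,1,4,3,4,3],1046,3),
   ([2,4,1,4,3,0,0],1047,1),
   ([0,0,1,1,3,2,1],1047,3),
   ([4,1,1,0,1,1,3],1048,2)]

/-- A block of images of the fixed vector. -/
def vOrbB21 : List (List ℕ × ℕ × ℕ) :=
  [([0,0,4,4,2,2,4],1049,3),
   ([0,0,2,3,3,3,1],1050,0),
   ([2,1,3,4,1,3,4],1050,2),
   ([4,4,2,4,4,0,0],1051,0),
   ([1,1,2,2,3,0,0],1051,1),
   ([4,4,1,4,3,0,0],1051,2),
   ([0,0,1,4,3,0,4],1051,3),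
   ([1,3,1,4,3,0,0],1052,1),
   ([4,1,1,0,2,1,4],1053,2),
   ([0,2,1,4,3,0,0],1054,1),
   ([0,0,2,3,3,1,2],1055,3),
   ([3,2,2,4,1,4,3],1056,2),
   ([2,3,3,1,0,1,3],1057,2),
   ([4,3,4,0,2,1,3],1058,0),
   ([2,4,1,3,2,1,4],1058,1),
   ([1,4,2,4,1,2,4],1058,2),
   ([3,0,2,4,4,0,0],1060,0),
   ([0,1,2,2,3,0,0],1060,1),
   ([0,0,1,4,3,1,4],1060,3),
   ([0,3,1,4,3,0,0],1061,1),
   ([0,0,1,1,3,3,2],1061,3),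
   ([4,0,1,4,2,2,4],1062,2),
   ([3,2,1,4,3,0,0],1063,1),
   ([1,0,4,1,1,3,4],1064,2),
   ([0,0,1,4,3,2,3],1065,1),
   ([4,3,1,2,1,4,3],1065,2),
   ([2,0,1,0,1,4,3],1066,0),
   ([0,4,3,4,4,1,2],1066,1),
   ([2,0,4,1,1,4,2],1066,2),
   ([4,2,4,0,4,4,1],1066,3),
   ([0,4,2,2,3,0,0],1067,1),
   ([0,0,1,4,3,4,1],1067,3),
   ([4,4,1,3,4,3,1],1068,2),
   ([1,0,1,4,3,0,0],1069,1),
   ([4,3,3,4,1,2,4],1070,0),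
   ([2,4,3,0,4,3,1],1070,1),
   ([1,4,2,4,0,2,1],1070,2),
   ([2,1,2,1,4,2,1],1070,3),
   ([2,3,2,4,4,0,0],1071,0),
   ([2,0,2,2,3,0,0],1071,1),
   ([0,0,1,4,3,3,0],1071,3),
   ([4,4,1,3,3,3,0],1072,2),
   ([1,0,4,1,0,3,3],1073,2),
   ([0,0,1,4,3,1,0],1074,1),
   ([2,0,4,3,4,1,0],1075,0),
   ([0,4,2,3,3,0,1],1075,1),
   ([2,0,4,1,4,4,1],1075,2),
   ([4,1,4,0,3,4,1],1075,3),
   ([2,3,1,4,3,0,0],1076,1),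
   ([0,0,2,3,3,1,1],1077,3),
   ([4,0,1,4,3,0,0],1078,1),
   ([1,0,4,1,4,3,2],1079,2),
   ([3,3,2,0,2,3,4],1080,2),
   ([4,0,0,2,3,3,4],1081,0),
   ([0,3,4,0,4,3,2],1081,1),
   ([4,4,3,0,1,1,2],1081,2),
   ([1,2,3,1,4,3,2],1081,3),
   ([0,0,1,4,3,3,2],1082,1),
   ([4,1,1,0,0,1,2],1082,2),
   ([1,0,3,1,0,4,3],1083,0),
   ([1,1,2,0,2,4,2],1083,2),
   ([4,2,2,4,0,2,3],1083,3),
   ([4,2,3,4,3,4,3],1084,0),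
   ([0,3,1,1,0,4,2],1084,2),
   ([4,2,1,0,3,4,3],1084,3),
   ([2,1,1,3,2,1,0],1085,0),
   ([4,1,4,3,4,4,1],1085,2),
   ([4,1,4,2,3,2,4],1085,3),
   ([3,0,0,2,3,4,2],1086,0),
   ([0,1,4,0,4,4,1],1086,1),
   ([1,0,3,3,0,3,1],1086,2),
   ([3,1,3,1,4,1,4],1086,3),
   ([2,1,1,0,3,3,1],1087,0),
   ([0,1,3,1,2,3,4],1087,2),
   ([3,4,3,4,3,2,4],1087,3),
   ([3,3,3,0,4,0,0],1088,1),
   ([0,0,2,1,4,0,4],1089,0),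
   ([2,4,3,0,0,4,4],1089,2),
   ([3,3,2,3,3,2,2],1090,2),
   ([3,0,0,3,4,2,2],1091,0),
   ([0,1,2,3,0,4,4],1091,1),
   ([3,2,1,3,4,0,4],1091,2),
   ([0,4,1,3,0,1,4],1091,3),
   ([0,0,3,4,1,2,0],1092,3),
   ([4,4,1,1,1,2,0],1093,2),
   ([2,4,4,0,4,4,1],1094,0),
   ([3,0,1,3,1,2,0],1094,2),
   ([2,0,1,0,1,1,3],1094,3),
   ([4,3,0,4,1,4,0],1095,1),
   ([3,0,3,4,1,4,0],1095,2),
   ([4,0,3,3,1,4,2],1095,3),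
   ([4,0,2,4,0,2,2],1096,0),
   ([0,3,0,1,0,4,4],1096,1),
   ([4,0,3,1,4,0,4],1096,2),
   ([0,4,3,1,0,3,2],1096,3),
   ([4,3,0,1,0,4,0],1097,0),
   ([2,4,0,4,4,0,4],1097,1),
   ([2,3,1,4,3,1,4],1097,2),
   ([1,4,1,0,4,2,1],1097,3),
   ([2,0,3,3,1,3,4],1098,0),
   ([1,2,1,1,0,4,1],1098,3),
   ([0,3,2,4,4,0,0],1099,0),
   ([2,1,2,2,3,0,0],1099,1),
   ([0,4,1,4,3,0,0],1099,2),
   ([0,0,1,4,3,4,4],1099,3),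
   ([0,0,4,4,2,2,2],1100,0),
   ([4,2,1,1,2,0,4],1100,2),
   ([3,3,2,0,1,3,3],1102,2),
   ([3,2,0,0,1,4,0],1103,0),
   ([3,0,3,4,2,0,4],1103,1),
   ([1,3,2,1,1,1,4],1103,2),
   ([1,4,2,2,2,2,0],1103,3),
   ([4,2,1,4,3,0,0],1104,1),
   ([0,0,4,4,2,4,4],1105,3),
   ([0,0,1,4,3,0,3],1106,1),
   ([4,0,1,4,1,2,3],1106,2),
   ([3,2,2,0,2,1,0],1107,1),
   ([2,2,4,2,2,1,0],1107,2),
   ([1,0,4,3,2,4,3],1107,3),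
   ([0,0,1,4,3,3,3],1108,1),
   ([4,2,1,1,1,0,3],1108,2),
   ([2,4,0,2,1,0,3],1109,1),
   ([1,4,2,4,4,2,3],1109,2),
   ([2,3,2,1,1,2,1],1109,3),
   ([4,0,1,2,4,0,3],1111,1)]

/-- A block of images of the fixed vector. -/
def vOrbB22 : List (List ℕ × ℕ × ℕ) :=
  [([3,4,1,1,2,2,3],1111,2),
   ([2,3,1,3,4,1,0],1111,3),
   ([2,2,1,0,0,2,3],1112,0),
   ([3,3,0,0,2,1,0],1112,1),
   ([3,3,2,2,2,1,0],1112,2),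
   ([1,0,2,3,2,0,2],1112,3),
   ([0,2,0,3,0,2,3],1113,0),
   ([3,4,0,2,2,1,0],1113,1),
   ([1,0,3,0,2,1,1],1113,3),
   ([1,4,1,3,4,2,0],1114,0),
   ([3,2,3,1,2,4,0],1114,3),
   ([2,2,1,4,3,0,0],1116,1),
   ([0,0,1,1,3,4,1],1117,0),
   ([1,1,4,2,2,2,0],1117,2),
   ([0,0,1,1,3,0,1],1118,1),
   ([3,2,2,4,4,4,1],1118,2),
   ([0,1,0,3,0,4,1],1119,0),
   ([4,0,3,3,2,2,0],1119,2),
   ([2,0,3,0,2,3,3],1119,3),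
   ([4,1,4,2,3,1,0],1121,0),
   ([4,0,4,0,2,0,1],1121,1),
   ([3,2,1,4,3,4,1],1121,2),
   ([4,1,1,3,2,1,0],1121,3),
   ([4,0,2,1,2,4,1],1122,0),
   ([0,3,1,2,2,2,0],1122,1),
   ([3,1,4,3,2,2,0],1122,2),
   ([2,0,4,0,2,3,2],1122,3),
   ([1,0,2,2,0,4,1],1123,0),
   ([0,2,0,3,2,2,0],1123,1),
   ([2,2,1,4,2,2,0],1123,2),
   ([2,0,1,1,2,2,3],1123,3),
   ([2,3,4,2,3,3,4],1124,0),
   ([1,0,1,2,4,1,2],1124,2),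
   ([1,2,1,3,2,3,0],1124,3),
   ([0,0,2,1,4,0,3],1125,0),
   ([2,0,3,1,4,3,3],1125,2),
   ([3,0,3,1,2,4,4],1126,0),
   ([0,1,1,2,4,3,3],1126,1),
   ([3,2,1,3,2,0,3],1126,2),
   ([0,3,1,3,4,1,4],1126,3),
   ([2,3,0,3,0,3,0],1127,2),
   ([3,0,0,1,0,3,1],1127,3),
   ([4,2,2,3,4,4,4],1128,0),
   ([3,2,2,3,4,3,3],1128,1),
   ([1,0,0,4,2,0,3],1128,2),
   ([0,3,0,4,4,4,3],1128,3),
   ([3,2,4,2,3,3,0],1129,0),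
   ([3,0,4,0,2,0,3],1129,1),
   ([2,3,1,3,2,2,0],1129,3),
   ([4,0,0,1,0,1,2],1130,0),
   ([1,3,1,0,4,3,2],1130,3),
   ([0,4,0,2,2,1,4],1131,0),
   ([1,3,1,1,2,3,0],1131,1),
   ([2,3,1,1,2,3,0],1131,2),
   ([3,0,1,4,2,2,2],1131,3),
   ([0,1,0,2,2,4,4],1132,0),
   ([4,2,1,1,2,3,3],1132,1),
   ([1,0,1,4,0,0,3],1132,2),
   ([0,3,1,4,2,3,3],1132,3),
   ([1,1,0,0,0,3,0],1133,0),
   ([4,4,0,0,0,0,3],1133,1),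
   ([0,2,0,3,3,2,3],1133,2),
   ([2,3,0,0,0,0,1],1133,3),
   ([4,0,1,4,2,4,4],1134,0),
   ([2,2,0,2,0,0,3],1134,2),
   ([0,3,0,2,2,3,2],1134,3),
   ([2,3,1,2,0,0,3],1135,1),
   ([2,0,2,0,3,2,3],1135,2),
   ([2,3,2,2,0,1,2],1135,3),
   ([3,4,2,4,1,2,3],1136,0),
   ([1,4,3,0,2,1,0],1136,1),
   ([1,0,0,3,2,3,1],1136,3),
   ([2,3,1,2,1,2,3],1137,0),
   ([1,4,1,4,2,1,0],1137,2),
   ([1,0,1,0,2,3,0],1137,3),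
   ([1,4,2,2,0,2,4],1138,0),
   ([0,0,1,4,3,2,1],1138,2),
   ([2,1,1,1,2,4,0],1138,3),
   ([3,1,1,0,3,0,3],1139,1),
   ([3,3,4,0,1,2,3],1139,2),
   ([3,0,2,1,2,2,3],1140,0),
   ([1,0,4,0,2,1,4],1140,3),
   ([1,2,3,2,4,2,3],1141,0),
   ([3,1,2,4,2,1,0],1141,1),
   ([1,4,1,1,2,1,0],1141,2),
   ([1,0,1,2,2,3,4],1141,3),
   ([1,4,4,2,3,1,3],1142,0),
   ([2,4,1,3,2,4,0],1142,3),
   ([2,0,1,4,2,3,3],1143,0),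
   ([0,4,1,4,2,1,1],1143,1),
   ([1,3,0,2,3,0,1],1143,2),
   ([0,1,0,2,2,4,1],1143,3),
   ([3,3,1,4,0,0,1],1144,0),
   ([4,2,1,2,4,1,1],1144,2),
   ([1,1,1,3,3,0,3],1144,3),
   ([2,2,3,1,4,0,3],1146,2),
   ([2,3,2,1,4,4,1],1147,0),
   ([2,0,2,0,1,2,0],1147,1),
   ([4,1,3,2,1,2,0],1147,2),
   ([2,0,3,4,1,3,0],1147,3),
   ([1,1,2,3,1,1,0],1149,0),
   ([4,4,3,1,3,0,1],1149,1),
   ([1,1,4,4,4,4,1],1149,2),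
   ([4,1,4,3,3,0,1],1149,3),
   ([3,1,4,4,1,4,1],1150,0),
   ([4,3,3,0,1,2,0],1150,1),
   ([2,4,4,2,1,2,0],1150,2),
   ([2,0,4,4,1,4,2],1150,3),
   ([4,2,2,3,0,4,1],1151,0),
   ([3,2,0,2,1,2,0],1151,1),
   ([4,2,2,4,1,2,0],1151,2),
   ([2,0,2,1,1,4,3],1151,3),
   ([2,3,4,3,3,0,2],1152,0),
   ([0,4,2,1,3,2,2],1152,2),
   ([2,2,2,3,1,3,0],1152,3),
   ([0,0,4,2,4,4,1],1153,3),
   ([1,1,4,3,4,0,0],1154,2),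
   ([1,3,4,3,4,0,0],1155,1),
   ([1,1,2,4,4,0,0],1155,2),
   ([0,0,2,4,4,2,2],1155,3),
   ([3,2,4,2,4,0,0],1156,2),
   ([0,0,4,2,4,3,2],1156,3),
   ([2,0,4,3,4,0,0],1157,1),
   ([0,0,2,4,4,3,0],1157,3),
   ([0,0,4,2,4,1,4],1158,0)]

/-- A block of images of the fixed vector. -/
def vOrbB23 : List (List ℕ × ℕ × ℕ) :=
  [([2,2,3,2,4,3,0],1158,2),
   ([2,4,3,0,1,4,0],1159,2),
   ([4,2,4,2,4,0,0],1160,2),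
   ([0,0,4,2,4,2,2],1160,3),
   ([4,2,4,3,4,0,0],1161,1),
   ([0,0,2,4,4,3,3],1161,3),
   ([0,1,4,2,4,0,0],1162,0),
   ([0,0,3,0,4,3,3],1162,3),
   ([0,0,4,2,4,4,4],1163,0),
   ([2,0,3,0,2,0,3],1163,2),
   ([1,1,4,2,4,0,0],1164,0),
   ([0,0,3,0,4,0,1],1164,3),
   ([0,1,3,0,4,0,0],1165,1),
   ([0,0,3,4,1,1,0],1166,0),
   ([3,3,2,2,0,4,1],1166,2),
   ([3,2,2,0,4,3,0],1167,0),
   ([3,0,2,1,2,0,3],1167,1),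
   ([1,1,2,2,0,2,3],1167,2),
   ([2,3,2,4,2,2,0],1167,3),
   ([4,0,4,3,4,0,0],1169,1),
   ([0,0,2,4,4,1,0],1169,3),
   ([0,0,4,2,4,2,3],1170,0),
   ([2,4,3,4,4,1,0],1170,2),
   ([2,4,4,2,4,0,0],1171,0),
   ([1,2,2,4,4,0,0],1171,1),
   ([0,0,3,0,4,1,3],1171,3),
   ([3,4,2,3,2,3,3],1172,2),
   ([2,1,2,4,2,2,3],1173,0),
   ([4,1,1,4,4,1,0],1173,1),
   ([1,0,2,4,4,1,0],1173,2),
   ([1,0,2,0,4,2,4],1173,3),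
   ([4,3,1,0,4,3,3],1174,2),
   ([3,2,0,2,0,1,1],1175,0),
   ([3,0,0,3,3,2,2],1175,1),
   ([1,0,2,0,0,0,2],1175,2),
   ([0,2,2,0,3,2,0],1175,3),
   ([3,2,3,0,4,0,0],1177,1),
   ([0,0,2,1,4,4,3],1177,3),
   ([3,0,2,0,0,0,4],1178,2),
   ([0,1,4,4,3,4,0],1179,0),
   ([4,2,4,3,0,0,4],1179,1),
   ([1,4,3,3,0,3,3],1179,3),
   ([0,0,2,4,4,2,0],1180,1),
   ([2,3,3,3,4,2,0],1180,2),
   ([3,0,4,3,4,2,0],1181,1),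
   ([1,1,2,2,4,2,0],1181,2),
   ([2,0,2,4,4,2,0],1181,3),
   ([4,0,3,1,3,4,1],1182,0),
   ([0,3,4,1,1,2,0],1182,1),
   ([4,1,3,3,1,2,0],1182,2),
   ([2,3,1,0,3,1,1],1183,0),
   ([2,0,4,2,3,2,2],1183,1),
   ([4,3,3,4,0,0,2],1183,2),
   ([0,2,3,4,3,3,0],1183,3),
   ([0,2,4,4,3,2,0],1184,0),
   ([3,4,4,3,0,0,2],1184,1),
   ([1,2,3,0,2,3,2],1184,2),
   ([3,2,3,3,0,1,1],1184,3),
   ([0,1,3,3,3,3,0],1185,2),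
   ([3,0,3,1,3,2,3],1185,3),
   ([0,2,4,2,4,0,0],1186,2),
   ([0,0,4,2,4,1,2],1186,3),
   ([1,4,4,3,4,0,0],1187,1),
   ([0,2,2,4,4,0,0],1187,2),
   ([0,0,2,4,4,3,1],1187,3),
   ([0,0,4,2,4,2,4],1188,0),
   ([2,3,3,3,0,2,1],1188,2),
   ([2,1,4,2,4,0,0],1189,0),
   ([4,1,2,4,4,0,0],1189,1),
   ([0,0,3,0,4,2,4],1189,3),
   ([3,4,2,3,3,3,4],1190,2),
   ([2,1,4,1,4,0,1],1191,0),
   ([4,1,2,0,0,2,1],1191,1),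
   ([1,0,2,4,1,1,1],1191,2),
   ([1,1,2,0,0,2,4],1191,3),
   ([2,1,0,1,3,0,4],1192,0),
   ([4,1,4,1,0,3,4],1192,1),
   ([1,4,2,2,4,4,4],1192,2),
   ([4,4,2,1,0,2,4],1192,3),
   ([2,3,3,4,3,0,2],1193,2),
   ([0,0,4,2,4,4,3],1194,0),
   ([0,0,2,4,4,1,2],1194,1),
   ([2,1,3,1,1,4,2],1194,2),
   ([3,2,0,3,2,0,2],1195,0),
   ([3,0,1,0,1,4,2],1195,1),
   ([1,1,2,2,3,2,2],1195,2),
   ([2,2,2,4,1,2,0],1195,3),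
   ([4,1,3,4,0,0,2],1196,0),
   ([4,0,0,1,2,4,2],1196,1),
   ([4,1,0,2,4,2,2],1196,2),
   ([2,2,0,4,2,1,0],1196,3),
   ([2,2,1,3,3,0,4],1197,0),
   ([3,3,4,4,0,3,4],1197,1),
   ([4,2,1,0,4,4,4],1197,2),
   ([4,4,1,4,0,0,2],1197,3),
   ([3,0,3,2,0,2,2],1198,0),
   ([0,1,0,3,4,4,4],1198,1),
   ([1,4,3,4,3,0,4],1198,2),
   ([0,4,3,4,4,1,4],1198,3),
   ([1,1,0,4,2,2,0],1199,0),
   ([2,4,3,1,2,3,2],1199,2),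
   ([3,2,3,4,0,0,1],1199,3),
   ([3,1,4,2,4,0,0],1200,0),
   ([4,3,2,4,4,0,0],1200,1),
   ([0,0,3,0,4,3,4],1201,1),
   ([4,0,3,2,0,4,4],1202,0),
   ([0,3,0,3,4,3,3],1202,1),
   ([4,1,3,4,2,0,3],1202,2),
   ([0,3,3,4,4,3,2],1202,3),
   ([3,2,1,0,3,1,2],1203,3),
   ([1,0,3,3,4,1,4],1204,0),
   ([0,2,2,3,1,3,0],1204,1),
   ([1,3,2,4,1,3,0],1204,2),
   ([3,0,2,2,1,2,3],1204,3),
   ([2,2,2,0,4,3,0],1205,1),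
   ([4,1,1,3,4,3,0],1205,2),
   ([3,0,1,1,4,0,3],1205,3),
   ([4,3,2,4,2,4,4],1206,0),
   ([2,4,1,4,4,3,3],1206,1),
   ([1,4,2,0,2,0,3],1206,2),
   ([0,3,2,0,4,2,1],1206,3),
   ([4,3,0,2,2,3,0],1207,0),
   ([2,4,1,1,2,0,3],1207,1),
   ([2,3,1,4,2,2,1],1207,3),
   ([4,0,1,1,4,0,1],1208,0)]

/-- A block of images of the fixed vector. -/
def vOrbB24 : List (List ℕ × ℕ × ℕ) :=
  [([1,4,1,0,0,1,1],1208,2),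
   ([1,1,1,1,4,3,2],1208,3),
   ([1,4,4,3,4,3,2],1209,2),
   ([4,0,0,1,1,3,2],1210,0),
   ([4,3,3,3,1,4,0],1210,2),
   ([3,1,3,3,0,0,2],1211,1),
   ([0,4,2,0,2,3,2],1211,2),
   ([3,2,2,3,0,3,4],1211,3),
   ([3,0,4,2,0,3,2],1212,0),
   ([0,1,0,3,1,4,0],1212,1),
   ([4,1,0,3,1,4,0],1212,2),
   ([4,0,0,2,1,1,4],1212,3),
   ([2,0,3,3,4,3,2],1213,0),
   ([0,4,2,3,1,4,0],1213,1),
   ([4,4,2,3,1,4,0],1213,2),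
   ([4,0,2,2,1,4,1],1213,3),
   ([4,1,2,3,0,1,3],1214,0),
   ([2,0,2,4,0,2,4],1214,2),
   ([2,4,2,1,1,1,0],1214,3),
   ([3,2,4,3,0,2,0],1215,0),
   ([3,0,0,2,0,0,2],1215,1),
   ([2,1,1,4,2,3,2],1215,2),
   ([3,2,1,2,0,2,0],1215,3),
   ([4,4,3,0,2,3,2],1216,0),
   ([1,1,1,3,0,4,0],1216,1),
   ([0,3,0,4,0,4,0],1216,2),
   ([4,0,0,3,0,0,4],1216,3),
   ([2,2,2,2,4,3,2],1217,0),
   ([3,3,2,4,0,4,0],1217,1),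
   ([4,0,4,4,0,0,2],1217,3),
   ([4,1,1,2,0,4,0],1218,0),
   ([1,4,4,3,0,1,0],1218,3),
   ([0,1,0,3,3,4,2],1219,1),
   ([2,2,2,0,3,1,4],1219,3),
   ([4,1,0,2,1,0,4],1220,0),
   ([0,0,4,3,4,4,4],1220,2),
   ([4,4,4,2,0,1,0],1220,3),
   ([0,2,0,3,1,2,2],1221,0),
   ([3,4,3,1,4,4,4],1221,1),
   ([4,3,0,2,3,0,4],1221,2),
   ([0,4,0,2,4,1,1],1221,3),
   ([1,1,2,0,3,2,3],1222,0),
   ([0,2,0,1,0,1,0],1222,2),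
   ([1,0,0,2,0,0,1],1222,3),
   ([4,4,2,0,4,4,0],1223,1),
   ([4,2,1,2,4,4,0],1223,2),
   ([3,1,2,4,2,2,2],1224,0),
   ([4,3,1,4,4,4,4],1224,1),
   ([4,3,2,0,3,0,4],1224,2),
   ([0,4,2,0,4,4,2],1224,3),
   ([3,4,3,4,3,4,0],1225,0),
   ([1,4,4,3,3,0,4],1225,1),
   ([1,3,1,4,2,1,4],1225,2),
   ([1,4,1,0,3,3,1],1225,3),
   ([2,0,1,1,4,0,2],1226,0),
   ([0,4,1,4,1,2,2],1226,2),
   ([2,2,1,1,4,4,1],1226,3),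
   ([2,3,1,2,0,3,0],1227,0),
   ([2,0,0,3,0,0,3],1227,1),
   ([3,4,4,1,3,2,3],1227,2),
   ([2,3,4,3,0,3,0],1227,3),
   ([2,2,3,1,0,1,0],1228,1),
   ([4,3,1,0,0,1,0],1228,2),
   ([1,0,1,1,0,0,3],1228,3),
   ([3,1,2,2,3,0,0],1230,1),
   ([0,0,1,4,3,3,4],1230,3),
   ([3,3,1,4,3,0,0],1231,1),
   ([0,0,1,1,3,0,2],1231,3),
   ([4,3,1,2,2,4,4],1232,2),
   ([2,1,1,0,0,2,2],1233,0),
   ([4,1,0,0,2,4,4],1233,1),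
   ([1,2,2,3,1,0,4],1233,2),
   ([0,4,2,3,2,2,4],1233,3),
   ([4,2,1,2,0,1,2],1234,0),
   ([3,2,0,3,0,4,3],1234,1),
   ([2,2,4,2,3,1,3],1234,2),
   ([1,3,4,3,0,4,3],1234,3),
   ([2,0,3,3,1,4,4],1235,2),
   ([0,0,1,4,3,1,3],1236,1),
   ([4,4,1,3,1,3,3],1236,2),
   ([2,1,4,3,3,4,4],1237,0),
   ([4,1,4,4,1,3,3],1237,1),
   ([1,2,2,3,4,0,3],1237,2),
   ([0,3,2,3,1,2,4],1237,3),
   ([4,2,3,4,0,4,4],1238,0),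
   ([3,2,0,1,2,3,3],1238,1),
   ([1,0,0,4,0,0,3],1238,2),
   ([0,3,0,4,2,4,3],1238,3),
   ([4,1,4,4,0,4,3],1239,1),
   ([2,3,1,3,3,1,3],1239,2),
   ([3,0,3,0,1,0,3],1240,0),
   ([0,1,3,4,3,1,3],1240,1),
   ([1,0,3,3,1,3,3],1240,2),
   ([3,3,3,1,3,1,4],1240,3),
   ([0,4,0,4,2,3,1],1241,0),
   ([0,3,3,1,4,3,4],1241,2),
   ([3,4,3,4,0,2,2],1241,3),
   ([3,0,2,2,1,1,3],1242,2),
   ([1,1,4,2,0,2,3],1243,2),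
   ([2,3,4,4,3,2,1],1244,0),
   ([4,3,3,3,0,3,0],1244,3),
   ([2,2,0,1,3,3,2],1245,1),
   ([1,2,1,3,3,0,3],1245,3),
   ([4,3,2,2,4,2,1],1246,0),
   ([2,4,2,4,0,2,3],1246,1),
   ([4,3,4,0,3,4,3],1246,2),
   ([4,3,4,4,0,2,1],1246,3),
   ([2,1,1,4,0,1,2],1247,0),
   ([4,1,0,1,3,4,3],1247,1),
   ([2,1,1,2,1,1,3],1247,2),
   ([1,3,1,3,3,2,4],1247,3),
   ([3,1,1,3,3,0,1],1248,0),
   ([1,1,1,4,0,4,2],1248,3),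
   ([4,0,2,1,1,4,4],1249,1),
   ([0,4,1,0,1,1,0],1249,3),
   ([3,2,2,2,2,3,1],1250,2),
   ([2,1,3,2,0,2,4],1251,2),
   ([2,3,1,0,0,2,4],1252,1),
   ([3,0,1,2,4,3,4],1252,2),
   ([0,1,0,2,4,4,4],1253,1),
   ([4,2,0,3,3,0,4],1253,2),
   ([0,4,0,3,4,1,4],1253,3),
   ([4,1,2,1,1,3,1],1254,0),
   ([4,0,3,3,0,2,4],1254,1),
   ([2,3,2,0,4,3,4],1254,2)]

/-- A block of images of the fixed vector. -/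
def vOrbB25 : List (List ℕ × ℕ × ℕ) :=
  [([3,4,2,3,0,1,0],1254,3),
   ([4,4,1,4,4,2,3],1255,3),
   ([0,2,0,3,4,2,3],1256,0),
   ([3,4,1,2,0,1,0],1256,2),
   ([3,2,2,3,2,2,2],1257,0),
   ([3,0,1,0,0,4,4],1257,1),
   ([2,0,1,0,4,0,4],1257,2),
   ([0,4,1,0,0,2,0],1257,3),
   ([4,4,4,4,4,3,1],1258,0),
   ([1,1,2,2,2,2,4],1258,1),
   ([0,3,0,2,1,3,4],1258,2),
   ([3,4,0,0,2,0,4],1258,3),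
   ([4,0,0,3,2,0,4],1259,0),
   ([0,2,2,0,0,4,4],1259,2),
   ([4,4,2,4,1,3,2],1259,3),
   ([0,2,1,0,0,4,0],1260,0),
   ([2,4,2,2,1,1,4],1260,2),
   ([1,4,2,3,2,1,1],1260,3),
   ([0,1,0,0,2,3,3],1261,1),
   ([2,2,2,3,0,0,3],1261,2),
   ([0,3,2,3,2,1,4],1261,3),
   ([4,1,2,3,2,1,2],1262,0),
   ([4,0,1,0,0,4,3],1262,1),
   ([3,4,1,4,3,1,3],1262,2),
   ([1,3,1,0,0,1,0],1262,3),
   ([1,0,0,4,1,0,3],1263,0),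
   ([0,2,3,0,3,1,3],1263,1),
   ([2,3,1,4,1,3,3],1263,2),
   ([0,4,2,3,2,2,3],1264,0),
   ([1,0,1,0,0,2,2],1264,3),
   ([0,2,4,2,3,3,4],1265,1),
   ([0,1,3,0,2,4,4],1265,2),
   ([3,2,2,3,1,0,3],1266,0),
   ([3,0,3,1,3,1,3],1266,1),
   ([4,3,4,0,1,3,3],1266,2),
   ([3,3,4,3,3,2,0],1266,3),
   ([2,3,4,0,4,4,4],1267,0),
   ([2,0,2,1,1,3,3],1267,1),
   ([1,0,1,0,4,0,3],1267,2),
   ([0,3,1,0,1,3,0],1267,3),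
   ([4,1,1,3,3,2,0],1268,2),
   ([2,0,1,0,3,0,2],1268,3),
   ([0,1,1,0,0,3,0],1269,0),
   ([4,2,0,0,2,0,3],1269,1),
   ([0,1,2,1,0,2,3],1269,2),
   ([2,3,2,3,2,3,3],1269,3),
   ([2,4,1,3,3,2,3],1270,0),
   ([1,2,4,4,0,1,0],1270,1),
   ([3,4,1,3,0,1,0],1270,2),
   ([1,0,4,4,2,2,0],1272,2),
   ([3,4,0,0,4,2,0],1273,0),
   ([1,4,2,1,3,0,2],1273,1),
   ([4,2,3,0,0,3,2],1273,2),
   ([3,2,3,3,3,3,1],1273,3),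
   ([4,0,1,2,1,1,0],1275,2),
   ([1,0,2,2,3,2,0],1276,0),
   ([0,2,4,0,3,0,2],1276,1),
   ([1,3,2,4,0,3,2],1276,2),
   ([3,2,2,2,3,2,3],1276,3),
   ([1,3,2,4,3,3,1],1277,0),
   ([0,4,4,4,0,3,4],1277,2),
   ([3,4,4,2,1,1,2],1277,3),
   ([3,4,4,0,0,2,0],1278,0),
   ([1,4,0,0,3,0,2],1278,1),
   ([4,0,3,4,0,3,2],1278,2),
   ([3,2,3,2,3,3,1],1278,3),
   ([0,3,2,1,1,3,4],1279,0),
   ([2,1,3,3,0,3,2],1279,1),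
   ([4,1,2,2,2,1,2],1279,2),
   ([4,2,4,2,1,2,4],1280,0),
   ([2,1,2,4,3,4,3],1280,3),
   ([0,0,4,2,4,2,1],1281,3),
   ([0,4,4,3,4,0,0],1282,1),
   ([0,0,2,4,4,4,1],1282,3),
   ([3,4,2,4,4,0,0],1283,1),
   ([0,0,3,0,4,1,1],1283,3),
   ([0,0,4,2,4,4,2],1284,0),
   ([2,2,3,2,0,3,1],1284,2),
   ([1,2,4,2,4,0,0],1285,0),
   ([3,1,2,4,4,0,0],1285,1),
   ([4,1,3,0,4,0,0],1285,2),
   ([2,3,3,0,4,0,0],1286,1),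
   ([2,2,3,1,2,0,1],1287,2),
   ([2,1,4,0,2,1,0],1288,0),
   ([1,4,2,2,3,4,1],1288,2),
   ([4,1,2,1,2,2,4],1288,3),
   ([2,0,4,2,4,0,0],1289,0),
   ([0,4,2,4,4,0,0],1289,1),
   ([0,0,3,0,4,4,1],1289,3),
   ([1,1,3,0,4,0,0],1290,1),
   ([0,0,3,4,1,4,2],1291,0),
   ([3,4,2,3,0,3,1],1291,2),
   ([0,0,3,0,4,3,2],1292,1),
   ([3,1,2,0,1,1,2],1292,2),
   ([0,1,2,2,1,1,2],1293,0),
   ([4,2,3,2,4,4,3],1293,1),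
   ([4,2,3,2,2,1,3],1293,2),
   ([1,3,3,3,4,3,3],1293,3),
   ([0,0,4,2,4,3,4],1296,0),
   ([0,0,2,4,4,3,2],1296,1),
   ([2,4,3,4,1,1,2],1296,2),
   ([0,4,3,3,4,4,3],1297,0),
   ([1,3,2,3,1,1,2],1297,1),
   ([1,3,2,3,3,4,2],1297,2),
   ([4,2,2,2,1,2,2],1297,3),
   ([2,2,4,2,4,0,0],1298,0),
   ([0,0,3,0,4,0,2],1298,3),
   ([3,4,2,3,1,3,2],1299,2),
   ([0,0,3,0,4,0,4],1300,1),
   ([3,1,2,0,3,1,4],1300,2),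
   ([2,3,4,1,2,1,4],1301,0),
   ([2,0,1,2,1,3,0],1301,1),
   ([4,4,3,3,1,3,0],1301,2),
   ([3,0,3,1,1,3,0],1301,3),
   ([2,0,3,1,0,3,4],1302,2),
   ([2,4,1,3,3,0,4],1303,0),
   ([1,2,4,4,0,3,4],1303,1),
   ([3,1,1,0,4,4,4],1303,2),
   ([4,3,3,1,0,4,0],1304,0),
   ([2,4,0,4,0,0,4],1304,1),
   ([1,1,2,3,4,1,4],1304,2),
   ([3,1,1,0,1,4,0],1305,0),
   ([4,3,3,4,4,0,4],1305,1),
   ([2,2,4,4,3,1,4],1305,2),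
   ([4,0,2,3,0,1,4],1306,0)]

/-- A block of images of the fixed vector. -/
def vOrbB26 : List (List ℕ × ℕ × ℕ) :=
  [([0,3,0,2,1,3,0],1306,1),
   ([3,0,2,1,1,3,2],1306,3),
   ([3,2,1,0,2,1,4],1307,0),
   ([3,0,1,3,1,3,0],1307,1),
   ([2,1,1,4,1,3,0],1307,2),
   ([3,0,1,2,1,2,0],1307,3),
   ([3,2,4,0,4,3,4],1308,0),
   ([2,4,1,4,3,1,2],1308,2),
   ([1,2,1,0,1,2,0],1308,3),
   ([4,1,2,1,3,1,2],1309,0),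
   ([4,0,4,1,4,4,3],1309,1),
   ([1,3,1,2,4,1,0],1309,3),
   ([1,2,1,4,1,4,0],1310,0),
   ([4,0,3,4,4,1,4],1310,2),
   ([1,4,3,0,0,3,4],1310,3),
   ([4,4,0,2,1,4,3],1311,1),
   ([3,0,2,0,4,1,3],1311,2),
   ([1,3,2,1,1,0,1],1311,3),
   ([3,1,4,4,3,4,0],1312,0),
   ([4,3,4,3,0,0,4],1312,1),
   ([3,3,3,2,4,1,4],1312,2),
   ([1,4,3,3,0,4,2],1312,3),
   ([4,2,3,4,1,1,3],1313,0),
   ([3,2,3,0,4,1,4],1313,1),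
   ([4,2,2,4,3,2,4],1313,2),
   ([2,4,2,1,4,4,3],1313,3),
   ([3,4,2,1,1,0,2],1314,0),
   ([0,3,2,1,2,2,2],1314,2),
   ([2,2,2,3,0,3,1],1314,3),
   ([0,4,2,2,0,1,2],1315,0),
   ([1,3,0,3,2,4,3],1315,1),
   ([1,3,1,1,2,2,2],1315,3),
   ([0,1,4,3,0,4,0],1316,0),
   ([4,2,0,2,0,0,4],1316,1),
   ([1,0,1,1,4,1,4],1316,2),
   ([1,4,1,2,0,3,3],1316,3),
   ([4,3,2,4,2,1,3],1317,0),
   ([2,4,1,4,4,1,4],1317,1),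
   ([1,2,2,3,3,2,4],1317,2),
   ([2,4,2,0,4,2,1],1317,3),
   ([3,4,1,1,2,4,4],1318,0),
   ([0,3,2,2,0,3,1],1318,3),
   ([2,3,1,0,1,1,2],1319,1),
   ([2,2,2,0,3,4,2],1319,2),
   ([4,2,2,4,1,1,2],1319,3),
   ([3,4,0,3,0,1,0],1320,0),
   ([4,1,3,0,2,3,1],1320,3),
   ([1,0,1,1,1,4,2],1321,0),
   ([0,2,3,3,3,4,1],1321,1),
   ([3,4,0,2,4,3,1],1321,2),
   ([3,1,0,0,3,2,3],1321,3),
   ([2,1,2,4,1,2,4],1322,0),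
   ([3,0,0,1,3,2,1],1322,2),
   ([2,1,0,3,2,2,4],1322,3),
   ([3,4,2,2,3,4,2],1323,0),
   ([2,3,2,1,3,2,4],1324,0),
   ([2,0,4,1,4,3,1],1324,1),
   ([1,2,1,0,0,2,1],1324,2),
   ([2,1,1,2,4,3,0],1324,3),
   ([3,2,1,2,0,1,1],1325,1),
   ([4,1,2,2,1,0,1],1325,2),
   ([0,1,2,2,0,4,3],1325,3),
   ([4,2,3,4,3,0,1],1326,0),
   ([3,2,4,3,3,2,1],1326,1),
   ([0,1,1,4,4,1,1],1326,2),
   ([1,1,1,0,3,4,3],1326,3),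
   ([2,2,3,0,3,2,1],1328,2),
   ([0,2,2,4,4,0,1],1329,0),
   ([3,4,2,2,3,2,1],1329,1),
   ([3,1,1,3,4,1,1],1329,2),
   ([1,1,1,4,3,1,1],1329,3),
   ([1,3,4,2,4,0,0],1330,0),
   ([0,1,0,0,4,3,4],1331,0),
   ([4,2,2,1,3,3,2],1331,1),
   ([4,2,3,2,0,1,2],1331,2),
   ([1,2,3,3,3,3,3],1331,3),
   ([2,2,3,3,2,1,1],1333,2),
   ([3,0,4,2,3,3,3],1334,0),
   ([0,1,4,0,2,1,1],1334,1),
   ([0,1,1,3,2,1,4],1334,3),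
   ([2,1,3,4,1,2,1],1335,0),
   ([4,1,3,0,4,2,3],1335,1),
   ([1,4,2,2,2,4,3],1335,2),
   ([4,3,2,1,4,2,4],1335,3),
   ([1,4,4,3,4,2,3],1336,1),
   ([0,3,2,0,2,4,3],1336,2),
   ([4,2,2,2,3,3,4],1337,0),
   ([4,0,2,1,0,1,2],1337,2),
   ([1,2,2,2,3,4,3],1337,3),
   ([2,1,2,3,2,4,3],1338,0),
   ([2,2,1,1,2,4,2],1338,2),
   ([3,4,1,3,1,1,3],1339,2),
   ([4,4,1,1,3,2,2],1340,2),
   ([3,0,2,2,1,3,3],1341,1),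
   ([4,2,4,1,4,0,3],1341,2),
   ([4,4,2,2,1,1,2],1342,0),
   ([1,1,3,2,4,4,3],1342,1),
   ([2,1,3,2,2,1,3],1342,2),
   ([1,3,3,3,4,0,4],1342,3),
   ([0,4,4,1,1,4,0],1343,0),
   ([2,0,1,3,3,1,4],1343,2),
   ([1,4,1,4,4,2,2],1343,3),
   ([3,1,2,3,0,0,2],1344,2),
   ([0,1,4,2,4,0,2],1345,0),
   ([4,2,2,4,4,4,2],1345,1),
   ([4,0,3,3,1,2,2],1345,2),
   ([2,2,3,0,4,3,3],1345,3),
   ([0,1,2,1,0,2,1],1346,1),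
   ([4,2,0,0,1,1,1],1346,2),
   ([1,1,0,1,0,1,4],1346,3),
   ([4,1,2,3,4,0,2],1347,0),
   ([4,0,2,3,4,4,2],1347,1),
   ([4,1,0,2,1,2,2],1347,2),
   ([2,2,0,4,4,1,0],1347,3),
   ([3,2,4,0,4,1,1],1348,0),
   ([3,0,2,1,1,2,2],1348,1),
   ([0,2,1,0,1,2,0],1348,3),
   ([3,3,0,1,0,2,3],1349,0),
   ([2,0,1,3,2,0,2],1350,0),
   ([0,4,1,0,3,4,2],1350,1),
   ([2,1,4,0,0,2,2],1350,2),
   ([2,2,4,2,3,4,1],1350,3),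
   ([2,4,0,4,2,1,1],1351,0),
   ([1,2,1,4,0,2,2],1351,1),
   ([1,0,3,4,2,0,2],1351,2)]

/-- A block of images of the fixed vector. -/
def vOrbB27 : List (List ℕ × ℕ × ℕ) :=
  [([3,1,3,4,3,0,3],1352,3),
   ([1,2,4,4,1,2,3],1353,1),
   ([4,3,2,3,1,1,3],1353,3),
   ([1,0,3,0,1,3,4],1354,0),
   ([0,2,3,4,3,3,2],1354,1),
   ([0,3,3,0,0,1,2],1354,2),
   ([1,2,3,1,3,2,3],1354,3),
   ([3,4,2,2,4,4,3],1355,0),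
   ([1,4,2,4,0,1,2],1355,1),
   ([3,3,4,0,2,4,2],1355,2),
   ([2,4,2,3,1,2,1],1356,0),
   ([0,4,4,4,1,4,3],1356,2),
   ([4,3,4,3,3,1,3],1356,3),
   ([0,2,0,2,4,2,2],1357,1),
   ([3,3,0,3,1,0,2],1357,2),
   ([3,2,2,1,1,4,3],1358,0),
   ([3,0,3,3,0,1,2],1358,1),
   ([1,2,2,4,2,4,2],1358,2),
   ([4,2,2,3,0,2,0],1358,3),
   ([1,4,0,3,2,4,2],1359,1),
   ([1,1,1,1,0,2,0],1360,2),
   ([4,4,1,0,3,3,4],1361,0),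
   ([1,1,4,2,3,3,2],1361,1),
   ([2,3,3,3,0,1,2],1361,2),
   ([1,2,3,4,3,0,4],1361,3),
   ([2,1,0,0,1,4,3],1362,1),
   ([0,3,1,3,4,1,3],1362,2),
   ([1,3,1,4,1,4,4],1362,3),
   ([4,1,1,0,4,1,1],1364,2),
   ([2,1,0,4,4,3,3],1365,0),
   ([4,1,2,2,4,1,1],1365,1),
   ([1,2,2,3,0,0,1],1365,2),
   ([0,1,2,3,4,2,4],1365,3),
   ([0,3,1,3,2,2,4],1366,0),
   ([2,3,4,0,4,2,1],1366,2),
   ([2,1,4,2,3,4,4],1366,3),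
   ([4,0,4,1,1,1,1],1367,1),
   ([1,0,3,0,2,0,1],1367,2),
   ([0,1,3,0,1,1,0],1367,3),
   ([2,2,1,0,3,2,4],1368,0),
   ([3,3,4,2,3,3,1],1368,1),
   ([2,1,3,4,3,0,2],1368,3),
   ([0,2,4,2,4,0,1],1369,0),
   ([3,4,2,4,4,2,1],1369,1),
   ([1,3,3,4,0,1,1],1369,2),
   ([1,1,3,0,4,1,1],1369,3),
   ([0,3,3,0,1,2,0],1370,0),
   ([3,0,3,3,0,3,2],1370,2),
   ([3,2,3,1,3,4,4],1370,3),
   ([4,4,1,3,2,1,2],1371,0),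
   ([1,4,4,1,1,1,3],1371,2),
   ([1,3,4,2,3,0,4],1371,3),
   ([0,3,4,1,2,0,3],1372,0),
   ([3,0,3,3,4,3,3],1372,2),
   ([3,3,3,1,1,4,4],1372,3),
   ([0,4,1,0,3,4,0],1373,0),
   ([1,4,3,4,3,2,2],1373,3),
   ([0,1,4,4,1,1,1],1374,1),
   ([2,2,2,3,2,0,1],1374,2),
   ([0,1,2,3,1,1,4],1374,3),
   ([4,1,3,0,1,2,4],1375,0),
   ([4,0,3,4,3,3,1],1375,1),
   ([1,0,3,4,4,2,1],1375,2),
   ([2,1,3,1,3,1,0],1375,3),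
   ([1,3,4,1,0,1,1],1376,2),
   ([0,3,2,3,1,2,3],1377,0),
   ([1,0,4,3,3,4,4],1377,3),
   ([0,2,2,1,0,1,3],1378,1),
   ([3,1,0,3,3,3,3],1378,2),
   ([3,2,2,3,4,0,1],1379,0),
   ([3,0,2,3,4,2,1],1379,1),
   ([3,2,0,3,0,1,1],1379,2),
   ([1,1,0,4,4,2,0],1379,3),
   ([2,0,1,0,0,1,1],1380,1),
   ([1,0,1,0,1,0,1],1380,2),
   ([4,4,0,1,0,4,1],1381,0),
   ([4,4,1,3,4,2,0],1381,2),
   ([4,0,2,2,3,1,0],1382,1),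
   ([3,2,1,3,3,1,0],1382,2),
   ([1,0,1,4,3,1,0],1382,3),
   ([3,1,1,2,0,3,3],1384,1),
   ([0,0,2,2,3,0,3],1384,2),
   ([3,0,2,4,1,1,2],1385,0),
   ([0,1,3,0,2,4,3],1385,1),
   ([4,1,0,2,0,1,3],1385,2),
   ([1,3,0,3,2,1,4],1385,3),
   ([2,3,0,3,4,0,3],1386,0),
   ([2,0,2,3,0,1,3],1386,1),
   ([3,3,1,3,0,3,0],1386,3),
   ([2,3,1,4,1,2,4],1387,2),
   ([4,3,0,3,0,1,1],1388,1),
   ([2,4,4,3,1,0,1],1388,2),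
   ([0,1,4,3,0,4,2],1388,3),
   ([4,0,2,0,3,2,4],1389,0),
   ([0,3,4,2,0,3,1],1389,1),
   ([2,0,0,0,1,2,1],1389,2),
   ([2,1,0,2,0,3,2],1389,3),
   ([2,1,0,0,3,0,1],1390,0),
   ([4,1,4,2,1,2,1],1390,1),
   ([2,2,1,0,2,1,1],1390,2),
   ([1,1,1,1,1,2,4],1390,3),
   ([0,3,4,3,0,3,4],1391,0),
   ([0,4,1,1,2,1,2],1391,2),
   ([1,2,1,2,0,4,4],1391,3),
   ([4,2,4,3,3,0,1],1392,0),
   ([4,2,2,2,2,1,1],1392,2),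
   ([1,1,2,3,1,4,3],1392,3),
   ([1,2,0,0,1,3,3],1393,0),
   ([3,1,3,4,2,1,1],1393,1),
   ([0,0,2,2,3,0,1],1393,2),
   ([0,1,2,2,2,3,4],1393,3),
   ([3,4,2,1,4,1,3],1394,2),
   ([0,2,2,2,0,2,1],1395,0),
   ([3,4,0,3,2,2,3],1395,1),
   ([3,2,1,2,0,4,3],1395,2),
   ([4,1,0,0,2,1,2],1396,1),
   ([1,3,2,4,4,4,2],1396,2),
   ([4,2,2,3,2,2,4],1396,3),
   ([4,1,4,0,4,4,0],1398,0),
   ([4,0,2,1,1,0,4],1398,1),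
   ([1,4,1,0,1,1,0],1398,3),
   ([1,2,1,1,2,1,3],1399,0),
   ([3,1,1,2,0,1,4],1399,1),
   ([0,3,2,0,4,2,4],1399,2),
   ([0,1,2,3,1,1,0],1400,2)]

/-- A block of images of the fixed vector. -/
def vOrbB28 : List (List ℕ × ℕ × ℕ) :=
  [([1,0,2,4,1,3,1],1400,3),
   ([4,2,1,3,0,1,2],1401,1),
   ([4,2,0,3,0,3,3],1401,3),
   ([0,4,1,4,2,1,0],1402,0),
   ([1,3,1,4,2,0,1],1402,1),
   ([3,3,0,3,3,4,1],1402,2),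
   ([4,1,0,2,2,2,2],1402,3),
   ([2,3,4,0,0,4,2],1403,0),
   ([2,0,0,0,3,4,1],1403,1),
   ([3,1,3,2,3,3,0],1403,3),
   ([2,1,0,3,0,1,1],1404,0),
   ([0,1,3,0,4,0,2],1404,2),
   ([0,2,3,0,2,2,4],1404,3),
   ([4,4,0,1,3,1,3],1405,0),
   ([1,1,4,1,0,1,4],1405,1),
   ([3,1,2,4,4,2,4],1405,2),
   ([2,4,2,1,0,0,4],1405,3),
   ([2,4,0,1,2,4,2],1406,0),
   ([1,2,1,2,3,4,1],1406,1),
   ([4,2,0,1,4,3,1],1406,2),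
   ([3,1,0,4,3,1,3],1406,3),
   ([4,2,2,3,4,3,1],1407,1),
   ([1,2,2,1,0,0,3],1408,0),
   ([2,0,0,3,1,3,3],1408,2),
   ([3,3,0,1,3,3,4],1408,3),
   ([4,2,0,3,2,4,1],1409,0),
   ([3,2,1,0,1,2,0],1409,1),
   ([2,0,2,4,1,4,3],1409,3),
   ([3,4,3,3,3,2,0],1410,0),
   ([1,4,4,4,4,0,2],1410,1),
   ([2,1,0,2,1,3,2],1410,2),
   ([3,2,0,0,4,3,1],1410,3),
   ([3,0,0,0,1,3,4],1411,2),
   ([4,0,1,3,2,0,1],1412,0),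
   ([0,3,1,0,3,2,1],1412,1),
   ([3,1,4,1,4,1,1],1412,2),
   ([0,3,3,2,0,3,3],1413,0),
   ([2,1,0,3,4,1,1],1413,1),
   ([3,4,3,4,0,0,1],1413,2),
   ([0,1,3,4,4,4,4],1413,3),
   ([2,4,4,4,1,1,4],1414,1),
   ([1,3,2,1,0,2,4],1414,2),
   ([2,0,3,0,1,4,2],1415,0),
   ([0,4,3,4,3,4,1],1415,1),
   ([3,1,3,1,3,4,1],1415,3),
   ([0,4,2,0,0,2,4],1416,0),
   ([1,3,0,0,4,3,1],1416,1),
   ([2,1,4,1,4,2,2],1416,3),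
   ([1,2,2,3,1,4,2],1417,0),
   ([3,4,4,0,4,3,1],1417,2),
   ([3,1,4,3,3,3,4],1417,3),
   ([4,0,2,2,1,1,1],1418,1),
   ([0,2,4,1,2,0,1],1418,2),
   ([0,1,4,1,1,1,0],1418,3),
   ([3,3,3,2,4,3,1],1419,1),
   ([2,2,3,1,0,2,1],1419,2),
   ([1,4,0,3,4,0,1],1420,0),
   ([1,0,2,3,0,2,1],1420,1),
   ([0,1,1,1,1,3,2],1421,2),
   ([3,3,4,2,3,1,4],1422,1),
   ([2,4,3,2,2,2,4],1422,2),
   ([1,1,3,1,2,2,4],1423,0),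
   ([4,4,1,2,4,3,1],1423,1),
   ([4,3,1,1,0,2,1],1423,2),
   ([2,1,1,3,4,0,1],1423,3),
   ([1,1,1,3,3,3,1],1425,2),
   ([0,4,4,3,0,1,3],1426,0),
   ([1,3,0,2,0,1,4],1426,1),
   ([2,0,1,0,4,2,4],1426,2),
   ([2,4,1,2,0,2,2],1426,3),
   ([4,3,1,4,3,3,1],1427,0),
   ([2,4,4,3,4,2,4],1427,1),
   ([1,4,2,1,3,3,4],1427,2),
   ([1,3,2,2,2,0,2],1428,2),
   ([0,4,1,0,4,3,1],1429,0),
   ([3,2,0,3,4,3,4],1429,2),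
   ([3,4,0,1,0,2,2],1429,3),
   ([0,1,2,3,4,2,0],1430,0),
   ([4,2,2,3,4,0,2],1430,1),
   ([2,2,0,1,1,3,2],1430,2),
   ([3,2,0,4,4,3,3],1430,3),
   ([3,0,3,0,0,3,4],1431,0),
   ([0,1,0,0,1,3,2],1431,1),
   ([3,3,1,3,3,1,2],1431,2),
   ([1,2,1,4,1,1,4],1431,3),
   ([0,2,1,0,2,0,3],1432,2),
   ([0,3,1,0,4,4,3],1432,3),
   ([0,1,3,1,3,1,3],1434,0),
   ([4,2,4,1,1,1,4],1434,1),
   ([2,4,3,0,1,3,3],1434,3),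
   ([3,0,0,0,3,0,4],1435,0),
   ([0,1,4,2,1,3,4],1435,1),
   ([3,4,1,2,0,4,4],1435,2),
   ([4,4,1,1,1,1,4],1435,3),
   ([1,4,3,2,2,4,1],1436,1),
   ([1,1,1,2,3,3,1],1436,2),
   ([3,1,1,0,2,3,1],1436,3),
   ([4,2,2,0,1,1,3],1437,0),
   ([3,2,3,4,1,1,4],1437,1),
   ([0,1,1,1,0,2,4],1437,2),
   ([2,4,1,3,1,4,3],1437,3),
   ([0,4,1,3,3,3,1],1438,0),
   ([2,3,1,1,4,3,4],1438,2),
   ([3,4,1,4,0,2,2],1438,3),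
   ([4,3,1,0,2,1,2],1439,0),
   ([2,2,1,1,4,1,3],1439,2),
   ([1,3,1,2,1,2,1],1439,3),
   ([3,2,3,1,0,4,2],1440,1),
   ([0,2,1,4,2,2,2],1440,2),
   ([2,1,1,2,3,0,4],1441,0),
   ([4,1,4,0,1,3,4],1441,1),
   ([3,0,0,0,0,4,4],1441,2),
   ([4,4,0,4,1,2,4],1441,3),
   ([2,4,4,4,3,2,2],1442,0),
   ([1,2,4,3,0,4,4],1442,1),
   ([0,4,3,3,0,1,3],1442,3),
   ([1,1,1,1,0,3,1],1443,0),
   ([2,2,3,0,0,3,4],1443,2),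
   ([3,4,3,3,1,0,1],1443,3),
   ([0,2,2,1,4,0,2],1444,0),
   ([3,4,2,0,1,4,2],1444,1),
   ([1,0,3,2,3,2,2],1444,2),
   ([2,2,3,4,1,1,1],1444,3),
   ([0,3,4,2,4,0,4],1445,0),
   ([2,1,2,4,4,3,4],1445,1)]

/-- A block of images of the fixed vector. -/
def vOrbB29 : List (List ℕ × ℕ × ℕ) :=
  [([4,4,3,0,4,4,4],1445,3),
   ([0,4,1,2,4,2,2],1446,0),
   ([1,3,2,4,3,4,4],1446,1),
   ([1,0,2,1,2,0,4],1446,2),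
   ([1,1,3,4,1,2,2],1447,0),
   ([3,1,2,1,3,0,4],1447,2),
   ([0,4,2,1,4,0,1],1447,3),
   ([1,4,3,4,1,4,1],1448,1),
   ([1,2,1,0,2,3,1],1448,2),
   ([3,1,1,3,1,3,1],1448,3),
   ([4,2,4,1,2,1,3],1449,0),
   ([3,2,1,2,1,1,4],1449,1),
   ([3,2,3,4,0,2,4],1449,2),
   ([2,4,3,1,1,4,3],1449,3),
   ([3,4,1,1,2,3,1],1450,0),
   ([1,4,1,2,0,2,4],1450,1),
   ([0,0,2,4,4,3,4],1450,2),
   ([3,4,2,2,0,3,1],1450,3),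
   ([4,3,1,3,1,1,2],1451,0),
   ([1,3,2,4,4,1,3],1451,2),
   ([1,3,2,0,1,2,1],1451,3),
   ([3,0,0,0,1,4,4],1452,1),
   ([2,3,1,4,0,0,4],1452,2),
   ([4,4,1,4,1,3,1],1453,0),
   ([1,1,3,0,0,2,4],1453,1),
   ([3,4,3,0,0,0,4],1453,3),
   ([4,2,0,2,3,0,4],1454,0),
   ([3,0,3,2,3,4,4],1454,2),
   ([4,4,3,1,4,4,3],1454,3),
   ([0,2,1,4,1,4,0],1455,0),
   ([1,4,3,0,0,1,1],1455,3),
   ([3,3,3,4,1,4,4],1456,0),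
   ([3,4,2,1,2,0,3],1456,2),
   ([0,3,2,1,4,0,3],1456,3),
   ([2,0,0,2,3,0,3],1457,0),
   ([0,4,4,0,4,1,3],1457,1),
   ([3,3,3,3,2,3,3],1457,2),
   ([2,0,3,4,2,3,1],1459,0),
   ([0,4,1,4,1,2,4],1459,1),
   ([2,2,4,0,0,3,4],1459,2),
   ([3,4,4,3,1,4,1],1459,3),
   ([1,4,4,3,0,3,3],1461,2),
   ([0,1,3,0,1,1,1],1462,0),
   ([4,2,3,4,3,2,2],1462,1),
   ([4,4,3,1,0,0,2],1462,2),
   ([0,2,3,1,3,3,3],1462,3),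
   ([0,3,3,2,3,1,2],1463,0),
   ([2,1,4,0,0,4,3],1463,1),
   ([2,0,4,4,3,1,3],1463,2),
   ([1,3,4,0,0,4,4],1463,3),
   ([4,0,3,4,0,1,2],1464,0),
   ([0,3,0,1,2,4,3],1464,1),
   ([2,0,0,3,0,1,3],1464,2),
   ([1,3,0,4,2,3,2],1464,3),
   ([2,3,1,3,3,4,0],1465,0),
   ([2,0,4,4,0,0,4],1465,1),
   ([1,2,1,3,4,1,4],1465,2),
   ([1,4,1,4,0,3,0],1465,3),
   ([0,1,1,1,4,1,4],1466,1),
   ([1,3,3,0,3,2,4],1466,2),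
   ([3,4,0,4,2,1,4],1467,0),
   ([4,4,3,1,0,3,0],1467,2),
   ([3,0,3,4,0,3,1],1467,3),
   ([2,4,2,1,3,2,0],1470,0),
   ([3,3,1,4,1,3,2],1470,2),
   ([3,2,1,2,4,1,3],1470,3),
   ([0,3,2,4,2,2,4],1471,1),
   ([1,4,1,4,1,3,4],1471,2),
   ([3,4,1,2,2,3,2],1471,3),
   ([2,3,1,1,4,2,0],1472,0),
   ([2,0,2,0,4,0,2],1472,1),
   ([1,4,1,3,1,3,2],1472,2),
   ([3,2,1,1,4,3,0],1472,3),
   ([1,3,4,1,2,3,4],1473,0),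
   ([2,3,1,2,1,3,2],1473,1),
   ([1,4,3,0,3,1,2],1473,2),
   ([1,2,3,1,1,1,2],1473,3),
   ([4,2,1,2,2,1,4],1474,0),
   ([3,3,3,4,4,3,0],1474,2),
   ([3,0,3,2,4,4,3],1474,3),
   ([1,4,2,2,4,3,0],1475,0),
   ([1,0,2,4,0,0,3],1475,1),
   ([2,3,4,4,0,4,0],1475,3),
   ([2,3,4,3,2,4,0],1476,0),
   ([2,1,0,0,3,1,4],1476,2),
   ([1,4,0,1,4,3,0],1476,3),
   ([1,1,3,0,3,1,4],1477,0),
   ([4,4,4,2,2,3,0],1477,1),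
   ([3,1,2,2,2,3,0],1477,2),
   ([3,0,2,0,2,0,1],1477,3),
   ([0,1,2,1,2,1,4],1478,0),
   ([3,4,4,2,2,3,0],1478,2),
   ([3,0,4,0,2,3,3],1478,3),
   ([3,2,0,1,4,1,0],1479,0),
   ([4,2,4,4,3,4,1],1479,2),
   ([4,1,4,3,2,2,0],1479,3),
   ([1,4,3,3,0,2,4],1480,0),
   ([1,0,0,2,3,3,1],1480,1),
   ([2,1,4,4,3,4,0],1480,3),
   ([4,0,2,4,2,3,1],1481,1),
   ([3,2,1,0,3,2,1],1481,2),
   ([2,2,1,1,4,3,0],1482,0),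
   ([2,3,1,1,4,0,2],1482,3),
   ([1,3,3,3,2,2,1],1483,0),
   ([2,3,1,0,2,2,3],1483,1),
   ([1,0,3,4,0,4,3],1483,2),
   ([4,3,3,3,2,1,2],1483,3),
   ([1,3,1,2,2,2,0],1484,0),
   ([1,2,3,0,4,2,4],1485,0),
   ([3,1,2,1,4,3,1],1485,1),
   ([3,3,4,0,0,2,1],1485,2),
   ([2,1,4,2,4,3,4],1485,3),
   ([3,0,1,4,3,3,0],1486,0),
   ([0,1,4,3,4,0,3],1486,1),
   ([2,2,2,2,2,2,3],1486,2),
   ([2,3,2,4,4,1,4],1486,3),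
   ([3,3,1,3,4,2,1],1487,0),
   ([2,0,3,2,0,4,3],1487,2),
   ([4,3,3,1,2,0,3],1487,3),
   ([1,3,4,2,4,1,3],1488,0),
   ([1,1,3,3,3,2,4],1488,2),
   ([2,4,3,0,4,1,2],1488,3),
   ([4,3,2,0,1,2,4],1489,1),
   ([3,3,3,1,0,3,4],1489,2),
   ([3,4,1,3,1,3,4],1490,0)]

/-- A block of images of the fixed vector. -/
def vOrbB30 : List (List ℕ × ℕ × ℕ) :=
  [([0,3,2,4,3,1,2],1490,2),
   ([1,2,2,0,1,3,1],1490,3),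
   ([4,2,3,4,1,3,4],1491,0),
   ([4,3,2,0,1,1,2],1491,2),
   ([1,2,2,1,4,4,3],1491,3),
   ([4,1,4,3,1,2,1],1492,0),
   ([4,0,3,1,2,2,3],1492,1),
   ([1,4,3,0,0,4,3],1492,2),
   ([4,3,3,4,2,1,0],1492,3),
   ([3,3,0,0,1,3,2],1493,1),
   ([1,2,1,4,1,0,2],1493,3),
   ([3,2,3,3,0,4,3],1494,0),
   ([3,0,0,2,3,1,2],1494,1),
   ([4,4,4,0,0,4,2],1494,2),
   ([4,2,4,4,3,2,0],1494,3),
   ([2,4,3,4,2,2,0],1495,0),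
   ([0,0,4,0,3,3,2],1495,2),
   ([3,2,4,3,1,1,3],1495,3),
   ([3,4,4,2,4,2,1],1496,0),
   ([4,3,3,0,4,3,1],1496,3),
   ([1,4,4,4,3,4,2],1497,2),
   ([4,2,4,3,1,0,3],1497,3),
   ([1,2,2,0,0,2,1],1499,1),
   ([2,1,2,4,1,1,1],1499,2),
   ([1,1,2,0,0,1,3],1499,3),
   ([1,0,3,3,3,0,2],1500,0),
   ([3,0,0,3,1,2,2],1500,2),
   ([2,2,0,0,4,2,3],1500,3),
   ([3,3,2,0,0,2,1],1501,0),
   ([1,0,4,2,2,4,3],1501,2),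
   ([3,2,2,2,0,3,4],1502,2),
   ([4,1,0,4,1,3,4],1503,0),
   ([3,3,1,1,0,1,2],1503,2),
   ([1,2,1,2,3,1,0],1503,3),
   ([0,1,4,4,0,2,3],1504,1),
   ([3,0,1,0,3,4,3],1504,2),
   ([4,3,1,4,0,1,4],1504,3),
   ([4,1,2,1,0,3,4],1505,0),
   ([4,0,0,4,3,3,2],1505,1),
   ([4,1,0,0,0,1,2],1505,2),
   ([1,2,0,1,3,1,0],1505,3),
   ([1,0,1,3,3,4,3],1506,0),
   ([0,2,4,4,0,1,2],1506,1),
   ([2,4,1,4,0,2,3],1507,0),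
   ([3,2,1,2,3,1,0],1507,2),
   ([2,2,2,3,1,0,2],1508,0),
   ([3,3,3,1,3,4,2],1508,1),
   ([1,2,4,1,0,2,2],1508,2),
   ([2,2,4,3,3,0,2],1508,3),
   ([3,1,2,3,2,1,1],1509,0),
   ([4,3,1,0,0,2,2],1509,1),
   ([0,3,1,0,2,0,2],1509,2),
   ([0,2,1,0,0,4,2],1509,3),
   ([4,4,1,2,0,3,2],1510,2),
   ([0,3,4,0,2,2,3],1511,1),
   ([1,0,1,4,0,4,3],1511,2),
   ([4,3,1,3,2,3,2],1511,3),
   ([2,3,3,4,3,3,4],1512,0),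
   ([2,0,4,3,3,3,2],1512,1),
   ([1,4,1,4,0,1,2],1512,2),
   ([1,2,1,0,3,3,0],1512,3),
   ([3,0,0,3,0,1,2],1513,1),
   ([4,2,4,4,2,4,2],1513,2),
   ([4,2,4,3,0,2,0],1513,3),
   ([0,3,4,4,3,3,0],1514,2),
   ([0,3,3,4,1,0,2],1515,2),
   ([0,1,3,4,4,4,0],1516,0),
   ([4,0,3,1,4,1,4],1516,2),
   ([1,1,4,3,3,0,4],1517,1),
   ([4,0,1,4,2,1,4],1517,2),
   ([2,4,3,0,1,1,4],1518,0),
   ([1,2,3,4,3,3,0],1518,1),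
   ([1,1,3,3,3,3,0],1518,2),
   ([2,4,3,3,4,2,1],1519,1),
   ([2,1,1,3,0,1,1],1519,2),
   ([2,0,3,3,4,0,2],1520,0),
   ([0,4,2,3,1,4,2],1520,1),
   ([2,2,2,2,1,4,1],1520,3),
   ([2,1,0,3,3,1,1],1521,0),
   ([4,1,4,4,3,2,2],1521,1),
   ([0,2,4,1,3,2,4],1521,3),
   ([3,3,1,4,4,4,2],1522,0),
   ([1,1,4,3,2,3,1],1522,2),
   ([1,2,2,3,1,2,3],1523,1),
   ([2,2,2,3,4,4,3],1523,2),
   ([4,3,2,2,1,1,3],1523,3),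
   ([0,2,1,1,4,3,2],1524,1),
   ([4,3,2,1,4,4,3],1525,0),
   ([0,3,3,0,3,4,2],1525,2),
   ([4,2,3,4,1,2,1],1525,3),
   ([2,4,2,2,1,2,1],1526,0),
   ([1,4,3,4,2,4,3],1526,2),
   ([4,3,3,3,4,1,3],1526,3),
   ([1,1,1,2,1,1,1],1527,0),
   ([4,4,3,2,2,2,2],1527,1),
   ([4,4,1,0,4,0,2],1527,2),
   ([0,2,1,0,2,0,1],1527,3),
   ([3,1,2,0,1,4,3],1528,0),
   ([4,3,3,4,1,1,2],1528,1),
   ([0,0,1,4,3,4,2],1528,2),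
   ([4,2,1,3,1,4,2],1528,3),
   ([2,0,4,3,3,4,2],1529,1),
   ([1,3,1,3,0,2,2],1529,2),
   ([2,2,1,0,3,3,0],1529,3),
   ([0,1,1,0,2,0,2],1530,0),
   ([1,4,1,0,3,2,2],1530,2),
   ([2,2,1,2,1,3,3],1530,3),
   ([4,4,1,4,4,3,4],1531,0),
   ([1,1,2,2,1,3,2],1531,1),
   ([1,2,4,0,3,1,2],1531,2),
   ([2,0,4,2,3,1,2],1532,0),
   ([0,4,4,0,2,4,3],1532,1),
   ([0,4,1,2,0,1,3],1532,2),
   ([1,3,1,3,2,4,1],1532,3),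
   ([0,3,1,1,2,3,3],1533,2),
   ([1,4,1,2,2,0,4],1534,0),
   ([1,0,1,1,4,3,4],1534,1),
   ([3,0,3,3,3,4,4],1534,2),
   ([4,4,3,2,4,4,0],1534,3),
   ([2,1,0,0,4,2,2],1535,0),
   ([4,1,2,1,3,4,4],1535,1),
   ([0,2,3,3,2,0,4],1535,2),
   ([0,4,3,3,3,2,4],1535,3),
   ([4,0,3,3,4,0,1],1536,3),
   ([1,3,3,1,3,4,1],1537,1)]

/-- A block of images of the fixed vector. -/
def vOrbB31 : List (List ℕ × ℕ × ℕ) :=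
  [([4,1,4,0,4,3,1],1537,2),
   ([3,1,4,3,3,2,2],1537,3),
   ([0,1,4,4,1,1,3],1538,0),
   ([3,3,4,2,0,2,4],1538,2),
   ([2,4,4,4,1,3,3],1538,3),
   ([3,2,4,1,4,3,1],1539,0),
   ([3,0,2,0,0,2,4],1539,1),
   ([1,2,2,2,4,3,4],1539,2),
   ([3,4,2,0,0,2,0],1539,3),
   ([4,3,4,3,3,4,4],1540,0),
   ([1,0,2,3,4,0,3],1540,2),
   ([0,3,2,3,1,2,1],1540,3),
   ([1,2,0,2,1,4,4],1541,1),
   ([1,0,4,4,3,3,1],1542,0),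
   ([0,2,4,3,0,2,4],1542,1),
   ([3,4,3,3,0,2,3],1542,3),
   ([0,2,1,4,3,0,4],1543,0),
   ([3,4,4,3,4,3,4],1543,1),
   ([2,3,2,0,3,4,4],1543,2),
   ([4,4,2,4,4,1,1],1543,3),
   ([0,2,2,1,1,2,1],1544,0),
   ([4,3,2,3,0,1,1],1544,3),
   ([2,0,3,0,4,3,0],1545,2),
   ([3,0,3,3,4,0,3],1545,3),
   ([3,1,1,4,4,0,3],1546,1),
   ([0,1,2,1,2,1,1],1547,2),
   ([3,4,3,4,0,4,3],1548,0),
   ([1,4,0,1,2,1,2],1548,1),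
   ([2,3,0,0,4,4,2],1548,2),
   ([0,1,3,4,4,4,2],1549,1),
   ([0,4,4,3,1,2,2],1549,2),
   ([2,2,4,0,4,1,4],1549,3),
   ([2,0,0,4,1,4,4],1550,1),
   ([4,1,3,3,0,0,4],1550,2),
   ([1,1,2,4,0,3,1],1551,0),
   ([4,4,0,1,0,2,4],1551,1),
   ([2,3,3,3,4,3,4],1551,2),
   ([3,4,3,1,0,0,1],1551,3),
   ([2,2,4,1,4,3,4],1552,1),
   ([4,2,1,3,3,4,4],1552,2),
   ([0,2,3,3,1,1,0],1553,0),
   ([3,2,1,2,1,4,1],1553,2),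
   ([4,1,1,1,0,1,1],1553,3),
   ([0,4,2,3,2,2,2],1554,2),
   ([2,2,2,0,0,3,4],1554,3),
   ([3,0,3,3,3,0,4],1555,0),
   ([0,1,4,4,4,3,4],1555,1),
   ([4,2,0,1,3,4,4],1555,2),
   ([4,4,0,0,4,1,4],1555,3),
   ([1,3,0,3,3,2,2],1556,0),
   ([2,3,4,4,3,4,4],1556,1),
   ([0,4,4,1,3,1,2],1556,3),
   ([1,4,4,4,3,2,4],1557,2),
   ([2,1,0,4,2,1,2],1558,1),
   ([2,1,4,3,4,4,2],1558,2),
   ([3,1,3,4,2,4,2],1559,0),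
   ([4,3,1,4,1,4,1],1559,1),
   ([2,1,4,0,2,3,1],1559,2),
   ([3,1,4,3,1,4,2],1559,3),
   ([1,2,2,2,1,4,2],1561,0),
   ([3,1,3,2,4,4,1],1561,1),
   ([4,4,3,0,0,3,1],1561,2),
   ([3,1,3,3,4,3,4],1561,3),
   ([3,3,4,3,0,2,4],1562,0),
   ([2,2,0,2,0,3,1],1562,1),
   ([4,4,1,0,1,2,1],1562,2),
   ([2,1,1,2,0,0,3],1562,3),
   ([1,0,1,0,3,4,4],1563,2),
   ([1,2,2,4,4,3,1],1564,1),
   ([1,0,3,3,0,2,1],1564,2),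
   ([1,0,3,4,1,3,0],1565,0),
   ([0,2,3,0,4,0,3],1565,1),
   ([2,3,2,1,4,2,3],1565,3),
   ([0,1,0,1,4,2,1],1566,0),
   ([4,2,2,0,2,2,3],1566,1),
   ([4,3,4,3,2,3,3],1566,3),
   ([0,3,4,3,2,4,3],1567,2),
   ([4,3,4,2,4,1,2],1567,3),
   ([3,1,2,4,3,0,4],1568,0),
   ([4,3,4,3,1,3,4],1568,1),
   ([2,3,4,3,0,4,4],1568,2),
   ([4,4,4,2,1,4,2],1568,3),
   ([0,4,0,2,0,1,4],1569,0),
   ([1,3,0,3,3,3,0],1569,1),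
   ([1,0,2,2,3,3,0],1569,2),
   ([3,0,2,0,3,2,2],1569,3),
   ([1,4,4,0,0,4,3],1570,2),
   ([3,1,3,3,0,3,3],1571,0),
   ([4,3,0,2,3,1,1],1571,1),
   ([2,1,4,4,4,0,1],1571,2),
   ([0,1,4,4,3,4,2],1571,3),
   ([3,0,4,0,3,1,0],1572,1),
   ([1,3,2,1,3,1,0],1572,2),
   ([4,0,3,3,3,2,3],1573,0),
   ([0,3,4,4,4,1,0],1573,1),
   ([1,0,0,0,4,3,2],1573,3),
   ([2,3,1,2,4,3,3],1574,0),
   ([2,0,2,4,3,1,1],1574,1),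
   ([0,2,2,1,4,0,1],1574,2),
   ([0,1,2,1,3,3,0],1574,3),
   ([3,0,0,0,4,1,4],1575,0),
   ([1,4,3,0,3,3,0],1575,2),
   ([3,0,3,3,3,1,4],1575,3),
   ([0,0,1,1,3,3,4],1576,3),
   ([3,2,2,4,2,4,4],1577,2),
   ([1,2,4,3,3,1,1],1578,2),
   ([3,4,4,0,0,3,3],1579,0),
   ([1,4,0,0,3,1,1],1579,1),
   ([4,3,3,2,4,0,1],1579,2),
   ([0,1,3,2,3,3,1],1579,3),
   ([1,3,0,0,3,2,3],1580,0),
   ([2,3,4,2,1,1,0],1580,1),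
   ([3,4,1,0,1,1,0],1580,2),
   ([1,0,1,1,1,1,2],1580,3),
   ([3,0,4,1,2,1,0],1581,1),
   ([4,2,4,3,2,1,0],1581,2),
   ([4,4,2,4,4,3,3],1582,0),
   ([1,1,2,2,3,1,1],1582,1),
   ([4,4,1,4,4,0,1],1582,2),
   ([0,1,1,4,3,0,4],1582,3),
   ([4,3,2,1,3,1,0],1583,0),
   ([2,4,1,3,0,4,1],1583,2),
   ([4,1,1,2,4,2,1],1583,3),
   ([3,0,4,4,2,4,0],1584,0),
   ([1,4,1,1,3,1,4],1584,3)]

/-- A block of images of the fixed vector. -/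
def vOrbB32 : List (List ℕ × ℕ × ℕ) :=
  [([4,3,0,4,1,2,1],1585,0),
   ([2,4,3,0,3,2,3],1585,1),
   ([4,3,1,2,3,2,1],1585,3),
   ([0,4,0,1,1,3,2],1586,1),
   ([2,3,4,4,3,1,2],1586,2),
   ([1,2,4,0,1,4,1],1586,3),
   ([4,0,1,1,1,4,3],1587,0),
   ([0,3,3,3,3,1,2],1587,1),
   ([2,4,0,1,0,4,2],1587,2),
   ([4,2,0,0,3,3,2],1587,3),
   ([2,4,1,2,3,4,2],1588,0),
   ([4,2,0,1,2,3,1],1588,2),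
   ([3,1,0,4,1,1,3],1588,3),
   ([1,2,4,2,2,1,0],1589,1),
   ([1,0,2,0,2,1,3],1589,3),
   ([1,0,1,4,0,3,3],1590,0),
   ([0,2,0,1,3,1,1],1590,1),
   ([0,4,0,2,3,1,0],1591,0),
   ([1,3,4,0,4,0,1],1591,1),
   ([0,1,3,2,0,4,1],1591,2),
   ([4,1,3,1,4,2,2],1591,3),
   ([1,2,4,2,3,4,2],1592,2),
   ([3,1,2,2,1,1,0],1593,0),
   ([3,0,3,4,0,4,1],1593,2),
   ([4,1,3,3,4,4,2],1593,3),
   ([0,3,3,1,0,4,1],1594,1),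
   ([2,1,4,1,1,0,2],1595,0),
   ([1,2,1,2,3,3,4],1596,0),
   ([3,1,4,0,1,3,2],1596,1),
   ([2,3,0,3,3,1,2],1596,2),
   ([1,2,0,4,1,3,4],1596,3),
   ([3,4,0,0,3,1,2],1597,0),
   ([1,0,1,0,4,1,3],1597,2),
   ([1,3,1,1,1,3,1],1597,3),
   ([1,0,4,4,0,0,3],1599,0),
   ([0,2,0,1,4,1,3],1599,1),
   ([1,3,2,4,2,3,3],1599,2),
   ([3,3,2,2,4,2,3],1599,3),
   ([1,3,2,4,4,3,4],1600,0),
   ([2,3,2,2,3,3,2],1600,1),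
   ([3,0,1,3,0,1,2],1600,2),
   ([1,2,1,4,3,1,2],1600,3),
   ([1,4,4,2,4,2,3],1601,1),
   ([3,1,4,4,2,4,3],1601,2),
   ([4,3,4,3,4,3,1],1601,3),
   ([0,3,1,0,0,1,2],1602,0),
   ([2,1,0,0,2,4,3],1602,1),
   ([4,1,2,2,0,1,3],1602,2),
   ([1,3,2,3,2,4,4],1602,3),
   ([3,1,1,4,3,2,4],1603,0),
   ([4,4,2,2,0,2,1],1603,2),
   ([2,1,2,4,4,4,2],1603,3),
   ([1,0,4,3,4,0,0],1604,1),
   ([0,0,2,4,4,4,0],1604,3),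
   ([2,1,3,1,4,4,0],1605,2),
   ([3,2,2,4,4,0,0],1606,1),
   ([0,0,3,0,4,4,3],1606,3),
   ([3,1,2,0,2,1,3],1607,2),
   ([0,4,4,4,0,3,2],1608,0),
   ([1,3,0,1,4,4,0],1608,1),
   ([1,3,2,3,4,4,0],1608,2),
   ([4,0,2,2,4,2,2],1608,3),
   ([3,3,2,3,4,2,3],1609,2),
   ([3,0,1,4,4,3,3],1610,1),
   ([1,0,2,0,2,0,3],1610,2),
   ([0,3,2,0,4,2,0],1610,3),
   ([4,3,0,4,4,1,4],1611,0),
   ([2,4,2,2,4,3,0],1611,1),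
   ([1,2,2,0,4,3,0],1611,2),
   ([4,1,2,0,4,3,3],1612,1),
   ([2,3,1,1,2,0,3],1612,2),
   ([1,3,0,3,0,3,0],1613,0),
   ([1,1,3,3,0,2,3],1613,2),
   ([2,3,3,0,2,1,2],1613,3),
   ([0,0,2,1,4,2,4],1614,3),
   ([3,2,2,1,0,0,1],1615,2),
   ([0,0,3,0,4,2,2],1616,1),
   ([3,2,2,1,1,0,2],1616,2),
   ([1,2,4,0,0,0,2],1617,0),
   ([3,1,0,0,3,4,2],1617,1),
   ([4,3,3,0,0,2,2],1617,2),
   ([2,2,3,2,3,3,4],1617,3),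
   ([2,1,3,2,2,2,1],1618,2),
   ([4,1,3,2,4,0,1],1620,0),
   ([3,3,1,1,3,1,1],1620,2),
   ([1,1,1,2,2,1,0],1620,3),
   ([4,3,2,0,4,0,1],1621,0),
   ([1,1,2,3,3,1,1],1621,2),
   ([1,1,2,4,2,2,1],1621,3),
   ([3,0,4,4,0,2,1],1622,1),
   ([2,2,1,3,1,1,1],1622,2),
   ([1,1,1,4,0,2,0],1622,3),
   ([4,4,2,1,0,0,2],1623,0),
   ([1,1,0,4,3,4,2],1623,1),
   ([0,1,0,4,0,2,2],1623,2),
   ([2,2,0,1,3,0,4],1623,3),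
   ([1,0,0,3,4,1,1],1624,0),
   ([0,2,2,3,0,2,2],1624,1),
   ([2,3,1,3,2,0,2],1624,2),
   ([0,2,1,3,0,2,3],1624,3),
   ([3,3,1,4,0,4,0],1625,0),
   ([1,4,1,3,3,0,3],1625,3),
   ([3,4,3,1,0,1,4],1626,1),
   ([3,4,3,3,2,4,2],1627,0),
   ([1,4,1,0,2,4,1],1627,1),
   ([4,2,3,0,3,3,1],1627,2),
   ([3,1,3,3,2,3,1],1627,3),
   ([4,4,1,0,0,1,4],1628,1),
   ([4,2,1,3,4,2,4],1628,2),
   ([2,4,1,0,0,0,1],1628,3),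
   ([3,1,4,4,4,4,2],1629,0),
   ([4,3,2,2,2,4,1],1629,1),
   ([3,1,0,0,2,4,2],1629,3),
   ([4,2,1,2,4,2,4],1630,0),
   ([3,2,2,4,3,3,1],1630,1),
   ([4,2,2,4,4,2,1],1630,2),
   ([2,1,2,1,3,4,3],1630,3),
   ([1,2,1,0,0,0,2],1631,0),
   ([2,2,2,3,2,3,4],1631,3),
   ([4,3,4,1,1,1,3],1632,0),
   ([2,4,3,3,4,1,4],1632,1),
   ([2,0,1,2,3,2,4],1632,2),
   ([2,4,1,4,4,2,1],1632,3),
   ([0,4,2,3,1,4,1],1633,1),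
   ([3,1,2,2,1,4,1],1633,3)]

/-- A block of images of the fixed vector. -/
def vOrbB33 : List (List ℕ × ℕ × ℕ) :=
  [([4,3,1,1,3,2,4],1634,0),
   ([2,4,4,1,2,3,1],1634,1),
   ([2,1,4,4,2,2,1],1634,3),
   ([1,2,1,4,4,4,2],1635,0),
   ([3,0,4,3,2,3,1],1635,2),
   ([3,1,4,1,1,3,4],1635,3),
   ([1,2,2,3,1,3,0],1636,1),
   ([2,3,2,4,1,3,0],1636,2),
   ([1,0,1,2,2,4,4],1637,0),
   ([0,2,1,1,4,3,3],1637,1),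
   ([0,1,3,2,2,0,3],1637,2),
   ([0,3,3,2,4,2,3],1637,3),
   ([2,1,1,3,4,3,0],1638,0),
   ([0,1,3,4,0,2,3],1638,2),
   ([2,3,3,1,2,2,4],1638,3),
   ([4,0,2,2,1,2,1],1639,0),
   ([4,3,3,3,4,3,2],1639,3),
   ([1,2,1,0,2,2,4],1640,0),
   ([2,1,1,2,1,3,4],1640,3),
   ([3,0,2,3,3,3,0],1641,0),
   ([0,1,4,4,2,0,3],1641,1),
   ([1,3,3,0,0,2,3],1641,2),
   ([2,3,3,2,2,1,4],1641,3),
   ([0,1,3,3,1,2,1],1642,0),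
   ([4,2,3,1,0,2,3],1642,1),
   ([1,0,1,2,3,4,3],1642,2),
   ([4,3,1,1,0,3,3],1642,3),
   ([1,3,1,2,1,1,3],1643,0),
   ([3,1,1,3,1,2,4],1643,2),
   ([2,4,1,0,2,1,2],1643,3),
   ([3,1,1,4,4,3,4],1644,0),
   ([4,3,2,2,1,3,2],1644,1),
   ([2,4,4,0,3,1,2],1644,2),
   ([1,2,4,1,1,4,2],1644,3),
   ([3,2,4,2,3,1,2],1645,0),
   ([3,0,4,0,2,4,3],1645,1),
   ([2,0,1,2,0,1,3],1645,2),
   ([1,3,1,3,2,2,0],1645,3),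
   ([2,4,3,2,1,0,4],1647,2),
   ([0,2,3,0,0,4,0],1648,0),
   ([3,4,0,0,1,0,4],1648,1),
   ([3,1,1,3,0,1,4],1648,2),
   ([1,4,1,4,1,1,1],1648,3),
   ([3,2,1,4,1,4,0],1649,0),
   ([3,0,3,0,0,0,4],1649,1),
   ([1,4,3,0,0,2,0],1649,3),
   ([4,4,2,2,2,1,4],1650,0),
   ([1,1,1,1,1,3,0],1650,1),
   ([3,0,0,0,1,0,4],1650,3),
   ([4,1,4,2,1,3,0],1651,1),
   ([2,0,1,3,1,3,0],1651,2),
   ([3,0,1,1,1,2,4],1651,3),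
   ([3,2,3,0,0,4,0],1652,0),
   ([2,2,1,3,0,1,4],1652,2),
   ([1,4,1,4,1,2,0],1652,3),
   ([4,3,2,3,2,3,4],1653,0),
   ([2,4,1,0,0,3,2],1653,1),
   ([2,3,1,4,2,1,2],1653,2),
   ([2,0,4,4,4,2,1],1654,0),
   ([0,4,2,2,2,2,3],1654,1),
   ([1,0,0,1,0,4,3],1654,2),
   ([4,3,0,0,2,4,1],1654,3),
   ([4,1,2,0,3,3,1],1655,2),
   ([1,2,0,0,2,4,0],1656,1),
   ([2,4,2,4,2,4,0],1656,2),
   ([4,0,2,3,2,1,3],1656,3),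
   ([1,0,2,3,2,2,2],1657,0),
   ([0,2,1,0,0,4,4],1657,1),
   ([2,2,1,0,4,0,4],1657,2),
   ([0,4,1,0,0,2,3],1657,3),
   ([4,4,4,1,1,4,0],1658,0),
   ([1,1,3,3,4,0,4],1658,1),
   ([4,3,1,3,3,1,4],1658,2),
   ([1,4,1,4,4,0,4],1658,3),
   ([2,0,2,3,2,2,1],1659,0),
   ([4,3,1,0,0,4,1],1659,3),
   ([3,2,2,1,3,4,0],1660,0),
   ([3,0,4,1,4,0,4],1660,1),
   ([2,3,1,1,3,1,4],1660,2),
   ([1,4,1,2,4,2,0],1660,3),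
   ([3,4,4,4,2,1,3],1661,0),
   ([1,4,1,4,3,1,4],1661,1),
   ([2,4,1,1,3,3,1],1661,3),
   ([3,4,3,1,2,4,1],1662,0),
   ([1,3,1,1,4,2,0],1662,2),
   ([2,4,0,0,2,3,2],1663,1),
   ([1,4,2,2,4,1,2],1663,2),
   ([1,2,2,3,2,2,1],1663,3),
   ([3,1,2,4,4,1,2],1664,0),
   ([4,3,2,2,3,4,3],1664,1),
   ([1,3,1,4,3,4,2],1664,3),
   ([3,0,0,1,3,4,1],1666,1),
   ([2,3,1,0,4,3,1],1666,2),
   ([3,1,1,3,3,2,0],1666,3),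
   ([4,4,2,2,4,1,3],1667,0),
   ([1,1,2,4,0,1,4],1667,1),
   ([1,2,4,2,4,2,4],1667,2),
   ([2,4,4,4,0,0,4],1667,3),
   ([4,3,1,3,3,4,0],1668,0),
   ([1,4,1,4,0,2,1],1668,3),
   ([0,0,1,4,3,2,0],1669,1),
   ([4,0,1,4,3,2,0],1669,2),
   ([4,3,1,2,4,4,1],1670,0),
   ([2,4,2,4,3,2,0],1670,1),
   ([1,4,2,4,3,2,0],1670,2),
   ([2,0,2,1,3,2,1],1670,3),
   ([2,1,4,4,1,0,2],1671,2),
   ([3,2,2,2,0,2,0],1672,1),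
   ([3,4,3,0,0,2,0],1672,2),
   ([3,2,0,3,1,0,2],1673,2),
   ([0,2,0,3,4,2,4],1673,3),
   ([3,0,4,1,2,2,0],1674,0),
   ([0,1,1,2,1,0,2],1674,1),
   ([1,0,3,3,3,3,2],1674,2),
   ([3,2,3,1,1,1,4],1674,3),
   ([1,0,3,2,0,3,1],1675,0),
   ([0,2,3,1,3,3,4],1675,2),
   ([4,2,2,3,1,1,4],1676,1),
   ([2,4,2,2,1,3,3],1676,3),
   ([0,3,1,2,0,3,1],1677,0),
   ([2,1,0,3,0,2,4],1677,1),
   ([2,4,4,0,4,3,4],1677,2),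
   ([3,4,4,3,0,4,4],1677,3),
   ([4,1,4,1,4,0,3],1678,2),
   ([0,3,4,1,1,2,1],1678,3)]

/-- A block of images of the fixed vector. -/
def vOrbB34 : List (List ℕ × ℕ × ℕ) :=
  [([2,3,2,3,1,2,0],1679,1),
   ([2,0,2,2,1,1,2],1679,3),
   ([3,4,1,2,2,1,1],1680,0),
   ([4,3,3,2,1,0,2],1680,2),
   ([0,2,3,2,4,3,1],1680,3),
   ([3,3,3,1,3,2,0],1681,0),
   ([2,2,4,1,1,0,2],1681,1),
   ([3,2,3,0,1,0,3],1681,3),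
   ([1,0,2,2,1,2,4],1682,0),
   ([0,1,3,1,0,2,1],1682,2),
   ([2,1,3,3,4,2,3],1682,3),
   ([3,1,3,1,1,2,4],1683,1),
   ([3,0,2,1,4,2,0],1684,0),
   ([0,1,2,0,1,0,2],1684,1),
   ([0,4,4,1,2,0,1],1686,2),
   ([0,1,4,1,1,1,3],1686,3),
   ([1,1,0,3,4,0,1],1687,0),
   ([4,4,2,3,0,2,1],1687,1),
   ([4,4,1,2,1,1,1],1687,2),
   ([1,1,1,3,0,0,1],1687,3),
   ([3,1,2,0,4,4,1],1689,1),
   ([1,0,1,3,0,3,1],1689,2),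
   ([3,0,2,4,2,1,3],1690,0),
   ([2,4,2,3,3,2,4],1690,2),
   ([2,4,2,0,4,1,4],1690,3),
   ([2,3,1,4,0,3,1],1691,0),
   ([2,0,0,1,3,2,4],1691,1),
   ([3,4,1,3,3,3,0],1691,3),
   ([2,4,1,4,3,2,4],1692,2),
   ([4,3,2,1,2,2,0],1693,1),
   ([4,4,2,2,2,2,0],1693,2),
   ([2,0,2,4,2,4,2],1693,3),
   ([0,3,3,3,4,2,2],1694,1),
   ([0,2,1,4,4,3,2],1694,3),
   ([2,0,2,3,1,0,2],1695,1),
   ([0,1,2,4,3,3,2],1695,2),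
   ([1,0,2,4,2,3,4],1696,0),
   ([1,1,2,4,1,1,2],1696,2),
   ([1,2,2,0,4,2,3],1696,3),
   ([0,3,1,0,1,3,1],1697,0),
   ([2,1,3,4,4,2,4],1697,1),
   ([3,4,4,0,4,4,4],1697,3),
   ([0,2,2,3,0,2,0],1698,0),
   ([3,4,0,2,1,0,2],1698,1),
   ([2,3,2,3,3,3,2],1698,2),
   ([3,2,2,1,1,1,1],1698,3),
   ([4,2,4,0,4,3,3],1699,0),
   ([0,1,1,0,1,4,3],1699,3),
   ([4,1,4,0,2,4,2],1701,0),
   ([2,4,2,3,3,3,1],1701,2),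
   ([3,1,2,1,2,1,0],1701,3),
   ([1,2,2,2,3,2,4],1702,0),
   ([3,1,4,0,3,3,1],1702,1),
   ([2,1,2,2,3,3,4],1702,3),
   ([3,1,4,3,1,3,0],1704,2),
   ([3,0,4,1,1,3,3],1704,3),
   ([0,4,2,2,1,4,4],1705,0),
   ([1,3,3,2,4,3,3],1705,1),
   ([0,4,3,3,2,0,3],1705,2),
   ([0,2,3,2,4,3,0],1706,0),
   ([3,4,2,4,2,0,3],1706,1),
   ([3,1,1,0,0,2,3],1706,2),
   ([2,3,1,2,2,1,1],1706,3),
   ([0,3,2,1,2,2,4],1707,0),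
   ([2,1,1,2,2,3,1],1707,1),
   ([2,1,4,0,2,4,4],1707,3),
   ([0,2,4,2,3,3,0],1708,0),
   ([3,4,4,0,2,0,3],1708,1),
   ([2,3,1,3,2,1,1],1708,3),
   ([0,2,1,2,0,2,3],1709,1),
   ([1,2,2,3,3,4,3],1709,2),
   ([1,3,4,0,2,3,3],1710,0),
   ([0,1,2,1,2,1,2],1710,3),
   ([3,1,1,2,1,3,1],1711,0),
   ([4,3,3,2,2,2,4],1711,1),
   ([3,4,1,0,2,4,2],1711,3),
   ([4,0,2,0,1,2,0],1712,0),
   ([1,1,1,0,3,3,2],1712,2),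
   ([3,2,1,3,1,3,2],1712,3),
   ([2,1,4,4,2,3,4],1713,0),
   ([2,2,1,0,0,1,2],1713,2),
   ([1,2,1,1,3,2,4],1713,3),
   ([4,2,1,0,2,3,4],1714,0),
   ([1,2,1,2,1,4,3],1714,3),
   ([1,3,2,1,4,2,1],1715,2),
   ([2,1,2,3,3,2,1],1715,3),
   ([2,0,1,1,3,3,0],1716,0),
   ([0,4,4,1,2,0,3],1716,1),
   ([2,0,4,2,0,2,3],1716,2),
   ([2,3,4,4,2,4,1],1716,3),
   ([0,2,4,4,3,2,1],1717,0),
   ([3,4,4,3,0,2,3],1717,1),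
   ([1,1,3,4,3,4,3],1717,2),
   ([4,3,3,3,0,1,1],1717,3),
   ([3,1,3,2,2,1,2],1718,3),
   ([4,0,0,1,3,3,2],1719,1),
   ([3,0,1,2,0,1,2],1719,2),
   ([1,2,1,3,3,1,0],1719,3),
   ([2,2,2,2,4,2,1],1720,0),
   ([3,3,2,4,0,2,3],1720,1),
   ([1,2,4,0,3,4,3],1720,2),
   ([4,3,4,4,0,0,2],1720,3),
   ([1,0,0,1,3,4,3],1721,1),
   ([1,3,1,3,3,4,0],1721,3),
   ([0,3,1,1,2,3,2],1722,2),
   ([4,1,1,3,1,1,4],1723,1),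
   ([4,4,1,4,0,2,4],1724,0),
   ([1,1,0,1,3,3,1],1724,1),
   ([4,0,1,1,4,2,1],1724,2),
   ([2,1,1,3,3,0,4],1724,3),
   ([0,2,2,1,3,4,4],1726,0),
   ([3,4,4,1,4,3,3],1726,1),
   ([3,3,1,2,2,0,3],1726,2),
   ([0,3,1,2,4,1,1],1726,3),
   ([1,1,4,0,1,1,4],1727,2),
   ([3,4,1,1,0,1,4],1728,0),
   ([1,4,0,4,1,3,0],1728,1),
   ([4,2,3,0,1,3,0],1728,2),
   ([3,0,3,3,1,3,1],1728,3),
   ([1,2,0,0,4,3,3],1729,0),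
   ([3,1,2,1,3,1,1],1729,1),
   ([0,1,3,3,3,3,4],1729,3),
   ([3,1,4,1,1,1,0],1730,1),
   ([4,0,3,4,1,1,0],1730,2),
   ([1,3,3,4,3,3,3],1731,0)]

/-- A block of images of the fixed vector. -/
def vOrbB35 : List (List ℕ × ℕ × ℕ) :=
  [([2,3,4,3,3,1,1],1731,1),
   ([3,3,1,0,4,0,1],1731,2),
   ([0,1,1,0,3,1,2],1731,3),
   ([4,0,4,0,3,1,0],1732,0),
   ([0,3,4,2,4,0,1],1732,1),
   ([3,0,4,4,0,4,1],1732,2),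
   ([4,1,4,3,4,3,2],1732,3),
   ([3,0,1,3,2,4,3],1733,0),
   ([4,2,4,2,3,1,4],1733,3),
   ([2,4,3,0,0,3,2],1734,0),
   ([1,2,0,0,1,4,0],1734,1),
   ([4,0,1,4,1,1,3],1734,3),
   ([2,1,1,2,4,4,3],1735,0),
   ([4,1,2,4,3,1,2],1735,1),
   ([1,4,2,2,0,4,2],1735,2),
   ([4,2,2,1,3,2,4],1735,3),
   ([0,3,1,3,3,4,2],1736,2),
   ([4,2,1,2,1,4,2],1736,3),
   ([3,2,0,4,1,4,2],1737,0),
   ([3,0,3,0,3,4,1],1737,1),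
   ([2,1,1,4,4,3,1],1737,2),
   ([3,1,1,2,3,2,0],1737,3),
   ([2,0,1,4,4,1,2],1738,2),
   ([4,4,2,2,3,1,1],1739,0),
   ([1,1,4,0,3,2,2],1739,1),
   ([3,0,2,2,0,0,2],1739,2),
   ([0,2,2,2,3,0,4],1739,3),
   ([2,1,3,3,1,2,0],1740,0),
   ([4,1,3,1,0,0,2],1740,1),
   ([2,0,1,3,2,3,2],1740,2),
   ([1,0,2,4,4,4,0],1741,0),
   ([1,4,1,4,3,2,3],1741,3),
   ([2,0,2,0,1,4,0],1742,0),
   ([0,4,3,4,1,0,4],1742,1),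
   ([0,4,1,2,0,1,4],1742,2),
   ([1,4,1,3,1,4,1],1742,3),
   ([0,3,2,3,2,1,3],1743,0),
   ([2,1,1,0,0,1,4],1743,1),
   ([0,4,1,3,4,2,4],1743,2),
   ([2,4,1,0,0,4,4],1743,3),
   ([1,0,1,4,2,3,1],1744,2),
   ([2,4,2,4,0,4,2],1745,2),
   ([4,2,2,3,3,1,3],1745,3),
   ([1,0,1,1,3,1,0],1746,0),
   ([4,1,4,4,2,2,3],1746,3),
   ([0,3,3,1,4,3,1],1747,2),
   ([3,1,3,4,3,2,2],1747,3),
   ([0,1,3,3,0,4,3],1748,2),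
   ([0,2,4,4,0,1,4],1749,1),
   ([2,3,1,2,4,2,4],1749,2),
   ([3,2,2,1,0,4,2],1750,0),
   ([3,0,0,4,3,4,1],1750,1),
   ([3,4,0,3,4,3,1],1750,2),
   ([3,1,0,1,3,2,0],1750,3),
   ([1,4,2,0,4,3,1],1751,1),
   ([1,2,1,4,0,4,1],1752,0),
   ([1,0,1,1,3,2,0],1752,2),
   ([1,4,1,3,3,1,2],1753,0),
   ([1,0,4,4,0,4,3],1753,1),
   ([0,2,1,3,3,1,3],1753,2),
   ([1,3,1,4,0,4,0],1753,3),
   ([3,1,4,1,0,3,2],1754,0),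
   ([4,3,0,4,2,4,0],1754,1),
   ([4,0,4,2,2,4,2],1754,3),
   ([4,1,2,0,1,3,2],1755,0),
   ([4,0,3,4,1,4,0],1755,1),
   ([4,0,1,3,1,1,0],1755,3),
   ([4,0,0,2,4,3,4],1756,1),
   ([4,2,0,4,3,4,4],1756,2),
   ([4,4,0,3,4,1,0],1756,3),
   ([3,1,1,0,3,2,2],1757,0),
   ([3,1,3,4,2,0,4],1757,2),
   ([0,4,3,4,3,4,2],1757,3),
   ([1,1,3,2,0,2,3],1758,0),
   ([2,1,3,3,4,1,0],1758,2),
   ([1,0,3,4,4,0,1],1758,3),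
   ([2,2,0,3,4,2,0],1759,1),
   ([2,3,3,2,4,2,0],1759,2),
   ([1,4,4,3,1,2,0],1760,0),
   ([1,0,3,1,2,0,2],1760,1),
   ([3,0,3,1,4,3,2],1760,2),
   ([3,2,3,4,2,4,0],1760,3),
   ([0,3,4,0,0,1,1],1762,1),
   ([3,3,4,0,1,0,1],1762,2),
   ([2,3,1,1,1,2,4],1763,0),
   ([2,0,3,3,3,3,1],1763,1),
   ([2,3,0,3,4,2,1],1763,2),
   ([2,1,0,0,3,3,0],1763,3),
   ([1,1,3,1,4,1,2],1764,3),
   ([0,3,4,0,0,1,4],1765,0),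
   ([3,2,3,4,3,3,0],1765,2),
   ([4,2,0,3,3,1,2],1766,0),
   ([3,2,4,4,3,4,3],1766,1),
   ([2,3,4,0,1,1,3],1766,2),
   ([1,3,4,1,3,4,3],1766,3),
   ([4,1,2,2,2,0,3],1767,0),
   ([4,0,1,1,1,1,3],1767,1),
   ([4,2,0,2,4,3,3],1767,2),
   ([3,3,0,0,1,1,0],1767,3),
   ([3,3,0,2,1,1,3],1768,2),
   ([1,0,4,3,0,1,1],1769,1),
   ([3,1,3,3,1,0,1],1769,2),
   ([0,1,3,3,0,4,0],1769,3),
   ([3,3,3,1,4,2,4],1770,0),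
   ([2,2,2,0,3,3,1],1770,1),
   ([0,4,0,0,4,2,1],1770,2),
   ([2,1,0,2,3,0,3],1770,3),
   ([0,2,4,0,3,0,1],1771,0),
   ([0,4,4,2,0,1,1],1771,2),
   ([1,1,4,3,4,1,1],1771,3),
   ([0,3,3,3,0,3,0],1772,0),
   ([2,2,4,2,1,2,3],1772,2),
   ([2,4,2,0,0,1,3],1773,1),
   ([1,1,2,2,3,3,3],1773,2),
   ([2,0,3,3,3,0,1],1774,0),
   ([0,4,4,4,4,2,1],1774,1),
   ([1,3,0,4,0,1,1],1774,2),
   ([1,1,0,0,4,4,1],1774,3),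
   ([4,4,2,0,0,4,2],1775,0),
   ([1,0,4,3,0,3,1],1775,2),
   ([3,4,4,1,3,3,1],1776,1),
   ([4,3,0,1,4,2,1],1776,2),
   ([2,0,2,4,3,2,1],1777,0),
   ([0,4,4,3,1,2,3],1777,1),
   ([4,3,4,2,1,4,1],1777,3)]

/-- A block of images of the fixed vector. -/
def vOrbB36 : List (List ℕ × ℕ × ℕ) :=
  [([1,0,0,2,4,1,1],1778,1),
   ([1,1,0,3,0,0,1],1778,2),
   ([0,1,0,3,4,4,0],1778,3),
   ([2,2,3,3,0,3,1],1779,1),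
   ([3,1,2,1,1,2,1],1779,2),
   ([2,1,2,3,0,0,3],1779,3),
   ([0,1,1,0,2,0,1],1780,0),
   ([4,2,1,3,1,2,1],1780,1),
   ([1,0,1,1,2,1,1],1780,2),
   ([1,1,1,2,1,3,3],1780,3),
   ([0,3,0,3,4,3,0],1781,0),
   ([2,3,1,3,0,4,4],1781,3),
   ([4,1,3,1,4,1,3],1782,1),
   ([3,2,0,4,2,3,3],1782,2),
   ([3,3,0,2,4,2,4],1782,3),
   ([1,3,0,3,2,0,1],1783,0),
   ([2,3,1,0,1,2,1],1783,1),
   ([2,0,2,3,2,1,1],1783,2),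
   ([2,0,2,4,1,3,3],1784,0),
   ([0,4,3,0,2,1,1],1784,1),
   ([1,0,0,3,3,0,1],1784,2),
   ([0,1,0,3,2,4,1],1784,3),
   ([4,4,0,2,4,4,3],1785,0),
   ([0,3,0,4,3,4,2],1785,2),
   ([4,2,0,3,1,0,4],1785,3),
   ([0,2,0,3,0,2,4],1786,0),
   ([3,4,0,2,2,3,1],1786,1),
   ([1,2,3,3,3,2,1],1786,2),
   ([2,2,0,1,2,2,1],1787,0),
   ([0,2,0,0,1,4,3],1787,2),
   ([4,3,0,4,3,0,2],1787,3),
   ([4,4,0,3,4,0,4],1788,2),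
   ([2,1,2,2,0,4,0],1789,0),
   ([4,1,0,3,2,0,4],1789,1),
   ([2,2,1,0,1,1,4],1789,2),
   ([1,4,1,1,2,2,4],1789,3),
   ([4,2,1,0,2,1,3],1790,0),
   ([3,2,1,3,1,1,4],1790,1),
   ([2,4,1,2,1,4,3],1790,3),
   ([1,4,1,1,1,3,4],1791,2),
   ([3,4,1,4,2,3,1],1791,3),
   ([4,4,4,2,1,1,4],1792,1),
   ([2,4,1,1,1,0,1],1792,3),
   ([3,1,0,0,4,4,2],1793,0),
   ([4,3,2,1,3,4,1],1793,1),
   ([3,1,3,0,4,3,1],1793,2),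
   ([3,1,3,3,3,4,2],1793,3),
   ([2,1,1,3,0,2,4],1794,0),
   ([4,1,0,2,4,3,1],1794,1),
   ([3,0,0,1,0,2,1],1794,2),
   ([1,2,1,1,1,0,2],1795,0),
   ([2,4,0,3,0,2,2],1795,2),
   ([2,2,0,0,3,3,4],1795,3),
   ([4,2,0,2,2,1,2],1796,0),
   ([3,2,1,1,2,4,3],1796,1),
   ([0,4,1,3,0,1,3],1796,2),
   ([1,3,1,4,2,4,3],1796,3),
   ([4,0,2,2,2,1,3],1797,0),
   ([0,3,1,1,1,1,4],1797,1),
   ([2,4,0,0,1,3,2],1797,3),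
   ([2,0,0,4,1,3,4],1798,2),
   ([4,4,2,3,1,0,1],1799,0),
   ([1,1,3,1,3,2,1],1799,1),
   ([1,1,4,2,4,1,1],1799,2),
   ([2,1,0,1,0,3,3],1800,0),
   ([4,1,0,4,4,1,1],1800,1),
   ([2,1,1,0,0,0,1],1800,2),
   ([0,1,1,0,4,2,4],1800,3),
   ([0,1,4,0,2,1,4],1801,1),
   ([4,1,3,4,3,4,2],1802,0),
   ([4,0,4,3,3,4,1],1802,1),
   ([3,2,1,2,4,3,1],1802,2),
   ([3,1,1,0,3,1,0],1802,3),
   ([3,3,1,0,1,2,4],1803,0),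
   ([2,2,3,4,4,3,1],1803,1),
   ([1,0,4,3,0,2,1],1803,2),
   ([2,1,4,0,4,0,3],1803,3),
   ([1,2,1,3,2,2,3],1804,0),
   ([3,4,4,1,3,1,0],1804,2),
   ([0,2,1,1,4,3,1],1805,1),
   ([0,4,3,0,0,2,1],1805,2),
   ([3,3,4,3,3,0,3],1806,1),
   ([4,1,1,3,1,2,3],1806,2),
   ([0,4,0,0,4,2,3],1807,0),
   ([0,3,3,2,3,1,0],1807,2),
   ([1,0,3,3,3,2,2],1807,3),
   ([4,3,3,1,4,4,2],1808,2),
   ([0,4,0,3,4,1,0],1809,0),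
   ([1,3,2,3,0,0,1],1809,1),
   ([2,0,1,4,1,4,1],1809,2),
   ([4,1,1,3,0,2,2],1809,3),
   ([4,4,2,2,2,4,2],1810,0),
   ([1,1,1,1,1,4,1],1810,1),
   ([0,3,0,2,2,3,1],1810,2),
   ([3,1,0,0,1,0,4],1810,3),
   ([1,1,3,2,1,4,2],1812,0),
   ([4,4,3,2,1,4,1],1812,1),
   ([0,3,0,3,2,3,1],1812,2),
   ([3,1,0,1,1,0,1],1812,3),
   ([3,1,1,1,0,1,3],1813,0),
   ([4,3,0,4,1,1,4],1813,1),
   ([2,4,3,3,1,4,2],1813,3),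
   ([1,1,0,4,2,3,1],1814,0),
   ([2,4,3,1,4,3,4],1814,2),
   ([4,3,0,1,1,0,2],1815,0),
   ([0,1,3,0,3,2,2],1815,2),
   ([2,2,3,2,1,2,1],1815,3),
   ([2,4,4,3,0,0,3],1816,0),
   ([1,2,0,2,0,1,3],1816,1),
   ([3,3,1,4,3,3,3],1816,2),
   ([3,3,1,2,0,1,3],1816,3),
   ([3,2,0,2,3,3,4],1817,1),
   ([4,4,4,4,3,4,3],1817,3),
   ([4,1,0,3,0,1,3],1818,1),
   ([4,4,4,0,3,3,3],1818,2),
   ([2,4,0,0,4,4,4],1819,0),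
   ([1,2,2,1,3,3,3],1819,1),
   ([1,3,3,3,1,0,3],1819,2),
   ([0,3,3,3,3,1,3],1819,3),
   ([2,2,4,4,3,3,1],1820,0),
   ([2,1,3,0,4,3,4],1820,2),
   ([3,4,3,3,0,0,2],1820,3),
   ([0,4,4,1,1,4,4],1821,0),
   ([2,1,1,4,2,0,3],1821,2),
   ([0,3,1,4,4,2,2],1821,3)]

/-- A block of images of the fixed vector. -/
def vOrbB37 : List (List ℕ × ℕ × ℕ) :=
  [([1,0,1,4,1,0,2],1822,3),
   ([4,2,0,0,1,3,2],1823,1),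
   ([1,2,1,4,1,3,3],1823,3),
   ([0,4,1,4,1,2,1],1824,0),
   ([0,4,3,1,3,4,3],1824,2),
   ([4,2,4,2,3,4,3],1825,1),
   ([4,4,3,3,1,1,3],1825,2),
   ([3,1,1,4,1,1,1],1826,0),
   ([3,3,3,0,2,0,2],1826,2),
   ([0,2,3,0,0,4,2],1826,3),
   ([0,1,4,0,0,3,3],1827,1),
   ([0,1,4,0,3,0,3],1827,2),
   ([4,1,1,1,1,1,2],1828,0),
   ([4,0,3,3,3,4,3],1828,1),
   ([4,4,0,4,1,1,3],1828,2),
   ([1,3,0,0,3,1,0],1828,3),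
   ([2,1,2,0,1,1,3],1829,1),
   ([3,1,3,1,4,3,3],1829,2),
   ([0,4,4,0,0,2,3],1830,0),
   ([0,1,3,1,3,1,0],1830,2),
   ([4,4,0,0,1,2,0],1831,1),
   ([4,0,1,2,1,2,0],1831,2),
   ([2,0,1,4,1,0,1],1831,3),
   ([1,2,3,1,1,3,1],1833,2),
   ([3,1,3,4,0,1,3],1833,3),
   ([1,0,0,4,3,1,3],1834,0),
   ([0,2,4,3,2,1,4],1834,1),
   ([3,2,0,4,1,2,4],1834,2),
   ([2,4,0,1,2,2,3],1834,3),
   ([4,2,3,2,1,3,1],1835,0),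
   ([3,2,3,2,1,2,4],1835,1),
   ([1,1,0,3,0,3,4],1835,2),
   ([3,4,0,1,1,4,3],1835,3),
   ([4,3,3,4,0,2,1],1836,0),
   ([3,3,0,0,0,4,3],1836,2),
   ([4,3,0,4,2,2,1],1836,3),
   ([1,3,3,1,2,4,4],1837,1),
   ([0,1,3,4,1,0,4],1837,2),
   ([0,4,3,4,2,2,2],1837,3),
   ([4,2,0,0,1,2,4],1838,1),
   ([1,2,1,1,0,3,4],1838,2),
   ([3,4,1,4,1,3,3],1838,3),
   ([2,0,2,2,4,0,4],1839,0),
   ([0,4,2,4,0,3,4],1839,1),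
   ([4,4,4,4,0,4,1],1839,3),
   ([0,2,3,4,2,4,4],1840,0),
   ([0,0,4,3,4,0,3],1840,2),
   ([0,3,4,3,1,1,1],1840,3),
   ([3,3,4,2,2,3,4],1841,0),
   ([2,2,1,1,0,3,2],1841,1),
   ([1,3,4,0,2,1,2],1841,2),
   ([3,3,4,2,2,1,2],1842,0),
   ([1,3,4,0,3,1,3],1842,2),
   ([1,3,4,1,0,0,3],1842,3),
   ([2,1,4,1,3,1,1],1843,2),
   ([1,4,1,2,3,0,3],1844,0),
   ([1,0,4,0,1,1,3],1844,1),
   ([1,0,0,1,4,3,3],1844,2),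
   ([3,3,0,4,1,4,0],1844,3),
   ([2,1,2,2,1,4,4],1845,0),
   ([0,2,3,3,2,0,3],1845,2),
   ([0,3,3,3,4,2,4],1845,3),
   ([2,0,3,4,1,4,0],1846,2),
   ([4,0,3,3,1,0,2],1846,3),
   ([1,3,0,4,0,3,2],1847,1),
   ([1,0,2,3,2,1,2],1847,2),
   ([1,2,2,4,0,2,2],1847,3),
   ([0,1,1,0,4,2,1],1848,0),
   ([4,2,2,1,0,2,3],1848,1),
   ([2,0,0,2,3,4,3],1848,2),
   ([4,3,0,1,0,3,3],1848,3),
   ([4,0,2,0,2,1,2],1849,0),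
   ([0,3,1,3,3,4,3],1849,1),
   ([1,3,3,0,3,3,2],1849,3),
   ([3,1,2,4,0,4,4],1850,0),
   ([3,0,3,1,3,0,3],1850,2),
   ([0,3,3,1,0,4,2],1850,3),
   ([3,2,4,4,0,3,3],1851,1),
   ([0,3,1,4,0,4,3],1851,3),
   ([2,1,2,1,0,1,2],1852,0),
   ([4,1,0,4,3,4,3],1852,1),
   ([3,2,0,0,1,1,3],1852,2),
   ([1,3,0,1,3,2,4],1852,3),
   ([2,0,4,0,4,0,3],1853,0),
   ([3,3,1,0,1,4,1],1853,3),
   ([0,4,1,4,0,3,1],1854,0),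
   ([2,1,1,0,2,3,4],1854,2),
   ([3,4,1,3,3,2,2],1854,3),
   ([1,1,1,1,0,1,4],1855,0),
   ([4,4,0,4,1,3,0],1855,1),
   ([3,0,3,3,1,0,1],1855,3),
   ([4,0,2,4,4,3,0],1856,0),
   ([1,4,1,2,1,2,3],1856,2),
   ([1,3,1,4,2,2,2],1857,2),
   ([3,4,0,3,3,3,1],1858,0),
   ([3,3,4,3,2,3,4],1858,2),
   ([2,1,3,4,0,0,4],1859,0),
   ([4,1,0,1,2,3,4],1859,1),
   ([4,4,0,4,2,2,4],1859,3),
   ([2,0,4,3,0,3,3],1860,1),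
   ([4,1,3,3,3,0,3],1860,2),
   ([4,4,2,0,3,4,3],1861,1),
   ([0,2,0,1,1,1,3],1861,2),
   ([1,4,2,2,1,1,3],1862,1),
   ([3,3,4,3,4,3,3],1862,2),
   ([3,3,4,1,1,3,1],1862,3),
   ([0,4,3,3,0,1,0],1863,0),
   ([0,1,2,3,1,1,3],1864,1),
   ([2,2,2,4,4,3,3],1864,2),
   ([1,3,2,0,0,4,4],1865,0),
   ([2,3,0,0,4,3,3],1865,1),
   ([0,3,4,1,4,1,2],1865,3),
   ([4,2,4,1,3,1,2],1866,1),
   ([2,4,0,4,0,4,2],1866,2),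
   ([4,2,4,0,3,4,2],1867,0),
   ([3,2,4,2,4,4,1],1867,1),
   ([2,0,4,0,0,3,1],1867,2),
   ([3,1,4,3,4,4,3],1867,3),
   ([1,1,4,4,4,2,4],1868,2),
   ([2,4,3,4,0,4,2],1869,0),
   ([1,2,0,1,2,4,1],1869,1),
   ([4,2,0,1,3,3,1],1869,2),
   ([3,1,0,4,2,1,3],1869,3),
   ([4,2,4,3,4,2,1],1870,2),
   ([2,1,4,0,3,2,1],1870,3)]

/-- A block of images of the fixed vector. -/
def vOrbB38 : List (List ℕ × ℕ × ℕ) :=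
  [([2,2,4,2,3,2,4],1872,0),
   ([3,3,4,0,2,3,1],1872,1),
   ([4,2,1,1,3,2,1],1872,2),
   ([2,1,1,3,2,0,2],1872,3),
   ([3,1,4,3,3,0,3],1873,1),
   ([1,4,1,3,1,2,3],1873,2),
   ([2,3,1,0,3,3,4],1873,3),
   ([1,2,3,4,2,2,1],1874,0),
   ([3,1,1,4,1,2,3],1874,1),
   ([3,3,4,4,4,4,3],1874,2),
   ([1,3,1,3,2,0,4],1875,0),
   ([0,3,4,3,2,4,4],1875,2),
   ([4,4,4,2,3,1,2],1875,3),
   ([1,3,4,3,3,0,4],1876,0),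
   ([2,0,2,4,0,4,4],1876,2),
   ([4,0,2,4,2,4,1],1877,1),
   ([3,1,1,4,3,3,1],1877,2),
   ([3,3,2,0,4,1,4],1878,1),
   ([4,3,1,4,3,2,4],1878,2),
   ([2,4,1,1,4,0,2],1878,3),
   ([0,2,1,0,3,3,1],1879,0),
   ([3,4,4,2,3,2,4],1879,1),
   ([3,4,3,4,3,1,1],1879,3),
   ([4,3,1,2,2,2,0],1880,0),
   ([0,4,4,3,3,4,4],1881,1),
   ([0,4,1,0,2,0,4],1881,2),
   ([0,4,1,0,3,4,1],1881,3),
   ([1,0,1,0,3,2,4],1882,1),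
   ([3,4,4,2,3,4,0],1882,3),
   ([1,3,3,0,3,4,0],1883,2),
   ([2,2,2,3,1,2,4],1884,1),
   ([3,3,2,4,0,3,4],1884,2),
   ([2,0,0,1,1,3,4],1885,0),
   ([0,4,3,3,1,3,2],1885,1),
   ([1,2,3,2,1,4,1],1885,3),
   ([3,4,3,0,1,0,3],1886,0),
   ([1,4,3,4,3,1,3],1886,1),
   ([4,3,3,3,1,3,3],1886,2),
   ([3,3,3,1,3,3,1],1886,3),
   ([4,1,3,4,2,4,4],1887,0),
   ([4,0,1,4,1,3,3],1887,1),
   ([0,3,4,3,1,1,0],1887,3),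
   ([1,2,4,1,4,2,1],1888,2),
   ([2,1,4,3,3,0,2],1888,3),
   ([4,4,4,1,1,2,3],1889,1),
   ([2,0,3,1,4,4,3],1889,2),
   ([4,3,3,0,1,0,1],1889,3),
   ([3,1,4,2,4,4,3],1890,1),
   ([3,1,4,2,2,1,3],1890,2),
   ([1,3,4,3,4,3,4],1890,3),
   ([2,2,4,0,2,4,1],1891,2),
   ([0,4,2,0,4,4,4],1892,0),
   ([1,3,2,1,2,3,3],1892,1),
   ([1,1,2,4,0,0,3],1892,2),
   ([0,3,2,4,2,2,2],1892,3),
   ([4,3,0,0,1,0,3],1893,0),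
   ([2,4,3,4,2,1,3],1893,1),
   ([1,0,2,4,0,3,3],1893,2),
   ([3,3,2,2,2,2,1],1893,3),
   ([0,4,2,4,2,4,4],1894,0),
   ([1,3,2,0,2,0,3],1894,2),
   ([0,3,2,0,4,2,2],1894,3),
   ([4,4,3,1,3,1,2],1895,1),
   ([1,1,4,4,0,4,2],1895,2),
   ([2,1,4,2,2,4,1],1896,1),
   ([4,3,2,2,3,3,1],1896,2),
   ([3,1,2,0,2,4,4],1896,3),
   ([1,0,2,1,3,2,2],1897,2),
   ([1,2,4,4,0,2,2],1898,0),
   ([3,1,0,1,4,4,4],1898,1),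
   ([0,0,2,2,3,0,4],1898,2),
   ([0,4,2,2,4,3,4],1898,3),
   ([3,0,3,1,0,3,1],1899,0),
   ([0,1,0,4,0,2,4],1899,1),
   ([2,1,2,1,4,3,4],1899,2),
   ([4,1,1,0,1,0,4],1900,0),
   ([0,1,4,1,3,4,4],1900,2),
   ([4,4,4,0,4,1,0],1900,3),
   ([0,2,2,2,4,1,3],1901,0),
   ([2,4,4,4,0,1,1],1901,3),
   ([4,3,2,0,2,3,3],1902,1),
   ([2,4,2,4,1,0,3],1903,0),
   ([1,2,3,0,2,1,3],1903,1),
   ([4,0,0,0,0,3,3],1903,2),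
   ([3,3,0,3,2,1,3],1903,3),
   ([0,4,4,3,2,3,4],1904,0),
   ([1,2,0,1,4,2,2],1904,3),
   ([3,4,2,2,2,0,4],1905,0),
   ([2,0,0,1,0,4,4],1905,2),
   ([4,4,0,0,1,3,1],1905,3),
   ([3,2,3,1,0,3,3],1906,2),
   ([2,2,0,0,1,1,2],1907,0),
   ([3,1,2,1,0,1,3],1907,2),
   ([0,1,2,2,4,2,1],1908,0),
   ([3,1,4,0,3,4,3],1908,2),
   ([4,3,4,4,0,3,3],1908,3),
   ([0,4,4,3,3,4,3],1909,0),
   ([1,3,4,4,1,1,2],1909,1),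
   ([1,0,2,4,3,4,2],1909,2),
   ([4,2,2,3,1,2,2],1909,3),
   ([2,4,1,2,2,4,0],1911,0),
   ([1,2,1,1,4,0,4],1911,1),
   ([1,0,3,1,3,1,4],1911,2),
   ([3,0,3,0,1,1,3],1912,0),
   ([0,1,3,4,3,1,4],1912,1),
   ([1,1,3,4,2,2,4],1912,2),
   ([2,4,3,1,3,1,4],1912,3),
   ([3,2,4,1,0,4,2],1914,0),
   ([3,0,0,4,2,4,1],1914,1),
   ([4,1,4,4,3,3,1],1914,2),
   ([3,1,4,2,2,2,0],1914,3),
   ([3,1,3,2,2,2,4],1915,0),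
   ([4,3,1,1,3,3,1],1915,1),
   ([4,2,2,1,4,2,1],1915,2),
   ([2,1,2,3,3,4,2],1915,3),
   ([0,4,2,3,2,2,0],1916,2),
   ([2,0,2,0,2,3,4],1916,3),
   ([0,0,2,2,3,1,1],1917,0),
   ([0,0,4,0,3,2,2],1917,1),
   ([0,2,2,2,3,0,0],1917,3),
   ([0,3,1,4,4,2,0],1918,1),
   ([2,0,2,0,4,3,2],1918,3),
   ([2,3,4,0,2,1,1],1919,0),
   ([2,0,1,3,2,2,2],1919,1),
   ([0,2,2,1,2,3,0],1919,3)]

/-- A block of images of the fixed vector. -/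
def vOrbB39 : List (List ℕ × ℕ × ℕ) :=
  [([1,0,2,0,4,1,4],1920,0),
   ([1,2,2,1,2,3,0],1920,2),
   ([2,2,0,2,2,1,4],1921,0),
   ([3,3,1,1,2,3,0],1921,1),
   ([4,3,1,1,2,3,0],1921,2),
   ([3,0,1,4,2,0,2],1921,3),
   ([2,0,1,3,0,4,3],1922,2),
   ([3,1,1,4,4,4,1],1923,1),
   ([3,1,2,0,4,3,4],1923,3),
   ([4,4,1,3,3,2,4],1924,0),
   ([1,1,4,4,0,3,1],1924,1),
   ([4,2,1,2,1,2,1],1924,2),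
   ([2,1,1,4,0,0,4],1924,3),
   ([1,4,1,2,3,4,4],1925,2),
   ([4,4,1,1,4,3,4],1925,3),
   ([2,2,2,1,2,3,0],1926,1),
   ([3,2,2,1,2,3,0],1926,2),
   ([3,0,2,4,2,0,3],1926,3),
   ([4,3,4,1,1,4,4],1927,0),
   ([0,3,1,4,4,2,1],1927,3),
   ([4,0,2,4,2,0,1],1928,0),
   ([0,2,2,4,0,1,1],1928,2),
   ([1,1,2,0,4,3,2],1928,3),
   ([3,4,1,2,2,2,4],1929,0),
   ([1,4,1,1,4,3,1],1929,1),
   ([4,1,3,0,0,2,1],1929,2),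
   ([2,1,3,2,4,3,1],1929,3),
   ([4,2,2,0,4,3,0],1930,0),
   ([3,2,2,1,2,0,3],1930,1),
   ([2,3,2,4,2,4,3],1930,3),
   ([1,0,0,3,4,2,1],1931,0),
   ([0,2,2,3,0,2,3],1931,1),
   ([2,4,1,4,3,4,3],1931,2),
   ([1,3,3,2,4,1,2],1932,0),
   ([1,3,1,2,2,1,2],1932,3),
   ([4,3,2,0,4,1,3],1933,1),
   ([0,2,1,3,2,3,3],1933,2),
   ([3,3,1,1,4,4,2],1933,3),
   ([3,2,3,3,1,3,3],1934,0),
   ([3,0,3,1,0,1,1],1934,1),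
   ([2,2,1,1,1,0,1],1934,2),
   ([0,1,1,1,0,2,0],1934,3),
   ([4,2,1,0,1,1,2],1935,2),
   ([3,3,3,3,1,3,4],1936,2),
   ([1,4,2,1,3,2,0],1937,0),
   ([1,0,4,1,4,0,2],1937,1),
   ([3,2,1,2,4,4,0],1937,3),
   ([4,2,3,1,2,3,2],1938,0),
   ([0,4,1,4,4,4,0],1938,2),
   ([2,1,1,3,1,2,1],1939,2),
   ([0,1,4,4,4,3,0],1940,0),
   ([2,0,0,3,0,2,3],1940,2),
   ([2,3,0,0,2,3,3],1940,3),
   ([4,3,3,1,0,2,1],1941,0),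
   ([2,4,0,4,0,2,3],1941,1),
   ([1,3,2,0,3,4,3],1941,2),
   ([4,3,2,4,0,2,1],1941,3),
   ([1,3,1,0,0,4,4],1942,0),
   ([2,4,2,3,0,0,3],1942,2),
   ([0,3,2,3,2,1,2],1942,3),
   ([4,1,1,2,4,3,0],1943,1),
   ([2,4,1,0,4,3,0],1943,2),
   ([1,3,1,4,0,0,3],1944,1),
   ([0,4,3,2,3,2,3],1944,2),
   ([2,3,3,4,0,2,2],1944,3),
   ([3,0,2,0,4,2,3],1946,0),
   ([0,1,2,1,2,1,0],1946,1),
   ([2,3,2,3,2,1,0],1946,2),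
   ([1,0,2,4,2,1,4],1946,3),
   ([3,4,2,2,0,2,3],1947,0),
   ([1,4,0,3,2,1,0],1947,1),
   ([1,0,1,0,2,1,0],1947,2),
   ([1,0,1,1,2,3,1],1947,3),
   ([0,2,1,0,1,2,4],1948,2),
   ([4,4,0,2,3,1,0],1949,1),
   ([1,0,4,4,3,0,1],1949,3),
   ([3,0,4,4,3,0,2],1950,0),
   ([1,0,3,1,2,2,2],1950,2),
   ([0,3,1,1,0,4,3],1951,0),
   ([3,3,3,4,3,4,2],1951,2),
   ([4,2,3,3,1,4,4],1951,3),
   ([2,0,0,2,4,3,3],1952,1),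
   ([2,1,0,3,2,0,3],1952,2),
   ([3,4,2,2,3,1,3],1953,2),
   ([2,2,4,3,3,1,3],1954,1),
   ([4,4,1,2,1,3,3],1954,2),
   ([3,3,1,0,3,0,3],1954,3),
   ([4,0,0,3,3,0,4],1955,0),
   ([0,3,4,4,3,3,4],1955,1),
   ([3,1,4,2,2,4,4],1955,2),
   ([4,4,4,1,3,3,2],1955,3),
   ([2,3,0,3,3,0,3],1956,0),
   ([3,4,4,3,1,3,3],1956,2),
   ([3,3,4,1,3,3,0],1956,3),
   ([1,2,0,2,4,4,4],1957,0),
   ([3,1,2,4,1,3,3],1957,1),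
   ([2,2,0,3,4,0,3],1957,2),
   ([0,3,0,3,1,3,4],1957,3),
   ([2,2,4,1,3,1,4],1958,0),
   ([0,1,0,0,3,3,0],1958,2),
   ([3,0,0,3,3,0,2],1958,3),
   ([4,2,2,2,0,2,0],1959,0),
   ([0,1,1,3,4,3,2],1959,2),
   ([4,3,3,1,2,3,4],1960,0),
   ([2,4,1,2,4,3,2],1960,1),
   ([2,4,1,2,1,1,2],1960,2),
   ([1,2,1,3,4,2,1],1960,3),
   ([1,2,0,0,3,2,1],1961,2),
   ([3,3,2,2,0,3,0],1962,0),
   ([2,2,0,3,2,0,3],1962,1),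
   ([1,2,1,1,3,4,3],1963,2),
   ([1,3,0,2,2,3,0],1964,0),
   ([3,4,1,2,0,2,3],1964,2),
   ([2,0,0,1,0,3,4],1965,0),
   ([0,4,0,4,4,3,2],1965,1),
   ([1,2,1,0,4,4,1],1965,3),
   ([1,4,0,1,3,2,1],1966,0),
   ([1,0,4,1,0,2,3],1966,1),
   ([4,3,2,1,0,4,0],1966,3),
   ([0,3,1,1,1,1,2],1967,0),
   ([2,1,3,3,3,4,3],1967,1),
   ([1,0,0,4,1,1,3],1967,2),
   ([1,3,0,0,3,4,4],1967,3),
   ([3,1,1,0,4,3,2],1968,0),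
   ([1,1,0,2,0,4,0],1968,2)]

/-- A block of images of the fixed vector. -/
def vOrbB40 : List (List ℕ × ℕ × ℕ) :=
  [([4,0,0,1,0,4,2],1968,3),
   ([4,1,1,1,2,3,1],1969,1),
   ([2,2,1,2,3,2,1],1969,2),
   ([3,1,3,0,2,2,1],1970,0),
   ([1,0,0,4,3,4,3],1970,2),
   ([4,3,0,3,0,4,2],1970,3),
   ([2,3,1,3,0,0,3],1972,0),
   ([2,0,0,2,4,1,3],1972,1),
   ([3,3,0,3,4,3,0],1972,3),
   ([1,3,4,3,1,4,4],1973,0),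
   ([2,3,3,1,2,3,3],1973,1),
   ([1,1,3,4,0,0,3],1973,2),
   ([0,3,3,4,2,1,2],1973,3),
   ([2,3,3,1,4,3,0],1974,2),
   ([0,2,4,3,0,2,1],1975,0),
   ([3,4,0,2,0,2,3],1975,1),
   ([3,4,1,3,3,4,3],1975,2),
   ([0,2,2,4,3,4,3],1976,1),
   ([1,3,2,1,3,2,3],1976,3),
   ([0,2,4,3,3,3,3],1977,1),
   ([2,2,1,0,1,0,3],1977,2),
   ([3,2,1,3,2,1,2],1978,0),
   ([1,3,4,2,3,2,0],1978,3),
   ([0,4,3,2,3,2,0],1979,2),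
   ([2,2,1,1,0,1,0],1980,0),
   ([3,3,0,4,1,0,1],1980,1),
   ([2,0,3,4,2,4,1],1980,2),
   ([4,1,3,3,1,0,2],1980,3),
   ([0,2,0,3,4,2,0],1981,0),
   ([3,4,2,3,0,0,2],1981,1),
   ([3,2,1,0,2,3,2],1981,2),
   ([1,1,1,4,2,3,4],1982,0),
   ([4,4,1,4,2,3,2],1982,1),
   ([0,2,0,1,4,1,2],1982,2),
   ([1,2,0,2,2,0,1],1982,3),
   ([1,3,0,1,2,3,2],1983,1),
   ([1,2,0,4,2,2,2],1983,3),
   ([4,2,4,4,0,2,3],1984,1),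
   ([4,3,1,4,0,3,3],1984,3),
   ([3,4,0,0,4,1,2],1985,0),
   ([1,4,2,1,3,4,3],1985,1),
   ([4,4,3,2,1,1,3],1985,2),
   ([0,3,3,4,0,4,2],1986,3),
   ([0,4,4,3,1,2,1],1987,0),
   ([4,3,3,4,2,2,2],1987,3),
   ([2,2,3,1,3,2,4],1988,1),
   ([1,0,4,0,2,3,4],1988,2),
   ([2,4,3,0,1,0,2],1989,1),
   ([3,4,2,2,3,3,4],1990,0),
   ([0,2,2,1,0,1,2],1990,2),
   ([1,2,2,2,3,3,1],1990,3),
   ([2,3,4,4,2,2,3],1991,1),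
   ([4,3,3,2,2,1,2],1991,3),
   ([3,4,4,4,2,3,4],1992,0),
   ([1,4,1,4,3,3,2],1992,1),
   ([1,0,1,0,0,1,2],1992,2),
   ([1,2,1,1,3,3,1],1992,3),
   ([0,3,3,1,0,4,3],1993,0),
   ([2,1,0,4,0,1,2],1993,1),
   ([4,2,2,4,0,4,4],1993,3),
   ([2,1,2,3,3,1,3],1994,3),
   ([3,3,1,4,1,2,1],1995,0),
   ([2,3,3,1,3,4,3],1995,2),
   ([4,3,3,0,0,0,3],1995,3),
   ([4,3,2,2,2,3,4],1996,0),
   ([2,4,1,1,1,3,2],1996,1),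
   ([3,3,0,4,3,1,2],1996,2),
   ([1,2,0,0,1,2,1],1996,3),
   ([0,4,3,4,3,4,3],1997,0),
   ([1,3,4,3,3,1,2],1997,1),
   ([2,4,3,0,0,0,1],1998,0),
   ([3,4,1,3,2,1,1],1998,2),
   ([3,1,3,0,0,1,1],1999,1),
   ([4,1,3,0,1,0,1],1999,2),
   ([1,0,4,1,2,1,0],2000,0),
   ([0,2,1,2,1,0,1],2000,1),
   ([4,1,3,1,1,2,3],2000,3),
   ([4,1,3,2,1,4,3],2001,0),
   ([4,0,3,2,1,1,2],2001,1),
   ([4,3,0,2,3,4,2],2001,2),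
   ([4,2,0,1,1,1,0],2001,3),
   ([2,1,0,1,1,2,0],2003,0),
   ([1,2,3,0,0,0,2],2004,0),
   ([1,2,1,2,3,2,2],2004,2),
   ([4,4,4,2,4,2,2],2005,0),
   ([1,1,2,4,4,4,4],2005,1),
   ([2,1,3,0,3,0,4],2005,2),
   ([0,4,3,0,4,0,4],2005,3),
   ([0,0,1,1,3,4,2],2007,3),
   ([3,4,2,1,0,2,2],2008,2),
   ([1,4,2,2,0,3,3],2009,1),
   ([4,3,3,2,3,0,3],2009,2),
   ([4,3,0,2,4,3,0],2010,1),
   ([1,1,0,0,4,3,0],2010,2),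
   ([0,3,3,3,0,3,3],2011,1),
   ([0,4,2,3,3,0,3],2011,2),
   ([0,3,2,3,0,3,2],2011,3),
   ([1,0,4,4,2,3,0],2012,0),
   ([0,2,1,4,3,0,3],2012,1),
   ([2,2,1,4,1,2,3],2012,2),
   ([2,3,1,1,3,2,3],2012,3),
   ([4,0,0,3,4,3,4],2013,0),
   ([1,2,1,3,0,3,2],2013,3),
   ([2,4,2,0,3,2,2],2014,1),
   ([3,3,0,2,0,0,2],2014,2),
   ([0,1,0,2,3,4,2],2015,0),
   ([4,1,3,3,0,3,1],2015,2),
   ([2,4,4,1,1,1,4],2016,1),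
   ([0,2,3,3,0,2,4],2016,2),
   ([2,4,3,0,1,2,1],2016,3),
   ([2,0,1,0,3,4,2],2017,0),
   ([0,4,4,2,3,4,1],2017,1),
   ([3,4,3,1,4,3,1],2017,2),
   ([3,1,3,4,3,4,1],2017,3),
   ([0,2,3,2,0,2,4],2018,0),
   ([2,1,3,4,4,1,1],2018,3),
   ([1,2,3,0,1,4,2],2019,0),
   ([4,0,3,3,4,3,1],2019,2),
   ([0,2,0,4,2,1,3],2020,0),
   ([1,0,3,2,4,2,4],2020,2),
   ([2,4,3,4,0,1,1],2020,3),
   ([2,1,4,3,2,4,1],2021,1),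
   ([1,0,0,3,3,3,1],2021,2),
   ([3,1,0,1,2,4,4],2021,3),
   ([1,2,3,4,0,2,2],2022,0)]

/-- A block of images of the fixed vector. -/
def vOrbB41 : List (List ℕ × ℕ × ℕ) :=
  [([2,4,0,4,1,0,4],2022,2),
   ([0,4,0,4,2,3,4],2022,3),
   ([1,4,0,1,3,3,0],2023,1),
   ([4,2,2,2,4,4,4],2024,0),
   ([3,2,2,4,0,3,3],2024,1),
   ([2,0,4,4,3,0,3],2024,2),
   ([0,4,0,4,1,3,0],2025,0),
   ([1,3,3,0,3,0,3],2025,1),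
   ([2,0,1,0,1,2,3],2025,2),
   ([2,3,1,2,3,2,2],2025,3),
   ([4,4,1,4,0,3,0],2026,0),
   ([4,0,1,1,1,2,3],2026,2),
   ([2,3,1,3,3,0,4],2026,3),
   ([4,2,4,1,2,2,1],2027,0),
   ([3,2,1,2,1,2,3],2027,1),
   ([1,3,2,0,2,4,0],2028,0),
   ([1,2,3,4,2,1,4],2028,2),
   ([3,1,3,4,0,4,4],2029,0),
   ([4,3,0,1,2,3,3],2029,1),
   ([1,1,0,4,0,0,3],2029,2),
   ([0,3,0,4,2,4,2],2029,3),
   ([3,1,3,0,1,0,3],2030,0),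
   ([4,3,3,4,3,1,3],2030,1),
   ([3,0,2,2,3,0,0],2032,1),
   ([2,4,2,2,3,0,0],2033,1),
   ([4,0,1,4,0,2,2],2034,2),
   ([3,1,4,4,1,2,2],2035,0),
   ([4,3,3,0,1,4,4],2035,1),
   ([2,1,4,4,0,0,4],2035,2),
   ([0,4,4,4,1,4,2],2035,3),
   ([1,4,4,0,2,4,0],2038,2),
   ([3,3,2,0,0,3,2],2039,2),
   ([2,3,3,3,2,3,2],2040,0),
   ([2,0,1,0,2,4,0],2040,1),
   ([4,0,3,3,2,3,0],2040,3),
   ([0,0,1,4,3,4,0],2041,1),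
   ([4,3,1,2,3,4,0],2041,2),
   ([1,0,4,2,1,3,2],2042,0),
   ([0,2,3,2,3,4,0],2042,1),
   ([1,1,2,0,3,4,0],2042,2),
   ([4,0,2,4,3,2,3],2042,3),
   ([4,0,3,3,2,4,0],2043,1),
   ([0,3,4,2,2,4,0],2043,2),
   ([4,0,4,1,2,1,0],2043,3),
   ([2,2,1,0,2,2,2],2044,0),
   ([3,3,1,3,1,4,4],2044,1),
   ([4,2,1,2,0,0,4],2044,2),
   ([0,4,1,2,1,0,2],2044,3),
   ([2,0,4,1,2,2,0],2045,0),
   ([1,3,4,1,2,2,1],2046,0),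
   ([1,2,4,3,4,4,3],2047,1),
   ([3,1,1,3,1,4,3],2048,0),
   ([4,4,2,1,3,4,2],2048,2),
   ([4,2,2,0,1,4,2],2048,3),
   ([4,0,3,0,4,4,0],2049,1),
   ([2,3,2,2,4,4,0],2049,2),
   ([4,0,2,1,4,1,0],2049,3),
   ([2,2,1,3,1,2,2],2050,0),
   ([3,3,2,0,0,0,4],2050,2),
   ([0,4,2,0,1,0,2],2050,3),
   ([4,1,4,4,3,4,0],2051,0),
   ([4,0,4,3,0,0,4],2051,1),
   ([1,0,3,2,4,1,4],2051,2),
   ([1,4,3,3,0,1,0],2051,3),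
   ([2,0,2,1,4,2,0],2052,0),
   ([3,4,3,1,3,3,2],2052,2),
   ([3,2,3,4,1,4,1],2052,3),
   ([1,0,0,4,1,4,3],2053,1),
   ([3,0,3,2,4,1,3],2053,2),
   ([2,2,0,1,0,0,4],2054,1),
   ([2,3,3,0,4,1,4],2054,2),
   ([1,4,3,1,0,0,3],2054,3),
   ([4,2,3,3,4,1,4],2055,1),
   ([3,4,3,3,1,3,0],2056,0),
   ([4,3,1,3,1,3,1],2057,0),
   ([1,1,2,2,0,3,4],2057,2),
   ([3,4,2,0,1,2,1],2057,3),
   ([0,4,3,0,3,3,2],2058,1),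
   ([0,2,1,1,0,1,2],2058,2),
   ([1,3,4,4,0,0,3],2060,2),
   ([0,1,1,4,1,3,0],2061,0),
   ([4,2,3,0,0,0,3],2061,1),
   ([3,0,0,4,1,3,1],2062,1),
   ([0,4,3,1,2,2,1],2062,2),
   ([4,4,2,4,0,3,0],2063,0),
   ([1,1,0,1,0,0,3],2063,1),
   ([2,1,3,4,3,2,3],2063,2),
   ([4,3,3,2,0,0,4],2064,3),
   ([2,4,1,3,0,3,4],2065,0),
   ([1,2,0,2,4,3,2],2065,1),
   ([1,2,0,3,4,1,3],2065,3),
   ([1,2,3,1,2,3,3],2066,2),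
   ([3,3,3,4,4,1,3],2066,3),
   ([3,3,0,2,4,0,2],2067,1),
   ([4,1,1,1,0,3,4],2068,0),
   ([4,0,0,4,1,3,2],2068,1),
   ([1,0,3,2,3,1,2],2068,2),
   ([1,2,3,3,1,1,0],2068,3),
   ([4,2,3,2,0,2,0],2069,0),
   ([3,2,3,1,1,3,2],2069,2),
   ([3,2,3,4,4,4,3],2069,3),
   ([1,3,1,4,3,2,1],2070,2),
   ([2,1,1,1,2,3,2],2070,3),
   ([2,0,0,2,0,0,3],2071,1),
   ([1,2,1,0,3,2,3],2071,2),
   ([1,3,1,1,2,1,4],2072,0),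
   ([2,4,2,4,0,3,0],2072,2),
   ([3,0,2,2,0,1,2],2072,3),
   ([4,3,4,1,1,3,2],2073,1),
   ([3,2,3,4,3,1,2],2073,2),
   ([4,0,1,0,3,2,1],2074,0),
   ([0,3,4,2,3,2,3],2074,1),
   ([4,2,3,0,1,4,3],2074,2),
   ([4,3,3,4,3,3,2],2074,3),
   ([3,1,3,0,1,3,4],2076,0),
   ([3,4,3,0,0,1,2],2076,2),
   ([2,1,3,2,0,4,0],2077,0),
   ([0,3,3,3,3,1,4],2077,2),
   ([1,4,3,4,4,2,4],2077,3),
   ([4,3,0,4,2,1,4],2078,0),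
   ([2,4,1,4,0,3,0],2078,1),
   ([0,4,3,1,0,3,0],2078,2),
   ([3,0,3,4,0,2,1],2078,3),
   ([4,0,0,4,2,3,2],2080,1),
   ([1,2,3,4,1,4,3],2081,0)]

/-- A block of images of the fixed vector. -/
def vOrbB42 : List (List ℕ × ℕ × ℕ) :=
  [([3,1,3,0,4,1,2],2081,1),
   ([4,2,2,1,4,3,4],2081,3),
   ([4,2,4,4,0,1,0],2082,1),
   ([1,4,1,3,0,1,0],2082,2),
   ([1,3,0,4,3,1,1],2083,1),
   ([3,0,0,1,4,0,1],2083,2),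
   ([4,1,4,1,1,1,0],2084,0),
   ([3,4,1,0,0,4,1],2084,2),
   ([0,1,2,4,2,1,2],2085,1),
   ([3,1,1,3,4,4,2],2085,2),
   ([4,1,1,1,4,1,0],2086,0),
   ([4,0,2,0,4,0,1],2086,1),
   ([3,3,1,2,0,4,1],2086,2),
   ([2,1,1,4,0,4,1],2087,1),
   ([3,1,3,1,1,3,1],2087,2),
   ([2,1,1,2,2,2,3],2088,0),
   ([0,4,3,1,4,1,0],2088,2),
   ([2,2,3,4,4,2,0],2089,0),
   ([3,3,2,2,0,0,2],2089,1),
   ([2,4,3,4,2,3,2],2089,2),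
   ([3,2,3,2,0,0,2],2089,3),
   ([3,0,3,4,3,2,3],2090,1),
   ([0,3,3,2,1,4,3],2090,2),
   ([4,2,3,1,3,4,3],2091,3),
   ([2,4,3,1,3,4,0],2092,0),
   ([1,1,3,4,0,1,4],2092,2),
   ([0,1,4,3,3,1,0],2093,1),
   ([3,0,1,4,3,1,0],2093,2),
   ([1,0,1,0,3,1,4],2093,3),
   ([4,1,1,3,2,3,3],2094,0),
   ([4,0,1,0,3,1,1],2094,1),
   ([0,4,4,2,4,0,1],2094,2),
   ([0,1,4,2,3,1,0],2094,3),
   ([2,0,4,2,4,1,0],2095,0),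
   ([0,4,2,4,4,0,1],2095,1),
   ([3,0,3,1,0,4,1],2095,2),
   ([3,0,1,0,3,2,3],2096,0),
   ([1,3,3,3,3,1,0],2096,2),
   ([1,0,3,4,3,1,4],2096,3),
   ([2,0,2,3,1,1,2],2097,1),
   ([4,4,1,1,4,0,1],2098,1),
   ([2,4,3,3,0,4,1],2098,2),
   ([0,2,3,0,0,4,1],2099,1),
   ([0,4,3,2,1,3,1],2099,2),
   ([3,1,3,0,0,2,3],2099,3),
   ([2,1,2,2,1,1,0],2100,0),
   ([0,3,3,4,0,4,1],2100,2),
   ([4,1,3,3,4,2,4],2100,3),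
   ([1,2,3,1,3,3,0],2101,0),
   ([4,4,3,3,4,2,3],2101,2),
   ([3,3,2,0,2,2,3],2102,0),
   ([2,2,1,3,3,1,0],2102,1),
   ([2,1,3,4,3,1,0],2102,2),
   ([1,0,3,0,3,0,3],2102,3),
   ([3,0,3,4,2,2,4],2103,2),
   ([4,3,4,4,1,4,4],2104,1),
   ([4,4,2,3,0,0,4],2104,2),
   ([0,3,0,1,3,4,0],2105,0),
   ([2,1,4,1,0,0,4],2105,1),
   ([4,2,2,0,4,1,4],2105,2),
   ([1,4,2,1,0,4,4],2105,3),
   ([2,1,4,4,0,1,2],2106,0),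
   ([4,1,0,1,4,4,3],2106,1),
   ([1,4,2,1,2,1,3],2106,2),
   ([1,3,2,2,4,2,4],2106,3),
   ([1,3,3,1,0,4,0],2107,0),
   ([2,3,0,4,0,0,4],2107,1),
   ([2,0,2,3,4,1,4],2107,2),
   ([1,4,2,1,4,1,4],2108,1),
   ([3,1,4,0,3,2,4],2108,2),
   ([1,1,0,2,4,0,1],2109,1),
   ([0,3,0,4,0,4,1],2109,2),
   ([0,3,2,4,0,4,2],2110,0),
   ([2,1,0,1,0,4,1],2110,1),
   ([3,1,3,1,0,4,4],2110,3),
   ([0,1,0,3,2,4,3],2111,1),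
   ([3,2,1,0,0,1,3],2111,2),
   ([0,1,2,4,2,1,3],2112,0),
   ([4,2,1,4,4,1,4],2112,1),
   ([2,4,2,0,4,3,3],2112,3),
   ([0,2,2,1,0,1,0],2113,2),
   ([1,0,2,2,0,3,1],2113,3),
   ([2,4,3,4,1,3,1],2114,2),
   ([3,1,3,2,0,0,2],2114,3),
   ([1,2,1,3,0,1,3],2115,0),
   ([3,1,0,2,4,1,4],2115,1),
   ([2,4,0,3,4,3,4],2115,3),
   ([2,1,3,0,1,3,1],2116,0),
   ([4,1,3,4,3,2,4],2116,1),
   ([3,4,3,1,3,2,4],2116,3),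
   ([0,3,3,0,3,4,4],2117,2),
   ([1,4,3,2,2,2,3],2118,2),
   ([2,2,0,1,0,1,0],2119,1),
   ([2,3,3,0,0,1,0],2119,2),
   ([1,0,3,1,0,0,3],2119,3),
   ([4,0,1,0,3,4,1],2122,0),
   ([0,3,4,2,3,2,0],2122,1),
   ([2,0,3,4,3,3,2],2122,3),
   ([4,3,4,2,3,2,0],2123,1),
   ([2,0,3,4,3,4,2],2123,3),
   ([4,1,3,0,0,1,2],2124,2),
   ([0,2,3,2,3,4,1],2125,0),
   ([0,2,4,3,0,2,0],2125,2),
   ([2,0,4,0,0,1,1],2125,3),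
   ([0,3,1,1,1,1,1],2126,0),
   ([2,1,3,3,3,2,2],2126,1),
   ([1,1,0,0,0,0,2],2126,2),
   ([0,2,0,0,3,4,4],2126,3),
   ([0,1,0,4,2,2,0],2127,0),
   ([4,2,1,4,0,0,2],2127,1),
   ([3,2,3,4,0,3,3],2127,3),
   ([1,0,4,0,0,2,2],2128,0),
   ([0,1,3,2,2,0,4],2128,2),
   ([1,1,4,1,2,2,2],2129,2),
   ([3,4,0,3,4,4,4],2130,2),
   ([4,4,0,2,0,2,1],2130,3),
   ([1,3,4,1,4,4,4],2131,1),
   ([2,2,1,2,3,0,4],2131,2),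
   ([1,1,4,3,0,0,1],2132,0),
   ([4,2,1,1,1,1,1],2132,2),
   ([1,1,1,2,0,0,1],2132,3),
   ([4,3,4,4,0,1,4],2133,1),
   ([0,4,1,2,4,2,4],2133,2),
   ([2,4,1,4,0,4,2],2133,3),
   ([4,0,2,1,0,4,2],2134,0)]

/-- A block of images of the fixed vector. -/
def vOrbB43 : List (List ℕ × ℕ × ℕ) :=
  [([0,3,0,4,3,4,1],2134,1),
   ([2,2,0,3,4,3,1],2134,2),
   ([3,1,0,1,3,3,2],2134,3),
   ([1,0,1,1,4,2,4],2135,0),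
   ([0,2,2,0,4,3,1],2135,1),
   ([2,2,1,4,0,2,1],2135,2),
   ([2,1,1,1,4,2,3],2135,3),
   ([1,2,1,4,0,3,4],2136,0),
   ([1,2,1,3,3,3,4],2136,3),
   ([4,4,1,0,0,4,2],2137,0),
   ([1,1,0,0,2,4,1],2137,1),
   ([3,4,2,0,3,3,1],2137,2),
   ([0,3,1,0,3,2,4],2138,0),
   ([2,1,4,2,3,3,1],2138,1),
   ([2,1,3,4,3,4,4],2138,3),
   ([0,1,2,4,3,3,0],2140,1),
   ([2,0,2,3,3,3,0],2140,2),
   ([3,0,2,1,3,1,4],2140,3),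
   ([4,1,2,0,0,4,4],2141,0),
   ([4,0,0,0,4,3,3],2141,1),
   ([0,2,4,1,2,0,3],2141,2),
   ([0,3,4,1,4,1,0],2141,3),
   ([1,0,1,2,1,3,0],2142,0),
   ([0,2,3,2,2,0,3],2142,1),
   ([2,0,1,3,0,2,3],2142,2),
   ([4,0,2,1,3,2,3],2143,0),
   ([1,1,1,1,4,1,0],2143,2),
   ([0,4,2,1,3,2,3],2144,0),
   ([1,3,4,1,4,1,0],2144,1),
   ([2,1,1,1,4,1,0],2144,2),
   ([1,0,1,2,4,2,2],2144,3),
   ([2,3,3,4,2,3,3],2145,2),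
   ([3,3,3,2,4,0,3],2145,3),
   ([0,4,0,4,1,3,3],2146,0),
   ([1,3,3,0,3,1,1],2146,1),
   ([2,2,1,2,4,0,1],2146,2),
   ([0,1,1,2,3,2,2],2146,3),
   ([4,4,3,2,4,0,1],2147,0),
   ([4,4,1,1,3,1,1],2147,2),
   ([1,1,1,2,2,0,4],2147,3),
   ([2,3,3,2,0,3,0],2148,0),
   ([2,3,3,4,4,3,0],2148,3),
   ([3,3,1,3,2,0,3],2149,1),
   ([2,3,2,1,2,0,2],2149,3),
   ([2,0,4,1,2,1,0],2150,1),
   ([3,2,4,3,2,1,0],2150,2),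
   ([1,4,2,1,2,0,4],2151,0),
   ([2,1,4,1,1,4,4],2151,2),
   ([4,4,4,0,2,4,0],2151,3),
   ([2,3,2,2,3,2,3],2153,0),
   ([2,0,4,0,3,1,0],2153,1),
   ([0,3,2,1,3,1,0],2153,2),
   ([1,0,2,3,3,4,0],2154,3),
   ([1,1,1,3,1,3,3],2155,2),
   ([3,3,1,1,3,3,3],2155,3),
   ([0,4,3,1,1,0,1],2156,0),
   ([4,4,4,0,3,1,1],2156,2),
   ([2,1,0,2,3,1,1],2157,1),
   ([0,1,4,4,3,4,4],2157,3),
   ([0,2,4,4,2,0,4],2158,3),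
   ([3,1,3,3,3,2,3],2159,0),
   ([4,3,4,4,4,1,0],2159,1),
   ([1,2,0,4,4,1,0],2159,2),
   ([1,0,0,0,4,4,2],2159,3),
   ([4,0,1,2,4,3,3],2160,0),
   ([0,3,2,4,3,1,1],2160,1),
   ([0,1,2,1,3,3,2],2160,3),
   ([1,4,3,2,0,1,0],2161,0),
   ([3,4,3,0,0,4,1],2161,2),
   ([4,1,3,4,4,4,0],2161,3),
   ([3,0,0,0,4,3,4],2162,0),
   ([1,1,3,2,0,1,2],2162,2),
   ([1,2,3,3,3,1,4],2162,3),
   ([3,2,3,2,2,4,1],2163,0),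
   ([3,0,1,1,3,2,0],2163,1),
   ([2,0,2,3,3,2,0],2163,3),
   ([2,4,0,2,3,4,1],2165,1),
   ([4,4,4,1,4,3,1],2165,2),
   ([3,1,4,4,3,2,1],2165,3),
   ([0,4,0,3,0,1,4],2166,1),
   ([2,3,4,1,4,2,4],2166,2),
   ([2,4,4,3,0,4,1],2166,3),
   ([4,3,4,4,3,4,2],2167,0),
   ([4,0,2,1,4,2,0],2168,1),
   ([0,2,4,0,4,2,0],2168,2),
   ([2,2,1,4,3,1,1],2169,0),
   ([3,3,4,3,4,2,2],2169,1),
   ([3,1,2,4,1,0,2],2169,2),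
   ([0,2,2,4,4,0,2],2169,3),
   ([4,1,0,1,1,2,0],2170,0),
   ([3,2,3,2,1,1,0],2170,3),
   ([1,0,4,2,4,2,0],2171,0),
   ([0,4,3,2,1,3,2],2171,2),
   ([1,3,0,2,1,1,4],2172,1),
   ([1,3,2,4,0,2,4],2172,2),
   ([2,4,2,1,1,2,2],2172,3),
   ([4,1,4,3,0,3,1],2173,0),
   ([4,0,0,2,0,2,4],2173,1),
   ([2,4,1,0,3,0,2],2174,2),
   ([0,3,3,0,1,2,4],2175,1),
   ([3,3,4,1,0,3,4],2175,2),
   ([2,3,3,1,3,2,0],2176,0),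
   ([2,0,4,1,1,0,2],2176,1),
   ([3,2,3,0,1,3,0],2176,3),
   ([4,2,4,4,1,1,4],2177,0),
   ([1,2,2,1,1,4,4],2178,1),
   ([1,4,2,1,4,4,1],2179,1),
   ([3,0,4,4,0,3,1],2179,2),
   ([3,2,4,3,4,1,4],2180,1),
   ([4,3,2,2,3,2,4],2180,2),
   ([0,4,0,0,3,2,4],2181,1),
   ([3,4,3,2,3,4,1],2181,3),
   ([0,3,3,4,2,1,3],2182,2),
   ([1,0,2,0,1,2,0],2183,1),
   ([3,1,3,2,1,2,0],2183,2),
   ([3,3,4,2,4,1,1],2184,0),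
   ([2,2,2,4,4,2,2],2184,1),
   ([2,2,3,0,1,0,2],2184,2),
   ([0,3,4,3,3,2,0],2185,0),
   ([4,4,2,0,3,3,2],2185,2),
   ([3,2,2,3,1,4,4],2185,3),
   ([4,0,4,1,1,3,1],2186,0),
   ([1,3,1,1,3,3,4],2186,2),
   ([3,4,1,4,4,3,2],2186,3),
   ([2,1,4,3,4,3,4],2187,0)]

/-- A block of images of the fixed vector. -/
def vOrbB44 : List (List ℕ × ℕ × ℕ) :=
  [([4,1,2,3,3,3,2],2187,1),
   ([4,0,4,4,0,1,2],2187,2),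
   ([1,2,4,0,3,2,4],2187,3),
   ([2,1,4,3,1,3,0],2188,2),
   ([3,0,4,1,1,4,3],2188,3),
   ([2,1,2,2,3,4,2],2189,0),
   ([3,1,2,2,3,2,4],2189,3),
   ([0,4,1,0,0,2,1],2190,2),
   ([3,4,1,4,3,3,4],2191,3),
   ([3,0,4,0,3,2,0],2192,3),
   ([1,1,2,1,4,3,3],2193,1),
   ([1,0,4,2,2,0,3],2193,2),
   ([4,0,4,0,3,4,0],2194,0),
   ([2,0,2,0,2,2,4],2195,0),
   ([2,1,3,0,3,4,1],2195,3),
   ([1,4,4,1,0,3,0],2196,0),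
   ([2,2,4,0,0,2,3],2196,2),
   ([2,3,4,2,2,4,0],2196,3),
   ([0,1,4,1,0,2,3],2197,1),
   ([2,4,2,2,3,4,3],2197,2),
   ([4,3,2,1,0,1,4],2197,3),
   ([2,4,2,1,2,4,0],2198,2),
   ([1,4,4,0,3,1,4],2199,1),
   ([0,1,2,0,2,2,4],2199,2),
   ([0,1,2,3,1,1,2],2200,2),
   ([4,4,3,0,0,2,0],2201,0),
   ([1,1,0,0,1,0,2],2201,1),
   ([4,1,1,1,3,3,2],2201,2),
   ([4,4,1,3,2,3,4],2202,0),
   ([1,4,4,1,0,1,2],2202,2),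
   ([1,2,4,2,3,0,4],2202,3),
   ([0,1,1,2,4,3,1],2203,1),
   ([3,0,1,1,0,2,1],2203,2),
   ([4,1,1,0,0,3,0],2204,0),
   ([4,0,0,0,2,0,3],2204,1),
   ([2,4,2,1,0,2,3],2204,2),
   ([3,1,3,4,4,2,1],2205,0),
   ([3,3,3,3,3,4,3],2205,2),
   ([4,3,3,2,0,4,2],2205,3),
   ([1,3,1,3,4,2,3],2206,0),
   ([1,0,3,1,2,1,2],2206,3),
   ([1,2,0,2,3,3,2],2207,1),
   ([0,4,4,3,0,1,2],2207,2),
   ([1,2,4,4,3,1,3],2207,3),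
   ([1,0,1,2,0,2,1],2208,0),
   ([4,3,4,3,0,2,3],2208,3),
   ([1,0,4,0,0,1,2],2209,0),
   ([0,2,0,0,3,4,3],2209,1),
   ([1,3,3,2,3,2,3],2209,3),
   ([3,0,3,4,3,4,3],2210,2),
   ([4,1,1,4,1,0,3],2211,1),
   ([4,0,4,1,4,2,3],2211,2),
   ([3,2,3,3,2,2,3],2212,0),
   ([3,0,1,0,2,1,0],2212,1),
   ([1,0,3,3,2,2,0],2212,3),
   ([4,2,3,1,1,4,2],2214,2),
   ([0,1,3,0,4,0,1],2215,1),
   ([2,4,2,2,0,4,1],2215,2),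
   ([4,1,2,1,4,1,4],2215,3),
   ([2,4,2,2,4,4,2],2216,0),
   ([1,2,2,4,0,4,1],2216,1),
   ([3,1,4,4,0,1,3],2216,3),
   ([4,3,4,0,3,2,4],2217,2),
   ([1,0,3,2,3,4,2],2218,0),
   ([4,4,4,2,1,3,1],2218,2),
   ([3,1,4,0,0,2,3],2218,3),
   ([3,2,1,1,1,1,3],2219,0),
   ([3,3,0,3,2,2,4],2219,2),
   ([2,4,0,0,3,2,0],2219,3),
   ([4,4,4,3,1,3,1],2220,0),
   ([2,1,3,1,1,3,4],2220,2),
   ([3,4,3,4,2,0,4],2220,3),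
   ([4,3,4,0,0,4,1],2221,0),
   ([0,1,3,0,3,2,0],2221,2),
   ([2,0,3,2,3,2,1],2221,3),
   ([3,0,1,2,0,0,2],2222,1),
   ([1,1,2,4,2,3,2],2222,2),
   ([1,1,3,0,2,4,0],2223,1),
   ([0,3,0,4,2,4,0],2223,2),
   ([4,1,2,2,0,4,0],2225,0),
   ([3,1,1,0,1,1,4],2225,2),
   ([2,4,3,3,2,4,3],2226,1),
   ([4,0,4,0,0,1,3],2226,2),
   ([0,4,1,3,1,0,4],2227,1),
   ([1,4,1,2,1,4,1],2227,3),
   ([3,4,4,1,2,4,2],2228,0),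
   ([4,3,3,3,2,3,1],2228,2),
   ([0,2,4,3,1,4,1],2229,0),
   ([3,4,3,1,2,2,0],2229,1),
   ([1,0,3,2,2,2,0],2229,2),
   ([2,0,3,4,2,1,1],2229,3),
   ([0,3,3,0,0,1,1],2230,0),
   ([2,1,0,0,1,2,2],2230,1),
   ([0,4,1,4,3,0,2],2230,2),
   ([0,2,1,4,1,4,4],2230,3),
   ([2,0,4,3,4,2,0],2231,0),
   ([0,4,2,3,3,0,2],2231,1),
   ([2,1,4,2,0,3,2],2231,2),
   ([3,2,4,0,3,4,1],2231,3),
   ([1,0,3,4,2,2,2],2232,0),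
   ([1,4,1,2,4,0,2],2233,1),
   ([1,2,1,0,1,3,2],2233,2),
   ([3,2,1,3,4,3,1],2233,3),
   ([4,2,1,0,0,3,2],2234,0),
   ([3,2,0,0,2,4,0],2234,1),
   ([4,4,2,4,2,4,0],2234,2),
   ([4,0,2,3,2,4,3],2234,3),
   ([1,4,2,3,3,3,2],2235,0),
   ([1,0,4,4,2,4,0],2235,1),
   ([3,0,3,3,2,4,0],2235,2),
   ([4,0,3,2,2,4,0],2235,3),
   ([4,1,1,3,4,1,2],2236,0),
   ([1,1,3,0,0,1,3],2236,2),
   ([1,3,3,1,2,1,0],2236,3),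
   ([3,0,1,3,0,0,2],2237,1),
   ([3,3,0,0,2,3,2],2237,2),
   ([4,0,0,2,2,0,4],2238,3),
   ([3,2,2,3,2,4,0],2239,1),
   ([3,0,3,2,2,4,0],2239,2),
   ([4,1,0,3,0,4,0],2240,0),
   ([1,4,3,4,1,1,4],2240,2),
   ([3,0,3,4,2,4,4],2241,0),
   ([0,1,1,4,1,3,3],2241,1),
   ([0,2,4,3,4,0,3],2241,2),
   ([0,3,4,3,1,1,4],2241,3)]

/-- A block of images of the fixed vector. -/
def vOrbB45 : List (List ℕ × ℕ × ℕ) :=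
  [([1,4,2,4,0,0,3],2242,0),
   ([3,4,3,3,3,3,3],2242,2),
   ([3,3,3,1,0,4,0],2242,3),
   ([1,2,4,3,4,1,2],2244,2),
   ([2,3,2,2,1,4,3],2245,0),
   ([4,2,3,4,1,4,2],2245,2),
   ([4,2,3,3,4,3,0],2245,3),
   ([0,2,0,4,1,1,1],2246,0),
   ([3,4,3,0,3,2,2],2246,1),
   ([0,2,1,2,3,1,1],2246,3),
   ([4,3,2,3,2,2,2],2247,1),
   ([3,0,3,1,4,0,2],2247,2),
   ([0,2,3,1,2,4,2],2247,3),
   ([4,0,2,1,3,4,3],2248,0),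
   ([1,0,0,0,3,0,2],2249,0),
   ([0,2,4,2,1,4,2],2249,1),
   ([2,2,1,4,3,2,2],2249,2),
   ([2,2,1,1,1,2,3],2249,3),
   ([1,2,1,3,4,3,3],2250,3),
   ([1,2,3,2,4,1,1],2251,1),
   ([1,3,3,3,0,0,1],2251,2),
   ([1,0,4,3,3,2,4],2252,0),
   ([0,2,4,4,1,3,1],2252,1),
   ([1,1,2,1,2,2,1],2252,2),
   ([2,1,2,3,1,2,3],2252,3),
   ([4,1,4,0,2,0,1],2253,0),
   ([4,0,1,3,2,2,1],2253,1),
   ([2,1,2,0,3,1,1],2253,2),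
   ([1,1,2,1,2,1,0],2253,3),
   ([4,1,2,3,4,4,3],2254,2),
   ([4,3,2,2,1,4,4],2254,3),
   ([1,0,1,2,4,0,2],2255,2),
   ([0,2,1,2,2,3,4],2255,3),
   ([3,3,4,1,1,4,2],2256,1),
   ([0,1,1,2,2,1,3],2257,0),
   ([4,4,3,0,3,2,4],2257,2),
   ([2,4,3,2,4,3,3],2257,3),
   ([1,4,3,1,0,2,1],2258,1),
   ([1,0,1,0,1,1,1],2258,2),
   ([4,2,1,2,3,0,2],2259,0),
   ([3,2,4,0,1,4,2],2259,1),
   ([1,3,0,2,3,2,2],2259,2),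
   ([2,2,0,4,1,4,3],2259,3),
   ([3,1,0,0,4,1,1],2260,0),
   ([4,3,2,1,3,2,2],2260,1),
   ([0,2,3,3,3,4,2],2260,3),
   ([2,2,3,2,4,1,3],2261,2),
   ([0,4,3,3,4,4,2],2262,0),
   ([1,3,2,3,1,4,1],2262,1),
   ([1,4,2,4,2,3,1],2262,2),
   ([3,1,2,2,1,2,2],2262,3),
   ([2,3,2,0,2,3,1],2263,0),
   ([2,0,1,3,3,2,4],2263,1),
   ([4,2,3,2,2,3,4],2263,2),
   ([3,4,3,0,3,3,0],2263,3),
   ([0,3,3,2,1,4,0],2265,1),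
   ([2,1,0,2,1,4,0],2265,2),
   ([2,0,0,1,1,1,4],2266,0),
   ([3,0,3,4,1,3,0],2266,2),
   ([3,0,3,2,1,4,1],2266,3),
   ([1,0,4,1,2,3,0],2267,2),
   ([1,4,1,1,4,0,4],2268,1),
   ([4,2,3,1,3,1,4],2268,2),
   ([1,4,3,2,4,3,1],2268,3),
   ([4,2,2,1,2,3,0],2269,2),
   ([3,0,2,4,2,4,3],2269,3),
   ([2,3,1,1,0,1,3],2270,2),
   ([4,1,0,3,4,2,2],2271,0),
   ([4,0,2,3,0,4,4],2271,1),
   ([3,1,1,3,4,0,4],2271,2),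
   ([0,4,1,3,0,1,0],2271,3),
   ([4,3,0,1,3,1,4],2272,2),
   ([1,4,0,2,4,1,0],2272,3),
   ([2,0,3,0,2,2,3],2273,0),
   ([1,4,0,2,0,1,0],2273,2),
   ([1,0,0,3,0,4,1],2273,3),
   ([1,4,1,4,2,3,3],2274,3),
   ([4,4,0,1,2,3,0],2275,1),
   ([0,4,0,1,2,3,0],2275,2),
   ([3,0,0,4,2,0,1],2275,3),
   ([3,2,1,4,2,1,1],2276,0),
   ([3,4,0,2,4,0,2],2276,2),
   ([0,2,0,2,2,2,0],2276,3),
   ([0,1,1,1,3,0,4],2277,1),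
   ([2,1,2,2,2,1,4],2277,2),
   ([1,4,2,3,3,1,4],2277,3),
   ([4,0,4,1,2,3,0],2278,1),
   ([2,1,3,1,2,3,0],2279,1),
   ([3,2,2,3,3,2,3],2280,0),
   ([0,3,3,1,2,1,0],2280,2),
   ([1,0,3,0,2,4,1],2281,0),
   ([0,2,1,3,0,2,0],2281,1),
   ([3,1,0,1,0,2,0],2281,2),
   ([3,3,1,2,2,2,0],2282,0),
   ([2,2,1,1,4,0,2],2282,1),
   ([4,3,0,4,0,4,0],2284,1),
   ([4,2,2,0,0,4,0],2284,2),
   ([4,0,1,0,4,2,2],2285,0),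
   ([2,0,0,1,4,0,4],2285,2),
   ([0,4,0,1,0,3,2],2285,3),
   ([2,0,4,2,4,4,0],2286,0),
   ([0,4,2,4,4,0,4],2286,1),
   ([2,0,2,4,0,3,4],2287,0),
   ([3,0,3,0,2,1,2],2287,2),
   ([2,4,0,1,1,0,4],2288,1),
   ([1,4,4,0,1,2,1],2288,3),
   ([2,0,0,4,2,1,4],2289,0),
   ([0,4,1,4,0,3,0],2289,1),
   ([3,4,3,1,0,3,0],2289,2),
   ([3,0,0,1,1,3,1],2290,2),
   ([3,1,0,4,0,2,0],2290,3),
   ([2,3,2,1,0,4,0],2291,0),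
   ([2,0,0,4,3,0,4],2291,1),
   ([2,1,0,0,2,1,4],2291,2),
   ([1,1,4,2,2,1,4],2292,0),
   ([4,4,1,1,0,3,0],2292,1),
   ([1,3,4,3,0,3,0],2292,2),
   ([3,0,4,1,0,0,1],2292,3),
   ([2,3,3,3,0,3,0],2293,1),
   ([2,1,2,0,0,3,0],2293,2),
   ([3,0,2,3,0,1,2],2293,3),
   ([3,2,0,1,3,1,0],2294,0),
   ([1,3,2,2,1,4,1],2294,2),
   ([4,1,2,1,0,2,0],2294,3),
   ([1,0,2,4,0,1,3],2295,0)]

/-- A block of images of the fixed vector. -/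
def vOrbB46 : List (List ℕ × ℕ × ℕ) :=
  [([0,2,0,1,0,1,4],2295,1),
   ([0,2,3,4,4,2,4],2295,2),
   ([2,1,2,3,1,3,1],2296,1),
   ([4,3,2,0,2,2,1],2296,2),
   ([0,2,2,2,0,2,0],2297,2),
   ([2,3,2,3,4,3,1],2298,0),
   ([2,0,2,3,4,2,4],2298,1),
   ([2,0,0,1,3,3,4],2298,2),
   ([3,4,0,4,4,3,0],2298,3),
   ([0,3,4,4,2,0,4],2299,0),
   ([0,4,1,2,2,4,4],2299,2),
   ([4,4,1,1,3,4,4],2299,3),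
   ([3,1,1,2,4,3,0],2300,2),
   ([3,0,1,0,4,1,1],2300,3),
   ([0,2,4,2,2,1,2],2301,0),
   ([3,4,1,1,0,4,3],2301,1),
   ([0,0,4,0,3,1,3],2301,2),
   ([0,4,3,2,2,0,3],2302,0),
   ([1,3,1,1,3,1,3],2302,1),
   ([1,1,2,0,1,3,3],2302,2),
   ([0,4,0,1,3,3,3],2303,0),
   ([1,0,2,1,1,0,1],2303,2),
   ([0,1,2,1,0,2,2],2303,3),
   ([3,1,2,2,4,4,4],2304,2),
   ([1,2,0,1,2,0,3],2305,0),
   ([2,1,0,1,1,3,3],2305,2),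
   ([3,3,0,4,3,3,4],2305,3),
   ([3,1,3,2,1,4,4],2306,0),
   ([4,3,3,2,1,3,3],2306,1),
   ([1,0,0,1,4,0,3],2306,2),
   ([0,3,0,1,1,4,2],2306,3),
   ([2,2,2,1,0,0,4],2307,0),
   ([4,4,0,1,3,0,2],2307,3),
   ([0,1,0,1,0,2,3],2308,0),
   ([4,2,0,4,4,1,0],2308,1),
   ([1,1,1,4,4,1,0],2308,2),
   ([1,0,1,0,4,3,3],2308,3),
   ([1,1,0,3,1,0,1],2309,1),
   ([4,3,0,1,2,0,2],2310,2),
   ([0,2,0,4,1,1,4],2312,0),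
   ([3,0,1,2,3,1,1],2312,3),
   ([2,3,4,0,2,3,4],2313,1),
   ([3,0,1,4,1,4,4],2313,2),
   ([3,4,3,4,3,0,3],2314,0),
   ([1,4,4,3,3,1,3],2314,1),
   ([3,3,1,0,3,3,1],2314,3),
   ([2,3,4,3,1,3,3],2315,1),
   ([0,2,4,2,4,0,3],2315,2),
   ([0,3,4,2,1,1,2],2315,3),
   ([2,2,1,3,2,2,4],2316,0),
   ([1,0,4,0,4,2,1],2316,2),
   ([2,1,4,2,3,0,2],2316,3),
   ([0,4,3,2,1,3,0],2317,1),
   ([1,3,0,3,1,3,0],2317,2),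
   ([3,0,0,1,1,4,1],2317,3),
   ([1,0,4,2,4,3,0],2318,0),
   ([0,2,2,4,4,0,3],2318,1),
   ([2,3,3,0,4,2,3],2318,3),
   ([4,0,3,2,4,2,1],2319,1),
   ([1,0,3,2,0,1,1],2319,2),
   ([1,1,3,3,4,1,0],2319,3),
   ([1,4,3,2,3,4,3],2321,2),
   ([4,2,0,3,2,1,2],2322,2),
   ([1,2,0,4,0,1,0],2322,3),
   ([3,4,3,0,3,4,3],2323,0),
   ([1,4,4,2,2,1,2],2323,1),
   ([4,2,2,0,2,3,1],2323,3),
   ([2,4,2,3,0,1,0],2324,2),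
   ([3,4,3,3,1,4,3],2325,0),
   ([1,2,1,2,2,4,2],2325,2),
   ([4,2,1,1,0,3,1],2325,3),
   ([4,2,1,2,3,1,0],2326,0),
   ([3,2,4,0,1,0,1],2326,1),
   ([4,1,0,4,1,4,3],2326,3),
   ([1,4,0,3,0,4,2],2327,0),
   ([1,0,0,2,2,4,1],2327,1),
   ([3,1,3,0,2,4,0],2327,3),
   ([2,1,1,1,0,1,2],2328,0),
   ([0,1,3,2,4,1,3],2328,2),
   ([0,3,4,3,4,0,1],2329,0),
   ([2,0,4,4,4,1,1],2329,2),
   ([1,1,4,0,3,4,4],2329,3),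
   ([1,4,0,0,2,0,2],2330,0),
   ([1,0,1,3,4,4,2],2330,1),
   ([2,1,4,2,1,2,2],2330,2),
   ([2,2,4,4,4,4,0],2330,3),
   ([1,1,0,4,0,4,2],2331,1),
   ([3,2,2,2,2,2,2],2331,2),
   ([2,2,2,4,0,0,4],2331,3),
   ([2,4,1,0,4,0,4],2332,0),
   ([1,2,2,1,0,3,4],2332,1),
   ([4,0,0,2,4,4,4],2332,2),
   ([4,4,0,1,0,1,3],2332,3),
   ([0,2,0,2,3,2,2],2333,0),
   ([1,1,3,1,3,0,4],2333,2),
   ([0,4,3,1,4,1,1],2333,3),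
   ([2,3,3,3,3,3,3],2334,2),
   ([3,3,3,1,0,0,1],2334,3),
   ([2,4,1,2,4,0,1],2335,1),
   ([2,0,1,0,0,4,1],2336,0),
   ([0,4,0,0,2,2,0],2336,1),
   ([0,3,1,1,3,0,3],2337,1),
   ([0,2,2,1,1,2,3],2337,2),
   ([3,1,3,4,2,3,0],2338,2),
   ([1,4,4,0,2,1,3],2339,1),
   ([1,2,1,0,0,3,3],2339,2),
   ([3,3,1,3,2,3,1],2339,3),
   ([4,4,3,0,4,3,3],2340,0),
   ([1,1,2,1,4,1,1],2340,1),
   ([1,0,4,2,0,0,1],2340,2),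
   ([0,1,4,2,4,0,4],2340,3),
   ([3,0,2,1,4,1,0],2341,1),
   ([4,3,4,1,4,1,0],2341,2),
   ([3,4,2,4,0,0,1],2342,2),
   ([0,1,2,4,4,0,4],2342,3),
   ([3,2,0,1,0,0,1],2343,1),
   ([3,0,4,2,4,4,0],2344,0),
   ([1,2,2,0,2,3,4],2345,0),
   ([3,1,1,3,3,3,2],2345,1),
   ([1,2,3,0,3,3,4],2345,3),
   ([0,4,3,4,3,4,0],2346,1),
   ([3,2,3,2,3,4,0],2346,2),
   ([1,0,2,2,1,4,4],2347,1),
   ([2,2,4,1,0,0,4],2347,2),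
   ([2,4,1,4,0,0,4],2348,1)]

/-- A block of images of the fixed vector. -/
def vOrbB47 : List (List ℕ × ℕ × ℕ) :=
  [([0,1,3,3,4,1,4],2348,2),
   ([1,4,3,4,0,2,1],2348,3),
   ([3,0,3,1,1,4,0],2349,2),
   ([0,4,0,4,0,3,2],2350,0),
   ([1,3,0,1,1,4,0],2350,1),
   ([4,0,4,0,1,2,2],2350,3),
   ([4,3,4,1,2,2,4],2351,1),
   ([2,3,4,1,1,3,4],2351,2),
   ([3,4,4,4,2,4,2],2351,3),
   ([4,0,2,4,4,2,0],2352,0),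
   ([0,3,2,2,3,0,2],2352,1),
   ([1,3,1,1,0,3,2],2352,2),
   ([3,2,1,4,3,3,2],2352,3),
   ([4,2,4,4,2,3,4],2353,0),
   ([4,1,3,2,3,3,0],2354,0),
   ([4,0,4,0,0,0,3],2354,1),
   ([0,3,4,3,3,2,3],2354,2),
   ([2,3,4,0,0,1,0],2354,3),
   ([0,2,4,4,0,1,0],2355,2),
   ([1,1,1,3,0,3,4],2356,2),
   ([3,4,1,1,1,3,3],2356,3),
   ([0,4,0,0,4,2,0],2357,0),
   ([1,3,2,1,3,0,2],2357,1),
   ([0,1,3,0,0,3,2],2357,2),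
   ([3,2,3,3,3,2,2],2357,3),
   ([3,3,4,0,1,3,4],2358,0),
   ([0,4,0,3,2,1,2],2358,2),
   ([1,2,0,4,0,0,3],2358,3),
   ([1,2,0,0,0,0,2],2359,2),
   ([4,3,0,2,3,2,3],2360,1),
   ([2,2,4,0,1,4,3],2360,2),
   ([0,3,0,3,0,3,2],2361,1),
   ([1,2,4,3,0,3,2],2361,3),
   ([2,4,4,4,3,3,4],2362,0),
   ([1,2,3,2,2,1,2],2362,2),
   ([1,4,4,0,0,2,0],2363,1),
   ([3,1,0,4,2,2,0],2364,0),
   ([4,3,1,4,0,0,2],2364,1),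
   ([3,3,3,1,2,3,2],2364,2),
   ([3,2,3,4,0,4,2],2364,3),
   ([1,3,4,3,1,2,3],2365,1),
   ([4,3,4,3,4,4,3],2365,2),
   ([4,3,4,2,1,2,2],2365,3),
   ([0,1,4,0,0,3,4],2366,0),
   ([4,0,3,1,0,1,2],2366,2),
   ([1,2,3,2,3,3,3],2366,3),
   ([2,1,4,1,4,4,3],2367,0),
   ([4,1,2,0,0,1,2],2367,1),
   ([1,2,2,1,2,4,2],2367,2),
   ([4,2,2,0,0,2,4],2367,3),
   ([2,4,4,2,1,4,4],2368,0),
   ([2,0,2,4,1,0,3],2368,2),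
   ([0,3,2,4,3,1,3],2368,3),
   ([3,4,2,3,1,4,0],2369,0),
   ([1,4,3,1,3,0,4],2369,1),
   ([3,4,4,2,2,1,4],2369,2),
   ([0,2,2,2,1,3,0],2370,2),
   ([3,0,2,0,1,3,0],2370,3),
   ([1,0,2,2,4,1,3],2371,2),
   ([1,2,1,4,4,2,3],2372,0),
   ([3,2,4,0,1,1,0],2372,2),
   ([3,0,2,0,1,1,0],2373,1),
   ([4,4,3,0,1,4,0],2374,3),
   ([4,3,1,3,2,0,1],2375,0),
   ([2,4,1,0,3,2,1],2375,1),
   ([4,2,4,1,4,1,1],2375,2),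
   ([4,2,3,2,0,3,3],2376,0),
   ([3,2,0,3,4,1,1],2376,1),
   ([3,0,3,4,0,0,1],2376,2),
   ([0,1,3,4,4,4,3],2376,3),
   ([4,4,1,0,3,0,1],2377,0),
   ([2,3,3,3,4,1,1],2377,2),
   ([1,1,3,4,3,0,4],2377,3),
   ([1,1,2,4,2,1,0],2378,1),
   ([1,0,1,2,2,0,4],2378,3),
   ([2,4,1,1,4,3,3],2379,0),
   ([1,2,2,0,4,1,1],2379,1),
   ([3,4,1,1,0,0,1],2379,2),
   ([0,1,1,1,4,1,3],2379,3),
   ([2,4,4,4,3,1,0],2380,0),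
   ([1,2,4,3,0,0,1],2380,1),
   ([4,1,3,3,0,1,3],2380,3),
   ([3,0,1,2,2,0,3],2381,0),
   ([3,2,3,1,3,0,3],2382,0),
   ([3,0,4,1,1,1,3],2382,1),
   ([3,3,3,0,1,2,0],2382,3),
   ([3,1,0,2,3,3,3],2383,0),
   ([3,0,3,1,0,0,1],2383,2),
   ([0,1,3,1,4,4,2],2383,3),
   ([2,2,3,0,2,1,4],2384,2),
   ([0,3,2,3,0,3,4],2385,0),
   ([4,2,2,0,3,1,2],2385,2),
   ([2,4,4,4,2,4,3],2386,0),
   ([3,0,1,2,0,4,2],2386,2),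
   ([4,2,1,1,3,1,3],2386,3),
   ([1,4,2,2,0,1,0],2387,1),
   ([4,2,3,1,0,1,0],2387,2),
   ([4,2,1,3,0,3,3],2388,0),
   ([3,2,0,2,4,1,1],2388,1),
   ([1,3,0,3,0,0,1],2388,2),
   ([0,1,0,3,4,4,3],2388,3),
   ([3,0,3,2,0,1,2],2389,0),
   ([1,3,3,3,2,1,3],2389,2),
   ([1,4,2,2,0,0,1],2390,1),
   ([4,4,3,3,1,4,1],2390,2),
   ([3,1,2,1,1,3,3],2391,1),
   ([1,1,1,0,4,0,3],2391,2),
   ([0,4,4,4,0,3,3],2392,2),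
   ([2,1,4,1,1,2,3],2393,2),
   ([4,1,3,0,1,1,0],2394,1),
   ([4,3,4,3,1,1,0],2394,2),
   ([3,4,2,1,1,1,0],2395,2),
   ([1,0,2,2,1,0,4],2395,3),
   ([4,3,2,0,0,3,4],2396,2),
   ([3,1,4,4,4,2,3],2397,0),
   ([4,3,2,2,2,1,0],2397,1),
   ([1,2,0,4,2,1,0],2397,2),
   ([1,0,0,0,2,4,2],2397,3),
   ([4,0,3,1,2,3,3],2398,0),
   ([1,4,1,3,0,0,1],2398,2),
   ([2,2,4,0,0,0,1],2399,1),
   ([1,3,4,1,1,4,1],2399,2),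
   ([3,0,0,0,2,3,4],2400,0),
   ([0,3,4,3,1,1,2],2400,2),
   ([1,2,4,4,4,1,4],2400,3)]

/-- A block of images of the fixed vector. -/
def vOrbB48 : List (List ℕ × ℕ × ℕ) :=
  [([2,3,1,2,2,4,3],2401,2),
   ([4,3,1,1,4,2,0],2401,3),
   ([4,4,2,4,2,3,4],2402,0),
   ([1,2,2,0,4,0,4],2402,3),
   ([4,3,1,0,2,4,3],2403,0),
   ([2,4,1,3,3,4,2],2403,2),
   ([2,4,1,1,4,4,0],2404,0),
   ([3,3,1,0,3,1,4],2404,2),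
   ([1,4,1,1,4,1,3],2404,3),
   ([4,3,0,3,2,2,3],2405,0),
   ([2,4,1,0,1,1,0],2405,1),
   ([1,0,2,4,1,2,1],2405,3),
   ([4,0,4,3,1,3,3],2406,0),
   ([0,3,3,1,2,1,1],2406,1),
   ([4,1,3,4,3,0,1],2406,2),
   ([0,1,3,4,2,3,2],2406,3),
   ([2,2,0,1,2,1,0],2407,2),
   ([1,0,0,2,2,3,1],2407,3),
   ([4,2,2,2,0,3,3],2408,0),
   ([3,2,0,3,2,1,1],2408,1),
   ([0,4,1,1,3,0,1],2408,2),
   ([0,1,1,1,2,4,3],2408,3),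
   ([4,1,1,0,3,2,4],2409,3),
   ([3,0,0,2,2,1,2],2410,0),
   ([3,3,1,3,0,1,3],2410,2),
   ([3,2,0,2,2,3,4],2411,0),
   ([3,0,1,1,2,3,2],2411,1),
   ([1,2,1,4,2,2,0],2411,3),
   ([3,0,0,2,4,1,2],2412,1),
   ([4,2,0,3,4,2,0],2412,3),
   ([2,4,1,4,2,4,1],2413,0),
   ([4,4,0,0,2,2,0],2413,2),
   ([2,0,0,2,2,1,3],2413,3),
   ([2,2,2,1,0,1,0],2414,2),
   ([1,0,2,2,0,1,1],2414,3),
   ([0,3,2,4,1,3,3],2415,0),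
   ([1,2,0,3,3,0,1],2415,2),
   ([0,1,0,3,2,4,4],2415,3),
   ([0,2,0,4,1,1,0],2416,0),
   ([3,4,3,0,3,0,1],2416,1),
   ([4,1,1,2,3,1,1],2416,3),
   ([3,0,2,2,0,2,2],2417,0),
   ([3,3,1,1,1,0,4],2417,2),
   ([0,4,1,1,2,1,4],2417,3),
   ([3,1,4,1,2,1,2],2418,1),
   ([3,0,4,0,4,4,2],2418,2),
   ([3,0,2,4,4,1,0],2419,0),
   ([0,1,2,2,3,0,1],2419,1),
   ([3,0,1,0,4,4,1],2419,2),
   ([4,1,1,4,3,1,4],2419,3),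
   ([2,0,1,2,4,4,1],2420,1),
   ([2,1,4,4,2,1,3],2421,0),
   ([1,2,1,4,2,3,2],2422,0),
   ([3,1,1,4,2,4,0],2422,1),
   ([2,1,0,3,2,4,0],2422,2),
   ([4,0,0,2,2,3,4],2422,3),
   ([4,0,2,0,1,4,0],2423,0),
   ([0,3,3,4,1,0,4],2423,1),
   ([1,3,1,2,0,1,4],2423,2),
   ([4,2,3,0,0,4,0],2425,1),
   ([4,0,3,0,0,3,3],2425,3),
   ([0,4,2,2,2,2,2],2426,0),
   ([1,3,1,1,1,4,4],2426,1),
   ([3,3,0,0,0,0,4],2426,2),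
   ([0,4,0,0,1,2,2],2426,3),
   ([4,1,0,3,4,4,0],2427,0),
   ([4,0,2,3,0,0,4],2427,1),
   ([2,0,3,0,0,1,1],2428,0),
   ([0,2,1,4,3,0,2],2428,2),
   ([0,2,1,4,1,4,1],2428,3),
   ([2,3,4,1,0,1,3],2429,2),
   ([3,3,3,3,1,4,0],2430,0),
   ([4,3,1,0,4,1,4],2430,2),
   ([1,4,1,1,0,0,3],2430,3),
   ([2,4,0,0,2,1,3],2431,0),
   ([0,3,4,2,3,2,4],2431,2),
   ([2,4,4,4,4,1,3],2431,3),
   ([3,4,4,4,3,2,3],2432,2),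
   ([2,3,4,1,0,3,1],2432,3),
   ([4,3,4,3,1,4,1],2433,0),
   ([1,0,4,3,4,2,0],2434,0),
   ([0,2,2,3,3,0,2],2434,1),
   ([4,4,4,2,0,3,2],2434,2),
   ([3,2,4,0,3,2,3],2434,3),
   ([4,0,4,0,2,3,1],2435,2),
   ([2,2,2,1,3,3,4],2436,0),
   ([3,3,4,1,4,3,2],2436,1),
   ([1,2,1,2,4,0,2],2436,3),
   ([1,0,0,0,1,1,2],2437,1),
   ([3,0,1,0,1,3,2],2438,2),
   ([3,2,1,3,4,1,3],2438,3),
   ([1,2,1,4,0,1,0],2439,2),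
   ([1,0,1,0,0,3,2],2439,3),
   ([2,3,4,4,4,3,3],2440,0),
   ([2,0,2,2,2,1,1],2440,1),
   ([2,0,0,0,3,0,1],2440,2),
   ([0,1,0,0,2,3,0],2440,3),
   ([3,3,4,2,1,1,0],2441,0),
   ([2,2,3,2,3,0,1],2441,1),
   ([4,1,2,4,3,0,3],2441,3),
   ([3,0,1,0,0,1,4],2442,0),
   ([2,4,2,0,2,3,0],2442,2),
   ([3,0,2,3,2,1,4],2442,3),
   ([2,2,4,4,4,1,2],2443,1),
   ([4,2,0,0,4,0,3],2443,3),
   ([4,3,1,2,4,1,0],2444,0),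
   ([2,4,2,4,3,0,1],2444,1),
   ([1,2,2,2,4,4,1],2444,2),
   ([4,1,2,1,3,2,1],2444,3),
   ([3,4,3,2,0,3,1],2445,2),
   ([2,1,0,0,4,0,1],2446,0),
   ([0,1,3,2,4,1,1],2446,2),
   ([3,1,1,2,4,0,4],2447,1),
   ([1,1,1,2,3,1,4],2447,2),
   ([1,4,1,3,4,3,4],2447,3),
   ([3,0,4,0,0,0,4],2449,1),
   ([4,4,4,4,4,1,4],2449,2),
   ([2,3,4,2,4,1,4],2450,1),
   ([2,4,4,3,4,1,2],2450,3),
   ([3,2,1,2,3,4,2],2451,2),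
   ([0,3,0,0,4,1,0],2452,0),
   ([2,1,2,1,3,0,1],2452,1),
   ([3,3,3,4,4,4,1],2452,2),
   ([4,1,3,3,3,4,4],2452,3),
   ([2,2,0,3,1,4,2],2453,0)]

/-- A block of images of the fixed vector. -/
def vOrbB49 : List (List ℕ × ℕ × ℕ) :=
  [([0,4,0,4,0,3,1],2453,2),
   ([3,1,0,2,4,0,2],2453,3),
   ([2,1,1,1,1,2,2],2454,0),
   ([3,1,0,0,2,0,4],2454,2),
   ([2,3,2,1,0,3,1],2455,2),
   ([2,1,4,4,3,2,4],2456,0),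
   ([2,1,3,3,0,2,4],2456,3),
   ([3,2,4,0,0,4,0],2457,1),
   ([2,3,4,1,0,4,0],2457,2),
   ([0,2,1,3,4,4,0],2458,0),
   ([3,4,2,3,2,0,4],2458,1),
   ([1,4,3,1,2,1,1],2458,3),
   ([1,0,3,0,0,2,2],2460,0),
   ([0,2,0,0,1,4,4],2460,1),
   ([2,0,1,4,0,0,4],2460,2),
   ([0,4,1,4,1,2,3],2460,3),
   ([0,1,0,2,1,4,0],2461,0),
   ([4,2,3,2,0,0,4],2461,1),
   ([3,0,4,1,4,1,4],2461,2),
   ([1,4,4,2,0,3,3],2461,3),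
   ([2,1,4,4,4,4,3],2462,2),
   ([3,0,1,2,4,0,4],2463,1),
   ([2,0,1,2,3,1,4],2463,2),
   ([1,1,0,0,2,3,0],2464,1),
   ([3,4,2,0,2,3,0],2464,2),
   ([3,0,2,3,2,0,4],2464,3),
   ([1,4,3,3,2,1,4],2465,0),
   ([3,3,3,0,2,3,0],2465,2),
   ([3,2,1,3,4,4,0],2466,0),
   ([0,1,3,0,1,1,4],2466,2),
   ([1,4,3,1,2,2,0],2466,3),
   ([1,0,0,2,4,2,1],2467,0),
   ([0,2,2,4,1,2,3],2467,1),
   ([3,4,0,4,4,4,3],2467,2),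
   ([1,4,4,3,2,1,2],2468,0),
   ([1,0,1,0,4,4,3],2468,1),
   ([3,1,0,3,4,4,0],2469,1),
   ([3,0,1,1,2,2,2],2470,0),
   ([0,1,1,2,0,4,4],2470,1),
   ([0,4,2,2,0,1,4],2470,3),
   ([1,1,0,2,3,4,0],2471,0),
   ([4,4,4,0,4,0,4],2471,1),
   ([1,4,3,1,4,0,1],2471,3),
   ([2,0,3,4,4,1,3],2472,0),
   ([3,1,3,0,4,2,4],2472,2),
   ([4,4,2,1,1,4,3],2473,1),
   ([1,3,1,0,1,0,1],2473,3),
   ([3,1,3,2,0,4,0],2474,0),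
   ([4,3,0,3,4,0,4],2474,1),
   ([1,4,3,4,4,4,2],2474,3),
   ([3,2,4,3,1,2,2],2475,2),
   ([2,4,0,3,1,4,1],2476,1),
   ([3,0,0,4,2,3,1],2476,2),
   ([3,2,0,0,2,3,1],2477,0),
   ([4,0,4,1,3,3,4],2477,2),
   ([3,4,4,4,4,2,0],2477,3),
   ([3,0,4,0,4,3,2],2478,1),
   ([0,1,3,0,1,1,2],2478,2),
   ([1,2,3,1,4,2,0],2478,3),
   ([3,2,0,2,4,4,3],2479,0),
   ([3,2,0,4,3,4,2],2479,2),
   ([4,2,0,3,1,2,0],2479,3),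
   ([4,4,0,0,4,2,0],2480,2),
   ([3,4,3,0,2,1,0],2481,1),
   ([4,4,0,2,2,1,0],2481,2),
   ([1,0,0,3,2,1,1],2481,3),
   ([0,3,4,0,4,3,3],2482,0),
   ([2,1,2,1,1,1,1],2482,1),
   ([0,1,1,0,1,4,4],2482,3),
   ([3,2,3,0,3,1,0],2483,0),
   ([3,0,4,2,2,0,1],2483,1),
   ([1,1,2,1,3,4,1],2483,2),
   ([4,1,2,0,2,2,0],2483,3),
   ([3,0,0,3,2,2,2],2484,0),
   ([2,4,2,4,0,0,4],2484,2),
   ([0,4,2,4,1,1,4],2484,3),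
   ([3,3,0,0,2,4,3],2485,0),
   ([1,1,4,0,1,4,2],2485,2),
   ([4,2,4,4,4,0,3],2485,3),
   ([4,3,0,0,1,1,0],2486,0),
   ([2,4,3,4,2,0,1],2486,1),
   ([1,4,2,3,3,4,1],2486,2),
   ([4,1,2,2,2,2,1],2486,3),
   ([3,0,3,1,4,4,2],2487,0),
   ([0,1,2,0,3,4,1],2487,1),
   ([4,2,0,4,4,3,1],2487,2),
   ([3,1,0,2,3,1,4],2487,3),
   ([3,0,0,4,3,1,1],2488,2),
   ([1,1,0,0,2,2,4],2488,3),
   ([1,2,0,3,1,3,2],2489,0),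
   ([3,1,3,1,4,4,0],2489,1),
   ([2,1,0,3,4,4,0],2489,2),
   ([2,1,2,0,3,4,0],2490,0),
   ([4,1,4,2,0,0,4],2490,1),
   ([3,4,0,1,4,1,4],2490,2),
   ([1,4,0,2,0,2,4],2490,3),
   ([1,3,0,1,0,2,4],2491,2),
   ([0,3,4,4,4,1,2],2492,0),
   ([2,1,2,2,2,4,3],2492,1),
   ([1,0,0,4,0,1,3],2492,2),
   ([1,3,0,0,2,4,4],2492,3),
   ([0,2,3,1,2,4,0],2493,0),
   ([3,4,1,2,4,0,4],2493,1),
   ([3,4,1,2,3,1,4],2493,2),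
   ([1,4,1,3,4,1,1],2493,3),
   ([2,2,4,0,2,2,4],2494,2),
   ([2,4,4,2,3,4,0],2494,3),
   ([3,4,0,0,2,3,3],2495,0),
   ([3,2,4,4,0,0,1],2495,2),
   ([0,1,4,4,4,3,1],2495,3),
   ([3,2,0,1,3,4,2],2496,2),
   ([1,3,4,3,1,1,0],2497,0),
   ([2,3,3,1,2,0,1],2497,1),
   ([4,1,3,4,2,1,2],2497,3),
   ([2,4,2,1,4,3,1],2498,2),
   ([3,1,2,4,3,1,1],2498,3),
   ([1,1,2,3,4,4,2],2499,2),
   ([4,2,2,2,2,2,4],2499,3),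
   ([1,2,0,3,3,1,3],2500,0),
   ([3,1,4,4,3,1,4],2500,1),
   ([3,1,4,4,2,2,4],2500,2),
   ([3,0,0,3,3,4,2],2501,0),
   ([0,1,4,4,3,4,1],2501,1),
   ([0,0,4,3,4,3,1],2501,2),
   ([3,1,4,1,3,1,4],2501,3)]

/-- A block of images of the fixed vector. -/
def vOrbB50 : List (List ℕ × ℕ × ℕ) :=
  [([3,2,4,3,2,2,4],2502,0),
   ([3,0,1,0,4,3,1],2502,1),
   ([3,0,0,4,0,2,1],2502,2),
   ([2,1,0,1,4,2,0],2502,3),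
   ([2,0,0,1,2,2,4],2503,2),
   ([2,4,0,3,3,3,4],2503,3),
   ([4,2,0,0,2,1,1],2504,0),
   ([3,2,1,3,4,2,2],2504,1),
   ([2,0,4,4,1,0,2],2504,2),
   ([0,2,4,4,4,4,3],2504,3),
   ([3,4,1,3,0,0,2],2505,0),
   ([1,4,0,2,4,4,2],2505,1),
   ([2,3,0,1,1,2,2],2505,2),
   ([0,2,2,2,0,2,3],2508,1),
   ([0,2,3,3,3,4,3],2508,2),
   ([2,0,4,4,3,4,3],2509,1),
   ([3,1,4,0,1,1,3],2509,2),
   ([1,3,4,1,3,3,0],2509,3),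
   ([4,0,0,0,0,4,3],2510,1),
   ([4,4,0,4,3,1,3],2510,2),
   ([1,3,0,0,0,1,0],2510,3),
   ([2,2,0,0,0,4,0],2511,0),
   ([0,2,0,4,4,1,4],2511,2),
   ([1,4,0,0,0,0,2],2511,3),
   ([3,4,0,0,0,2,0],2512,0),
   ([2,1,0,2,2,3,2],2512,2),
   ([3,2,0,0,0,3,1],2512,3),
   ([2,3,4,0,1,3,1],2513,0),
   ([2,0,0,1,4,3,4],2513,2),
   ([3,4,0,4,0,3,0],2513,3),
   ([4,3,2,3,0,0,4],2514,1),
   ([0,3,1,2,4,1,4],2514,2),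
   ([1,4,1,3,0,4,2],2514,3),
   ([4,0,0,3,1,1,4],2515,0),
   ([0,3,3,1,4,3,0],2515,1),
   ([2,4,0,4,4,3,0],2515,2),
   ([3,0,0,2,4,3,2],2515,3),
   ([3,2,1,3,0,3,4],2517,0),
   ([3,0,0,2,1,1,2],2517,2),
   ([1,2,0,3,4,2,0],2517,3),
   ([1,1,3,1,4,4,0],2518,0),
   ([4,4,2,0,3,0,4],2518,1),
   ([0,2,0,1,2,1,4],2518,2),
   ([1,4,0,2,3,0,1],2518,3),
   ([4,3,3,4,4,3,0],2519,1),
   ([2,0,4,2,4,3,0],2519,2),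
   ([3,2,0,2,3,0,2],2520,0),
   ([2,2,3,1,4,2,0],2520,3),
   ([1,1,3,1,3,4,3],2521,0),
   ([4,4,4,1,1,1,2],2521,1),
   ([2,0,3,1,3,4,2],2521,2),
   ([4,2,3,0,1,0,1],2521,3),
   ([1,3,3,2,4,2,0],2522,2),
   ([4,1,2,4,1,3,1],2523,0),
   ([4,0,3,0,2,2,4],2523,1),
   ([4,3,0,0,1,3,4],2523,2),
   ([3,4,0,3,2,1,0],2523,3),
   ([1,3,1,3,1,3,4],2524,1),
   ([4,4,1,2,1,2,2],2524,3),
   ([0,3,4,3,0,3,3],2526,3),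
   ([0,4,2,0,3,1,2],2527,0),
   ([1,3,0,2,0,2,2],2527,3),
   ([3,3,1,4,3,1,1],2528,3),
   ([0,4,4,3,0,1,1],2529,0),
   ([2,2,1,2,2,0,2],2529,2),
   ([0,2,1,2,0,2,2],2529,3),
   ([0,4,2,2,3,0,4],2530,0),
   ([1,3,4,0,3,3,4],2530,1),
   ([4,4,2,2,3,2,2],2530,3),
   ([3,4,4,2,1,3,3],2531,2),
   ([3,3,4,0,3,3,3],2531,3),
   ([2,1,3,3,4,4,4],2532,0),
   ([4,1,2,3,1,3,3],2532,1),
   ([1,0,2,2,4,0,3],2532,2),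
   ([0,3,2,2,1,2,4],2532,3),
   ([2,2,2,2,3,4,4],2533,0),
   ([3,2,2,2,1,0,3],2533,2),
   ([0,1,2,2,0,4,1],2534,0),
   ([4,2,0,3,2,2,0],2534,1),
   ([2,0,1,1,2,3,3],2534,3),
   ([4,3,2,0,4,2,0],2535,0),
   ([2,4,2,1,2,0,2],2535,1),
   ([1,4,2,1,4,3,2],2535,2),
   ([3,2,2,4,2,2,1],2535,3),
   ([1,1,2,2,2,0,2],2536,2),
   ([2,3,2,0,2,4,0],2537,0),
   ([2,0,1,3,3,0,4],2537,1),
   ([4,4,3,4,2,1,4],2537,2),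
   ([4,4,0,4,2,3,0],2538,1),
   ([3,0,0,0,1,1,4],2539,0),
   ([0,1,3,4,2,3,0],2539,1),
   ([2,2,2,4,2,3,0],2539,2),
   ([0,3,1,0,4,4,4],2540,2),
   ([4,4,1,4,0,4,1],2540,3),
   ([1,4,2,1,0,0,3],2541,0),
   ([1,4,0,3,1,3,3],2541,2),
   ([3,3,0,1,3,4,0],2541,3),
   ([4,4,2,0,1,4,4],2542,0),
   ([4,2,1,3,4,0,3],2542,2),
   ([0,3,1,3,1,0,4],2542,3),
   ([2,2,1,4,0,3,2],2543,0),
   ([4,0,1,4,3,4,0],2543,2),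
   ([4,0,1,3,3,0,2],2543,3),
   ([1,1,3,3,1,1,4],2544,0),
   ([4,3,1,3,0,3,0],2544,2),
   ([3,1,1,2,3,4,4],2545,0),
   ([1,1,0,4,4,0,3],2545,2),
   ([0,3,0,4,1,4,2],2545,3),
   ([3,3,0,2,3,3,0],2546,0),
   ([2,2,4,0,4,0,3],2546,1),
   ([2,2,3,4,2,2,3],2546,2),
   ([2,3,3,1,4,0,3],2546,3),
   ([4,0,1,1,0,0,2],2547,0),
   ([4,2,3,1,3,2,2],2547,2),
   ([2,2,3,3,1,3,2],2547,3),
   ([4,1,3,0,3,2,0],2548,0),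
   ([4,0,4,2,2,0,2],2548,1),
   ([1,2,3,2,3,4,0],2549,2),
   ([4,0,3,1,3,1,1],2549,3),
   ([1,2,3,4,1,3,1],2551,2),
   ([4,1,1,3,0,1,3],2552,0),
   ([4,4,0,1,3,2,4],2552,2),
   ([2,4,0,3,4,1,0],2552,3),
   ([1,4,3,0,1,3,1],2553,0),
   ([1,0,3,4,3,2,4],2553,1)]

/-- A block of images of the fixed vector. -/
def vOrbB51 : List (List ℕ × ℕ × ℕ) :=
  [([3,4,3,3,2,3,4],2553,2),
   ([3,4,3,1,3,4,0],2553,3),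
   ([0,1,3,3,4,1,0],2554,2),
   ([3,2,3,1,2,3,1],2555,0),
   ([3,0,1,2,4,2,4],2555,1),
   ([3,4,1,3,4,2,0],2555,3),
   ([4,4,1,0,0,2,0],2556,0),
   ([1,1,0,0,2,0,2],2556,1),
   ([3,4,2,0,4,3,2],2556,2),
   ([3,2,2,3,2,0,4],2556,3),
   ([4,2,4,2,4,3,4],2557,0),
   ([3,2,2,4,4,3,2],2557,1),
   ([3,1,3,4,1,1,2],2557,2),
   ([1,2,3,0,4,4,3],2557,3),
   ([4,2,1,3,4,4,0],2558,0),
   ([3,3,3,0,1,1,4],2558,2),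
   ([1,4,3,1,2,4,3],2558,3),
   ([0,4,4,3,1,2,0],2559,0),
   ([0,3,3,1,4,3,2],2559,2),
   ([3,2,3,4,2,2,2],2559,3),
   ([0,0,4,0,3,4,2],2560,2),
   ([4,1,3,1,3,1,0],2561,0),
   ([1,1,3,1,2,4,1],2561,2),
   ([4,3,2,1,2,1,3],2562,0),
   ([2,4,1,2,2,1,4],2562,1),
   ([4,2,4,3,1,2,4],2562,2),
   ([2,4,4,0,2,2,1],2562,3),
   ([0,4,4,0,2,4,1],2563,1),
   ([3,1,1,3,2,4,1],2563,3),
   ([1,1,4,2,1,2,4],2564,0),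
   ([4,4,3,2,3,3,1],2564,1),
   ([3,0,2,2,4,2,1],2564,2),
   ([2,1,2,4,3,0,1],2564,3),
   ([1,2,4,0,2,4,2],2565,0),
   ([3,1,2,1,2,3,4],2565,3),
   ([1,2,2,2,1,3,0],2566,1),
   ([0,1,4,3,1,3,0],2566,2),
   ([0,2,0,1,1,1,4],2567,0),
   ([3,0,3,2,1,1,1],2567,3),
   ([4,4,4,3,3,3,4],2568,1),
   ([3,1,1,3,2,0,3],2569,0),
   ([4,3,1,0,3,1,3],2569,1),
   ([3,3,4,2,3,4,2],2569,3),
   ([4,4,2,1,4,4,4],2570,0),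
   ([2,4,3,4,4,0,3],2570,2),
   ([2,2,1,0,3,0,2],2571,0),
   ([2,4,3,2,0,2,2],2571,2),
   ([2,2,3,4,3,0,2],2571,3),
   ([4,1,3,4,1,1,4],2572,0),
   ([4,0,3,0,4,3,0],2572,1),
   ([2,4,2,3,4,3,0],2572,2),
   ([2,2,1,3,1,4,4],2573,0),
   ([3,3,3,1,1,3,3],2573,1),
   ([0,3,2,0,1,0,2],2573,3),
   ([0,2,1,2,2,3,0],2574,0),
   ([3,4,1,1,4,0,3],2574,1),
   ([1,1,3,0,2,2,3],2574,2),
   ([2,3,3,2,4,1,1],2574,3),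
   ([4,3,3,1,3,3,2],2575,2),
   ([3,2,3,4,1,3,2],2575,3),
   ([4,0,4,1,1,2,1],2576,1),
   ([1,4,3,4,2,1,1],2576,2),
   ([4,1,2,4,0,1,1],2577,0),
   ([4,0,0,1,0,2,2],2577,1),
   ([1,2,3,1,2,0,2],2577,2),
   ([2,2,4,1,1,4,1],2579,1),
   ([2,4,3,2,2,3,1],2579,2),
   ([1,3,4,1,0,2,4],2580,0),
   ([2,3,0,4,2,3,1],2580,1),
   ([0,0,4,0,3,2,1],2580,2),
   ([2,1,4,2,2,1,2],2580,3),
   ([3,2,4,2,4,2,3],2581,2),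
   ([2,2,2,2,1,3,0],2582,0),
   ([2,2,3,1,2,2,3],2582,2),
   ([2,3,3,3,4,0,2],2582,3),
   ([2,2,2,1,1,3,1],2583,1),
   ([4,3,3,2,0,3,0],2584,0),
   ([2,4,0,3,4,0,3],2584,1),
   ([2,3,3,4,4,2,1],2584,3),
   ([0,2,4,4,0,1,1],2585,2),
   ([1,1,2,4,3,4,1],2586,0),
   ([4,4,4,3,1,2,0],2586,1),
   ([1,1,4,0,1,2,0],2586,2),
   ([2,0,4,2,1,0,1],2586,3),
   ([2,4,2,3,0,4,1],2587,0),
   ([1,2,0,2,1,2,0],2587,1),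
   ([2,0,2,1,1,1,3],2587,3),
   ([3,4,0,0,3,2,0],2588,1),
   ([1,1,3,0,3,2,0],2588,2),
   ([0,3,3,2,3,1,1],2589,0),
   ([2,1,4,0,2,0,2],2589,2),
   ([0,2,4,0,0,4,4],2589,3),
   ([3,1,4,1,0,2,0],2590,0),
   ([4,3,0,4,2,0,2],2590,1),
   ([2,4,4,4,4,3,2],2590,2),
   ([3,2,4,2,2,4,2],2590,3),
   ([4,2,4,0,4,0,4],2591,2),
   ([1,3,0,4,0,2,4],2592,0),
   ([2,3,0,1,1,3,1],2592,1),
   ([2,1,4,0,1,1,2],2592,3),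
   ([4,3,3,1,4,3,0],2593,1),
   ([1,4,0,4,4,3,0],2593,2),
   ([4,0,0,3,2,4,4],2594,0),
   ([0,3,1,0,1,3,3],2594,1),
   ([0,1,2,4,4,0,3],2594,2),
   ([0,3,2,4,1,3,2],2594,3),
   ([2,4,4,3,2,3,0],2595,0),
   ([4,2,0,4,2,2,3],2595,2),
   ([2,3,0,1,4,1,3],2595,3),
   ([2,3,0,2,3,1,2],2596,2),
   ([4,1,2,3,0,3,1],2597,1),
   ([2,0,1,1,1,2,1],2597,2),
   ([4,0,0,0,2,2,3],2598,2),
   ([2,3,0,2,4,1,2],2598,3),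
   ([1,0,0,1,2,2,3],2599,1),
   ([1,4,0,0,0,4,3],2599,2),
   ([1,3,1,3,0,4,3],2600,0),
   ([4,0,0,4,1,4,2],2600,2),
   ([2,3,4,1,3,1,2],2601,1),
   ([4,0,0,4,0,4,2],2601,2),
   ([4,4,0,1,4,2,4],2602,0),
   ([1,0,4,1,3,2,1],2602,2),
   ([2,1,4,3,2,0,4],2602,3),
   ([2,0,1,4,2,2,3],2603,1),
   ([2,0,0,3,0,4,3],2603,2)]

/-- A block of images of the fixed vector. -/
def vOrbB52 : List (List ℕ × ℕ × ℕ) :=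
  [([2,1,3,2,2,3,4],2604,2),
   ([4,2,1,4,3,3,4],2605,0),
   ([3,2,4,3,4,3,2],2605,1),
   ([1,2,2,4,4,4,3],2605,3),
   ([4,2,3,0,3,0,2],2606,0),
   ([4,0,2,3,4,2,2],2606,2),
   ([2,2,2,0,2,4,3],2606,3),
   ([3,4,0,4,0,4,3],2607,0),
   ([1,4,0,1,1,1,2],2607,1),
   ([3,0,4,1,3,4,2],2607,2),
   ([4,2,4,0,1,3,1],2607,3),
   ([0,1,4,0,4,4,0],2608,2),
   ([4,0,4,4,4,1,3],2608,3),
   ([3,4,4,3,2,0,1],2609,0),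
   ([2,0,0,0,0,1,1],2609,2),
   ([1,1,0,1,4,3,1],2609,3),
   ([2,2,4,0,3,1,1],2610,0),
   ([3,3,4,2,4,2,2],2610,1),
   ([1,4,4,3,1,0,2],2610,2),
   ([0,2,4,3,4,0,2],2610,3),
   ([1,0,4,0,3,0,0],2612,2),
   ([4,3,2,2,3,0,0],2613,0),
   ([2,4,4,0,3,0,0],2613,1),
   ([1,3,2,2,3,0,0],2613,2),
   ([0,0,2,2,3,2,1],2613,3),
   ([4,3,4,3,4,0,0],2614,1),
   ([0,0,2,4,4,4,2],2614,3),
   ([4,0,2,2,3,0,0],2615,0),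
   ([0,3,4,0,3,0,0],2615,1),
   ([0,0,2,2,3,3,2],2615,3),
   ([2,1,2,4,4,0,0],2616,0),
   ([4,1,2,2,3,0,0],2616,1),
   ([0,0,1,4,3,2,4],2616,3),
   ([1,0,4,1,3,3,1],2618,2),
   ([1,2,4,3,4,0,0],2619,1),
   ([0,0,2,4,4,1,3],2619,3),
   ([1,0,2,2,3,0,0],2620,0),
   ([0,2,4,0,3,0,0],2620,1),
   ([0,0,2,2,3,2,3],2620,3),
   ([0,0,2,4,4,2,1],2621,0),
   ([4,4,1,0,1,4,3],2621,2),
   ([1,4,2,2,3,0,0],2622,1),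
   ([0,0,1,4,3,3,1],2622,3),
   ([4,0,1,4,4,2,1],2623,2),
   ([3,0,4,0,4,1,2],2624,0),
   ([0,1,2,1,1,4,3],2624,1),
   ([3,0,1,4,4,1,3],2624,2),
   ([1,3,1,0,1,1,4],2624,3),
   ([3,3,2,0,4,3,1],2626,2),
   ([1,2,2,1,4,3,1],2627,0),
   ([3,1,2,0,1,2,4],2627,1),
   ([4,1,3,1,0,3,4],2627,2),
   ([3,4,3,4,1,3,4],2627,3),
   ([3,4,4,3,4,0,0],2628,1),
   ([0,0,2,4,4,1,1],2628,3),
   ([0,3,2,2,3,0,0],2629,0),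
   ([2,1,4,0,3,0,0],2629,1),
   ([0,0,2,2,3,4,4],2629,3),
   ([0,0,1,4,3,1,1],2630,3),
   ([4,3,1,4,2,0,4],2631,2),
   ([3,0,1,2,1,4,0],2633,0),
   ([1,4,1,0,2,1,4],2633,3),
   ([2,2,2,2,3,0,0],2634,1),
   ([1,0,0,3,2,2,1],2636,0),
   ([0,2,1,0,1,2,3],2636,1),
   ([1,1,2,0,4,4,3],2636,2),
   ([4,3,2,4,1,2,3],2636,3),
   ([4,0,2,4,0,1,2],2637,0),
   ([0,3,0,1,0,4,3],2637,1),
   ([4,4,3,0,3,1,3],2637,2),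
   ([1,3,3,1,0,3,2],2637,3),
   ([1,3,2,1,2,1,2],2638,0),
   ([0,2,4,4,0,1,3],2638,2),
   ([1,4,4,0,2,0,4],2639,1),
   ([2,0,0,3,2,1,3],2640,0),
   ([0,4,1,0,1,1,4],2640,1),
   ([2,4,2,4,1,4,1],2640,3),
   ([3,0,4,3,4,0,0],2641,1),
   ([4,4,2,2,3,0,0],2642,0),
   ([1,1,4,0,3,0,0],2642,1),
   ([4,2,1,3,2,1,4],2643,2),
   ([3,3,2,2,3,0,0],2644,1),
   ([0,0,1,4,3,0,2],2644,3),
   ([4,1,0,2,2,1,3],2646,0),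
   ([2,4,1,4,2,1,0],2646,3),
   ([1,4,1,4,4,3,1],2648,0),
   ([2,4,4,3,0,3,4],2648,2),
   ([3,4,4,1,1,4,0],2648,3),
   ([4,1,1,2,1,2,3],2649,2),
   ([2,3,1,3,1,2,3],2650,1),
   ([3,3,1,3,4,4,3],2650,2),
   ([2,0,2,1,1,2,3],2651,1),
   ([1,1,1,1,4,4,3],2651,2),
   ([1,1,3,2,0,3,4],2652,0),
   ([4,4,0,3,4,3,2],2652,1),
   ([2,1,3,3,1,1,2],2652,2),
   ([2,3,1,4,4,4,3],2653,0),
   ([0,3,4,1,0,4,1],2654,2),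
   ([4,1,4,0,4,1,3],2654,3),
   ([4,4,4,0,3,0,0],2655,1),
   ([4,4,1,0,4,4,1],2656,2),
   ([3,2,1,0,0,3,1],2657,2),
   ([1,3,2,1,4,1,3],2659,0),
   ([2,3,2,0,1,1,4],2659,1),
   ([3,4,4,2,4,4,2],2660,0),
   ([1,4,2,4,4,4,1],2660,1),
   ([2,0,3,1,0,2,4],2661,0),
   ([2,1,2,4,0,4,1],2661,3),
   ([1,2,3,4,1,2,4],2662,0),
   ([0,1,2,4,0,2,1],2662,2),
   ([0,3,4,3,4,0,0],2663,1),
   ([0,1,2,4,4,0,0],2663,2),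
   ([2,0,4,0,3,0,0],2664,1),
   ([0,0,2,2,3,3,0],2664,3),
   ([0,0,2,4,4,1,4],2665,0),
   ([4,0,1,1,3,3,0],2665,2),
   ([0,2,1,4,0,1,4],2666,0),
   ([3,4,0,1,3,3,0],2666,1),
   ([3,2,1,0,3,3,0],2666,2),
   ([3,0,1,3,3,1,1],2666,3),
   ([1,4,4,2,2,0,3],2667,0),
   ([1,0,1,1,0,1,3],2667,1),
   ([2,4,4,3,3,3,3],2667,2),
   ([3,3,4,1,0,4,0],2667,3),
   ([0,0,2,4,4,2,3],2668,0)]

/-- A block of images of the fixed vector. -/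
def vOrbB53 : List (List ℕ × ℕ × ℕ) :=
  [([0,0,2,2,3,1,0],2668,1),
   ([2,3,4,0,3,2,3],2669,0),
   ([1,0,4,3,4,3,0],2669,3),
   ([1,1,3,2,2,3,3],2670,0),
   ([3,0,2,3,4,0,1],2670,2),
   ([0,1,2,3,3,0,1],2670,3),
   ([2,3,2,0,0,1,0],2671,0),
   ([2,0,0,0,4,0,1],2671,1),
   ([3,3,4,2,0,4,1],2671,2),
   ([4,1,4,1,4,3,0],2671,3),
   ([3,0,4,3,4,1,0],2672,0),
   ([0,2,4,1,4,4,1],2672,2),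
   ([4,1,4,0,3,1,4],2672,3),
   ([3,0,2,2,4,1,1],2674,2),
   ([1,4,2,0,0,2,0],2676,0),
   ([1,0,0,0,4,0,2],2676,1),
   ([3,2,4,1,4,4,0],2676,3),
   ([0,4,3,0,3,3,1],2677,0),
   ([1,3,4,2,2,2,4],2677,1),
   ([1,0,2,2,1,3,4],2677,2),
   ([3,4,2,0,2,2,2],2677,3),
   ([4,1,0,4,2,3,4],2678,2),
   ([3,4,0,2,3,1,0],2678,3),
   ([2,2,1,0,1,2,0],2679,0),
   ([3,3,3,4,4,0,2],2679,1),
   ([3,2,4,0,4,0,2],2679,3),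
   ([3,4,4,1,1,3,2],2680,1),
   ([1,3,3,4,3,1,2],2680,2),
   ([1,2,3,0,1,1,1],2680,3),
   ([4,2,0,2,3,2,0],2681,0),
   ([3,1,3,3,1,3,2],2681,2),
   ([3,2,3,1,4,4,3],2681,3),
   ([4,0,1,1,0,3,2],2682,2),
   ([3,0,2,3,2,3,4],2683,0),
   ([0,1,1,0,0,3,2],2683,1),
   ([1,0,0,1,0,2,3],2684,1),
   ([3,3,3,2,3,4,3],2684,2),
   ([0,3,3,0,3,4,3],2685,0),
   ([4,2,2,1,4,4,2],2685,2),
   ([4,2,2,0,2,4,4],2685,3),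
   ([2,4,3,1,0,3,0],2686,0),
   ([2,3,2,4,0,1,3],2686,3),
   ([1,2,4,2,3,2,3],2687,1),
   ([1,1,3,0,1,4,3],2687,2),
   ([2,2,3,3,1,4,3],2688,0),
   ([3,3,3,1,0,1,2],2688,1),
   ([4,2,1,1,0,0,2],2688,3),
   ([2,4,3,4,3,2,1],2689,0),
   ([3,3,1,1,1,4,3],2689,2),
   ([3,1,4,0,2,1,0],2690,1),
   ([1,0,1,3,2,3,4],2690,3),
   ([0,3,4,4,0,4,1],2691,2),
   ([4,1,4,3,4,1,4],2691,3),
   ([0,3,4,0,2,2,4],2692,2),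
   ([2,4,4,2,3,1,4],2692,3),
   ([3,0,2,0,3,1,2],2693,1),
   ([3,0,0,3,0,4,2],2693,2),
   ([4,4,1,0,1,1,0],2694,0),
   ([1,2,4,1,0,4,1],2694,2),
   ([4,1,4,0,4,0,4],2694,3),
   ([1,0,4,3,0,4,1],2695,1),
   ([3,3,3,0,1,3,1],2695,2),
   ([3,1,3,3,0,4,0],2695,3),
   ([2,1,0,2,3,4,0],2696,0),
   ([0,2,3,0,3,1,4],2696,2),
   ([1,4,3,1,4,2,4],2696,3),
   ([1,2,3,4,3,4,2],2697,0),
   ([1,3,1,2,4,3,1],2697,2),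
   ([3,1,1,0,3,3,4],2697,3),
   ([1,1,2,3,2,2,4],2698,1),
   ([3,4,3,1,2,0,4],2698,3),
   ([0,4,4,2,4,0,0],2700,0),
   ([0,0,3,0,4,4,4],2701,1),
   ([3,2,2,1,3,0,4],2701,2),
   ([3,4,1,4,1,0,4],2702,0),
   ([4,0,3,1,4,4,4],2702,2),
   ([0,4,3,2,2,0,2],2703,0),
   ([1,3,1,1,3,4,2],2703,1),
   ([1,2,2,1,0,2,2],2703,2),
   ([2,2,2,3,3,2,2],2703,3),
   ([3,4,0,1,1,2,2],2704,2),
   ([4,4,2,1,1,0,4],2705,0),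
   ([1,1,3,3,0,3,4],2705,1),
   ([3,3,2,4,4,4,4],2705,2),
   ([0,4,1,3,4,2,3],2706,3),
   ([1,1,0,3,4,4,0],2707,0),
   ([4,4,1,2,4,1,4],2707,2),
   ([2,1,3,2,1,2,0],2708,2),
   ([0,2,0,0,3,4,1],2709,0),
   ([3,4,4,2,1,2,0],2709,1),
   ([3,4,1,4,1,2,0],2709,2),
   ([2,0,1,1,1,1,1],2709,3),
   ([1,4,3,4,4,0,1],2710,1),
   ([3,0,4,1,0,4,1],2710,2),
   ([3,2,2,0,1,4,1],2711,0),
   ([3,0,3,4,1,2,0],2711,1),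
   ([2,4,1,1,1,2,0],2711,2),
   ([2,0,1,3,1,2,0],2711,3),
   ([2,3,4,0,4,1,2],2712,0),
   ([1,4,1,4,4,1,3],2712,2),
   ([1,3,1,0,1,3,0],2712,3),
   ([1,3,1,2,3,3,2],2713,0),
   ([2,3,4,0,1,4,0],2713,1),
   ([4,2,0,0,1,4,0],2713,2),
   ([4,0,0,4,1,1,2],2713,3),
   ([3,0,2,0,1,4,0],2714,1),
   ([0,4,3,0,1,4,0],2714,2),
   ([4,0,3,4,1,2,0],2714,3),
   ([4,2,3,3,1,1,0],2715,3),
   ([2,1,2,2,2,2,2],2716,2),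
   ([2,2,2,4,0,1,0],2716,3),
   ([3,3,2,1,0,3,4],2717,1),
   ([4,4,0,1,0,0,2],2717,3),
   ([4,1,0,2,3,2,2],2718,0),
   ([1,2,3,1,3,0,4],2718,2),
   ([1,1,2,4,0,2,0],2719,0),
   ([3,2,3,1,0,0,1],2719,3),
   ([4,1,0,2,0,4,0],2720,2),
   ([3,4,2,3,4,2,2],2721,0),
   ([1,4,2,3,4,4,4],2721,1),
   ([2,2,0,4,3,0,4],2721,2),
   ([0,4,0,4,4,3,1],2721,3),
   ([4,0,2,4,4,4,0],2722,0),
   ([0,3,2,2,3,0,4],2722,1),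
   ([1,0,1,3,2,1,4],2722,2)]

/-- A block of images of the fixed vector. -/
def vOrbB54 : List (List ℕ × ℕ × ℕ) :=
  [([2,0,0,1,0,2,4],2723,0),
   ([0,2,1,3,0,2,1],2723,2),
   ([2,1,1,0,4,4,1],2723,3),
   ([2,0,0,4,1,2,4],2724,1),
   ([4,3,3,0,0,3,4],2724,2),
   ([3,3,4,3,4,0,0],2726,1),
   ([0,0,2,4,4,0,2],2726,3),
   ([1,2,2,2,3,0,0],2727,0),
   ([3,1,4,0,3,0,0],2727,1),
   ([0,0,2,2,3,3,4],2727,3),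
   ([0,0,1,4,3,0,1],2728,3),
   ([0,0,2,4,4,0,4],2729,0),
   ([4,4,1,0,2,4,4],2729,2),
   ([1,1,4,2,4,2,2],2730,2),
   ([2,4,2,2,0,2,2],2731,0),
   ([1,2,0,3,2,4,4],2731,1),
   ([3,4,1,1,1,0,4],2731,2),
   ([0,4,1,1,2,1,3],2731,3),
   ([0,4,1,3,1,0,3],2732,0),
   ([1,3,3,1,1,1,3],2732,1),
   ([1,0,2,2,4,3,3],2732,2),
   ([3,3,2,0,1,2,2],2732,3),
   ([1,0,2,2,2,3,2],2733,0),
   ([0,2,1,1,1,4,0],2733,1),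
   ([3,3,0,1,1,4,0],2733,2),
   ([4,0,0,0,1,2,3],2733,3),
   ([0,4,3,4,2,2,0],2734,3),
   ([3,1,2,3,0,4,0],2735,0),
   ([4,3,0,2,1,0,4],2735,1),
   ([4,4,2,0,0,1,4],2735,2),
   ([1,4,2,1,1,4,2],2735,3),
   ([2,0,0,0,1,4,1],2736,0),
   ([2,0,2,2,2,4,1],2736,3),
   ([1,4,4,0,1,4,4],2738,2),
   ([0,0,2,4,4,4,4],2739,0),
   ([0,0,2,2,3,3,3],2739,1),
   ([4,3,1,4,1,0,3],2739,2),
   ([4,1,3,0,0,3,0],2740,0),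
   ([4,0,0,0,1,0,3],2740,1),
   ([3,1,1,2,4,2,3],2740,2),
   ([2,3,1,4,1,1,0],2740,3),
   ([0,2,4,2,2,1,0],2741,1),
   ([1,0,2,0,2,2,3],2741,3),
   ([4,2,0,4,2,1,0],2742,1),
   ([1,0,4,2,2,3,3],2742,3),
   ([1,4,0,1,4,2,1],2743,0),
   ([4,3,4,3,2,4,0],2743,3),
   ([0,0,2,4,4,0,3],2744,0),
   ([0,0,2,2,3,1,3],2744,1),
   ([4,0,1,1,1,3,3],2744,2),
   ([2,4,0,0,3,4,4],2745,0),
   ([1,2,4,2,1,3,3],2745,1),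
   ([0,3,1,1,1,1,3],2745,3),
   ([3,4,4,2,0,4,4],2746,0),
   ([2,3,0,2,4,0,3],2746,2),
   ([0,3,0,2,1,3,1],2746,3),
   ([2,0,1,4,3,3,0],2747,0),
   ([0,4,4,3,4,0,3],2747,1),
   ([4,0,2,2,2,2,3],2747,2),
   ([2,3,2,4,4,4,1],2747,3),
   ([4,0,2,3,0,2,4],2748,0),
   ([0,3,2,4,2,2,1],2748,2),
   ([2,1,2,1,1,3,2],2748,3),
   ([4,0,4,1,4,3,3],2749,1),
   ([3,4,1,2,2,0,3],2749,2),
   ([0,3,1,2,4,1,0],2749,3),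
   ([2,4,0,3,2,0,3],2750,1),
   ([1,0,1,3,4,3,2],2751,3),
   ([4,2,1,0,0,0,3],2752,1),
   ([1,0,1,3,3,2,3],2752,2),
   ([2,3,1,0,0,3,3],2752,3),
   ([0,4,4,4,4,2,3],2753,0),
   ([1,3,2,2,2,1,0],2753,1),
   ([3,2,0,4,2,1,0],2753,2),
   ([1,0,0,0,2,2,2],2753,3),
   ([0,4,0,0,1,2,3],2754,0),
   ([1,0,2,2,2,2,2],2754,3),
   ([0,2,2,3,2,4,0],2755,3),
   ([2,2,1,3,0,0,3],2756,1),
   ([0,1,0,1,3,2,3],2756,2),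
   ([2,3,0,3,0,0,3],2756,3),
   ([3,2,0,1,2,1,0],2757,2),
   ([1,4,0,3,0,0,1],2758,0),
   ([2,0,3,1,2,4,1],2759,0),
   ([0,4,1,2,4,2,0],2759,1),
   ([0,3,1,1,4,2,0],2759,2),
   ([2,0,1,3,4,4,1],2759,3),
   ([4,2,2,2,3,0,0],2761,1),
   ([2,1,0,4,2,2,0],2763,1),
   ([2,0,4,2,2,4,4],2763,3),
   ([0,2,4,3,4,0,1],2765,1),
   ([1,1,2,0,0,4,1],2765,2),
   ([0,3,0,4,1,4,1],2766,2),
   ([4,1,0,3,0,0,4],2766,3),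
   ([4,1,3,3,2,4,1],2767,0),
   ([4,0,1,0,2,2,0],2767,1),
   ([2,0,3,3,2,1,0],2767,3),
   ([0,4,4,1,3,1,0],2769,2),
   ([1,0,4,2,3,1,4],2769,3),
   ([4,1,2,1,2,3,3],2770,0),
   ([0,0,4,0,3,0,1],2770,2),
   ([0,1,4,0,2,1,0],2770,3),
   ([0,2,2,2,3,0,1],2771,1),
   ([4,1,1,4,3,2,3],2771,3),
   ([3,0,4,2,3,2,3],2772,0),
   ([2,3,2,2,3,4,1],2773,2),
   ([4,1,2,1,2,1,0],2773,3),
   ([3,3,2,4,2,2,0],2774,1),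
   ([2,0,1,2,2,0,2],2774,3),
   ([2,1,0,1,4,4,1],2775,0),
   ([4,0,4,1,2,2,0],2775,2),
   ([2,0,4,3,2,2,4],2775,3),
   ([2,3,2,1,2,2,0],2776,0),
   ([3,2,4,2,4,3,2],2776,2),
   ([3,2,4,0,2,3,0],2776,3),
   ([1,0,1,2,0,0,1],2777,1),
   ([4,0,2,3,1,4,1],2777,2),
   ([3,3,2,4,1,4,1],2778,0),
   ([0,1,0,1,2,2,0],2778,2),
   ([2,0,0,3,2,0,3],2778,3),
   ([4,2,1,1,2,2,0],2779,1),
   ([2,3,2,2,0,3,0],2780,0),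
   ([1,0,1,4,0,2,3],2780,2),
   ([4,0,1,3,2,3,1],2781,0),
   ([3,4,4,2,3,3,2],2781,3)]

/-- A block of images of the fixed vector. -/
def vOrbB55 : List (List ℕ × ℕ × ℕ) :=
  [([1,2,1,2,4,4,0],2782,3),
   ([2,3,0,2,3,0,3],2785,0),
   ([2,0,4,0,4,1,3],2785,1),
   ([4,4,3,3,2,3,3],2785,2),
   ([0,3,3,2,1,4,4],2786,2),
   ([4,4,3,1,2,2,0],2786,3),
   ([4,4,2,1,3,0,3],2787,0),
   ([1,1,4,1,4,1,3],2787,1),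
   ([4,2,1,4,2,3,3],2787,2),
   ([1,0,4,2,3,4,4],2788,0),
   ([0,2,4,0,2,3,3],2788,1),
   ([0,3,1,3,2,2,3],2788,3),
   ([2,2,3,1,2,4,0],2789,0),
   ([4,3,1,2,3,1,4],2789,2),
   ([1,4,1,3,4,0,2],2789,3),
   ([0,3,1,3,0,3,0],2790,1),
   ([2,1,0,0,0,3,0],2790,2),
   ([3,2,1,0,4,4,2],2791,0),
   ([3,4,0,3,1,3,1],2791,2),
   ([2,4,2,4,3,4,4],2792,2),
   ([4,4,2,3,4,1,3],2792,3),
   ([1,0,0,4,4,0,3],2793,0),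
   ([1,0,2,0,2,3,3],2793,2),
   ([1,4,3,4,0,4,4],2794,0),
   ([1,0,0,1,2,3,3],2794,1),
   ([1,3,0,4,0,0,3],2794,2),
   ([2,2,2,3,4,2,1],2795,0),
   ([0,2,0,0,2,4,3],2795,2),
   ([4,3,0,4,4,0,2],2795,3),
   ([4,3,4,4,3,3,0],2796,2),
   ([3,2,2,1,2,4,4],2797,0),
   ([3,0,1,2,2,3,3],2797,1),
   ([0,3,4,0,2,2,0],2797,3),
   ([4,0,4,2,3,4,1],2798,0),
   ([1,2,1,1,2,2,0],2798,2),
   ([4,1,1,0,4,3,4],2799,0),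
   ([4,0,2,1,0,3,2],2799,1),
   ([1,2,0,1,0,1,0],2799,3),
   ([4,4,1,4,2,0,4],2801,1),
   ([3,1,2,2,0,1,4],2802,0),
   ([4,3,0,3,2,3,0],2802,1),
   ([0,2,1,3,2,3,0],2802,2),
   ([3,0,1,1,2,4,2],2802,3),
   ([4,0,2,2,0,1,4],2803,0),
   ([0,3,0,3,2,3,0],2803,1),
   ([3,2,0,2,2,0,2],2804,0),
   ([2,1,1,2,4,2,2],2804,2),
   ([0,1,0,3,1,4,4],2805,2),
   ([4,4,0,2,2,0,4],2805,3),
   ([1,2,0,3,2,1,3],2806,1),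
   ([3,1,1,3,0,3,3],2806,2),
   ([1,4,1,3,3,4,4],2807,0),
   ([1,0,4,4,0,3,3],2807,1),
   ([0,3,1,4,3,0,3],2807,2),
   ([0,3,1,4,0,4,0],2807,3),
   ([2,2,0,2,2,0,3],2808,0),
   ([3,3,1,4,2,0,2],2808,3),
   ([1,3,0,2,0,3,0],2809,2),
   ([0,2,0,0,0,4,4],2810,0),
   ([3,4,0,0,0,3,3],2810,1),
   ([4,4,0,0,3,0,3],2810,2),
   ([0,3,0,0,0,1,1],2810,3),
   ([2,2,4,1,3,0,3],2811,1),
   ([0,1,0,1,1,2,3],2811,2),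
   ([2,3,0,0,1,0,1],2812,2),
   ([0,1,0,0,0,3,2],2812,3),
   ([4,1,0,2,2,0,4],2813,0),
   ([4,0,1,1,2,3,4],2813,1),
   ([3,4,1,0,1,4,4],2813,2),
   ([0,1,2,0,3,4,4],2814,0),
   ([4,2,4,2,0,3,3],2814,1),
   ([0,3,0,2,0,3,3],2814,3),
   ([4,0,4,3,0,4,4],2816,0),
   ([1,2,1,2,3,0,3],2816,2),
   ([0,3,1,2,0,3,2],2816,3),
   ([2,3,0,2,0,3,0],2817,0),
   ([2,3,2,0,3,3,0],2817,3),
   ([1,2,2,2,0,3,2],2818,3),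
   ([2,4,1,0,1,0,3],2819,1),
   ([1,0,2,2,4,2,3],2819,2),
   ([2,3,2,4,1,2,1],2819,3),
   ([0,4,0,2,2,1,0],2820,1),
   ([1,4,2,4,1,4,2],2821,0),
   ([1,3,0,0,3,3,1],2821,2),
   ([3,1,0,3,2,4,0],2821,3),
   ([4,0,1,0,2,3,0],2822,0),
   ([0,3,1,3,1,0,3],2822,1),
   ([1,0,1,0,4,2,3],2822,2),
   ([2,0,0,2,2,2,3],2823,0),
   ([0,4,1,1,2,1,0],2823,1),
   ([0,1,1,3,2,1,0],2823,2),
   ([1,0,1,4,2,4,1],2823,3),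
   ([3,0,1,0,2,4,0],2824,3),
   ([2,0,1,1,2,1,3],2825,0),
   ([0,0,2,4,4,2,4],2826,0),
   ([0,0,2,2,3,3,1],2826,1),
   ([1,4,1,2,2,4,0],2827,2),
   ([4,1,4,3,3,3,3],2828,1),
   ([0,4,0,4,0,3,0],2829,0),
   ([2,3,4,0,1,2,2],2829,3),
   ([3,0,1,3,2,0,3],2830,1),
   ([1,0,2,4,0,2,3],2830,2),
   ([1,4,2,1,2,4,0],2831,0),
   ([3,2,1,1,4,0,3],2832,1),
   ([3,4,3,0,2,2,3],2832,2),
   ([1,3,2,3,2,1,0],2833,2),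
   ([1,0,2,4,2,2,4],2833,3),
   ([2,0,2,2,0,2,3],2834,0),
   ([0,4,0,3,2,1,0],2834,1),
   ([1,0,1,1,2,4,1],2834,3),
   ([0,1,1,4,1,3,4],2835,2),
   ([0,4,1,0,3,4,3],2836,1),
   ([2,2,4,1,1,1,3],2836,2),
   ([1,0,1,1,0,3,3],2838,2),
   ([1,1,0,2,2,0,1],2839,0),
   ([4,1,1,3,3,1,1],2839,2),
   ([1,1,1,4,2,0,1],2839,3),
   ([4,3,2,0,3,1,1],2840,1),
   ([1,2,0,2,4,0,1],2840,2),
   ([0,1,0,3,3,4,1],2841,2),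
   ([0,4,1,3,3,3,3],2842,0),
   ([1,3,4,4,0,1,1],2842,1),
   ([2,1,1,4,1,0,1],2842,2),
   ([0,1,1,4,0,2,2],2842,3),
   ([2,4,2,1,3,0,1],2843,0)]

/-- A block of images of the fixed vector. -/
def vOrbB56 : List (List ℕ × ℕ × ℕ) :=
  [([3,0,1,1,0,1,1],2843,2),
   ([1,1,1,2,4,1,3],2843,3),
   ([0,2,1,3,1,0,3],2844,2),
   ([0,3,1,3,3,4,4],2844,3),
   ([0,1,0,2,3,4,4],2845,0),
   ([4,4,3,1,2,0,3],2845,2),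
   ([0,3,3,1,4,3,3],2845,3),
   ([0,3,3,0,4,0,1],2846,1),
   ([4,1,2,1,4,3,2],2846,3),
   ([2,3,1,3,1,4,1],2847,0),
   ([2,0,3,1,1,2,0],2847,1),
   ([0,3,2,3,1,2,0],2847,2),
   ([0,1,3,3,1,2,0],2848,1),
   ([1,3,3,0,1,2,0],2848,2),
   ([2,3,2,1,4,1,4],2849,0),
   ([4,0,3,1,1,3,0],2849,2),
   ([2,1,4,4,1,1,0],2850,1),
   ([4,1,2,2,1,1,0],2850,2),
   ([1,0,2,3,1,4,4],2850,3),
   ([0,2,3,0,1,3,3],2851,0),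
   ([1,1,3,1,4,0,1],2851,2),
   ([0,1,3,1,3,1,1],2851,3),
   ([0,3,0,0,2,1,0],2852,0),
   ([2,0,4,0,0,4,1],2852,2),
   ([4,1,4,4,4,4,4],2852,3),
   ([3,0,2,3,1,3,3],2853,0),
   ([0,1,4,3,3,1,4],2853,3),
   ([4,0,4,0,2,4,1],2854,2),
   ([4,1,4,4,1,2,4],2854,3),
   ([2,3,4,1,1,2,0],2855,1),
   ([1,1,3,3,1,2,0],2855,2),
   ([2,0,3,0,1,1,2],2855,3),
   ([3,4,2,4,3,4,1],2856,0),
   ([3,1,4,0,1,2,0],2856,2),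
   ([2,0,4,2,1,3,1],2856,3),
   ([2,3,4,4,1,4,3],2857,0),
   ([3,4,4,0,3,4,2],2857,2),
   ([4,2,4,4,1,3,0],2857,3),
   ([1,2,3,3,0,0,1],2858,1),
   ([1,0,4,2,0,4,1],2859,0),
   ([0,2,0,3,1,2,0],2859,1),
   ([3,4,0,0,1,2,0],2859,2),
   ([2,0,0,2,1,2,3],2859,3),
   ([2,4,0,3,2,4,1],2860,0),
   ([2,3,2,2,1,2,0],2860,2),
   ([2,0,2,4,1,1,3],2860,3),
   ([2,3,2,3,0,2,1],2861,0),
   ([0,3,2,2,4,4,3],2861,2),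
   ([4,3,2,1,1,3,0],2861,3),
   ([4,0,2,3,1,1,1],2862,0),
   ([0,3,3,1,3,2,2],2862,1),
   ([0,2,4,3,3,3,2],2862,3),
   ([1,1,1,2,4,0,2],2863,0),
   ([4,4,2,4,3,4,2],2863,1),
   ([3,4,2,4,0,2,2],2863,2),
   ([2,2,2,1,3,0,1],2863,3),
   ([2,2,4,3,4,0,0],2866,2),
   ([2,4,4,3,4,0,0],2867,2),
   ([0,0,4,3,4,4,2],2867,3),
   ([2,1,4,3,4,0,0],2868,1),
   ([1,1,4,4,1,3,2],2871,2),
   ([2,3,4,0,3,0,0],2872,0),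
   ([3,1,4,3,4,0,0],2872,2),
   ([0,0,4,3,4,3,0],2872,3),
   ([3,0,2,1,4,3,0],2873,2),
   ([1,3,4,1,3,1,4],2874,2),
   ([0,1,1,2,2,1,4],2875,0),
   ([4,2,1,1,4,3,0],2875,1),
   ([3,0,3,2,4,3,3],2875,3),
   ([1,4,4,1,1,4,0],2876,1),
   ([4,0,3,1,1,4,0],2876,2),
   ([4,0,3,0,1,3,1],2876,3),
   ([0,0,4,2,4,1,3],2877,3),
   ([1,2,4,0,1,2,2],2878,2),
   ([0,0,4,3,4,1,3],2879,3),
   ([3,0,2,1,2,3,3],2880,2),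
   ([1,0,4,2,4,0,0],2881,2),
   ([0,0,4,2,4,0,4],2881,3),
   ([0,0,4,2,4,0,3],2882,0),
   ([2,2,3,2,2,3,3],2882,2),
   ([4,4,4,2,4,0,0],2883,3),
   ([2,3,0,3,0,4,4],2884,0),
   ([2,0,0,2,2,3,3],2884,1),
   ([4,0,3,0,0,0,3],2884,2),
   ([0,3,3,0,2,3,0],2884,3),
   ([0,0,4,2,4,3,3],2886,0),
   ([2,0,3,0,0,0,1],2886,2),
   ([2,2,3,3,1,1,0],2888,2),
   ([1,3,1,2,0,0,1],2889,1),
   ([4,1,2,2,0,2,2],2889,3),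
   ([0,2,1,4,4,3,0],2890,1),
   ([3,2,4,0,2,4,4],2891,0),
   ([3,0,1,3,2,3,3],2891,1),
   ([0,3,2,1,2,2,0],2891,3),
   ([0,3,1,1,2,3,0],2892,0),
   ([4,3,2,0,3,2,3],2892,2),
   ([2,3,2,2,0,4,4],2892,3),
   ([4,0,2,0,4,4,1],2893,0),
   ([0,4,2,2,2,2,0],2893,2),
   ([4,1,4,0,3,0,0],2894,0),
   ([4,0,4,2,4,0,0],2894,1),
   ([0,1,4,3,4,0,0],2894,2),
   ([0,0,4,3,4,1,0],2894,3),
   ([3,2,2,3,4,1,0],2895,2),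
   ([1,2,4,0,2,2,3],2896,2),
   ([3,4,3,2,0,2,3],2897,0),
   ([1,4,0,3,4,1,0],2897,1),
   ([4,1,3,3,4,1,0],2897,2),
   ([1,0,3,4,4,3,1],2897,3),
   ([0,0,4,2,4,3,1],2898,3),
   ([3,2,4,3,4,0,0],2899,1),
   ([0,0,2,4,4,4,3],2899,3),
   ([4,3,1,0,0,0,3],2901,0),
   ([1,2,2,0,0,3,3],2901,2),
   ([3,1,2,1,2,0,3],2902,1),
   ([2,3,2,4,2,3,4],2902,3),
   ([3,0,4,1,1,2,3],2903,0),
   ([3,3,1,3,4,1,0],2903,2),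
   ([1,0,1,4,4,1,4],2903,3),
   ([1,0,4,3,4,1,0],2904,1),
   ([4,2,2,3,4,1,0],2904,2),
   ([1,4,2,4,2,1,3],2905,0),
   ([4,3,2,3,3,2,4],2905,2),
   ([2,4,2,0,4,4,0],2905,3),
   ([1,3,0,1,0,0,3],2906,0)]

/-- A block of images of the fixed vector. -/
def vOrbB57 : List (List ℕ × ℕ × ℕ) :=
  [([2,3,0,4,4,1,3],2906,1),
   ([3,3,1,0,4,1,2],2906,3),
   ([1,0,2,0,3,0,1],2907,0),
   ([0,2,4,2,0,2,1],2907,1),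
   ([3,0,0,1,1,1,1],2907,2),
   ([1,1,0,2,0,2,3],2907,3),
   ([3,2,4,1,3,0,2],2908,0),
   ([2,2,0,3,3,2,0],2908,3),
   ([1,4,4,1,4,1,1],2909,0),
   ([1,0,2,0,0,2,2],2909,1),
   ([4,0,2,0,2,0,2],2909,2),
   ([0,2,2,0,0,4,0],2909,3),
   ([3,3,0,2,0,4,1],2910,0),
   ([2,0,2,0,3,0,3],2910,3),
   ([0,0,3,0,4,2,3],2911,3),
   ([3,3,2,2,2,4,3],2912,2),
   ([3,2,4,1,4,2,2],2913,0),
   ([3,0,2,0,0,4,4],2913,1),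
   ([1,0,2,0,4,0,4],2913,2),
   ([0,4,2,0,0,2,0],2913,3),
   ([1,0,4,0,3,4,0],2914,2),
   ([4,0,4,4,3,0,4],2914,3),
   ([1,2,0,3,0,4,4],2915,1),
   ([0,3,4,3,4,0,4],2915,2),
   ([3,2,3,0,3,3,3],2916,2),
   ([0,0,4,3,4,2,0],2917,1),
   ([3,1,2,2,4,2,0],2917,2),
   ([0,3,3,2,4,2,0],2918,1),
   ([4,2,3,1,4,2,0],2918,2),
   ([3,0,4,2,4,2,0],2919,1),
   ([4,4,4,1,4,2,0],2919,2),
   ([2,0,2,2,4,4,4],2920,3),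
   ([2,3,1,4,3,4,1],2921,0),
   ([0,1,2,2,4,2,0],2921,2),
   ([2,0,2,4,4,3,0],2921,3),
   ([4,0,3,4,3,0,1],2922,1),
   ([2,2,1,4,4,4,1],2923,0),
   ([3,3,2,2,1,2,0],2923,1),
   ([3,0,1,1,0,4,1],2924,0),
   ([0,1,0,4,1,2,0],2924,1),
   ([1,0,3,1,1,2,0],2924,2),
   ([2,0,3,3,1,1,4],2924,3),
   ([3,2,4,0,0,2,2],2926,2),
   ([2,2,4,2,3,3,0],2926,3),
   ([1,3,0,4,2,1,1],2927,0),
   ([2,3,1,4,0,2,2],2927,1),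
   ([1,1,3,4,2,0,2],2927,2),
   ([0,2,3,4,0,1,2],2927,3),
   ([2,2,3,1,3,3,0],2928,2),
   ([3,0,3,4,3,0,3],2928,3),
   ([2,2,0,2,3,2,0],2929,1),
   ([4,0,4,3,2,0,2],2930,2),
   ([4,2,0,3,0,2,0],2931,0),
   ([3,2,3,0,2,4,3],2931,3),
   ([0,2,3,2,1,1,1],2932,2),
   ([1,1,2,1,3,3,0],2933,1),
   ([2,4,3,0,3,3,0],2933,2),
   ([0,0,4,3,4,4,1],2937,3),
   ([3,0,2,1,0,3,1],2939,2),
   ([4,0,4,4,3,2,4],2941,0),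
   ([0,3,4,3,0,3,1],2941,1),
   ([4,2,3,1,1,2,1],2941,2),
   ([3,0,4,2,4,0,0],2942,2),
   ([2,3,3,3,3,2,4],2944,2),
   ([3,3,4,1,0,0,1],2946,2),
   ([0,1,4,1,4,3,4],2946,3),
   ([3,0,4,1,4,2,4],2947,0),
   ([0,1,2,0,0,3,1],2947,1),
   ([2,1,2,0,0,1,4],2947,3),
   ([1,0,1,0,1,2,1],2948,1),
   ([4,2,2,3,2,1,1],2948,2),
   ([1,1,2,4,1,4,0],2948,3),
   ([0,3,4,1,4,1,3],2949,0),
   ([4,4,2,3,4,2,4],2949,2),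
   ([2,4,2,0,0,4,4],2949,3),
   ([3,1,0,4,3,4,4],2950,1),
   ([2,3,0,1,2,0,4],2950,2),
   ([0,4,0,1,3,3,4],2950,3),
   ([0,0,4,3,4,3,4],2951,2),
   ([3,4,4,1,0,1,4],2951,3),
   ([0,4,0,1,4,3,4],2952,1),
   ([4,4,2,3,3,4,4],2952,2),
   ([4,4,2,2,4,4,1],2952,3),
   ([0,2,0,1,3,1,3],2953,0),
   ([2,4,2,4,4,2,4],2953,2),
   ([2,4,2,1,0,1,1],2953,3),
   ([0,3,4,2,3,2,2],2954,1),
   ([0,0,4,3,4,3,2],2956,1),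
   ([3,2,2,3,1,1,2],2956,2),
   ([1,2,4,1,2,4,3],2957,0),
   ([3,1,1,2,1,1,2],2957,1),
   ([4,4,3,2,3,4,2],2957,2),
   ([4,2,3,1,1,3,4],2957,3),
   ([0,2,3,0,2,2,2],2958,1),
   ([3,3,0,3,4,0,2],2958,2),
   ([0,2,0,3,2,2,3],2958,3),
   ([3,2,4,0,4,4,3],2959,0),
   ([3,0,2,1,1,1,2],2959,1),
   ([2,1,1,1,3,4,2],2959,2),
   ([2,1,4,0,3,4,2],2960,1),
   ([4,3,2,0,0,2,2],2960,2),
   ([0,3,2,2,1,2,0],2961,2),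
   ([3,0,0,4,2,1,1],2962,0),
   ([1,4,3,4,2,0,2],2962,2),
   ([0,2,3,4,0,1,4],2962,3),
   ([4,0,4,3,2,1,2],2963,1),
   ([4,3,0,2,4,4,2],2963,2),
   ([4,2,0,1,2,1,0],2963,3),
   ([3,0,0,3,1,0,2],2964,0),
   ([4,3,0,0,1,2,2],2964,2),
   ([2,2,0,2,4,1,4],2964,3),
   ([1,0,0,4,2,3,3],2965,3),
   ([0,4,2,2,4,3,1],2967,0),
   ([4,3,4,1,4,3,4],2967,2),
   ([3,4,4,4,0,2,2],2967,3),
   ([2,4,0,1,0,0,4],2968,0),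
   ([1,2,0,4,4,3,4],2968,1),
   ([3,3,1,1,3,4,4],2968,2),
   ([4,4,1,0,4,1,3],2968,3),
   ([3,2,1,4,2,0,2],2969,2),
   ([0,2,1,4,0,1,1],2969,3),
   ([3,2,3,4,4,0,2],2970,0),
   ([3,0,2,2,0,4,2],2970,1),
   ([2,2,3,2,0,2,0],2970,3),
   ([4,4,1,3,0,0,4],2971,0)]

/-- A block of images of the fixed vector. -/
def vOrbB58 : List (List ℕ × ℕ × ℕ) :=
  [([1,1,0,2,4,3,4],2971,1),
   ([0,3,0,4,3,4,4],2971,2),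
   ([0,4,4,2,3,4,4],2972,1),
   ([3,2,3,4,2,0,4],2972,2),
   ([1,1,3,2,0,4,0],2973,0),
   ([2,1,3,3,3,1,4],2973,2),
   ([2,1,0,1,2,2,0],2974,1),
   ([1,2,0,2,2,2,0],2974,2),
   ([2,0,0,4,2,4,4],2974,3),
   ([1,4,2,3,2,0,2],2975,1),
   ([2,3,4,3,4,0,0],2978,1),
   ([4,0,2,2,0,3,4],2980,1),
   ([1,0,3,3,4,4,4],2980,2),
   ([4,4,3,2,0,1,0],2980,3),
   ([3,3,0,2,4,1,3],2981,1),
   ([3,0,4,3,1,4,4],2982,0),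
   ([0,1,3,1,2,3,3],2982,1),
   ([1,4,3,4,0,0,3],2982,2),
   ([0,3,3,4,2,1,4],2982,3),
   ([2,3,3,1,1,3,2],2983,2),
   ([1,0,3,4,3,3,4],2984,0),
   ([1,0,3,2,4,0,4],2985,1),
   ([3,0,3,2,3,1,4],2985,2),
   ([1,4,3,3,4,4,0],2985,3),
   ([3,3,4,3,3,1,4],2986,0),
   ([2,2,4,4,1,3,0],2986,1),
   ([3,0,2,3,1,0,3],2986,3),
   ([3,1,0,3,2,1,4],2987,0),
   ([3,0,2,4,1,4,2],2987,3),
   ([3,2,3,3,4,3,0],2988,0),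
   ([0,1,2,4,2,1,4],2989,0),
   ([4,2,1,4,4,3,0],2989,1),
   ([0,4,2,2,4,3,0],2989,2),
   ([3,0,2,0,4,3,3],2989,3),
   ([0,1,1,2,4,3,0],2990,1),
   ([3,4,1,0,4,3,0],2990,2),
   ([3,2,1,1,4,4,4],2991,0),
   ([2,2,1,1,2,0,3],2991,2),
   ([2,3,2,1,2,3,4],2992,1),
   ([2,2,2,0,1,4,4],2992,2),
   ([4,4,2,4,2,1,2],2992,3),
   ([1,4,3,3,4,1,3],2993,1),
   ([1,4,1,1,2,3,3],2993,2),
   ([2,0,3,0,3,4,4],2994,0),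
   ([0,4,4,2,2,3,3],2994,1),
   ([4,4,2,0,0,0,3],2994,2),
   ([0,3,2,0,2,4,1],2994,3),
   ([2,2,2,4,2,2,4],2995,0),
   ([3,1,2,3,0,2,1],2995,2),
   ([2,1,2,0,4,0,2],2995,3),
   ([2,3,1,4,2,3,0],2996,1),
   ([3,4,2,2,0,4,4],2997,0),
   ([1,4,0,3,2,3,3],2997,1),
   ([1,1,1,1,0,0,3],2997,2),
   ([0,3,1,1,2,3,1],2997,3),
   ([4,0,0,2,2,2,4],2998,0),
   ([1,4,1,2,3,2,1],2998,2),
   ([4,1,1,1,4,3,3],2999,0),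
   ([4,0,2,0,4,1,1],2999,1),
   ([3,2,1,1,0,0,1],2999,2),
   ([0,1,1,1,4,1,0],2999,3),
   ([2,0,2,3,2,0,1],3000,0),
   ([0,3,1,4,1,1,1],3000,2),
   ([1,1,1,0,0,4,1],3000,3),
   ([2,0,4,0,3,2,0],3002,0),
   ([0,4,4,2,4,0,2],3002,1),
   ([2,2,4,0,1,3,2],3002,2),
   ([3,2,4,3,4,4,1],3002,3),
   ([4,0,3,2,1,0,2],3003,1),
   ([4,4,0,3,3,3,2],3003,2),
   ([3,2,0,1,1,1,0],3003,3),
   ([2,3,0,4,1,4,0],3004,1),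
   ([1,0,3,4,1,4,0],3004,2),
   ([2,1,4,4,3,1,1],3005,0),
   ([4,1,4,3,0,2,2],3005,1),
   ([0,2,3,3,2,0,2],3005,2),
   ([4,4,4,2,2,0,2],3006,1),
   ([3,1,2,2,4,3,2],3006,2),
   ([3,2,2,0,2,0,1],3006,3),
   ([1,0,2,1,1,3,1],3007,0),
   ([1,0,2,0,4,3,4],3007,2),
   ([3,4,2,3,0,2,3],3007,3),
   ([3,0,3,2,0,0,2],3008,1),
   ([4,1,4,4,2,3,2],3008,2),
   ([3,2,4,2,0,2,0],3008,3),
   ([4,4,0,2,4,3,2],3009,0),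
   ([0,3,0,4,1,4,0],3009,2),
   ([4,0,0,3,1,0,4],3009,3),
   ([0,1,2,4,1,4,0],3010,1),
   ([4,1,4,2,0,4,0],3011,0),
   ([4,3,0,1,0,1,4],3011,2),
   ([1,4,0,2,1,1,0],3011,3),
   ([2,0,3,2,4,0,2],3012,1),
   ([4,3,3,0,1,3,2],3012,2),
   ([1,1,4,3,3,3,2],3013,0),
   ([4,4,4,4,1,4,0],3013,1),
   ([3,1,2,4,1,4,0],3013,2),
   ([4,0,2,3,1,0,1],3013,3),
   ([3,4,4,4,1,4,0],3014,1),
   ([2,1,2,4,1,4,0],3014,2),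
   ([2,1,2,2,3,1,3],3016,2),
   ([1,3,2,3,0,1,4],3016,3),
   ([2,0,0,4,0,1,4],3017,1),
   ([0,1,2,2,4,2,4],3017,2),
   ([0,2,0,3,0,2,0],3019,1),
   ([4,1,4,1,0,2,0],3019,2),
   ([3,2,2,0,3,1,1],3020,0),
   ([3,0,4,2,0,2,2],3020,1),
   ([3,4,0,2,2,0,2],3020,2),
   ([0,2,0,2,0,2,0],3020,3),
   ([3,1,1,1,2,0,2],3021,1),
   ([3,2,1,4,2,3,4],3021,3),
   ([2,4,1,0,0,2,0],3022,2),
   ([1,1,3,2,4,3,2],3023,2),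
   ([3,2,3,0,2,1,1],3023,3),
   ([2,1,2,3,0,4,0],3024,1),
   ([3,3,3,4,0,4,0],3025,1),
   ([0,2,0,0,0,4,0],3025,2),
   ([4,0,0,4,0,0,2],3025,3),
   ([4,1,3,0,2,2,2],3026,0),
   ([0,4,0,3,0,1,0],3026,3),
   ([0,1,4,4,0,2,0],3027,0),
   ([4,2,0,1,4,0,2],3027,1),
   ([1,3,0,4,0,4,0],3028,1),
   ([1,2,2,0,0,4,0],3028,2)]

/-- A block of images of the fixed vector. -/
def vOrbB59 : List (List ℕ × ℕ × ℕ) :=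
  [([0,3,4,4,2,0,2],3029,2),
   ([3,0,4,3,0,3,2],3030,0),
   ([0,1,0,2,0,4,0],3030,1),
   ([3,1,1,3,0,4,0],3030,2),
   ([2,4,4,2,0,1,0],3031,2),
   ([4,4,4,1,3,4,3],3032,0),
   ([1,1,4,1,3,1,2],3032,1),
   ([0,3,0,4,0,4,2],3032,2),
   ([1,4,2,0,3,3,3],3033,3),
   ([0,4,0,2,1,1,4],3034,3),
   ([0,0,4,0,3,0,4],3035,0),
   ([4,4,4,3,4,0,0],3035,3),
   ([0,2,0,2,1,2,3],3036,0),
   ([0,2,4,1,0,1,0],3036,2),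
   ([1,0,4,2,0,1,1],3036,3),
   ([2,2,2,4,1,4,2],3037,1),
   ([2,2,0,3,1,0,3],3037,3),
   ([0,2,3,2,3,4,4],3038,2),
   ([4,4,3,1,4,2,1],3038,3),
   ([1,3,3,1,4,2,2],3039,0),
   ([4,2,0,2,2,0,4],3039,2),
   ([0,4,0,2,3,1,2],3039,3),
   ([0,2,0,1,0,1,1],3040,2),
   ([0,3,0,2,0,3,0],3041,0),
   ([2,1,0,3,3,0,3],3041,1),
   ([4,4,2,3,1,2,3],3041,2),
   ([3,3,1,0,4,2,3],3042,0),
   ([0,3,0,0,0,1,0],3042,2),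
   ([1,0,0,1,0,0,3],3042,3),
   ([1,4,0,2,1,0,1],3043,2),
   ([0,2,2,4,2,3,2],3044,0),
   ([3,4,1,4,4,4,0],3044,1),
   ([2,0,2,1,4,4,0],3044,2),
   ([2,4,2,1,3,3,2],3045,0),
   ([1,2,4,1,4,4,0],3045,1),
   ([4,1,2,1,2,4,2],3046,1),
   ([1,2,2,2,4,2,2],3046,2),
   ([1,3,4,1,1,0,4],3047,0),
   ([3,2,1,0,3,4,4],3047,2),
   ([2,3,0,3,3,4,4],3048,1),
   ([2,3,2,0,2,0,4],3048,2),
   ([1,1,2,4,2,4,3],3049,0),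
   ([3,0,2,1,1,4,2],3049,2),
   ([4,2,2,0,4,0,1],3049,3),
   ([0,3,3,0,3,4,0],3050,2),
   ([4,0,3,4,3,2,1],3050,3),
   ([0,4,3,1,3,4,4],3051,1),
   ([2,0,4,3,2,0,4],3051,2),
   ([3,1,0,2,2,4,0],3052,0),
   ([4,3,1,1,2,0,4],3052,1),
   ([1,4,1,4,2,4,2],3052,3),
   ([2,0,2,0,4,2,2],3054,1),
   ([1,1,3,0,0,0,2],3055,0),
   ([4,4,0,0,1,4,2],3055,1),
   ([4,0,1,2,3,2,2],3055,2),
   ([2,2,1,4,1,0,1],3055,3),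
   ([2,3,3,0,2,4,4],3058,0),
   ([0,3,0,3,0,3,0],3058,3),
   ([4,3,0,3,3,3,0],3059,0),
   ([2,4,4,4,3,0,3],3059,1),
   ([4,4,4,4,1,2,3],3059,2),
   ([2,3,4,1,3,2,1],3059,3),
   ([3,1,4,0,0,3,0],3060,2),
   ([0,1,2,4,0,2,3],3061,0),
   ([4,2,0,1,0,1,0],3061,1),
   ([4,3,3,0,0,1,0],3061,2),
   ([1,3,2,3,2,2,3],3062,0),
   ([3,2,1,4,0,1,0],3062,2),
   ([1,4,3,3,1,4,4],3063,0),
   ([0,2,1,1,3,0,3],3063,2),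
   ([0,3,1,1,0,4,0],3063,3),
   ([0,0,2,2,3,2,4],3064,3),
   ([0,0,1,4,3,2,2],3066,3),
   ([1,3,3,2,4,0,4],3068,0),
   ([4,4,1,2,2,1,2],3068,3),
   ([1,2,2,3,2,0,2],3069,0),
   ([1,4,1,3,2,2,2],3069,2),
   ([2,2,1,0,0,3,4],3069,3),
   ([3,0,4,4,4,0,4],3070,0),
   ([4,2,0,1,1,4,4],3070,2),
   ([4,4,0,0,2,1,4],3070,3),
   ([4,2,4,3,3,2,2],3071,0),
   ([3,2,4,4,1,4,4],3071,1),
   ([0,4,2,3,1,4,3],3071,3),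
   ([1,1,1,0,0,1,3],3072,0),
   ([2,4,2,3,2,0,1],3072,3),
   ([1,2,0,2,0,3,2],3073,1),
   ([3,0,1,1,2,1,2],3073,2),
   ([1,2,1,2,0,1,3],3073,3),
   ([1,0,3,0,2,2,1],3074,0),
   ([3,4,0,4,3,4,3],3074,2),
   ([4,3,0,3,0,2,3],3074,3),
   ([0,1,1,3,2,1,2],3075,0),
   ([3,1,1,2,0,2,1],3076,0),
   ([4,3,4,3,0,4,2],3076,3),
   ([2,3,1,1,0,0,4],3077,0),
   ([0,0,2,2,3,4,3],3078,1),
   ([4,2,1,3,1,1,3],3078,2),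
   ([0,2,2,0,1,0,3],3079,0),
   ([3,4,3,4,1,1,3],3079,1),
   ([3,2,1,0,4,3,3],3079,2),
   ([3,3,1,3,1,1,1],3079,3),
   ([3,3,4,4,2,4,4],3080,2),
   ([3,0,4,4,1,0,3],3081,0),
   ([0,1,3,0,1,1,3],3081,1),
   ([0,1,4,1,4,3,3],3081,2),
   ([3,3,4,4,1,1,4],3081,3),
   ([4,2,0,4,4,4,4],3082,0),
   ([0,3,2,3,4,4,3],3082,3),
   ([3,2,2,1,0,2,4],3083,2),
   ([2,4,2,3,1,0,2],3083,3),
   ([2,4,0,4,2,0,4],3084,0),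
   ([4,4,3,4,0,1,3],3084,3),
   ([1,0,0,4,3,0,3],3085,0),
   ([3,1,0,3,0,3,3],3085,2),
   ([3,3,0,1,2,2,3],3085,3),
   ([1,0,3,4,0,3,3],3086,1),
   ([1,3,0,4,3,0,3],3086,2),
   ([2,2,3,4,0,2,1],3087,0),
   ([0,2,0,0,0,4,3],3087,2),
   ([0,0,4,0,3,4,3],3088,2),
   ([4,0,1,4,0,1,2],3089,0),
   ([0,3,0,1,3,4,3],3089,1),
   ([1,3,1,3,3,3,2],3089,3),
   ([4,4,1,0,3,1,2],3091,0)]

/-- A block of images of the fixed vector. -/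
def vOrbB60 : List (List ℕ × ℕ × ℕ) :=
  [([2,3,3,3,1,1,3],3091,2),
   ([3,3,3,0,4,3,3],3092,2),
   ([0,4,3,0,2,1,4],3093,2),
   ([1,4,3,1,3,2,2],3093,3),
   ([1,1,3,4,0,4,2],3094,0),
   ([4,4,0,1,2,4,1],3094,1),
   ([0,4,0,1,3,3,1],3094,2),
   ([3,1,0,4,2,0,1],3094,3),
   ([2,2,0,2,3,3,1],3095,0),
   ([2,2,3,3,3,3,4],3095,2),
   ([3,4,3,1,4,0,2],3095,3),
   ([3,2,3,3,4,1,2],3097,0),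
   ([3,0,2,3,1,4,3],3097,1),
   ([1,3,2,2,1,2,0],3097,3),
   ([2,1,3,2,0,0,3],3098,1),
   ([2,3,4,2,0,4,4],3098,3),
   ([0,3,0,2,3,3,1],3099,1),
   ([2,1,4,4,3,3,2],3099,3),
   ([1,3,4,4,3,1,4],3100,0),
   ([1,1,3,0,0,3,0],3100,2),
   ([0,1,2,1,0,2,0],3101,0),
   ([4,2,0,4,3,0,2],3101,1),
   ([2,1,0,3,0,3,2],3101,2),
   ([3,2,0,1,3,3,3],3101,3),
   ([2,3,0,1,4,3,1],3103,1),
   ([2,0,2,0,0,2,1],3103,2),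
   ([2,1,2,2,4,1,2],3103,3),
   ([1,4,0,4,0,0,3],3104,1),
   ([2,3,2,4,0,3,1],3104,3),
   ([1,3,4,3,4,2,1],3105,0),
   ([4,3,4,0,3,1,2],3105,3),
   ([0,4,4,2,1,2,1],3106,2),
   ([3,1,4,4,0,3,2],3107,1),
   ([1,3,1,3,2,1,2],3107,2),
   ([3,0,2,1,0,2,1],3108,0),
   ([0,1,0,4,3,2,3],3108,1),
   ([1,2,1,0,2,1,2],3109,0),
   ([1,3,1,2,1,3,4],3109,3),
   ([0,2,1,1,2,2,4],3110,2),
   ([2,1,1,4,0,3,3],3111,0),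
   ([4,1,0,1,3,1,1],3111,1),
   ([2,2,1,3,4,0,1],3111,2),
   ([0,1,1,3,3,2,4],3111,3),
   ([4,1,2,3,0,0,4],3113,0),
   ([4,0,0,2,1,3,4],3113,1),
   ([4,4,2,1,1,1,0],3113,3),
   ([1,1,4,0,4,2,3],3114,0),
   ([4,3,1,4,1,1,0],3114,2),
   ([1,0,0,0,1,4,2],3115,0),
   ([0,2,3,4,2,4,1],3115,1),
   ([3,1,2,2,2,2,3],3115,3),
   ([1,2,3,4,4,1,3],3116,0),
   ([2,4,3,2,0,3,4],3116,3),
   ([0,3,1,0,0,1,4],3117,1),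
   ([1,1,1,3,4,2,4],3117,2),
   ([3,2,2,1,3,3,1],3118,0),
   ([3,4,1,2,4,2,0],3118,3),
   ([4,4,0,3,1,0,4],3119,0),
   ([1,1,3,1,4,3,4],3119,1),
   ([0,1,0,3,3,4,4],3119,2),
   ([2,4,4,1,3,2,2],3120,0),
   ([1,2,4,1,3,4,4],3120,1),
   ([4,3,0,3,2,0,4],3120,2),
   ([0,4,0,3,3,1,3],3120,3),
   ([2,0,2,3,2,3,1],3122,2),
   ([3,1,2,1,1,1,4],3122,3),
   ([4,1,4,4,3,1,3],3123,0),
   ([2,4,3,3,0,1,0],3123,3),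
   ([0,3,1,4,4,2,4],3124,1),
   ([4,3,2,1,1,2,3],3125,0),
   ([0,2,4,1,1,3,0],3126,0),
   ([3,0,1,2,2,2,3],3126,2),
   ([2,2,0,2,4,0,3],3127,1),
   ([0,1,0,1,2,2,3],3127,2),
   ([2,4,0,2,0,1,0],3128,1),
   ([0,2,0,0,2,4,2],3129,1),
   ([1,1,2,1,4,2,2],3129,2),
   ([3,0,1,0,0,3,4],3130,1),
   ([2,3,0,1,0,2,2],3131,0),
   ([2,0,0,4,4,4,4],3131,1),
   ([0,4,1,0,4,3,0],3131,3),
   ([1,1,2,3,2,4,1],3132,0),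
   ([4,2,1,3,0,2,0],3132,2),
   ([3,1,4,4,4,1,1],3133,3),
   ([0,3,0,0,1,1,3],3134,0),
   ([2,1,3,4,2,1,4],3134,1),
   ([2,4,2,2,2,4,4],3134,3),
   ([2,2,4,2,0,3,1],3135,0),
   ([3,3,0,3,1,2,4],3135,1),
   ([0,4,0,4,0,3,4],3135,2),
   ([4,3,4,4,4,2,2],3136,0),
   ([0,4,0,0,2,2,1],3136,3),
   ([4,1,2,4,1,2,2],3137,0),
   ([4,0,3,0,2,4,4],3137,1),
   ([4,1,0,3,1,0,4],3137,2),
   ([3,3,4,1,4,0,4],3138,0),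
   ([3,3,2,1,4,4,4],3138,2),
   ([3,2,2,4,1,1,1],3139,3),
   ([3,3,2,3,2,3,2],3140,0),
   ([2,2,1,0,0,4,0],3140,1),
   ([4,3,1,1,0,4,0],3140,2),
   ([3,4,3,3,4,4,0],3141,0),
   ([1,4,2,3,1,0,4],3141,1),
   ([0,2,2,1,0,1,4],3141,2),
   ([4,4,4,4,4,0,3],3143,0),
   ([1,1,2,2,2,1,3],3143,1),
   ([3,3,0,0,2,0,4],3143,3),
   ([0,1,2,1,1,4,4],3144,0),
   ([4,2,3,3,0,3,3],3144,1),
   ([0,3,2,3,3,0,3],3144,2),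
   ([0,3,2,3,0,3,3],3144,3),
   ([0,1,0,0,2,3,2],3146,1),
   ([1,2,2,3,2,1,4],3146,3),
   ([4,1,2,3,2,2,1],3147,0),
   ([4,0,1,0,0,2,3],3147,1),
   ([3,1,1,1,3,4,3],3147,2),
   ([4,3,2,4,4,1,2],3148,0),
   ([2,1,1,3,1,1,3],3148,2),
   ([3,1,2,3,2,2,3],3149,0),
   ([0,2,1,4,0,1,0],3149,2),
   ([1,0,1,0,0,4,2],3149,3),
   ([1,0,4,0,1,3,3],3150,1),
   ([1,3,0,4,4,0,3],3150,2),
   ([2,2,1,3,3,4,3],3151,1),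
   ([2,1,3,4,1,1,3],3151,2)]

/-- A block of images of the fixed vector. -/
def vOrbB61 : List (List ℕ × ℕ × ℕ) :=
  [([1,1,1,0,0,3,0],3153,0),
   ([4,4,0,0,2,0,3],3153,1),
   ([3,3,2,1,0,2,3],3153,2),
   ([2,3,2,3,2,0,1],3153,3),
   ([0,3,1,3,2,2,2],3154,2),
   ([4,4,0,3,0,0,4],3156,0),
   ([1,1,0,2,2,3,4],3156,1),
   ([2,2,3,1,1,4,4],3156,2),
   ([4,4,3,0,2,0,4],3156,3),
   ([0,2,4,4,1,3,3],3157,1),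
   ([1,3,2,3,4,0,3],3157,2),
   ([3,2,3,0,1,1,2],3158,0),
   ([1,3,3,1,3,2,0],3158,3),
   ([2,3,0,1,1,1,3],3159,1),
   ([3,3,4,0,1,1,2],3159,3),
   ([4,2,4,1,3,2,0],3160,2),
   ([2,0,4,3,3,2,2],3160,3),
   ([0,3,3,4,4,3,4],3161,1),
   ([3,4,4,1,3,4,4],3161,2),
   ([4,4,4,0,4,3,2],3161,3),
   ([2,0,0,2,1,1,3],3162,1),
   ([0,4,2,3,4,3,3],3162,2),
   ([3,3,2,1,1,3,0],3162,3),
   ([1,4,0,1,0,4,4],3163,0),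
   ([1,0,0,4,4,3,3],3163,1),
   ([0,3,1,0,4,4,0],3163,3),
   ([4,0,1,2,1,3,0],3164,2),
   ([3,0,1,4,0,4,1],3165,0),
   ([0,1,0,1,3,2,0],3165,1),
   ([4,3,1,2,0,3,0],3167,2),
   ([2,4,4,4,4,4,4],3168,0),
   ([1,2,2,2,2,3,3],3168,1),
   ([4,2,0,0,0,0,3],3168,2),
   ([0,3,0,0,2,1,3],3168,3),
   ([4,4,0,1,3,3,0],3169,0),
   ([1,1,4,1,0,0,3],3169,1),
   ([3,1,2,4,3,2,3],3169,2),
   ([2,3,2,1,0,0,4],3169,3),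
   ([0,1,2,0,0,3,3],3170,2),
   ([3,4,1,4,0,3,0],3171,0),
   ([1,4,0,1,3,0,3],3171,1),
   ([1,3,1,1,1,2,3],3171,2),
   ([2,3,1,3,3,3,1],3171,3),
   ([4,2,2,2,4,2,3],3172,0),
   ([3,2,2,4,0,1,0],3172,1),
   ([2,4,4,3,0,1,0],3172,2),
   ([4,3,0,3,4,2,3],3173,0),
   ([2,4,1,2,0,1,0],3173,2),
   ([1,0,1,3,0,2,1],3173,3),
   ([1,4,1,1,3,4,1],3174,0),
   ([1,0,4,1,2,2,0],3174,1),
   ([2,1,4,2,2,2,0],3174,2),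
   ([2,0,4,4,2,4,0],3174,3),
   ([2,4,4,4,4,2,0],3175,1),
   ([3,2,0,3,4,2,0],3175,2),
   ([2,0,0,0,4,2,1],3175,3),
   ([2,0,1,2,4,1,1],3176,0),
   ([0,4,2,4,3,2,2],3176,1),
   ([4,1,2,1,0,0,2],3176,2),
   ([0,2,2,1,3,4,1],3176,3),
   ([2,4,1,4,1,2,0],3177,0),
   ([1,4,3,2,2,3,2],3177,2),
   ([3,2,3,0,0,1,3],3177,3),
   ([4,1,1,0,2,2,3],3179,0),
   ([3,3,1,1,1,1,0],3179,2),
   ([1,0,1,2,1,1,0],3179,3),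
   ([1,0,4,0,3,2,0],3180,1),
   ([4,2,2,0,3,2,0],3180,2),
   ([2,0,2,2,3,4,0],3180,3),
   ([3,3,4,3,4,1,1],3181,0),
   ([0,2,4,0,3,0,3],3181,3),
   ([3,1,3,1,0,2,0],3182,0),
   ([4,3,0,4,0,0,2],3182,1),
   ([4,3,2,1,2,3,2],3182,2),
   ([1,4,2,0,1,2,3],3183,2),
   ([3,1,4,2,1,4,2],3184,0),
   ([4,3,3,2,3,4,1],3184,1),
   ([4,3,2,1,4,3,1],3184,2),
   ([3,1,2,4,3,4,2],3184,3),
   ([1,1,2,2,4,3,1],3185,0),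
   ([4,4,2,4,0,2,4],3185,1),
   ([1,4,4,1,4,3,4],3185,2),
   ([3,4,4,4,0,0,1],3185,3),
   ([4,3,2,4,3,3,4],3186,0),
   ([1,2,4,2,1,2,1],3186,3),
   ([2,0,4,0,0,2,1],3187,3),
   ([0,4,3,3,3,2,2],3188,1),
   ([4,1,0,4,2,2,0],3189,0),
   ([4,0,1,4,0,0,2],3189,1),
   ([3,2,3,4,0,1,0],3189,3),
   ([1,0,4,0,0,4,2],3190,0),
   ([0,3,3,4,4,3,1],3190,2),
   ([3,1,3,2,3,2,3],3190,3),
   ([3,3,0,2,1,2,4],3191,1),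
   ([1,2,4,4,3,2,0],3192,0),
   ([3,1,4,3,0,0,2],3192,1),
   ([2,4,2,1,4,1,2],3193,2),
   ([1,2,2,2,2,1,4],3193,3),
   ([2,4,2,4,3,1,3],3194,0),
   ([0,4,4,0,0,2,4],3194,2),
   ([2,4,4,2,1,1,3],3194,3),
   ([1,2,4,0,0,2,1],3196,2),
   ([0,0,4,3,4,0,1],3197,3),
   ([3,4,2,0,0,4,1],3198,2),
   ([0,0,4,2,4,0,1],3200,0),
   ([1,0,4,3,1,4,2],3201,2),
   ([4,2,2,2,0,4,1],3202,1),
   ([4,3,3,4,1,3,1],3202,2),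
   ([3,1,3,2,0,3,3],3202,3),
   ([4,1,4,3,4,0,0],3204,1),
   ([0,0,3,0,4,1,4],3205,3),
   ([0,1,1,3,4,3,3],3207,0),
   ([1,2,2,1,2,2,3],3208,0),
   ([0,4,4,0,3,0,1],3209,1),
   ([4,4,2,3,4,4,1],3209,2),
   ([4,1,2,2,3,4,1],3209,3),
   ([3,0,4,0,2,1,3],3210,0),
   ([2,4,2,1,2,1,4],3210,3),
   ([0,0,4,2,4,3,0],3211,3),
   ([0,0,2,4,4,0,1],3212,3),
   ([0,0,4,2,4,1,0],3213,0),
   ([2,1,3,1,0,4,1],3213,2),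
   ([0,3,4,2,4,0,0],3214,0),
   ([2,4,3,0,3,4,2],3215,2),
   ([4,3,2,1,1,4,2],3216,0)]

end Cfsg.Lib.LyCent
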