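import Cfsg.Agent.LyCent.VecAData
import Cfsg.Agent.LyPres.Orbit

/-!
Second half of the orbit of the fixed vector of the element of order three.
-/

set_option autoImplicit false
set_option maxRecDepth 100000
set_option maxHeartbeats 4000000

namespace Cfsg.Lib.LyCent

/-- A block of images of the fixed vector. -/
def vOrbB62 : List (List ℕ × ℕ × ℕ) :=
  [([0,0,4,2,4,2,0],3217,0),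
   ([2,2,3,2,1,3,2],3217,2),
   ([2,1,1,3,1,3,4],3218,0),
   ([1,0,2,4,3,1,2],3218,2),
   ([1,2,2,0,1,2,4],3218,3),
   ([4,4,3,3,4,3,4],3219,0),
   ([3,4,2,1,3,1,2],3219,2),
   ([1,2,2,2,1,0,4],3219,3),
   ([2,4,1,2,2,2,1],3220,0),
   ([1,2,1,1,4,2,3],3220,1),
   ([1,2,3,3,2,4,3],3220,2),
   ([4,3,3,2,4,1,3],3220,3),
   ([2,4,2,3,3,1,2],3221,0),
   ([1,2,4,4,2,4,3],3221,1),
   ([1,0,3,1,0,1,3],3221,2),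
   ([1,3,3,2,2,1,3],3221,3),
   ([3,1,3,0,2,3,3],3222,2),
   ([3,3,3,3,4,4,2],3222,3),
   ([1,1,4,4,3,3,4],3223,2),
   ([0,0,4,3,4,0,2],3224,1),
   ([3,4,2,1,4,3,4],3225,0),
   ([1,4,2,0,1,3,2],3225,1),
   ([2,1,3,4,2,4,3],3226,2),
   ([4,3,3,3,4,0,1],3226,3),
   ([4,3,4,4,1,3,2],3227,1),
   ([4,3,2,2,3,1,2],3227,2),
   ([2,4,3,3,4,0,2],3229,0),
   ([2,2,2,2,1,1,3],3229,3),
   ([2,0,3,0,1,0,2],3231,2),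
   ([4,3,4,3,3,2,0],3232,0),
   ([2,4,4,4,1,0,2],3232,1),
   ([1,2,2,0,3,3,2],3232,2),
   ([2,0,3,0,3,0,4],3233,2),
   ([2,1,0,2,0,4,0],3234,0),
   ([4,1,0,3,3,0,4],3234,1),
   ([1,4,2,0,3,2,4],3234,3),
   ([0,3,3,3,2,0,4],3235,1),
   ([1,4,4,1,2,3,2],3235,3),
   ([2,3,1,0,2,1,4],3236,0),
   ([1,1,1,4,1,3,0],3236,2),
   ([3,4,0,4,1,3,0],3237,1),
   ([1,2,3,0,1,3,0],3237,2),
   ([3,0,3,3,1,1,1],3237,3),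
   ([3,2,4,1,2,1,4],3238,0),
   ([3,0,3,1,1,2,0],3238,3),
   ([1,4,0,1,3,4,4],3240,1),
   ([1,0,1,3,2,0,4],3240,2),
   ([4,2,2,2,4,3,1],3241,0),
   ([3,2,2,4,0,2,4],3241,1),
   ([2,1,0,1,0,0,4],3242,0),
   ([4,1,0,4,4,3,4],3242,1),
   ([2,2,1,1,3,4,4],3242,2),
   ([4,4,1,0,4,2,4],3242,3),
   ([2,3,0,1,0,4,0],3243,1),
   ([3,4,4,0,1,2,2],3244,0),
   ([2,2,0,4,4,0,4],3244,2),
   ([0,3,0,4,4,4,0],3245,0),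
   ([4,1,2,2,3,1,4],3245,2),
   ([2,1,4,0,4,3,2],3246,0),
   ([4,1,2,1,1,4,0],3246,1),
   ([2,2,1,1,1,4,0],3246,2),
   ([4,0,1,0,1,2,4],3246,3),
   ([1,3,3,2,0,2,2],3247,0),
   ([2,3,0,3,4,4,4],3247,1),
   ([3,4,4,3,2,1,4],3248,2),
   ([4,0,3,3,0,0,4],3249,1),
   ([2,0,2,2,4,1,4],3249,2),
   ([1,4,2,3,0,1,0],3249,3),
   ([3,3,0,3,1,3,0],3250,1),
   ([3,0,0,2,1,0,2],3250,3),
   ([3,2,2,3,0,2,0],3251,0),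
   ([3,2,2,1,1,2,0],3251,3),
   ([1,0,1,2,1,4,0],3252,0),
   ([0,2,3,2,2,0,4],3252,1),
   ([2,1,1,4,1,1,4],3252,2),
   ([1,4,1,0,2,2,3],3252,3),
   ([3,2,2,0,1,1,4],3253,0),
   ([2,3,1,0,1,3,0],3253,2),
   ([1,2,3,0,0,1,4],3254,0),
   ([3,1,0,0,1,3,0],3254,1),
   ([3,0,1,4,1,3,4],3254,3),
   ([3,2,1,0,2,4,1],3255,0),
   ([2,0,1,2,1,2,0],3255,3),
   ([1,0,1,0,1,3,1],3256,0),
   ([4,4,4,2,3,3,4],3256,2),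
   ([3,4,4,0,4,2,3],3256,3),
   ([1,4,2,2,3,3,2],3257,1),
   ([1,1,1,3,0,1,2],3257,2),
   ([1,2,1,4,3,3,1],3257,3),
   ([2,2,2,0,0,1,2],3259,2),
   ([1,2,2,1,3,1,4],3259,3),
   ([4,0,0,0,4,2,3],3260,1),
   ([0,3,4,2,2,4,3],3260,2),
   ([3,1,2,1,3,2,3],3261,0),
   ([1,0,1,2,4,4,2],3261,3),
   ([0,1,1,0,1,4,0],3262,2),
   ([4,0,1,4,1,4,3],3262,3),
   ([4,1,3,2,0,4,0],3263,0),
   ([4,0,0,3,4,0,4],3263,1),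
   ([1,4,3,4,4,1,0],3263,3),
   ([2,0,1,4,1,3,1],3264,0),
   ([3,1,3,2,4,3,4],3264,2),
   ([3,4,0,3,1,2,3],3265,1),
   ([4,4,0,3,4,4,3],3265,2),
   ([4,3,0,2,1,1,1],3265,3),
   ([3,2,2,4,2,1,2],3266,0),
   ([3,0,1,4,4,4,3],3266,1),
   ([1,3,2,0,4,2,0],3266,3),
   ([3,1,2,3,0,3,3],3267,0),
   ([4,0,2,1,2,0,1],3267,2),
   ([0,1,2,1,1,4,2],3267,3),
   ([4,1,0,2,3,4,0],3268,1),
   ([1,3,1,2,0,2,2],3269,0),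
   ([0,4,4,3,4,0,4],3269,2),
   ([0,4,1,2,2,4,0],3270,0),
   ([1,3,1,1,4,0,4],3270,1),
   ([1,4,3,2,4,2,2],3270,3),
   ([1,2,2,0,1,4,3],3272,1),
   ([1,3,3,4,1,1,3],3272,3),
   ([1,0,4,2,4,4,0],3273,0),
   ([0,2,2,4,4,0,4],3273,1),
   ([1,4,3,0,4,2,3],3273,3),
   ([1,2,3,2,3,1,4],3274,1),
   ([2,3,2,2,2,2,4],3274,2),
   ([3,4,3,4,1,2,1],3275,0)]

/-- A block of images of the fixed vector. -/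
def vOrbB63 : List (List ℕ × ℕ × ℕ) :=
  [([0,2,2,2,2,4,3],3275,2),
   ([2,4,0,2,1,2,2],3276,1),
   ([1,1,2,1,3,0,2],3276,2),
   ([2,2,4,0,2,0,2],3277,0),
   ([3,3,1,3,2,4,2],3277,1),
   ([3,3,2,4,4,2,2],3277,2),
   ([2,2,2,1,2,0,2],3277,3),
   ([3,2,2,1,2,1,2],3279,2),
   ([3,1,2,4,1,2,1],3280,0),
   ([1,0,0,4,0,4,3],3280,2),
   ([4,3,0,3,2,4,2],3280,3),
   ([3,1,2,2,0,0,2],3281,0),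
   ([1,1,0,3,0,4,0],3282,1),
   ([1,3,4,4,0,4,0],3282,2),
   ([1,2,4,2,0,4,4],3283,1),
   ([4,1,0,2,4,0,4],3283,2),
   ([0,4,0,2,0,1,3],3283,3),
   ([1,4,1,1,4,4,0],3284,0),
   ([2,0,4,3,0,0,3],3285,0),
   ([1,3,2,0,4,1,2],3286,0),
   ([2,3,2,1,2,4,3],3286,1),
   ([1,3,2,4,2,1,2],3286,3),
   ([1,4,3,3,4,0,4],3287,1),
   ([1,1,1,3,3,1,4],3287,2),
   ([3,2,1,1,3,1,4],3288,1),
   ([2,4,2,3,3,4,3],3288,3),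
   ([3,4,2,4,2,2,4],3289,0),
   ([4,3,2,2,0,0,4],3290,0),
   ([2,4,0,3,2,3,4],3290,1),
   ([2,2,1,2,1,4,4],3290,2),
   ([3,4,2,4,1,3,1],3291,2),
   ([4,0,4,0,4,3,4],3292,0),
   ([0,3,2,1,1,3,2],3292,1),
   ([0,1,0,2,0,4,3],3293,0),
   ([0,3,2,1,0,4,2],3293,2),
   ([4,2,2,0,3,3,3],3293,3),
   ([1,2,2,4,1,1,3],3294,3),
   ([2,4,1,3,0,1,0],3295,1),
   ([3,4,0,2,0,1,0],3295,2),
   ([1,0,0,3,0,2,1],3295,3),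
   ([1,3,3,2,3,3,1],3296,2),
   ([3,1,3,0,2,1,4],3296,3),
   ([1,4,0,0,3,4,3],3297,0),
   ([1,0,4,2,1,1,2],3297,1),
   ([0,3,1,2,3,4,2],3297,2),
   ([4,2,1,1,1,4,0],3297,3),
   ([3,3,0,0,4,1,0],3298,0),
   ([2,4,3,4,4,4,1],3298,2),
   ([4,3,0,3,1,4,2],3299,0),
   ([2,4,3,1,4,4,1],3299,1),
   ([3,1,0,2,4,2,1],3299,3),
   ([2,1,1,1,1,3,0],3300,0),
   ([2,3,0,0,3,2,4],3300,3),
   ([2,4,2,4,1,3,4],3301,3),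
   ([3,0,0,4,3,3,1],3302,1),
   ([3,0,0,4,4,2,1],3302,2),
   ([2,1,0,1,3,2,0],3302,3),
   ([2,0,0,1,1,2,4],3303,2),
   ([1,4,2,3,0,4,2],3304,2),
   ([4,2,2,2,3,2,1],3304,3),
   ([0,3,2,4,3,1,4],3305,1),
   ([2,3,2,0,0,4,2],3306,0),
   ([2,0,0,0,4,4,1],3306,1),
   ([3,4,4,3,0,3,1],3306,2),
   ([3,1,4,1,4,3,0],3306,3),
   ([1,2,1,4,4,3,0],3308,2),
   ([1,0,4,3,0,0,1],3309,0),
   ([0,2,0,2,0,2,1],3309,1),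
   ([1,1,1,2,0,2,3],3309,3),
   ([0,1,2,3,1,1,1],3310,1),
   ([2,0,2,2,2,0,1],3310,2),
   ([0,1,2,2,1,1,4],3310,3),
   ([3,1,2,3,3,4,3],3311,2),
   ([1,2,4,2,3,1,1],3312,1),
   ([1,0,2,3,1,2,4],3313,0),
   ([0,2,3,1,3,3,1],3313,1),
   ([4,1,4,1,4,2,1],3313,2),
   ([2,1,4,3,3,2,3],3313,3),
   ([4,4,4,1,1,0,1],3314,0),
   ([1,1,3,3,4,2,1],3314,1),
   ([4,3,1,3,0,1,1],3314,2),
   ([1,1,1,4,4,0,4],3314,3),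
   ([0,2,1,1,1,4,3],3315,2),
   ([4,3,1,0,3,4,4],3315,3),
   ([4,2,1,3,3,3,1],3316,1),
   ([4,0,3,3,4,2,1],3316,2),
   ([2,1,3,0,3,3,3],3316,3),
   ([2,2,4,3,4,1,1],3317,1),
   ([3,0,2,4,0,0,1],3317,2),
   ([2,4,4,0,3,3,1],3318,1),
   ([1,1,2,0,4,2,1],3318,2),
   ([2,1,3,1,2,0,1],3319,0),
   ([2,1,1,2,0,1,1],3319,2),
   ([0,3,2,4,4,0,1],3320,0),
   ([0,3,1,3,4,1,1],3320,2),
   ([1,1,1,4,3,4,4],3320,3),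
   ([0,3,0,2,3,3,4],3322,2),
   ([3,4,0,0,4,0,4],3322,3),
   ([2,4,1,2,4,2,0],3323,0),
   ([1,2,2,4,3,0,2],3323,1),
   ([2,4,3,4,4,3,4],3324,0),
   ([1,2,3,2,0,1,3],3324,3),
   ([0,1,3,3,2,0,1],3326,0),
   ([4,2,3,2,3,1,1],3326,2),
   ([1,1,3,3,2,3,3],3326,3),
   ([3,0,1,0,3,1,3],3327,1),
   ([3,3,4,2,3,2,0],3327,3),
   ([4,4,2,1,2,0,1],3328,0),
   ([1,1,1,2,2,2,1],3328,1),
   ([1,0,4,4,3,1,1],3328,2),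
   ([1,1,4,0,2,0,4],3328,3),
   ([4,4,4,2,3,4,0],3329,0),
   ([4,1,1,2,1,1,4],3329,2),
   ([1,4,1,3,2,0,4],3329,3),
   ([3,1,2,0,1,3,1],3330,1),
   ([4,2,3,2,2,2,1],3330,2),
   ([3,0,4,2,4,3,0],3331,0),
   ([1,4,3,3,2,2,3],3331,2),
   ([0,4,3,4,2,2,3],3332,1),
   ([2,3,2,4,3,2,4],3333,2),
   ([2,0,4,0,3,3,0],3334,0),
   ([0,4,4,2,4,0,3],3334,1),
   ([2,3,4,1,2,2,3],3334,2),
   ([3,3,4,2,2,2,3],3335,1),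
   ([3,4,2,1,0,4,3],3335,2)]

/-- A block of images of the fixed vector. -/
def vOrbB64 : List (List ℕ × ℕ × ℕ) :=
  [([4,3,2,0,2,0,2],3335,3),
   ([4,1,0,1,3,3,4],3337,0),
   ([4,0,4,1,0,3,2],3337,1),
   ([2,1,2,0,2,1,2],3337,2),
   ([1,2,2,1,0,1,0],3337,3),
   ([3,1,0,0,2,2,3],3339,1),
   ([0,3,2,4,0,4,3],3339,2),
   ([2,4,3,4,1,4,3],3341,1),
   ([2,4,1,2,4,1,3],3341,2),
   ([1,3,1,3,1,2,1],3341,3),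
   ([0,2,4,4,2,0,2],3342,0),
   ([3,4,1,4,3,4,2],3342,1),
   ([2,2,1,1,3,1,1],3342,3),
   ([3,2,3,3,4,0,3],3343,0),
   ([1,1,2,4,4,3,3],3343,2),
   ([2,2,2,1,3,1,2],3345,2),
   ([0,3,1,2,2,2,1],3346,0),
   ([3,1,3,3,2,4,3],3346,2),
   ([4,3,3,2,4,4,4],3346,3),
   ([1,2,2,3,3,1,2],3347,0),
   ([4,4,3,1,0,1,3],3347,2),
   ([1,3,3,2,2,3,4],3347,3),
   ([3,4,3,3,3,0,4],3348,2),
   ([4,4,2,2,1,4,0],3349,1),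
   ([1,2,4,2,1,4,0],3349,2),
   ([2,3,1,4,0,4,0],3350,0),
   ([2,0,0,1,3,0,4],3350,1),
   ([1,0,1,2,2,1,4],3350,2),
   ([1,4,1,3,3,3,0],3350,3),
   ([0,2,2,3,0,2,4],3352,3),
   ([1,0,4,2,1,0,2],3353,2),
   ([0,2,4,2,4,0,4],3353,3),
   ([2,1,2,0,1,4,2],3354,2),
   ([4,1,1,1,0,0,2],3355,0),
   ([4,4,3,2,2,3,3],3356,2),
   ([1,1,4,1,0,3,1],3357,1),
   ([2,1,2,1,0,0,4],3357,3),
   ([2,4,2,2,2,0,1],3358,0),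
   ([1,2,1,1,1,2,1],3358,1),
   ([4,1,0,4,2,1,1],3358,2),
   ([1,1,0,0,1,1,3],3358,3),
   ([1,2,0,0,4,1,4],3359,2),
   ([0,1,2,2,4,2,2],3360,1),
   ([0,2,2,3,4,1,4],3360,3),
   ([4,1,0,4,4,4,3],3361,0),
   ([4,0,2,2,4,1,2],3361,1),
   ([3,0,4,2,0,0,2],3362,0),
   ([4,3,0,0,3,2,2],3362,2),
   ([2,2,0,2,1,1,4],3362,3),
   ([0,1,2,3,4,2,3],3363,0),
   ([0,2,3,4,4,2,1],3364,1),
   ([4,1,4,4,0,1,1],3364,2),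
   ([3,2,2,3,0,0,2],3365,0),
   ([3,0,0,2,1,4,2],3365,1),
   ([1,0,2,4,3,2,2],3365,2),
   ([2,2,2,1,1,2,0],3365,3),
   ([3,3,4,0,4,4,1],3366,0),
   ([4,0,1,3,1,2,0],3366,2),
   ([1,3,2,1,0,0,3],3367,1),
   ([3,3,0,4,3,2,3],3367,2),
   ([2,0,4,0,2,2,2],3368,1),
   ([1,1,1,3,4,0,2],3368,2),
   ([4,4,4,3,3,1,2],3369,1),
   ([4,0,1,1,0,4,2],3369,2),
   ([4,2,1,0,3,0,1],3369,3),
   ([1,2,3,2,3,0,2],3370,0),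
   ([3,1,4,0,0,4,2],3370,1),
   ([3,4,4,3,2,2,2],3370,2),
   ([4,1,4,2,3,3,3],3371,3),
   ([1,4,0,1,2,2,1],3372,1),
   ([4,2,1,3,3,0,2],3373,0),
   ([3,2,4,4,0,4,2],3373,1),
   ([0,3,1,2,2,2,2],3373,2),
   ([1,4,4,3,1,1,1],3374,0),
   ([0,2,3,4,2,4,0],3374,3),
   ([0,4,3,4,1,0,3],3375,2),
   ([2,3,4,2,4,2,3],3376,2),
   ([2,3,2,2,4,1,3],3377,2),
   ([1,0,4,1,1,2,4],3378,1),
   ([3,2,3,2,0,3,4],3378,2),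
   ([3,4,3,0,1,4,0],3378,3),
   ([3,3,1,0,3,2,0],3379,0),
   ([2,2,4,2,3,0,2],3379,1),
   ([2,2,3,1,0,3,2],3379,2),
   ([3,2,3,4,3,0,3],3379,3),
   ([2,2,3,4,2,1,2],3380,2),
   ([3,2,3,4,1,2,3],3381,2),
   ([2,4,0,1,4,2,3],3382,1),
   ([1,4,2,3,2,4,3],3382,2),
   ([4,4,4,1,4,4,2],3384,2),
   ([4,2,4,0,2,2,2],3384,3),
   ([3,4,4,3,3,2,4],3385,0),
   ([1,4,4,4,1,3,1],3385,1),
   ([0,3,2,1,2,2,1],3385,2),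
   ([1,1,4,4,1,2,1],3386,0),
   ([4,4,3,0,1,2,3],3386,1),
   ([1,3,4,0,4,4,3],3386,2),
   ([4,3,4,4,1,0,1],3386,3),
   ([0,3,4,2,1,1,3],3387,2),
   ([2,2,3,1,4,4,2],3388,1),
   ([1,3,2,4,1,2,2],3389,1),
   ([3,4,0,3,3,0,2],3389,2),
   ([1,0,2,2,4,4,3],3390,2),
   ([3,2,4,4,3,3,4],3391,0),
   ([1,2,3,3,0,2,0],3391,3),
   ([4,2,2,0,4,4,3],3392,0),
   ([4,1,2,0,4,4,2],3392,2),
   ([4,2,2,4,2,4,3],3392,3),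
   ([2,4,2,1,1,4,1],3393,0),
   ([2,1,2,1,0,2,0],3393,2),
   ([0,4,3,0,2,1,2],3394,1),
   ([1,1,0,4,4,4,2],3394,2),
   ([2,1,3,1,0,2,0],3395,1),
   ([0,1,1,4,0,2,0],3395,2),
   ([2,0,1,1,0,4,4],3395,3),
   ([3,1,1,2,2,3,4],3396,2),
   ([0,3,1,3,2,2,0],3397,0),
   ([2,1,1,0,3,0,2],3397,1),
   ([2,2,4,4,0,3,2],3397,2),
   ([3,2,4,2,3,4,4],3397,3),
   ([4,0,4,4,3,3,4],3398,0),
   ([0,3,4,3,0,3,2],3398,1),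
   ([1,2,3,3,0,3,2],3398,3),
   ([1,2,2,2,2,2,1],3400,0),
   ([3,1,1,1,1,2,3],3400,1)]

/-- A block of images of the fixed vector. -/
def vOrbB65 : List (List ℕ × ℕ × ℕ) :=
  [([2,2,3,1,2,1,2],3401,0),
   ([3,3,1,2,4,4,3],3401,1),
   ([1,3,1,3,4,0,2],3401,3),
   ([3,0,0,1,0,0,1],3403,0),
   ([0,1,0,4,4,2,1],3403,1),
   ([1,1,1,0,4,1,4],3403,3),
   ([3,1,2,3,4,1,3],3404,1),
   ([2,1,0,1,2,3,3],3404,2),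
   ([3,3,0,4,4,3,4],3404,3),
   ([3,0,4,4,0,0,1],3405,0),
   ([1,1,2,2,4,1,4],3405,3),
   ([4,2,2,1,1,3,3],3406,0),
   ([4,3,2,3,1,0,1],3406,2),
   ([0,1,2,3,0,4,3],3406,3),
   ([4,4,0,4,4,1,3],3407,0),
   ([3,0,2,1,3,2,4],3407,2),
   ([2,4,2,3,4,0,4],3407,3),
   ([3,3,4,0,2,1,4],3408,1),
   ([4,2,1,1,1,2,4],3408,2),
   ([2,4,1,3,2,0,2],3408,3),
   ([3,1,4,3,0,2,1],3409,2),
   ([1,2,1,3,2,0,4],3410,0),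
   ([3,1,4,3,2,4,4],3410,2),
   ([4,1,1,4,4,0,1],3411,0),
   ([1,1,4,1,1,1,0],3411,3),
   ([1,4,0,3,0,3,3],3412,0),
   ([1,0,0,2,2,1,1],3412,1),
   ([3,0,3,0,3,0,1],3412,2),
   ([0,1,3,0,2,4,0],3412,3),
   ([4,4,3,1,3,2,3],3413,0),
   ([2,0,3,4,1,1,0],3413,2),
   ([1,0,3,0,1,0,4],3413,3),
   ([4,2,4,3,3,1,4],3414,1),
   ([0,4,1,3,2,4,2],3415,0),
   ([1,3,1,0,3,4,1],3415,1),
   ([3,1,4,2,3,2,2],3415,3),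
   ([4,4,3,4,0,0,2],3416,2),
   ([0,2,3,4,3,3,4],3416,3),
   ([2,2,2,1,4,1,1],3417,1),
   ([1,1,4,2,0,0,1],3417,2),
   ([2,4,4,3,4,3,1],3418,1),
   ([1,0,2,2,0,2,1],3418,2),
   ([2,1,2,4,4,2,1],3418,3),
   ([4,3,1,4,0,2,1],3419,1),
   ([3,0,3,4,0,1,1],3420,2),
   ([2,2,3,1,3,4,1],3421,0),
   ([3,3,4,1,1,2,0],3421,1),
   ([3,2,4,4,3,2,0],3422,0),
   ([3,0,4,3,0,0,2],3422,1),
   ([0,3,3,0,2,3,2],3422,2),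
   ([3,2,3,3,0,2,0],3422,3),
   ([3,4,4,0,2,3,2],3424,1),
   ([3,4,1,2,4,1,2],3424,2),
   ([1,2,1,3,2,1,1],3424,3),
   ([0,4,2,2,1,4,3],3425,1),
   ([3,1,1,3,2,2,2],3426,0),
   ([2,2,4,2,2,0,4],3426,2),
   ([0,4,4,2,3,4,2],3426,3),
   ([1,0,4,1,0,0,3],3427,2),
   ([0,3,4,1,2,0,2],3427,3),
   ([0,3,3,0,2,3,3],3428,2),
   ([3,3,3,3,4,2,0],3428,3),
   ([0,4,4,1,2,0,4],3429,0),
   ([0,1,3,2,0,4,4],3429,2),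
   ([4,4,3,1,1,2,2],3429,3),
   ([4,4,4,3,3,4,0],3430,1),
   ([4,0,1,1,3,4,0],3430,2),
   ([4,4,4,4,1,0,1],3432,0),
   ([1,1,3,0,1,2,1],3432,1),
   ([1,3,4,3,2,1,1],3432,2),
   ([1,1,4,4,1,0,4],3432,3),
   ([0,1,1,0,0,3,3],3433,0),
   ([0,3,2,3,3,0,1],3433,2),
   ([0,1,2,3,2,3,3],3433,3),
   ([0,1,4,1,1,1,4],3435,1),
   ([4,1,1,0,3,4,2],3436,0),
   ([1,0,3,1,4,3,1],3436,2),
   ([3,1,3,4,3,1,0],3436,3),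
   ([1,0,0,3,4,3,1],3437,1),
   ([3,1,3,2,0,2,1],3437,2),
   ([1,2,3,0,1,2,3],3438,0),
   ([4,2,3,0,3,1,0],3438,2),
   ([3,1,4,2,2,0,1],3439,0),
   ([2,4,4,0,1,1,1],3439,2),
   ([1,1,4,1,0,4,2],3439,3),
   ([3,3,4,4,1,0,3],3440,1),
   ([2,3,2,3,1,0,2],3440,3),
   ([2,2,4,4,2,4,4],3441,2),
   ([3,3,0,1,3,1,2],3442,0),
   ([2,2,4,1,0,4,3],3442,1),
   ([3,3,2,0,3,1,3],3442,2),
   ([2,1,4,1,3,0,3],3443,0),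
   ([4,1,4,1,3,1,3],3443,1),
   ([3,4,0,0,1,3,3],3443,2),
   ([3,3,0,3,3,2,4],3443,3),
   ([0,2,2,2,4,1,1],3444,1),
   ([3,2,0,4,4,2,4],3445,0),
   ([3,0,2,2,4,3,1],3445,1),
   ([1,4,2,1,0,2,1],3445,2),
   ([2,1,2,3,4,2,0],3445,3),
   ([3,2,0,2,1,1,1],3446,2),
   ([1,1,0,3,0,2,3],3446,3),
   ([0,3,2,3,4,4,1],3447,0),
   ([1,2,0,2,4,2,0],3447,2),
   ([2,0,1,0,0,2,1],3448,1),
   ([1,4,4,0,4,3,3],3449,0),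
   ([1,0,2,1,1,1,1],3449,1),
   ([3,4,2,1,0,0,1],3450,1),
   ([4,2,0,2,1,4,1],3450,2),
   ([0,2,3,1,2,4,1],3451,0),
   ([3,3,1,1,4,2,0],3451,2),
   ([2,0,1,3,4,1,1],3451,3),
   ([4,1,2,2,3,2,3],3452,0),
   ([2,3,2,1,3,1,0],3452,2),
   ([1,0,2,2,3,1,0],3452,3),
   ([0,2,0,1,3,1,0],3453,1),
   ([2,2,1,2,3,1,0],3453,2),
   ([0,2,1,3,3,1,0],3454,2),
   ([1,0,1,4,3,4,0],3454,3),
   ([2,1,4,3,0,0,3],3455,0),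
   ([2,2,1,4,3,3,3],3455,2),
   ([0,0,4,0,3,3,3],3456,1),
   ([4,4,0,3,0,2,1],3458,0),
   ([1,1,0,2,2,2,3],3458,1),
   ([2,2,3,1,0,4,3],3458,2)]

/-- A block of images of the fixed vector. -/
def vOrbB66 : List (List ℕ × ℕ × ℕ) :=
  [([4,3,3,0,2,0,4],3458,3),
   ([0,1,4,2,0,4,3],3459,1),
   ([0,3,0,2,4,3,3],3461,1),
   ([2,3,2,1,1,1,2],3462,0),
   ([1,3,2,3,0,3,0],3462,3),
   ([2,1,1,0,0,3,0],3463,2),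
   ([4,0,3,0,0,1,3],3464,0),
   ([0,3,0,0,1,1,4],3464,1),
   ([2,4,1,4,1,3,2],3464,3),
   ([1,3,3,0,2,0,1],3465,0),
   ([2,3,1,3,0,2,1],3465,1),
   ([1,1,0,3,0,1,2],3465,3),
   ([3,4,3,4,2,3,3],3466,0),
   ([3,0,4,3,2,0,1],3466,2),
   ([0,1,4,3,1,3,1],3466,3),
   ([1,3,4,4,2,4,2],3467,2),
   ([4,0,0,3,3,1,4],3468,1),
   ([2,3,2,3,2,2,4],3468,2),
   ([2,4,2,0,3,1,0],3468,3),
   ([2,2,0,2,1,4,2],3469,0),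
   ([3,1,4,2,0,0,2],3469,3),
   ([2,0,1,1,1,3,1],3470,1),
   ([2,1,0,0,1,3,0],3470,3),
   ([1,2,2,0,3,2,0],3471,0),
   ([2,2,0,4,2,3,2],3471,2),
   ([3,2,0,2,0,3,4],3471,3),
   ([1,2,1,1,1,3,3],3472,0),
   ([0,1,0,0,3,3,4],3472,3),
   ([3,0,2,4,3,2,4],3473,0),
   ([0,3,4,0,2,2,1],3473,2),
   ([2,1,4,2,1,1,4],3473,3),
   ([0,1,1,2,1,0,1],3474,0),
   ([1,1,1,0,2,3,3],3474,3),
   ([0,3,0,0,3,1,3],3475,0),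
   ([0,1,1,4,0,2,4],3475,2),
   ([2,4,1,1,1,4,4],3475,3),
   ([2,2,1,2,0,3,1],3476,0),
   ([3,3,0,3,0,2,4],3476,1),
   ([4,4,0,3,2,3,2],3477,1),
   ([4,0,1,0,4,1,2],3477,2),
   ([0,2,1,3,4,4,4],3478,2),
   ([1,2,3,1,3,1,1],3479,1),
   ([0,1,4,3,3,1,3],3479,3),
   ([2,4,0,0,1,0,1],3480,0),
   ([2,0,2,1,3,1,1],3480,2),
   ([4,3,2,4,4,4,3],3481,2),
   ([1,4,0,2,4,3,3],3482,2),
   ([3,3,0,0,1,4,3],3482,3),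
   ([2,1,4,3,1,0,1],3483,0),
   ([0,3,3,3,3,1,1],3483,2),
   ([0,0,4,0,3,1,1],3484,1),
   ([3,4,2,2,4,0,1],3484,2),
   ([3,2,2,4,1,3,4],3485,2),
   ([4,3,2,4,1,3,0],3488,0),
   ([2,4,3,0,2,0,3],3488,1),
   ([0,2,0,2,0,2,3],3489,1),
   ([4,3,1,2,0,2,3],3489,3),
   ([0,1,2,2,2,3,2],3490,1),
   ([4,0,0,4,4,1,2],3490,2),
   ([1,2,0,0,2,1,4],3490,3),
   ([3,1,1,4,3,4,3],3491,0),
   ([4,3,4,3,4,1,2],3491,1),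
   ([2,1,2,1,1,2,4],3492,2),
   ([0,2,4,1,4,4,0],3493,2),
   ([4,0,4,0,4,1,4],3493,3),
   ([4,1,2,3,0,2,2],3494,0),
   ([4,0,0,2,1,4,4],3494,1),
   ([0,4,2,1,1,1,0],3494,3),
   ([2,0,4,0,4,2,3],3495,0),
   ([1,0,1,0,1,4,1],3495,3),
   ([4,2,2,2,0,1,2],3496,0),
   ([3,2,0,3,2,4,3],3496,1),
   ([0,3,1,0,0,1,3],3496,2),
   ([1,3,1,1,2,4,3],3496,3),
   ([2,1,4,3,0,4,0],3497,0),
   ([4,1,0,2,0,0,4],3497,1),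
   ([2,4,1,1,4,1,4],3497,2),
   ([2,2,2,4,2,1,3],3498,0),
   ([3,1,2,3,3,2,4],3498,2),
   ([2,4,2,0,4,0,2],3498,3),
   ([4,4,4,3,3,2,3],3499,0),
   ([1,1,4,4,1,1,0],3499,1),
   ([1,0,2,3,1,0,4],3499,3),
   ([1,2,2,3,0,3,2],3501,1),
   ([3,2,1,2,2,1,2],3501,2),
   ([4,0,0,0,3,3,3],3502,2),
   ([3,3,0,3,0,1,3],3502,3),
   ([1,0,1,4,2,0,1],3503,3),
   ([3,1,0,2,2,3,3],3504,0),
   ([0,1,1,4,2,4,2],3504,3),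
   ([1,3,4,1,3,0,1],3505,1),
   ([3,0,0,4,4,4,1],3505,2),
   ([4,1,0,3,3,2,2],3505,3),
   ([4,3,0,0,4,2,2],3506,2),
   ([4,0,3,2,3,4,3],3507,0),
   ([0,3,4,0,0,1,2],3507,1),
   ([4,2,4,0,0,3,2],3507,3),
   ([2,3,1,1,1,1,0],3508,0),
   ([4,1,0,0,3,3,0],3508,3),
   ([2,1,4,0,0,1,4],3509,0),
   ([3,0,3,2,3,2,4],3509,3),
   ([1,2,3,0,2,0,1],3510,0),
   ([2,1,0,2,1,1,1],3510,2),
   ([4,4,4,2,4,1,1],3511,0),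
   ([1,1,2,4,4,2,2],3511,1),
   ([2,1,3,0,1,0,2],3511,2),
   ([0,2,3,0,4,0,4],3511,3),
   ([2,0,3,3,1,2,4],3512,2),
   ([4,0,0,0,1,1,3],3513,2),
   ([1,3,0,1,3,1,1],3513,3),
   ([2,1,1,1,0,0,4],3514,1),
   ([1,4,4,1,0,4,4],3514,3),
   ([2,1,1,4,3,1,3],3515,0),
   ([3,4,0,1,3,2,2],3516,0),
   ([0,4,2,1,0,3,1],3516,3),
   ([2,2,0,2,4,4,2],3517,2),
   ([4,2,0,4,1,1,0],3518,0),
   ([3,2,3,0,3,0,1],3518,1),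
   ([0,2,1,3,4,4,1],3518,2),
   ([4,1,1,2,3,4,3],3518,3),
   ([2,4,4,3,2,4,2],3519,0),
   ([4,1,0,3,0,3,1],3519,2),
   ([3,1,0,1,4,1,3],3519,3),
   ([2,1,0,1,2,1,2],3520,0),
   ([3,3,0,3,1,1,3],3520,2)]

/-- A block of images of the fixed vector. -/
def vOrbB67 : List (List ℕ × ℕ × ℕ) :=
  [([1,3,0,4,3,2,4],3520,3),
   ([2,4,0,4,4,4,2],3521,0),
   ([2,0,2,0,0,3,1],3521,2),
   ([3,2,4,1,0,3,3],3522,1),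
   ([0,3,2,1,0,4,3],3522,3),
   ([4,4,0,4,3,4,1],3525,2),
   ([1,0,4,0,4,4,1],3526,0),
   ([0,2,2,1,1,2,0],3526,1),
   ([0,4,2,0,4,4,3],3527,2),
   ([4,3,0,0,4,4,1],3528,0),
   ([0,3,3,1,3,2,0],3528,2),
   ([2,0,3,3,3,2,1],3528,3),
   ([2,0,0,0,2,1,1],3529,0),
   ([0,4,1,3,4,2,2],3529,1),
   ([2,2,4,4,1,0,2],3529,2),
   ([0,2,4,4,4,4,1],3529,3),
   ([1,2,4,2,0,2,0],3530,0),
   ([3,1,0,3,1,0,2],3530,1),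
   ([2,2,0,4,3,3,2],3530,2),
   ([3,2,0,2,1,3,4],3530,3),
   ([1,0,3,3,3,4,2],3531,0),
   ([3,4,0,2,0,3,1],3531,2),
   ([3,1,0,0,4,2,3],3531,3),
   ([4,0,4,0,2,1,1],3533,1),
   ([2,2,3,4,3,2,4],3534,0),
   ([2,1,2,0,0,0,1],3535,0),
   ([4,1,0,0,4,2,1],3535,1),
   ([4,2,4,0,0,1,1],3535,2),
   ([1,1,4,1,4,2,4],3535,3),
   ([2,2,3,4,4,0,3],3536,0),
   ([3,3,2,2,0,1,3],3536,1),
   ([2,4,3,4,3,3,3],3536,2),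
   ([3,3,3,2,0,0,2],3536,3),
   ([1,2,1,3,0,0,1],3537,0),
   ([2,1,0,2,0,1,1],3537,2),
   ([1,1,0,3,4,3,4],3537,3),
   ([4,3,0,4,2,3,3],3538,0),
   ([2,4,1,4,0,1,1],3538,1),
   ([0,2,3,4,1,0,1],3538,2),
   ([0,1,3,4,0,2,1],3538,3),
   ([4,4,3,2,0,0,4],3539,0),
   ([4,4,3,4,4,0,4],3539,3),
   ([1,4,3,0,1,0,4],3540,1),
   ([3,1,4,3,0,1,4],3540,2),
   ([4,3,4,1,0,1,4],3541,1),
   ([2,4,2,1,0,4,2],3541,3),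
   ([4,1,3,1,3,4,2],3542,2),
   ([1,1,1,0,3,1,0],3543,0),
   ([4,4,4,2,3,0,1],3543,1),
   ([2,3,3,0,4,4,1],3543,2),
   ([3,2,2,3,4,2,4],3545,2),
   ([2,4,2,0,0,0,1],3545,3),
   ([1,0,0,2,0,3,1],3546,2),
   ([1,2,2,0,0,0,2],3547,0),
   ([3,2,4,4,1,1,2],3548,1),
   ([4,3,1,0,1,4,2],3549,0),
   ([4,1,4,2,0,3,1],3549,2),
   ([3,1,4,0,4,2,1],3549,3),
   ([4,4,4,0,2,3,4],3550,2),
   ([4,1,3,3,4,0,1],3551,0),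
   ([2,3,2,1,2,1,1],3551,2),
   ([1,1,2,2,1,1,0],3551,3),
   ([1,4,4,1,3,0,1],3552,2),
   ([0,1,4,1,2,0,3],3552,3),
   ([1,2,4,0,1,1,0],3553,2),
   ([0,4,1,2,2,4,2],3554,0),
   ([1,3,1,1,4,4,1],3554,1),
   ([0,4,3,4,0,3,1],3554,2),
   ([0,1,2,4,0,2,4],3555,0),
   ([4,2,0,1,0,3,1],3555,1),
   ([2,1,3,1,0,3,3],3555,3),
   ([1,0,0,3,0,0,1],3556,2),
   ([1,4,2,1,1,2,4],3557,0),
   ([4,4,2,1,1,2,1],3557,2),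
   ([4,4,0,0,3,2,0],3558,0),
   ([1,1,4,2,1,0,2],3558,1),
   ([4,0,1,3,3,3,2],3558,2),
   ([3,2,1,1,1,0,4],3558,3),
   ([0,4,1,3,2,4,0],3559,0),
   ([1,3,1,0,3,0,4],3559,1),
   ([4,1,4,1,2,1,4],3559,2),
   ([3,4,2,3,3,1,3],3560,0),
   ([1,4,4,4,2,1,4],3560,1),
   ([2,1,2,3,2,1,4],3561,1),
   ([3,1,3,4,1,2,4],3561,2),
   ([2,4,3,1,2,4,4],3561,3),
   ([0,2,2,1,3,4,2],3562,0),
   ([3,4,4,1,4,4,1],3562,1),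
   ([3,0,1,4,0,3,1],3562,2),
   ([3,1,1,2,4,1,1],3562,3),
   ([0,1,1,3,4,3,4],3564,3),
   ([0,3,1,4,0,4,2],3565,0),
   ([2,1,0,1,3,4,1],3565,1),
   ([3,1,1,3,3,4,4],3565,3),
   ([4,4,0,3,0,4,3],3566,1),
   ([3,1,2,0,3,4,0],3567,0),
   ([4,3,4,2,0,0,4],3567,1),
   ([1,1,0,1,4,1,4],3567,2),
   ([1,4,0,2,0,4,2],3567,3),
   ([2,3,0,1,0,1,3],3568,0),
   ([2,0,0,4,4,1,4],3568,1),
   ([1,1,1,0,2,2,2],3569,2),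
   ([3,3,1,1,4,3,1],3570,2),
   ([3,1,1,4,3,1,2],3570,3),
   ([3,4,4,0,3,1,3],3571,0),
   ([1,4,4,2,4,1,4],3571,1),
   ([3,3,4,1,3,2,4],3571,2),
   ([2,0,1,2,4,3,1],3572,0),
   ([0,4,2,4,3,2,4],3572,1),
   ([3,1,0,0,1,1,1],3573,0),
   ([0,2,2,2,2,4,2],3573,3),
   ([1,1,0,1,0,4,2],3574,0),
   ([4,4,0,4,4,4,1],3574,1),
   ([4,1,1,2,0,3,1],3574,2),
   ([0,2,0,2,4,2,4],3575,1),
   ([3,0,0,0,3,3,4],3575,2),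
   ([3,4,0,3,4,2,3],3575,3),
   ([4,3,1,0,4,0,2],3576,0),
   ([3,4,0,4,2,2,2],3576,2),
   ([2,2,0,1,0,2,1],3576,3),
   ([2,0,2,3,4,0,4],3577,3),
   ([2,4,0,4,4,1,1],3578,0),
   ([0,2,2,3,4,1,3],3578,3),
   ([0,1,3,2,1,2,0],3579,0),
   ([4,2,3,2,1,0,2],3579,1)]

/-- A block of images of the fixed vector. -/
def vOrbB68 : List (List ℕ × ℕ × ℕ) :=
  [([2,1,0,3,3,3,2],3579,2),
   ([3,2,0,1,1,3,3],3579,3),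
   ([3,3,0,4,4,2,3],3580,3),
   ([3,2,1,4,1,3,1],3581,0),
   ([3,0,3,0,0,2,4],3581,1),
   ([0,2,3,2,4,3,4],3581,2),
   ([1,1,1,1,1,0,2],3582,1),
   ([0,3,0,2,3,3,2],3582,2),
   ([3,2,0,0,1,0,4],3582,3),
   ([0,4,1,4,0,3,4],3583,0),
   ([1,3,0,1,3,3,2],3583,1),
   ([2,3,1,2,0,1,2],3583,2),
   ([1,2,1,3,3,2,2],3583,3),
   ([1,4,1,4,1,4,3],3584,3),
   ([0,3,1,0,2,0,3],3585,3),
   ([2,2,3,0,1,1,3],3587,2),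
   ([1,3,3,1,3,0,4],3587,3),
   ([2,4,1,4,4,4,0],3588,0),
   ([3,4,3,1,3,0,3],3589,0),
   ([3,0,0,0,2,0,4],3590,2),
   ([0,4,0,0,3,2,0],3590,3),
   ([1,1,4,3,1,2,4],3591,1),
   ([3,4,4,2,1,0,4],3591,3),
   ([2,4,0,2,0,3,4],3592,1),
   ([2,4,1,3,4,4,4],3592,2),
   ([4,4,1,2,0,2,1],3592,3),
   ([0,2,0,0,3,4,0],3593,0),
   ([1,4,1,1,1,1,1],3593,3),
   ([2,0,2,3,3,1,0],3594,0),
   ([0,4,4,4,2,0,1],3594,1),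
   ([3,4,3,3,3,4,1],3594,2),
   ([4,1,3,2,2,4,1],3594,3),
   ([0,2,1,4,4,3,1],3595,2),
   ([2,1,1,2,1,4,2],3596,0),
   ([2,3,1,2,3,3,1],3596,2),
   ([3,1,1,0,2,2,4],3596,3),
   ([2,1,2,4,4,1,3],3597,2),
   ([1,0,2,1,4,4,0],3598,0),
   ([0,2,2,0,1,0,4],3598,1),
   ([0,4,3,3,0,1,4],3598,2),
   ([1,4,3,4,1,2,3],3598,3),
   ([1,1,3,1,0,1,4],3599,1),
   ([4,1,1,4,4,2,4],3599,2),
   ([2,4,1,1,0,0,4],3599,3),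
   ([4,4,0,1,3,4,1],3601,1),
   ([4,2,1,0,4,3,1],3601,2),
   ([4,0,1,1,4,3,1],3602,0),
   ([3,4,1,1,4,3,2],3602,3),
   ([4,3,1,3,3,0,2],3603,0),
   ([2,0,1,2,2,2,2],3603,2),
   ([2,3,3,2,2,3,2],3604,1),
   ([3,2,1,4,4,1,2],3604,2),
   ([1,3,1,0,2,1,3],3605,2),
   ([1,0,2,4,0,4,3],3607,0),
   ([0,2,0,1,0,1,2],3607,1),
   ([3,3,0,2,2,0,2],3608,0),
   ([4,3,1,2,4,2,2],3608,2),
   ([3,1,3,0,3,4,4],3609,1),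
   ([0,4,1,2,3,3,4],3609,3),
   ([0,1,0,1,1,2,4],3610,1),
   ([0,3,4,2,0,3,4],3610,2),
   ([3,2,0,0,0,0,4],3611,0),
   ([3,0,0,0,0,3,4],3611,1),
   ([4,4,0,0,0,2,0],3611,3),
   ([0,2,1,2,3,1,3],3612,0),
   ([2,4,0,4,1,1,1],3612,3),
   ([1,4,0,2,3,4,2],3613,1),
   ([3,2,0,3,0,3,4],3614,1),
   ([4,4,4,3,0,4,3],3614,3),
   ([1,1,4,4,3,1,2],3615,0),
   ([2,4,3,2,3,1,3],3615,2),
   ([0,3,3,3,1,4,2],3616,0),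
   ([3,1,1,1,0,4,4],3616,3),
   ([0,1,1,4,1,3,1],3617,0),
   ([4,2,3,0,0,2,4],3617,1),
   ([4,4,3,2,4,3,4],3617,2),
   ([3,4,3,0,0,3,3],3617,3),
   ([4,3,1,3,1,4,3],3620,0),
   ([2,4,3,1,1,1,2],3620,1),
   ([1,0,2,1,3,4,2],3620,2),
   ([4,2,2,0,1,2,1],3620,3),
   ([1,4,4,0,0,0,2],3621,0),
   ([1,0,0,0,3,4,2],3621,1),
   ([2,2,3,2,3,4,0],3621,3),
   ([0,1,2,1,4,0,1],3622,0),
   ([4,4,3,3,2,1,1],3622,2),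
   ([3,1,4,3,4,2,4],3624,1),
   ([0,1,2,1,3,3,4],3624,2),
   ([1,0,3,1,3,4,4],3625,2),
   ([4,1,1,0,1,2,2],3626,2),
   ([3,1,4,2,1,0,4],3627,0),
   ([4,3,3,2,3,3,4],3627,1),
   ([1,4,4,0,2,2,2],3628,0),
   ([1,0,1,3,2,4,4],3628,1),
   ([0,4,2,1,2,4,0],3628,3),
   ([0,3,2,1,4,0,2],3629,0),
   ([3,2,3,2,3,2,2],3629,2),
   ([4,1,2,4,3,4,4],3630,1),
   ([1,3,2,1,2,0,4],3630,2),
   ([0,4,2,1,3,2,4],3630,3),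
   ([3,1,2,1,0,0,1],3631,2),
   ([2,0,2,1,4,1,0],3632,0),
   ([0,4,2,0,1,0,1],3632,1),
   ([3,3,3,0,2,4,1],3632,2),
   ([4,1,3,4,1,4,1],3632,3),
   ([0,4,1,2,3,3,1],3633,2),
   ([0,3,4,0,0,1,3],3635,2),
   ([1,3,4,1,2,1,3],3635,3),
   ([1,0,1,0,2,4,0],3636,0),
   ([0,2,1,3,1,0,4],3636,1),
   ([2,0,1,1,0,1,4],3636,2),
   ([1,0,0,4,2,1,3],3637,0),
   ([0,3,3,2,4,2,4],3637,2),
   ([2,4,3,4,0,2,3],3637,3),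
   ([3,4,4,1,2,2,1],3638,0),
   ([4,3,3,1,1,3,1],3638,3),
   ([4,3,2,2,0,4,2],3639,0),
   ([3,1,1,1,2,2,1],3639,3),
   ([2,0,4,3,0,1,3],3640,0),
   ([2,4,1,2,0,4,1],3640,3),
   ([0,0,4,3,4,2,4],3641,1),
   ([3,0,2,1,3,3,4],3641,2),
   ([4,3,1,1,2,4,2],3642,0),
   ([3,1,2,2,0,2,1],3642,3),
   ([1,3,2,0,1,3,4],3643,0)]

/-- A block of images of the fixed vector. -/
def vOrbB69 : List (List ℕ × ℕ × ℕ) :=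
  [([3,3,1,2,3,1,2],3643,2),
   ([1,2,1,3,1,1,2],3643,3),
   ([3,2,2,2,2,0,4],3646,0),
   ([3,0,1,1,1,3,4],3646,1),
   ([3,1,0,1,0,4,4],3646,2),
   ([4,0,1,3,3,2,2],3647,0),
   ([0,3,4,4,0,4,4],3647,1),
   ([0,4,1,4,0,3,2],3647,3),
   ([3,4,0,0,1,4,1],3648,1),
   ([0,3,1,4,1,1,3],3649,0),
   ([3,4,3,3,4,2,4],3649,2),
   ([4,3,1,4,1,2,2],3650,0),
   ([1,2,2,0,3,4,4],3651,1),
   ([1,2,3,2,2,4,3],3653,2),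
   ([2,2,0,0,1,4,0],3654,1),
   ([4,1,1,0,1,4,0],3654,2),
   ([0,2,3,0,0,4,4],3656,2),
   ([4,3,4,0,2,4,4],3657,0),
   ([1,1,2,1,0,0,3],3657,2),
   ([2,3,3,1,4,4,4],3659,0),
   ([2,0,2,0,3,3,3],3659,1),
   ([0,3,0,2,3,3,0],3659,3),
   ([1,1,1,0,1,1,2],3660,0),
   ([4,4,3,4,4,4,3],3660,1),
   ([1,3,4,4,2,1,3],3660,2),
   ([0,1,3,0,0,3,3],3661,2),
   ([3,3,3,3,2,2,2],3661,3),
   ([4,4,0,0,1,1,4],3663,1),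
   ([4,0,1,2,0,2,4],3663,2),
   ([2,4,1,4,1,0,1],3663,3),
   ([4,2,4,0,0,2,4],3664,1),
   ([3,4,4,2,4,3,4],3664,2),
   ([4,1,4,4,2,4,1],3665,2),
   ([2,0,1,2,0,0,3],3666,0),
   ([0,4,0,3,0,1,3],3666,1),
   ([3,3,4,3,0,4,1],3666,3),
   ([1,1,4,1,1,2,1],3667,1),
   ([1,1,3,0,1,0,4],3667,3),
   ([1,1,3,1,2,0,2],3669,2),
   ([0,2,3,1,0,1,1],3669,3),
   ([3,3,3,0,1,0,3],3670,0),
   ([2,1,3,3,1,3,3],3670,2),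
   ([3,3,3,1,3,0,3],3670,3),
   ([3,3,0,0,3,3,2],3671,1),
   ([2,1,3,1,0,1,2],3671,2),
   ([1,2,3,2,3,2,1],3672,0),
   ([3,2,4,1,3,4,3],3672,2),
   ([4,3,4,0,0,3,4],3672,3),
   ([1,3,4,4,3,3,0],3673,3),
   ([3,1,3,2,3,0,4],3674,0),
   ([2,4,4,1,4,4,4],3674,2),
   ([4,0,1,4,0,3,2],3675,1),
   ([1,2,3,3,2,1,2],3675,2),
   ([1,2,3,4,0,1,0],3675,3),
   ([2,2,0,4,3,2,1],3676,0),
   ([3,3,4,3,2,2,3],3676,1),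
   ([2,0,0,2,3,1,3],3677,2),
   ([3,1,3,4,0,2,0],3678,0),
   ([1,3,0,1,4,3,2],3678,2),
   ([3,2,0,4,2,4,2],3678,3),
   ([2,3,2,2,4,2,2],3680,0),
   ([3,3,4,4,4,0,4],3680,2),
   ([0,4,4,4,0,3,0],3680,3),
   ([3,2,1,2,4,0,4],3681,1),
   ([0,2,1,2,3,1,4],3681,2),
   ([1,4,1,3,4,4,3],3681,3),
   ([4,4,1,1,4,4,0],3683,0),
   ([1,1,2,0,4,0,4],3683,1),
   ([4,2,1,0,3,1,4],3683,2),
   ([3,1,3,3,2,2,4],3684,2),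
   ([4,3,3,4,0,4,0],3685,0),
   ([2,4,0,1,2,0,4],3685,1),
   ([1,4,0,4,2,2,1],3685,3),
   ([0,2,2,4,0,1,4],3686,0),
   ([3,4,0,1,0,3,0],3686,1),
   ([1,3,3,3,0,3,0],3686,2),
   ([0,4,2,4,3,2,0],3688,2),
   ([2,0,2,1,3,3,1],3688,3),
   ([0,4,3,0,0,2,0],3689,0),
   ([1,3,0,0,1,0,2],3689,1),
   ([2,3,1,1,3,3,2],3689,2),
   ([3,2,1,4,1,2,2],3689,3),
   ([1,0,2,1,3,1,2],3690,0),
   ([1,3,1,2,4,2,3],3690,3),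
   ([2,2,2,0,4,1,3],3691,0),
   ([3,3,2,1,2,1,4],3691,1),
   ([3,4,2,2,1,2,4],3691,2),
   ([2,4,2,4,2,0,2],3691,3),
   ([2,0,3,0,0,3,1],3692,0),
   ([0,4,0,0,1,2,4],3692,1),
   ([0,4,1,1,0,3,4],3692,2),
   ([3,4,1,4,1,4,1],3692,3),
   ([4,3,3,2,4,2,0],3693,0),
   ([2,0,1,4,4,3,2],3693,2),
   ([3,2,1,2,2,2,1],3693,3),
   ([1,3,1,4,4,2,0],3694,2),
   ([2,3,2,4,2,1,1],3695,0),
   ([2,0,1,4,4,2,2],3695,1),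
   ([0,2,2,0,4,3,0],3695,3),
   ([0,4,3,4,1,0,2],3696,1),
   ([3,2,1,3,1,4,1],3696,3),
   ([3,0,1,1,4,2,3],3697,3),
   ([4,3,3,3,2,2,4],3698,1),
   ([2,2,4,3,1,3,4],3698,2),
   ([0,3,1,3,1,0,2],3699,1),
   ([3,2,1,2,1,3,2],3699,3),
   ([0,4,1,3,3,3,2],3700,1),
   ([4,2,4,1,2,3,4],3701,0),
   ([3,3,3,0,3,1,2],3701,2),
   ([2,4,3,2,4,4,0],3702,0),
   ([1,2,2,4,2,0,4],3702,1),
   ([3,0,1,1,1,1,4],3702,2),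
   ([1,4,1,2,2,1,3],3702,3),
   ([0,4,3,2,0,1,4],3703,0),
   ([3,0,3,4,4,2,2],3703,3),
   ([2,0,4,4,0,1,4],3705,0),
   ([0,4,0,1,4,3,0],3705,1),
   ([3,0,2,2,4,4,1],3705,3),
   ([1,4,3,1,0,4,4],3706,0),
   ([1,0,0,4,0,3,3],3706,1),
   ([4,3,2,4,3,0,3],3706,2),
   ([0,3,2,4,0,4,0],3706,3),
   ([4,0,2,2,4,3,2],3707,0),
   ([4,0,4,4,0,3,2],3707,3),
   ([4,0,0,1,4,3,2],3708,0)]

/-- A block of images of the fixed vector. -/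
def vOrbB70 : List (List ℕ × ℕ × ℕ) :=
  [([0,3,2,0,2,4,0],3708,1),
   ([4,0,4,3,2,3,2],3708,3),
   ([1,2,1,1,1,4,0],3709,0),
   ([1,4,0,0,3,3,4],3709,3),
   ([2,0,4,3,2,1,4],3710,0),
   ([3,0,0,1,4,4,1],3710,3),
   ([3,0,3,4,2,1,4],3711,2),
   ([1,4,3,0,3,4,4],3711,3),
   ([0,2,4,1,0,1,4],3712,0),
   ([3,4,0,4,2,3,0],3712,1),
   ([3,0,4,2,2,1,1],3712,3),
   ([2,1,0,0,1,1,4],3713,0),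
   ([4,1,3,4,2,3,0],3713,1),
   ([3,0,2,2,2,2,4],3713,3),
   ([0,1,2,0,2,2,0],3714,3),
   ([1,1,1,3,2,0,4],3715,1),
   ([2,4,0,4,2,3,0],3716,1),
   ([3,0,4,2,2,2,1],3716,3),
   ([3,3,4,0,2,2,0],3717,3),
   ([1,0,4,3,2,2,3],3718,0),
   ([1,0,0,1,4,2,3],3718,3),
   ([1,2,0,2,3,0,1],3719,1),
   ([0,4,4,3,0,1,4],3721,1),
   ([1,4,3,1,4,4,2],3722,0),
   ([1,0,2,0,3,4,1],3722,1),
   ([1,1,0,4,4,3,1],3722,2),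
   ([3,1,0,2,3,4,0],3722,3),
   ([3,0,4,0,3,4,0],3723,2),
   ([0,2,4,3,3,3,1],3725,1),
   ([2,0,1,3,4,2,1],3725,2),
   ([1,1,1,3,4,3,0],3726,2),
   ([3,0,1,1,4,3,3],3726,3),
   ([4,0,1,1,4,1,1],3727,0),
   ([1,0,1,1,1,0,2],3727,2),
   ([3,2,3,1,3,2,1],3728,2),
   ([2,1,3,3,2,4,2],3728,3),
   ([0,3,3,2,2,0,3],3729,1),
   ([2,3,1,0,2,3,2],3729,3),
   ([1,3,3,3,2,3,4],3731,0),
   ([4,3,2,4,2,2,0],3732,1),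
   ([2,0,1,2,2,4,2],3732,3),
   ([3,2,2,4,4,1,4],3733,1),
   ([3,0,3,3,3,2,4],3733,2),
   ([2,1,3,4,1,4,2],3734,0),
   ([1,0,2,3,0,3,1],3734,2),
   ([3,1,2,1,4,2,4],3734,3),
   ([0,4,3,2,3,2,4],3735,0),
   ([1,3,4,0,0,3,1],3735,1),
   ([3,0,2,2,3,3,0],3737,1),
   ([3,0,1,4,3,2,0],3737,3),
   ([4,4,4,0,3,4,4],3738,0),
   ([1,1,4,2,4,3,3],3738,1),
   ([1,2,4,3,2,0,3],3738,2),
   ([4,2,3,4,2,0,3],3739,1),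
   ([0,4,2,0,0,2,3],3739,2),
   ([2,3,2,2,2,3,3],3739,3),
   ([1,4,2,4,4,3,2],3740,3),
   ([0,4,3,1,2,2,4],3741,0),
   ([2,2,1,1,0,2,1],3741,2),
   ([2,1,1,3,4,2,2],3741,3),
   ([1,3,1,3,4,4,4],3743,0),
   ([0,3,3,1,2,1,2],3743,3),
   ([2,1,4,1,2,1,3],3744,2),
   ([0,3,0,0,4,1,3],3745,0),
   ([2,1,2,1,3,1,4],3745,1),
   ([2,4,3,3,3,4,4],3745,3),
   ([1,3,1,3,1,1,3],3747,0),
   ([2,1,2,3,0,2,4],3747,2),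
   ([0,4,2,4,0,3,1],3748,0),
   ([3,4,3,1,0,2,2],3748,3),
   ([4,3,2,0,1,3,1],3749,0),
   ([2,4,3,4,1,2,4],3749,1),
   ([3,4,1,3,1,2,1],3749,3),
   ([2,2,4,2,1,3,4],3750,0),
   ([3,3,3,2,3,3,2],3750,1),
   ([4,4,2,2,2,3,1],3751,2),
   ([1,2,3,1,0,3,4],3752,2),
   ([2,2,2,4,3,1,2],3753,2),
   ([1,2,2,0,1,1,2],3753,3),
   ([4,0,2,2,2,4,3],3754,2),
   ([2,1,4,3,1,1,4],3755,3),
   ([4,0,2,3,2,0,3],3756,1),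
   ([1,0,3,4,0,2,3],3756,2),
   ([2,0,1,4,1,2,1],3757,0),
   ([0,4,3,0,0,2,3],3757,1),
   ([4,3,3,0,0,4,1],3757,3),
   ([1,0,3,3,2,1,0],3758,2),
   ([1,0,3,4,2,1,2],3758,3),
   ([1,3,1,1,1,0,2],3759,1),
   ([3,0,0,2,3,3,2],3759,2),
   ([3,2,0,0,1,2,2],3759,3),
   ([4,2,3,0,0,1,1],3760,0),
   ([0,2,1,4,1,4,3],3760,3),
   ([0,2,4,3,0,2,3],3761,1),
   ([4,3,3,3,0,2,3],3761,3),
   ([3,2,3,1,4,3,4],3762,0),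
   ([3,0,2,0,3,3,2],3762,1),
   ([3,3,0,1,0,1,2],3762,2),
   ([1,2,0,2,3,2,0],3762,3),
   ([0,2,3,2,3,4,3],3763,0),
   ([3,4,4,0,0,1,2],3763,1),
   ([4,0,3,2,2,2,0],3765,2),
   ([1,2,4,2,0,3,2],3766,2),
   ([3,2,4,0,3,0,0],3766,3),
   ([4,1,4,0,0,2,1],3768,2),
   ([2,4,3,4,2,4,4],3771,0),
   ([0,3,4,3,4,0,3],3771,2),
   ([0,3,4,3,1,1,3],3771,3),
   ([4,2,4,1,4,2,4],3772,0),
   ([3,2,2,0,0,3,1],3772,1),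
   ([2,1,2,0,0,4,3],3772,3),
   ([1,2,0,3,2,0,1],3773,0),
   ([3,1,1,0,1,2,1],3773,1),
   ([0,3,2,3,2,1,1],3773,2),
   ([1,1,2,4,1,3,4],3773,3),
   ([4,0,2,4,3,1,3],3774,2),
   ([0,2,3,3,3,4,0],3775,3),
   ([3,2,0,2,4,0,2],3776,0),
   ([2,2,0,3,1,2,0],3776,3),
   ([2,0,0,3,2,2,3],3777,2),
   ([1,3,2,0,0,3,1],3778,1),
   ([1,1,2,3,1,2,1],3778,2),
   ([1,4,4,1,0,2,1],3779,0),
   ([1,0,0,4,2,2,3],3779,1),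
   ([2,0,4,3,0,4,3],3779,2)]

/-- A block of images of the fixed vector. -/
def vOrbB71 : List (List ℕ × ℕ × ℕ) :=
  [([4,3,4,2,2,4,0],3779,3),
   ([0,2,1,2,0,2,4],3780,1),
   ([0,1,4,0,1,2,4],3781,1),
   ([4,1,0,1,0,3,4],3781,2),
   ([3,4,0,4,1,1,4],3781,3),
   ([4,2,0,4,1,2,3],3783,0),
   ([4,4,2,2,4,3,0],3784,0),
   ([2,3,4,4,0,0,4],3784,3),
   ([3,2,3,4,3,2,1],3785,0),
   ([3,0,4,3,3,2,3],3785,1),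
   ([2,1,1,1,1,4,3],3785,2),
   ([4,3,1,0,3,2,0],3785,3),
   ([2,0,2,3,4,3,4],3787,2),
   ([3,4,2,1,0,1,4],3787,3),
   ([4,1,0,1,2,2,0],3788,0),
   ([4,0,1,2,3,0,2],3788,1),
   ([4,0,0,1,0,3,2],3788,2),
   ([3,2,0,4,3,1,0],3788,3),
   ([4,0,0,4,2,1,2],3789,2),
   ([1,2,0,0,0,1,4],3789,3),
   ([1,0,0,1,3,2,3],3791,1),
   ([3,3,2,2,4,3,4],3792,0),
   ([2,2,2,4,0,3,2],3792,1),
   ([1,4,4,4,0,0,3],3793,1),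
   ([1,0,1,2,3,2,3],3793,2),
   ([1,0,0,4,1,2,3],3794,0),
   ([2,0,1,1,3,1,0],3794,2),
   ([4,2,4,4,1,2,2],3795,1),
   ([0,3,2,3,3,0,2],3795,2),
   ([0,2,2,3,1,3,3],3795,3),
   ([0,1,3,2,0,4,2],3796,2),
   ([4,2,4,2,2,0,2],3797,0),
   ([3,2,1,1,0,4,2],3797,1),
   ([2,2,4,4,2,2,2],3797,2),
   ([3,3,4,3,0,0,2],3798,2),
   ([4,1,0,0,2,2,1],3799,1),
   ([1,3,2,3,2,0,2],3800,0),
   ([2,3,1,0,0,4,2],3800,1),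
   ([3,3,3,2,2,2,2],3801,1),
   ([0,2,1,0,2,0,2],3801,3),
   ([3,3,2,3,2,4,3],3802,0),
   ([3,4,0,2,0,0,2],3803,1),
   ([3,0,1,4,2,3,2],3803,2),
   ([1,1,4,3,0,2,3],3804,2),
   ([2,3,4,0,2,0,2],3804,3),
   ([1,4,1,3,3,2,1],3805,0),
   ([4,3,1,4,0,4,0],3805,3),
   ([3,4,3,4,3,3,2],3807,3),
   ([2,0,3,1,3,0,2],3808,1),
   ([3,3,4,0,0,3,2],3808,2),
   ([3,2,4,3,3,3,0],3808,3),
   ([4,2,3,4,3,1,4],3810,0),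
   ([0,4,1,2,3,3,0],3810,2),
   ([3,2,3,0,2,3,4],3811,0),
   ([3,0,1,3,0,3,2],3811,1),
   ([1,2,0,3,0,2,0],3811,3),
   ([2,4,1,1,3,4,3],3812,0),
   ([1,2,4,1,2,1,2],3812,1),
   ([0,1,4,0,4,4,2],3812,2),
   ([4,2,4,4,2,1,3],3812,3),
   ([0,1,4,1,0,2,0],3813,2),
   ([0,2,3,4,1,0,2],3815,3),
   ([2,0,3,0,4,4,0],3816,2),
   ([4,0,4,0,4,0,4],3817,1),
   ([1,4,3,1,4,1,0],3817,3),
   ([0,3,2,3,1,2,2],3818,0),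
   ([2,1,3,1,3,4,4],3818,1),
   ([2,2,4,3,2,0,4],3818,2),
   ([4,1,0,2,2,4,0],3819,0),
   ([4,0,1,1,2,0,4],3819,1),
   ([1,4,4,1,1,0,4],3820,1),
   ([4,3,3,4,0,1,4],3820,2),
   ([0,3,0,0,4,1,4],3822,0),
   ([2,1,2,1,3,3,0],3822,1),
   ([2,0,3,2,4,2,2],3825,1),
   ([1,1,4,3,3,4,3],3826,0),
   ([4,4,4,4,1,1,2],3826,1),
   ([4,2,2,3,1,0,1],3826,3),
   ([0,2,2,3,2,4,1],3827,2),
   ([3,1,4,1,3,2,1],3828,1),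
   ([2,1,0,2,4,1,1],3828,2),
   ([1,1,0,3,3,3,4],3828,3),
   ([3,0,3,3,0,0,2],3829,0),
   ([0,2,4,2,0,2,2],3829,2),
   ([1,2,4,4,2,2,4],3830,2),
   ([1,3,3,3,4,1,2],3831,1),
   ([2,2,1,0,1,4,2],3831,2),
   ([0,3,0,1,4,4,2],3832,0),
   ([2,1,2,0,2,4,1],3832,1),
   ([4,2,4,3,3,3,0],3833,0),
   ([3,2,4,4,1,0,3],3833,1),
   ([4,1,2,1,4,2,3],3833,2),
   ([2,3,2,3,1,4,3],3833,3),
   ([0,4,2,4,2,4,3],3834,2),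
   ([4,3,2,3,4,3,3],3834,3),
   ([2,1,2,1,4,1,3],3835,2),
   ([1,3,2,2,1,1,2],3835,3),
   ([2,2,2,0,4,0,2],3836,1),
   ([4,1,1,3,1,3,2],3836,2),
   ([1,3,3,4,1,2,1],3837,0),
   ([2,4,3,1,0,4,2],3838,2),
   ([2,4,2,1,4,2,4],3839,0),
   ([1,3,3,2,2,2,1],3839,2),
   ([1,4,2,3,1,3,1],3840,1),
   ([0,1,2,0,2,2,1],3840,2),
   ([2,1,2,2,1,3,1],3840,3),
   ([2,0,4,3,1,2,1],3841,0),
   ([0,4,3,1,2,2,3],3841,1),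
   ([0,3,1,0,2,0,1],3843,0),
   ([0,4,1,1,2,1,1],3843,2),
   ([1,1,1,2,1,4,4],3843,3),
   ([1,1,3,0,4,2,2],3844,2),
   ([2,2,3,2,2,1,1],3844,3),
   ([3,4,0,4,4,2,2],3845,1),
   ([0,2,1,0,4,1,1],3845,3),
   ([3,3,1,2,1,3,3],3846,0),
   ([0,1,1,0,2,0,3],3846,3),
   ([1,3,2,1,4,3,4],3848,0),
   ([2,3,2,0,1,3,2],3848,1),
   ([1,0,3,3,3,1,2],3848,2),
   ([1,2,3,4,1,1,2],3848,3),
   ([0,0,2,2,3,1,2],3849,1),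
   ([2,4,2,0,1,4,3],3850,0),
   ([4,3,2,3,0,4,2],3852,1),
   ([0,2,1,1,2,2,2],3852,2)]

/-- A block of images of the fixed vector. -/
def vOrbB72 : List (List ℕ × ℕ × ℕ) :=
  [([2,2,1,3,0,4,2],3852,3),
   ([1,4,1,2,3,3,0],3853,2),
   ([3,0,1,0,3,3,3],3853,3),
   ([1,1,3,2,2,2,2],3854,1),
   ([4,1,1,0,4,0,2],3854,2),
   ([0,2,1,0,2,0,4],3854,3),
   ([0,2,1,3,0,2,2],3855,2),
   ([2,2,1,0,3,4,1],3855,3),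
   ([3,4,1,1,3,3,4],3857,2),
   ([0,3,3,3,4,2,0],3858,0),
   ([2,1,2,3,1,0,2],3858,1),
   ([4,2,2,4,3,3,2],3858,2),
   ([4,2,4,3,4,3,4],3859,0),
   ([3,2,2,3,3,3,2],3859,1),
   ([2,3,1,3,2,3,4],3860,0),
   ([2,0,1,0,3,3,2],3860,1),
   ([3,3,4,1,0,1,2],3860,2),
   ([1,2,4,2,3,3,0],3860,3),
   ([1,0,4,1,0,4,3],3861,2),
   ([4,3,4,0,2,0,1],3861,3),
   ([1,1,4,3,0,1,2],3862,0),
   ([4,4,0,2,0,4,3],3862,1),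
   ([3,1,4,2,3,1,0],3863,0),
   ([4,1,1,3,2,4,2],3863,3),
   ([2,2,2,2,0,0,3],3864,0),
   ([3,3,1,1,2,0,2],3864,3),
   ([0,4,1,2,2,4,1],3865,3),
   ([0,4,1,3,3,3,4],3866,2),
   ([3,4,1,1,4,4,0],3866,3),
   ([3,2,0,0,4,0,4],3867,0),
   ([4,4,3,3,3,2,0],3867,3),
   ([0,2,1,2,2,3,2],3868,0),
   ([4,0,3,2,4,1,1],3868,3),
   ([1,2,3,3,3,0,2],3869,0),
   ([2,4,0,3,1,2,2],3869,2),
   ([2,2,0,0,4,3,4],3869,3),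
   ([0,1,2,4,3,3,4],3870,1),
   ([4,4,2,1,3,1,4],3870,3),
   ([2,2,1,0,2,4,4],3871,1),
   ([2,3,3,3,1,0,4],3871,2),
   ([1,1,0,0,4,1,3],3872,0),
   ([2,4,3,3,3,0,1],3872,3),
   ([1,1,3,3,0,0,1],3873,2),
   ([3,1,3,0,1,1,0],3874,0),
   ([0,1,3,4,4,4,1],3875,1),
   ([3,1,4,0,4,1,4],3875,3),
   ([4,0,4,1,0,2,2],3876,2),
   ([2,2,4,3,3,2,4],3876,3),
   ([1,3,4,3,4,1,3],3877,2),
   ([0,4,0,2,1,1,3],3878,0),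
   ([1,3,3,2,0,1,4],3878,1),
   ([4,0,4,0,4,2,4],3878,2),
   ([2,4,4,2,0,2,2],3878,3),
   ([3,4,4,4,1,0,3],3879,0),
   ([3,3,4,4,1,3,1],3879,3),
   ([1,0,2,0,0,4,2],3880,0),
   ([0,2,0,0,4,4,1],3880,1),
   ([3,1,4,1,4,2,3],3880,3),
   ([3,2,4,1,4,1,3],3881,0),
   ([3,0,2,0,0,1,4],3881,1),
   ([1,3,2,3,4,2,4],3881,2),
   ([2,4,2,0,0,2,0],3881,3),
   ([3,2,0,1,4,2,4],3882,1),
   ([4,3,4,1,4,4,1],3883,0),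
   ([1,2,2,3,0,2,0],3883,2),
   ([2,3,3,1,3,3,4],3884,1),
   ([1,4,0,4,4,4,4],3885,0),
   ([0,3,2,3,4,4,0],3885,3),
   ([3,2,2,1,2,2,1],3886,2),
   ([4,2,4,2,0,0,4],3887,0),
   ([3,2,0,3,1,3,4],3887,1),
   ([1,0,0,2,3,4,1],3888,1),
   ([2,2,0,3,0,1,4],3889,1),
   ([4,0,1,4,2,0,4],3891,2),
   ([0,4,1,4,3,0,3],3891,3),
   ([4,3,4,0,3,3,1],3892,0),
   ([4,2,4,0,3,3,4],3892,2),
   ([3,4,4,3,4,2,1],3892,3),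
   ([0,3,0,3,3,3,4],3893,1),
   ([0,4,2,1,2,4,4],3893,2),
   ([0,2,1,4,3,0,1],3894,0),
   ([2,1,2,3,0,1,1],3894,2),
   ([1,1,2,4,4,1,1],3894,3),
   ([2,2,0,2,1,3,1],3895,1),
   ([2,1,2,1,1,0,3],3895,3),
   ([4,2,3,2,4,3,0],3897,2),
   ([3,0,3,0,4,3,0],3897,3),
   ([0,1,3,3,2,0,3],3898,2),
   ([4,1,3,3,4,3,3],3899,1),
   ([2,4,1,4,2,0,3],3899,2),
   ([4,4,4,0,2,0,1],3900,0),
   ([1,1,1,3,2,2,1],3900,1),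
   ([1,1,2,1,2,0,4],3900,3),
   ([2,0,0,4,3,3,4],3902,0),
   ([0,4,4,3,2,3,2],3902,1),
   ([1,0,0,0,4,1,2],3902,2),
   ([2,4,0,1,1,4,2],3903,2),
   ([4,2,0,0,4,3,2],3903,3),
   ([4,4,3,2,0,4,3],3904,0),
   ([1,1,0,3,4,1,2],3904,1),
   ([4,2,3,4,4,0,4],3904,3),
   ([1,3,4,1,3,2,2],3905,2),
   ([2,2,4,3,1,0,1],3905,3),
   ([2,3,1,2,3,0,4],3907,0),
   ([2,0,4,0,1,3,4],3907,1),
   ([2,4,0,0,0,4,4],3907,2),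
   ([3,0,4,4,3,2,2],3908,0),
   ([0,1,4,3,0,4,4],3908,1),
   ([1,2,3,3,4,0,4],3908,2),
   ([2,1,0,4,0,4,1],3909,1),
   ([0,2,1,0,4,1,3],3910,0),
   ([4,4,0,4,4,2,4],3910,2),
   ([2,4,0,1,0,1,1],3910,3),
   ([4,0,2,2,1,3,1],3911,0),
   ([4,1,3,0,3,3,4],3911,2),
   ([4,3,2,4,0,3,3],3912,0),
   ([0,1,3,1,1,0,1],3912,2),
   ([4,2,0,0,4,2,4],3913,1),
   ([1,2,0,1,3,3,4],3914,1),
   ([3,4,1,4,2,4,4],3914,2),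
   ([4,4,1,3,3,1,3],3914,3),
   ([2,2,0,4,1,1,0],3915,1),
   ([2,2,3,2,1,1,0],3915,2),
   ([0,2,1,3,1,0,1],3916,1),
   ([2,2,1,3,2,4,1],3916,2)]

/-- A block of images of the fixed vector. -/
def vOrbB73 : List (List ℕ × ℕ × ℕ) :=
  [([3,2,1,0,1,1,1],3917,2),
   ([1,1,1,0,0,0,2],3918,0),
   ([4,4,0,0,2,4,2],3918,1),
   ([3,3,2,1,4,2,2],3918,2),
   ([3,0,2,1,3,4,4],3920,1),
   ([0,1,3,3,2,0,4],3920,2),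
   ([0,4,3,3,3,2,0],3920,3),
   ([1,1,4,1,3,3,4],3921,2),
   ([3,4,4,4,4,0,4],3921,3),
   ([1,2,0,4,3,3,4],3922,1),
   ([4,0,0,2,2,4,4],3922,2),
   ([4,3,0,4,3,1,4],3923,2),
   ([4,3,4,1,3,4,2],3924,1),
   ([1,2,0,1,0,2,2],3924,2),
   ([4,4,4,4,3,3,2],3925,3),
   ([2,0,3,3,0,1,3],3927,0),
   ([2,0,4,2,2,2,4],3927,2),
   ([2,4,4,4,3,4,1],3927,3),
   ([1,2,3,4,0,3,4],3928,0),
   ([3,1,0,1,2,3,2],3928,1),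
   ([2,3,0,3,4,1,2],3928,2),
   ([3,1,4,2,4,1,2],3929,1),
   ([3,3,4,4,1,4,2],3929,2),
   ([4,2,3,4,2,2,4],3930,3),
   ([1,3,3,0,0,1,0],3931,0),
   ([3,1,1,2,2,4,1],3932,1),
   ([3,1,4,0,2,3,4],3932,3),
   ([4,1,1,1,4,0,1],3935,1),
   ([0,1,3,3,0,4,1],3935,2),
   ([0,2,1,4,1,4,2],3936,0),
   ([1,1,3,2,1,3,1],3936,2),
   ([1,3,0,3,0,1,4],3938,1),
   ([2,4,4,3,0,2,2],3938,3),
   ([0,1,2,0,3,4,2],3939,0),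
   ([4,2,4,2,0,4,1],3939,1),
   ([2,3,0,4,1,3,1],3939,2),
   ([3,1,0,2,0,3,3],3939,3),
   ([0,2,4,0,4,2,4],3940,0),
   ([3,4,2,1,1,3,1],3940,1),
   ([3,2,1,3,2,2,1],3940,2),
   ([2,1,1,0,1,1,1],3940,3),
   ([1,0,1,2,3,0,3],3941,2),
   ([0,3,1,2,0,3,4],3941,3),
   ([1,0,4,3,3,3,4],3942,1),
   ([0,1,1,1,2,4,4],3942,2),
   ([4,4,1,0,3,4,0],3942,3),
   ([4,2,2,1,0,3,1],3943,2),
   ([3,4,3,1,1,2,1],3944,2),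
   ([2,1,3,3,0,4,0],3944,3),
   ([1,0,2,0,1,3,0],3945,1),
   ([3,3,4,2,4,4,4],3946,0),
   ([2,2,3,0,2,0,3],3946,2),
   ([0,3,3,0,4,0,3],3946,3),
   ([4,0,3,4,1,3,0],3947,0),
   ([0,3,2,4,2,2,3],3947,2),
   ([2,3,2,1,4,3,2],3947,3),
   ([4,4,4,3,2,2,4],3948,0),
   ([1,1,1,0,4,3,1],3948,1),
   ([0,1,0,4,0,2,1],3948,2),
   ([2,1,0,1,4,0,4],3948,3),
   ([1,2,4,2,2,0,3],3949,1),
   ([2,0,2,3,0,2,3],3949,2),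
   ([2,3,2,0,2,1,3],3949,3),
   ([1,3,0,1,4,0,3],3950,0),
   ([3,3,4,3,2,1,2],3950,3),
   ([2,2,0,1,4,2,1],3951,0),
   ([4,3,4,3,2,0,2],3951,3),
   ([4,1,3,2,3,4,4],3953,1),
   ([1,4,2,4,2,0,4],3953,2),
   ([1,3,3,4,2,3,1],3954,0),
   ([3,4,4,3,1,1,2],3954,3),
   ([4,0,1,2,0,0,4],3955,0),
   ([0,3,0,3,0,3,4],3955,1),
   ([3,0,4,4,4,4,4],3955,2),
   ([4,4,4,3,0,3,2],3955,3),
   ([4,2,4,2,1,1,1],3956,3),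
   ([4,4,4,2,0,0,4],3957,1),
   ([0,2,0,1,4,1,4],3957,2),
   ([1,4,0,2,0,0,1],3957,3),
   ([4,3,4,1,3,3,0],3958,1),
   ([1,1,0,0,3,3,0],3958,2),
   ([1,4,2,2,3,1,4],3959,0),
   ([1,0,4,0,3,3,0],3959,1),
   ([4,1,2,4,3,3,0],3959,2),
   ([3,0,2,2,3,4,0],3959,3),
   ([3,2,0,2,0,0,2],3960,0),
   ([1,3,2,3,0,2,2],3960,2),
   ([2,2,2,0,3,2,0],3960,3),
   ([2,0,4,1,3,4,3],3961,2),
   ([2,1,4,4,3,0,3],3962,0),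
   ([4,1,4,3,0,1,3],3962,1),
   ([0,4,3,0,3,3,3],3962,2),
   ([3,3,3,3,0,2,4],3962,3),
   ([2,3,2,0,3,2,1],3963,1),
   ([4,1,0,1,4,1,1],3963,2),
   ([1,1,0,2,3,1,2],3963,3),
   ([1,2,0,0,2,3,3],3964,0),
   ([4,2,4,4,3,0,4],3965,3),
   ([3,2,4,3,4,2,3],3966,0),
   ([3,0,2,3,3,1,0],3966,1),
   ([4,4,4,4,3,1,0],3966,2),
   ([4,3,2,4,3,1,0],3967,1),
   ([4,4,2,0,3,1,0],3967,2),
   ([4,0,2,1,3,0,3],3968,1),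
   ([1,4,3,1,1,2,3],3968,2),
   ([2,3,3,3,3,1,0],3968,3),
   ([1,0,4,4,4,0,2],3969,3),
   ([1,4,3,3,3,2,0],3970,0),
   ([1,2,0,2,1,3,2],3970,2),
   ([3,2,0,0,4,4,0],3970,3),
   ([3,3,1,2,4,3,2],3971,3),
   ([2,3,4,2,1,0,1],3972,0),
   ([0,2,2,3,4,1,1],3972,2),
   ([1,1,2,4,3,3,0],3972,3),
   ([3,3,3,4,1,3,3],3973,0),
   ([2,2,3,0,4,1,1],3973,1),
   ([0,1,2,1,4,0,3],3973,3),
   ([3,0,2,1,3,0,4],3974,3),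
   ([3,2,3,3,3,4,0],3975,0),
   ([3,4,0,4,3,1,4],3975,2),
   ([1,4,0,0,4,2,0],3975,3),
   ([2,0,2,0,2,1,4],3976,0),
   ([0,4,1,3,3,3,0],3976,1),
   ([0,2,2,1,2,3,4],3979,1),
   ([1,1,2,0,1,4,4],3979,2)]

/-- A block of images of the fixed vector. -/
def vOrbB74 : List (List ℕ × ℕ × ℕ) :=
  [([4,4,2,4,2,2,3],3979,3),
   ([2,2,4,2,4,1,1],3980,2),
   ([2,4,4,0,0,1,3],3981,1),
   ([2,0,1,1,1,0,1],3982,0),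
   ([0,4,3,3,3,2,1],3982,1),
   ([1,3,0,4,4,1,1],3982,2),
   ([1,1,0,0,3,4,1],3982,3),
   ([1,3,1,2,2,3,3],3983,0),
   ([1,2,3,2,0,0,1],3983,2),
   ([0,1,3,2,4,1,2],3983,3),
   ([4,3,3,3,3,0,3],3985,1),
   ([1,1,0,3,1,2,3],3985,2),
   ([4,3,4,0,4,2,3],3987,0),
   ([3,2,3,1,1,2,3],3989,0),
   ([1,2,2,0,2,1,0],3990,1),
   ([1,0,4,3,2,1,3],3990,3),
   ([3,4,4,3,4,1,3],3991,1),
   ([2,4,2,1,2,3,3],3991,2),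
   ([3,3,2,4,4,1,1],3991,3),
   ([0,3,2,2,3,0,1],3992,0),
   ([4,4,2,1,4,1,1],3992,2),
   ([1,1,2,2,3,4,4],3992,3),
   ([0,2,4,1,1,3,3],3993,0),
   ([3,4,3,3,4,1,1],3993,1),
   ([3,2,1,4,0,0,1],3993,2),
   ([4,4,2,4,4,2,2],3994,0),
   ([0,4,1,4,3,0,4],3994,3),
   ([2,3,2,4,3,1,0],3995,1),
   ([3,4,0,3,4,1,0],3996,0),
   ([1,4,2,3,0,0,1],3996,1),
   ([1,1,1,4,1,4,1],3996,2),
   ([4,1,1,3,0,3,1],3996,3),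
   ([2,1,1,2,4,1,4],3997,3),
   ([3,2,1,1,3,3,2],3998,0),
   ([3,0,4,1,2,4,0],3998,1),
   ([4,0,4,4,2,2,0],3998,3),
   ([4,4,0,2,2,2,1],4000,2),
   ([4,2,3,3,1,2,3],4001,2),
   ([1,3,0,4,1,2,4],4002,0),
   ([3,0,1,0,4,2,1],4002,2),
   ([1,1,3,2,1,2,0],4003,0),
   ([4,4,3,2,1,0,2],4003,1),
   ([0,3,0,3,3,3,2],4003,2),
   ([3,2,0,1,1,0,1],4003,3),
   ([4,0,3,3,0,3,4],4004,0),
   ([3,0,4,3,0,1,2],4004,2),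
   ([1,2,4,4,3,3,2],4004,3),
   ([4,2,0,4,0,1,0],4005,0),
   ([2,3,4,1,2,4,1],4005,2),
   ([4,1,4,0,1,4,3],4005,3),
   ([4,1,0,0,3,2,1],4006,0),
   ([4,0,4,2,1,2,3],4006,1),
   ([3,3,2,1,3,3,2],4007,1),
   ([3,4,1,0,4,4,3],4008,0),
   ([1,4,2,1,0,1,2],4008,1),
   ([2,2,0,2,2,4,2],4008,2),
   ([4,4,0,2,0,3,2],4009,2),
   ([3,2,0,0,3,1,3],4009,3),
   ([3,4,0,4,1,4,3],4010,0),
   ([2,4,0,4,3,4,2],4011,0),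
   ([1,2,4,3,2,4,1],4011,1),
   ([4,1,0,3,3,3,1],4011,2),
   ([3,1,0,1,2,1,3],4011,3),
   ([3,3,0,3,4,1,3],4012,2),
   ([4,2,4,1,0,2,3],4013,0),
   ([4,4,2,4,0,1,3],4014,2),
   ([1,0,4,4,0,1,3],4015,1),
   ([0,3,0,0,4,1,1],4016,2),
   ([1,1,3,1,4,2,3],4017,0),
   ([1,0,0,2,3,0,1],4017,3),
   ([3,1,1,0,1,3,3],4018,0),
   ([4,3,3,4,4,1,1],4018,1),
   ([4,4,3,4,4,1,0],4019,0),
   ([1,1,2,2,0,0,1],4019,1),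
   ([2,1,3,3,1,4,1],4019,2),
   ([4,1,3,2,0,0,4],4019,3),
   ([3,0,0,2,3,0,2],4020,0),
   ([2,2,3,1,4,1,4],4020,3),
   ([4,2,1,3,2,4,3],4021,0),
   ([2,2,4,3,0,4,2],4021,2),
   ([4,1,2,3,1,1,0],4022,1),
   ([1,4,2,1,1,1,0],4022,2),
   ([3,0,1,4,0,0,1],4023,1),
   ([0,4,3,0,1,4,1],4023,2),
   ([4,1,3,4,0,2,0],4023,3),
   ([3,0,2,2,1,4,3],4024,0),
   ([1,3,3,4,1,4,2],4024,2),
   ([3,3,0,1,0,0,1],4025,1),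
   ([2,1,3,2,1,4,1],4025,2),
   ([3,3,4,1,3,0,2],4026,2),
   ([0,3,1,4,2,3,4],4027,2),
   ([2,1,0,4,0,2,0],4028,0),
   ([4,1,0,1,1,0,2],4028,1),
   ([4,3,4,2,3,3,2],4028,2),
   ([3,2,4,0,1,2,4],4028,3),
   ([0,3,4,1,3,3,2],4029,1),
   ([2,3,0,2,0,1,2],4029,2),
   ([1,2,0,3,3,3,2],4029,3),
   ([1,2,0,1,0,3,4],4030,2),
   ([4,3,1,1,1,3,4],4031,0),
   ([3,3,0,4,0,1,2],4031,2),
   ([1,4,0,1,0,1,2],4032,0),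
   ([1,0,0,4,4,4,3],4032,1),
   ([0,4,1,4,2,1,3],4032,2),
   ([1,3,1,0,4,4,0],4032,3),
   ([0,2,1,3,2,3,1],4033,2),
   ([3,1,1,1,1,4,2],4033,3),
   ([2,3,4,4,3,0,3],4034,2),
   ([2,2,1,0,4,4,3],4035,1),
   ([3,1,2,0,4,0,3],4036,0),
   ([4,3,2,1,0,3,3],4036,2),
   ([3,3,2,4,2,4,2],4036,3),
   ([4,3,2,1,3,3,4],4038,2),
   ([3,4,2,4,4,4,2],4038,3),
   ([4,0,2,2,3,2,0],4039,0),
   ([0,3,4,0,3,0,2],4039,1),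
   ([0,4,2,4,0,3,2],4039,2),
   ([3,0,2,3,0,3,2],4040,1),
   ([1,2,1,3,0,2,0],4040,3),
   ([4,2,2,4,4,3,4],4041,0),
   ([0,4,1,3,0,1,2],4041,2),
   ([1,2,1,4,3,4,3],4041,3),
   ([0,4,2,1,4,0,3],4042,1),
   ([2,1,4,0,2,2,3],4042,2),
   ([2,3,4,2,4,4,1],4042,3)]

/-- A block of images of the fixed vector. -/
def vOrbB75 : List (List ℕ × ℕ × ℕ) :=
  [([2,1,1,1,3,2,1],4043,0),
   ([4,1,4,1,2,2,3],4043,1),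
   ([4,3,4,4,2,2,4],4043,3),
   ([1,3,4,0,3,4,2],4044,0),
   ([0,1,4,0,0,3,1],4044,2),
   ([3,1,4,3,4,1,2],4044,3),
   ([3,3,1,0,0,3,2],4045,1),
   ([1,2,4,4,4,2,1],4046,0),
   ([4,3,0,0,2,3,4],4046,3),
   ([0,1,1,2,0,4,3],4047,1),
   ([2,4,2,1,3,1,3],4047,2),
   ([1,3,2,2,0,1,4],4047,3),
   ([3,1,1,0,0,0,4],4048,0),
   ([4,0,2,4,1,4,4],4048,2),
   ([4,4,2,3,2,4,2],4048,3),
   ([2,2,1,2,2,2,4],4049,2),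
   ([3,4,1,2,0,3,1],4050,1),
   ([2,1,2,0,1,2,1],4050,2),
   ([2,1,2,2,0,1,1],4050,3),
   ([1,4,4,0,3,0,0],4052,0),
   ([0,0,4,3,4,4,0],4052,3),
   ([3,4,2,0,4,4,0],4053,2),
   ([3,1,4,0,4,4,0],4054,1),
   ([4,0,3,1,4,3,4],4054,3),
   ([0,2,4,3,4,0,0],4055,1),
   ([2,1,3,1,2,4,3],4056,2),
   ([4,1,4,2,2,4,3],4057,1),
   ([1,3,2,0,2,2,4],4057,3),
   ([4,4,2,4,0,0,2],4058,1),
   ([3,1,4,3,2,3,2],4059,0),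
   ([4,3,1,0,4,4,0],4059,1),
   ([1,1,0,2,4,4,0],4059,2),
   ([4,0,0,1,4,4,2],4059,3),
   ([3,1,0,4,4,3,2],4060,0),
   ([4,3,2,2,4,4,0],4060,1),
   ([4,1,4,4,0,0,2],4061,0),
   ([2,2,2,0,1,2,2],4061,2),
   ([2,2,2,2,4,1,0],4061,3),
   ([0,4,0,4,4,3,0],4062,0),
   ([2,3,2,3,4,2,2],4062,3),
   ([3,2,4,1,1,0,3],4063,0),
   ([3,0,3,3,4,1,3],4063,1),
   ([3,3,1,4,4,2,0],4063,3),
   ([4,0,2,0,0,0,3],4064,2),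
   ([2,2,2,4,2,4,1],4065,0),
   ([3,1,2,3,4,2,0],4065,2),
   ([2,3,2,3,4,0,4],4066,1),
   ([1,4,0,4,4,1,2],4066,3),
   ([3,4,4,4,0,1,4],4067,0),
   ([4,2,2,4,2,1,4],4068,0),
   ([3,2,1,4,4,3,0],4068,1),
   ([3,0,2,0,4,4,3],4068,3),
   ([0,1,1,4,4,1,3],4069,1),
   ([4,0,2,2,0,4,4],4070,0),
   ([0,3,0,3,2,3,3],4070,1),
   ([2,3,3,3,0,4,4],4072,3),
   ([4,0,0,3,0,3,4],4073,0),
   ([4,2,3,4,4,1,2],4073,2),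
   ([0,2,4,1,0,1,1],4075,1),
   ([1,4,2,1,1,0,1],4075,2),
   ([0,0,4,2,4,0,2],4076,0),
   ([1,0,2,3,0,1,1],4077,0),
   ([0,2,0,2,1,2,2],4077,1),
   ([0,2,4,0,0,4,3],4078,3),
   ([3,2,0,1,0,4,2],4079,2),
   ([4,2,0,0,3,2,4],4079,3),
   ([1,3,1,4,1,0,2],4080,0),
   ([2,3,3,0,0,4,2],4080,1),
   ([1,1,3,3,2,2,2],4080,2),
   ([2,2,3,0,0,1,2],4080,3),
   ([4,3,3,4,2,3,4],4081,2),
   ([3,4,3,2,3,3,3],4081,3),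
   ([3,1,4,4,2,3,1],4082,1),
   ([4,3,3,0,3,2,1],4082,2),
   ([0,1,1,1,4,1,1],4083,1),
   ([1,0,3,2,0,0,1],4083,2),
   ([0,1,3,2,4,1,4],4083,3),
   ([2,4,1,0,4,1,1],4084,2),
   ([1,1,1,1,3,2,2],4084,3),
   ([2,3,2,0,0,0,1],4086,2),
   ([0,3,3,2,2,0,1],4087,0),
   ([1,1,2,3,3,4,4],4087,3),
   ([2,1,2,4,2,4,4],4088,3),
   ([3,2,2,2,4,2,4],4089,0),
   ([3,0,2,4,0,3,1],4089,1),
   ([2,1,4,4,0,2,0],4089,3),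
   ([0,1,2,0,1,0,1],4090,0),
   ([1,2,1,2,2,1,1],4090,2),
   ([0,2,1,2,0,2,0],4091,2),
   ([2,0,1,4,0,4,4],4091,3),
   ([3,4,4,1,0,2,2],4092,1),
   ([2,1,2,1,2,0,2],4092,2),
   ([0,2,2,1,0,1,1],4092,3),
   ([1,0,0,0,0,4,2],4093,2),
   ([4,4,4,0,1,0,2],4094,0),
   ([0,2,0,2,2,2,2],4094,2),
   ([2,2,0,4,0,0,4],4094,3),
   ([1,0,0,2,0,1,1],4096,2),
   ([3,3,2,1,1,0,2],4097,0),
   ([2,2,3,3,0,4,2],4097,1),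
   ([3,1,2,1,2,2,2],4097,2),
   ([4,0,4,2,3,1,1],4098,0),
   ([0,3,4,0,2,2,2],4098,1),
   ([0,2,1,3,2,3,2],4098,3),
   ([4,1,1,1,3,2,3],4099,2),
   ([4,3,2,4,0,4,0],4102,0),
   ([4,2,3,3,2,2,1],4103,3),
   ([2,0,1,2,1,1,0],4104,0),
   ([0,4,3,2,2,0,1],4104,1),
   ([4,1,1,0,2,4,1],4104,3),
   ([1,2,1,3,3,4,1],4105,1),
   ([3,1,3,0,3,1,3],4105,3),
   ([3,4,1,0,0,0,4],4107,1),
   ([2,4,3,1,2,1,3],4108,0),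
   ([1,2,1,2,4,1,4],4108,1),
   ([2,4,1,3,4,1,3],4108,3),
   ([1,4,1,0,1,0,1],4109,2),
   ([0,1,1,0,0,3,1],4109,3),
   ([4,0,4,0,1,4,2],4110,2),
   ([1,3,0,0,1,1,0],4111,0),
   ([2,3,2,3,3,4,1],4111,2),
   ([3,2,0,1,4,4,2],4112,2),
   ([4,2,0,0,2,2,4],4112,3),
   ([1,2,4,1,4,1,4],4113,1),
   ([3,4,1,0,3,2,4],4113,2)]

/-- A block of images of the fixed vector. -/
def vOrbB76 : List (List ℕ × ℕ × ℕ) :=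
  [([1,0,4,2,1,4,2],4114,0),
   ([2,3,2,2,0,2,1],4115,2),
   ([3,2,1,0,0,2,2],4117,1),
   ([0,2,1,0,0,4,3],4117,3),
   ([3,4,2,2,1,4,0],4120,0),
   ([1,4,3,2,4,0,4],4120,1),
   ([4,4,3,2,3,1,4],4120,2),
   ([2,3,0,4,1,1,3],4121,0),
   ([2,4,1,2,3,3,0],4121,3),
   ([3,4,4,1,1,2,4],4122,0),
   ([3,1,2,4,2,4,1],4123,2),
   ([4,1,2,2,1,2,4],4124,3),
   ([3,3,1,4,2,2,4],4125,2),
   ([3,4,3,1,1,4,2],4126,0),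
   ([1,4,3,3,2,4,1],4126,1),
   ([3,1,4,1,2,3,1],4126,3),
   ([3,2,4,2,3,2,1],4127,2),
   ([4,2,4,1,1,4,3],4128,0),
   ([4,0,4,3,0,3,4],4130,2),
   ([3,2,4,4,1,3,0],4131,1),
   ([4,0,2,0,1,3,0],4131,2),
   ([4,0,0,3,2,1,4],4132,0),
   ([0,3,2,1,1,3,0],4132,2),
   ([3,0,2,4,1,3,2],4132,3),
   ([4,4,1,2,2,4,0],4133,3),
   ([3,3,1,1,4,0,3],4134,0),
   ([1,1,4,4,2,3,3],4135,1),
   ([2,0,3,2,0,0,3],4135,2),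
   ([0,3,3,2,2,0,4],4135,3),
   ([2,2,1,2,2,3,0],4136,0),
   ([2,3,3,2,4,0,2],4136,3),
   ([1,4,1,0,4,3,0],4137,2),
   ([1,1,1,4,0,0,3],4138,1),
   ([2,2,3,2,3,2,3],4138,2),
   ([4,0,1,3,4,1,3],4139,0),
   ([4,0,2,3,1,3,1],4140,1),
   ([2,2,2,0,2,2,1],4140,2),
   ([1,1,3,0,1,3,2],4141,2),
   ([4,2,1,2,1,1,3],4142,0),
   ([2,4,1,0,2,4,3],4142,3),
   ([3,4,1,2,1,3,4],4143,3),
   ([3,0,1,1,3,3,0],4144,1),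
   ([1,3,2,0,3,3,0],4144,2),
   ([1,1,4,1,2,3,3],4145,1),
   ([3,1,1,4,1,3,0],4146,0),
   ([4,0,2,3,3,4,0],4147,0),
   ([4,1,3,1,1,1,4],4147,2),
   ([1,1,0,4,1,3,1],4148,1),
   ([2,0,3,1,2,2,1],4148,2),
   ([1,2,0,1,0,0,3],4149,1),
   ([1,2,3,4,3,2,3],4149,2),
   ([1,4,0,4,1,2,1],4150,0),
   ([3,2,1,3,3,3,3],4151,2),
   ([2,0,1,1,0,2,4],4153,2),
   ([2,4,1,3,1,2,4],4153,3),
   ([2,1,1,1,3,3,4],4155,2),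
   ([1,3,3,3,4,2,0],4156,0),
   ([2,4,2,4,3,3,2],4156,2),
   ([3,2,2,2,1,1,2],4156,3),
   ([3,3,4,4,0,1,2],4157,2),
   ([1,2,4,0,3,3,1],4157,3),
   ([4,0,4,1,0,1,2],4159,2),
   ([4,1,4,1,0,4,3],4160,2),
   ([4,3,4,0,2,2,0],4160,3),
   ([2,0,0,2,0,4,3],4161,1),
   ([1,3,1,2,0,3,0],4161,3),
   ([0,2,1,1,2,2,0],4162,2),
   ([2,0,1,3,2,4,2],4162,3),
   ([2,3,3,1,0,4,0],4164,2),
   ([4,3,2,2,2,2,2],4165,0),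
   ([3,4,0,0,0,0,4],4165,2),
   ([0,4,0,0,1,2,1],4165,3),
   ([1,4,1,3,0,2,4],4166,3),
   ([0,1,1,3,2,1,1],4167,2),
   ([1,0,3,0,0,3,2],4168,0),
   ([0,2,0,0,1,4,0],4168,1),
   ([2,1,1,0,1,4,0],4168,2),
   ([3,0,3,0,0,4,4],4169,1),
   ([2,0,3,0,0,4,1],4170,3),
   ([2,2,2,1,1,1,4],4171,2),
   ([1,4,2,2,2,1,1],4171,3),
   ([0,3,0,0,3,1,4],4172,0),
   ([2,1,4,2,1,3,0],4172,1),
   ([3,0,1,1,1,4,4],4172,3),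
   ([3,0,0,0,0,0,4],4173,2),
   ([0,4,0,0,1,2,0],4173,3),
   ([3,0,2,4,3,1,4],4174,0),
   ([0,2,4,4,1,3,0],4174,2),
   ([3,0,4,2,1,1,4],4174,3),
   ([2,0,1,4,0,2,4],4176,2),
   ([1,0,1,4,1,3,2],4177,0),
   ([0,3,3,1,0,4,0],4177,2),
   ([4,0,3,0,0,2,3],4177,3),
   ([4,2,2,3,0,0,4],4178,1),
   ([2,3,0,0,2,2,4],4180,1),
   ([3,4,2,3,2,2,0],4181,0),
   ([1,4,1,0,0,0,2],4181,1),
   ([1,1,1,2,2,3,2],4181,2),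
   ([2,1,4,4,4,3,0],4183,3),
   ([1,1,0,0,1,3,0],4184,0),
   ([4,4,3,4,2,0,3],4184,1),
   ([3,1,2,0,0,2,3],4184,2),
   ([2,3,2,2,2,0,1],4184,3),
   ([1,0,2,1,0,2,3],4185,1),
   ([1,3,0,2,3,4,3],4185,2),
   ([1,3,4,4,4,1,0],4186,0),
   ([3,0,0,2,0,4,2],4187,0),
   ([2,3,2,2,4,3,1],4187,2),
   ([4,2,4,4,4,3,2],4188,0),
   ([3,2,2,2,2,4,0],4188,1),
   ([1,3,0,1,2,4,0],4188,2),
   ([4,0,0,0,2,4,3],4188,3),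
   ([2,0,2,2,0,1,3],4190,2),
   ([4,4,2,1,4,2,2],4191,2),
   ([2,2,2,3,2,4,0],4191,3),
   ([3,3,2,3,2,0,4],4192,0),
   ([4,3,1,1,4,4,4],4192,2),
   ([4,4,1,0,0,0,3],4192,3),
   ([0,1,0,1,0,2,2],4193,0),
   ([1,2,1,0,3,0,4],4193,2),
   ([0,4,1,0,4,3,3],4193,3),
   ([1,1,2,3,2,3,0],4194,0),
   ([4,2,1,3,3,2,3],4194,2),
   ([2,3,1,0,0,0,1],4194,3),
   ([0,2,4,2,1,4,0],4195,2)]

/-- A block of images of the fixed vector. -/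
def vOrbB77 : List (List ℕ × ℕ × ℕ) :=
  [([0,3,2,2,1,2,2],4196,0),
   ([2,1,3,2,4,4,4],4196,1),
   ([3,2,3,3,3,0,4],4196,2),
   ([0,4,3,3,4,4,4],4196,3),
   ([2,3,0,1,3,0,4],4197,1),
   ([3,3,1,2,2,1,4],4197,2),
   ([2,0,4,1,1,2,2],4198,0),
   ([0,4,1,4,4,4,1],4198,3),
   ([2,0,0,0,2,3,1],4199,1),
   ([0,4,2,1,3,2,1],4199,2),
   ([2,1,2,3,2,3,0],4199,3),
   ([3,4,1,1,1,4,1],4200,2),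
   ([0,2,2,4,3,4,0],4201,1),
   ([1,0,2,2,3,4,0],4201,2),
   ([3,2,2,0,0,2,2],4202,0),
   ([3,0,0,0,4,4,4],4202,1),
   ([4,2,4,1,3,0,4],4202,2),
   ([0,4,4,1,4,2,0],4202,3),
   ([4,0,4,4,2,4,0],4203,0),
   ([0,3,1,4,3,0,4],4203,1),
   ([1,4,1,1,3,3,2],4203,3),
   ([2,0,2,1,3,4,1],4204,0),
   ([2,4,4,1,2,4,3],4205,1),
   ([1,3,4,4,2,2,1],4205,3),
   ([2,0,2,4,4,4,0],4206,0),
   ([1,4,1,4,3,4,1],4206,3),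
   ([1,3,1,3,4,3,1],4207,2),
   ([3,1,1,1,4,4,1],4209,0),
   ([2,0,1,1,4,4,2],4209,3),
   ([1,4,2,2,2,0,2],4210,1),
   ([2,1,0,2,4,3,2],4210,2),
   ([2,0,4,4,0,3,4],4211,0),
   ([0,4,0,1,4,3,2],4211,1),
   ([4,2,2,1,1,1,2],4211,2),
   ([1,3,2,2,3,2,1],4214,0),
   ([3,2,2,1,0,1,0],4216,0),
   ([3,0,0,4,3,0,1],4216,1),
   ([3,3,0,2,4,4,1],4216,2),
   ([4,1,0,1,3,2,0],4216,3),
   ([0,3,0,4,4,4,1],4217,1),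
   ([1,0,1,2,0,3,1],4217,2),
   ([2,0,1,1,3,2,0],4218,2),
   ([3,4,0,1,4,4,3],4219,1),
   ([2,2,2,1,2,1,3],4219,2),
   ([1,3,2,2,4,1,1],4219,3),
   ([2,1,0,4,0,0,4],4220,1),
   ([4,3,2,3,4,1,4],4220,2),
   ([1,4,2,4,0,4,4],4220,3),
   ([4,2,3,0,4,1,3],4221,0),
   ([3,2,2,1,4,1,4],4221,1),
   ([2,4,4,0,3,2,4],4221,2),
   ([2,4,4,2,4,4,3],4221,3),
   ([3,4,2,2,4,2,2],4222,0),
   ([3,2,4,4,4,0,4],4222,2),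
   ([0,4,4,4,0,3,1],4222,3),
   ([2,3,0,1,3,4,0],4223,1),
   ([3,0,1,4,3,4,0],4223,2),
   ([0,0,2,2,3,2,0],4225,1),
   ([4,1,1,2,3,2,0],4225,2),
   ([4,1,2,4,4,4,1],4226,0),
   ([2,0,1,4,3,1,0],4226,3),
   ([2,3,4,1,4,0,1],4227,1),
   ([4,1,1,2,4,1,2],4227,3),
   ([3,4,4,2,1,4,1],4228,0),
   ([1,4,3,2,3,2,0],4228,1),
   ([2,0,2,4,3,3,1],4228,3),
   ([2,0,4,2,1,4,1],4229,0),
   ([2,0,2,4,3,4,1],4229,3),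
   ([1,2,4,4,1,1,1],4231,0),
   ([3,1,3,0,1,2,2],4231,1),
   ([3,4,4,4,3,0,2],4231,2),
   ([0,2,4,4,1,3,4],4231,3),
   ([2,4,3,0,0,2,0],4233,1),
   ([0,2,3,3,0,2,0],4233,2),
   ([2,0,3,0,0,2,1],4233,3),
   ([0,2,2,4,1,2,2],4234,1),
   ([3,3,0,3,3,0,2],4234,2),
   ([0,2,0,3,1,2,3],4234,3),
   ([0,1,0,1,3,2,4],4235,2),
   ([3,0,3,3,2,2,0],4236,1),
   ([4,4,1,0,2,1,1],4237,0),
   ([1,1,1,3,1,2,2],4237,1),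
   ([0,2,1,2,1,0,4],4237,3),
   ([1,0,2,1,3,0,2],4238,1),
   ([1,0,4,1,2,4,0],4239,0),
   ([0,3,3,0,0,1,4],4239,2),
   ([3,1,3,4,1,3,1],4240,2),
   ([2,1,3,3,2,3,4],4241,2),
   ([2,4,4,3,3,4,0],4242,0),
   ([1,2,4,4,1,0,4],4242,1),
   ([2,2,2,2,0,1,4],4242,2),
   ([1,4,2,3,1,1,3],4242,3),
   ([3,1,1,2,0,0,2],4244,3),
   ([2,0,0,1,4,2,4],4245,2),
   ([2,4,0,3,0,3,4],4245,3),
   ([3,4,1,0,1,3,1],4246,0),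
   ([3,1,4,2,3,3,4],4246,2),
   ([4,3,1,2,0,0,4],4247,0),
   ([4,4,4,3,0,2,1],4247,3),
   ([0,1,0,0,4,3,3],4248,1),
   ([0,3,4,1,4,1,4],4248,3),
   ([0,3,4,4,1,2,0],4250,1),
   ([2,0,2,3,1,3,2],4250,3),
   ([0,3,2,1,3,1,2],4251,2),
   ([2,4,2,4,2,2,1],4252,1),
   ([1,3,0,1,1,1,1],4253,0),
   ([0,2,3,2,1,1,2],4253,3),
   ([3,3,1,2,2,4,2],4254,0),
   ([2,3,3,4,0,3,1],4254,2),
   ([3,1,3,2,4,0,3],4254,3),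
   ([0,3,3,4,3,2,0],4255,2),
   ([2,0,3,1,3,2,2],4255,3),
   ([3,4,4,1,3,0,2],4256,2),
   ([0,3,3,0,1,2,3],4257,3),
   ([1,0,2,3,1,1,4],4258,1),
   ([2,4,2,2,1,4,0],4258,3),
   ([1,1,0,1,0,3,1],4259,1),
   ([2,1,3,1,0,0,4],4259,3),
   ([0,1,3,4,0,2,4],4261,2),
   ([3,0,3,0,4,2,0],4262,1),
   ([1,0,2,4,4,2,0],4262,2),
   ([4,4,1,3,1,1,1],4263,0),
   ([1,1,3,1,1,2,2],4263,1),
   ([3,1,2,0,3,0,2],4263,2),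
   ([1,1,4,1,3,0,1],4264,2)]

/-- A block of images of the fixed vector. -/
def vOrbB78 : List (List ℕ × ℕ × ℕ) :=
  [([0,1,4,1,2,0,1],4264,3),
   ([1,2,4,0,4,1,3],4265,2),
   ([0,3,1,3,0,3,3],4266,0),
   ([0,2,2,1,1,2,4],4267,0),
   ([3,2,1,1,2,1,1],4268,2),
   ([0,1,1,3,0,4,4],4269,3),
   ([1,2,2,1,0,4,1],4270,2),
   ([1,4,0,3,4,4,2],4271,0),
   ([1,0,2,3,0,4,1],4271,1),
   ([3,0,2,1,2,4,3],4272,1),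
   ([1,2,2,3,0,1,3],4272,2),
   ([3,4,3,2,2,1,3],4273,0),
   ([3,4,2,4,2,4,0],4274,0),
   ([3,1,1,4,0,3,2],4275,3),
   ([2,3,2,1,0,1,3],4276,0),
   ([2,0,0,4,3,1,4],4276,1),
   ([2,0,0,4,2,2,4],4276,2),
   ([2,4,0,1,3,3,0],4276,3),
   ([2,4,1,4,3,3,1],4278,3),
   ([1,3,4,0,2,4,1],4279,0),
   ([2,0,2,1,2,1,2],4279,3),
   ([0,2,0,0,1,4,1],4280,0),
   ([4,2,2,4,2,3,0],4281,3),
   ([2,2,2,2,1,0,2],4282,0),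
   ([3,3,3,2,4,4,2],4282,1),
   ([2,2,3,1,1,2,2],4282,2),
   ([2,2,3,3,4,0,2],4282,3),
   ([4,2,1,1,1,3,2],4283,2),
   ([3,2,1,4,4,0,3],4283,3),
   ([2,0,4,4,1,2,2],4284,1),
   ([0,1,2,3,3,0,2],4284,2),
   ([4,4,4,2,1,2,0],4285,0),
   ([1,1,3,2,3,0,2],4285,1),
   ([3,1,2,1,0,3,2],4285,2),
   ([3,2,2,4,3,0,4],4285,3),
   ([1,0,2,1,2,2,4],4286,1),
   ([4,0,2,1,1,3,4],4286,2),
   ([0,3,0,3,2,3,4],4287,0),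
   ([2,1,1,0,1,3,2],4287,1),
   ([4,3,2,3,3,1,2],4287,2),
   ([1,2,2,4,1,4,4],4287,3),
   ([2,2,4,0,4,4,2],4289,0),
   ([3,3,2,1,1,4,1],4289,1),
   ([3,1,1,0,1,0,2],4289,3),
   ([3,1,0,3,4,1,4],4290,1),
   ([4,2,3,2,3,2,4],4290,2),
   ([4,3,1,0,1,0,4],4291,0),
   ([4,0,4,1,3,4,4],4291,2),
   ([4,4,4,0,4,2,1],4291,3),
   ([2,2,3,3,0,2,0],4292,1),
   ([3,1,2,1,0,2,0],4292,2),
   ([2,0,2,3,0,0,3],4292,3),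
   ([4,3,4,2,0,1,1],4293,0),
   ([3,3,0,2,3,0,2],4293,2),
   ([0,2,0,2,1,2,1],4293,3),
   ([0,3,1,1,3,0,2],4294,1),
   ([0,1,2,0,0,3,2],4294,2),
   ([1,0,2,3,0,0,1],4295,0),
   ([1,3,2,0,2,1,1],4295,2),
   ([1,1,2,1,1,2,3],4295,3),
   ([3,3,4,0,4,1,3],4296,3),
   ([0,1,1,2,2,1,2],4298,1),
   ([0,2,4,1,4,4,2],4298,2),
   ([4,2,4,0,2,1,4],4298,3),
   ([3,4,3,2,2,4,2],4299,0),
   ([3,1,2,3,3,3,1],4299,3),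
   ([4,2,2,2,3,1,3],4301,0),
   ([3,2,4,0,3,1,4],4301,1),
   ([4,4,2,0,2,2,4],4301,2),
   ([4,1,2,3,3,4,1],4302,1),
   ([4,3,4,2,4,3,1],4302,2),
   ([0,2,2,4,2,3,4],4303,2),
   ([4,4,4,0,1,3,0],4304,2),
   ([3,0,4,3,1,2,4],4304,3),
   ([4,4,4,3,4,3,3],4305,2),
   ([4,4,2,3,1,3,4],4306,1),
   ([3,4,2,3,0,4,4],4306,2),
   ([4,4,2,2,1,0,1],4306,3),
   ([3,1,1,2,2,0,3],4307,0),
   ([1,1,3,3,2,4,4],4308,0),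
   ([4,4,1,0,2,3,3],4308,1),
   ([0,3,3,3,2,0,1],4308,3),
   ([3,0,3,2,4,0,3],4309,3),
   ([4,3,2,0,4,4,4],4310,0),
   ([1,2,2,4,0,0,3],4310,2),
   ([4,1,1,0,0,0,3],4311,1),
   ([4,0,3,2,4,0,1],4312,0),
   ([1,1,1,1,3,1,1],4312,2),
   ([2,2,4,0,2,1,3],4313,0),
   ([3,3,1,3,2,1,4],4313,1),
   ([3,3,2,4,1,2,4],4313,2),
   ([1,2,3,2,4,4,2],4314,0),
   ([1,2,2,1,2,0,4],4315,0),
   ([3,2,4,1,1,4,4],4315,2),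
   ([3,0,4,2,3,0,3],4316,3),
   ([4,3,2,1,2,4,4],4317,0),
   ([2,4,1,2,2,3,3],4317,1),
   ([4,4,4,0,0,0,3],4317,2),
   ([1,3,1,2,3,1,1],4318,2),
   ([1,1,1,3,2,3,2],4318,3),
   ([3,3,4,3,0,3,0],4319,0),
   ([4,4,1,0,3,2,3],4319,2),
   ([4,4,2,4,1,4,3],4320,2),
   ([4,3,2,3,3,4,3],4320,3),
   ([2,0,4,2,0,3,3],4321,2),
   ([4,1,1,3,1,4,1],4323,1),
   ([2,2,1,4,2,3,1],4323,2),
   ([1,3,2,3,3,1,3],4324,0),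
   ([2,3,4,4,2,1,4],4324,1),
   ([1,0,3,0,1,2,4],4324,2),
   ([2,4,3,2,2,1,2],4324,3),
   ([4,0,3,1,1,2,0],4326,1),
   ([2,0,2,0,1,1,0],4326,3),
   ([3,2,1,3,1,2,3],4328,3),
   ([3,1,4,1,2,2,4],4329,1),
   ([0,1,2,3,2,3,4],4330,0),
   ([1,1,1,4,2,1,2],4330,2),
   ([0,2,1,4,2,2,4],4331,2),
   ([1,2,3,2,2,2,4],4332,1),
   ([0,2,1,3,4,4,3],4333,2),
   ([2,1,2,3,3,3,4],4335,3),
   ([1,1,3,1,1,4,4],4337,0),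
   ([0,3,4,1,2,0,1],4337,3),
   ([2,3,0,2,1,3,0],4338,0),
   ([2,3,4,2,0,3,0],4338,3)]

/-- A block of images of the fixed vector. -/
def vOrbB79 : List (List ℕ × ℕ × ℕ) :=
  [([1,3,4,2,4,2,1],4340,2),
   ([4,3,4,1,3,2,3],4341,2),
   ([2,3,4,3,0,2,1],4341,3),
   ([3,0,3,0,1,4,3],4342,2),
   ([4,3,3,4,3,4,4],4342,3),
   ([1,3,3,2,1,1,1],4343,2),
   ([1,1,3,3,0,1,2],4343,3),
   ([0,4,3,1,4,1,2],4344,2),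
   ([4,0,0,4,3,0,2],4345,1),
   ([4,4,0,3,0,3,2],4345,2),
   ([3,2,4,3,0,3,4],4346,0),
   ([3,0,0,2,0,3,2],4346,1),
   ([2,3,1,1,2,1,2],4346,2),
   ([1,2,1,2,0,2,0],4346,3),
   ([0,2,1,2,3,1,0],4347,2),
   ([0,4,2,0,0,2,1],4348,2),
   ([2,1,2,2,4,3,3],4348,3),
   ([1,4,2,2,3,2,3],4349,2),
   ([2,3,2,4,0,2,2],4349,3),
   ([2,3,4,1,1,4,3],4350,2),
   ([1,0,0,4,3,2,3],4352,1),
   ([4,3,0,1,3,4,0],4352,3),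
   ([2,2,2,2,0,2,0],4354,0),
   ([3,3,0,3,2,0,2],4354,1),
   ([3,2,1,1,2,0,2],4354,3),
   ([2,1,0,4,3,4,1],4357,1),
   ([3,1,0,1,3,4,4],4357,3),
   ([4,1,1,1,4,2,4],4358,0),
   ([4,0,2,0,4,3,1],4358,1),
   ([3,0,1,4,0,2,1],4358,2),
   ([2,2,2,4,3,3,4],4360,1),
   ([3,0,2,2,2,4,4],4360,2),
   ([4,3,2,0,0,0,3],4361,0),
   ([2,4,0,0,4,1,3],4361,1),
   ([0,4,3,2,4,4,4],4362,0),
   ([2,2,1,2,0,0,3],4362,2),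
   ([2,1,0,1,1,0,4],4364,1),
   ([2,4,3,1,0,0,4],4365,1),
   ([2,0,1,0,4,1,4],4365,2),
   ([1,4,1,1,0,2,1],4365,3),
   ([0,4,4,0,1,3,0],4366,1),
   ([3,0,0,4,1,4,1],4366,3),
   ([3,1,3,3,1,2,0],4368,3),
   ([3,2,4,4,4,1,3],4369,1),
   ([1,4,0,2,2,3,3],4369,2),
   ([3,3,0,0,4,4,3],4369,3),
   ([2,1,1,2,4,0,1],4370,0),
   ([4,1,2,4,3,2,1],4370,1),
   ([1,1,2,1,3,2,4],4370,3),
   ([4,4,0,0,4,3,1],4371,0),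
   ([2,4,3,0,2,3,4],4371,2),
   ([2,1,1,4,4,2,3],4372,0),
   ([4,2,4,0,1,1,0],4372,2),
   ([4,0,2,0,1,1,0],4373,1),
   ([1,0,3,4,1,1,0],4373,3),
   ([4,3,4,2,3,1,3],4374,1),
   ([0,3,3,1,3,2,1],4375,1),
   ([0,4,0,1,0,3,3],4376,0),
   ([0,1,1,0,4,2,2],4376,3),
   ([1,0,4,0,3,1,0],4378,3),
   ([3,3,2,1,4,1,1],4379,1),
   ([1,2,4,2,0,0,1],4379,2),
   ([3,2,2,2,4,1,0],4380,0),
   ([4,4,4,0,1,4,1],4380,2),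
   ([4,1,4,4,0,2,0],4380,3),
   ([0,4,4,0,1,3,2],4381,2),
   ([3,0,4,0,2,2,3],4382,1),
   ([1,4,3,0,0,0,2],4384,1),
   ([4,2,2,2,2,3,2],4385,0),
   ([3,2,1,1,1,4,0],4385,1),
   ([4,0,0,0,1,4,3],4385,3),
   ([1,3,1,4,1,1,0],4386,3),
   ([1,1,1,3,2,4,3],4387,2),
   ([4,3,1,2,4,3,4],4387,3),
   ([3,0,4,2,1,3,4],4388,0),
   ([2,3,2,3,0,1,2],4388,2),
   ([1,2,2,4,3,1,4],4388,3),
   ([2,0,1,1,2,4,3],4389,0),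
   ([0,4,1,2,0,1,2],4389,1),
   ([4,0,1,4,0,4,2],4391,2),
   ([3,2,1,3,3,4,2],4392,2),
   ([0,2,4,0,1,1,2],4393,1),
   ([3,0,1,3,3,0,1],4394,1),
   ([0,1,3,1,4,4,1],4394,2),
   ([2,1,0,4,1,4,1],4396,0),
   ([2,3,1,0,3,2,0],4396,2),
   ([2,2,4,0,3,4,4],4399,3),
   ([3,0,1,2,0,2,2],4400,1),
   ([3,3,2,2,3,2,2],4401,0),
   ([3,1,2,2,2,0,4],4401,2),
   ([0,4,2,2,3,0,3],4401,3),
   ([3,1,0,4,1,2,0],4402,1),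
   ([3,0,2,4,0,1,1],4403,0),
   ([2,3,4,2,3,2,0],4404,0),
   ([2,0,4,0,2,0,2],4404,1),
   ([3,2,1,3,2,3,0],4404,3),
   ([1,0,4,3,4,4,0],4405,1),
   ([2,0,3,1,1,4,0],4407,1),
   ([0,1,2,1,1,4,0],4407,2),
   ([2,2,3,4,0,0,4],4408,2),
   ([0,4,3,4,1,0,1],4408,3),
   ([1,1,4,3,0,4,0],4409,0),
   ([4,4,0,2,0,0,4],4409,1),
   ([1,4,1,2,0,0,1],4409,3),
   ([0,1,1,4,2,4,1],4410,2),
   ([1,4,1,0,0,3,4],4412,3),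
   ([1,1,3,1,2,1,3],4413,0),
   ([2,4,1,3,4,0,1],4413,3),
   ([1,0,1,1,4,4,4],4414,2),
   ([4,4,1,0,0,3,1],4414,3),
   ([1,4,0,2,2,4,2],4415,0),
   ([3,4,3,1,0,4,3],4416,0),
   ([1,4,0,4,0,1,2],4416,1),
   ([0,3,2,0,2,4,2],4416,2),
   ([4,2,2,4,0,3,1],4416,3),
   ([1,0,1,1,3,4,0],4418,3),
   ([0,2,4,2,0,2,3],4419,2),
   ([2,2,0,2,3,4,2],4420,0),
   ([3,1,3,1,4,0,2],4420,3),
   ([0,2,3,2,0,2,2],4421,2),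
   ([4,4,4,4,3,2,1],4422,0),
   ([4,3,3,3,0,0,4],4422,3),
   ([1,4,4,3,4,1,4],4423,2),
   ([4,0,2,1,3,1,3],4424,0),
   ([1,0,2,2,2,4,2],4425,2)]

/-- A block of images of the fixed vector. -/
def vOrbB80 : List (List ℕ × ℕ × ℕ) :=
  [([3,0,1,2,3,0,1],4426,1),
   ([3,4,0,0,4,4,1],4426,2),
   ([4,1,0,4,3,2,0],4426,3),
   ([4,3,1,3,0,4,2],4427,0),
   ([2,4,0,2,4,4,1],4427,1),
   ([2,1,2,1,0,4,1],4428,0),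
   ([3,1,0,4,3,2,0],4428,2),
   ([4,1,2,2,0,3,1],4429,2),
   ([0,1,1,0,1,4,1],4430,2),
   ([1,4,4,4,2,4,1],4431,0),
   ([1,0,1,4,3,2,0],4431,1),
   ([2,0,1,1,3,4,0],4431,3),
   ([2,0,1,4,0,3,4],4432,0),
   ([0,4,0,1,3,3,2],4432,1),
   ([1,4,2,2,4,2,1],4433,0),
   ([2,4,4,0,3,4,3],4433,2),
   ([4,3,4,4,0,4,0],4433,3),
   ([3,3,1,4,0,1,2],4434,0),
   ([2,2,0,1,3,4,3],4434,1),
   ([1,3,1,3,3,0,3],4434,3),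
   ([2,3,0,1,2,4,0],4437,1),
   ([4,2,0,0,2,4,0],4437,2),
   ([4,2,4,2,2,1,0],4438,3),
   ([0,1,3,1,1,0,2],4439,1),
   ([4,1,2,0,1,2,3],4441,0),
   ([3,0,1,2,1,1,0],4441,2),
   ([1,0,1,3,1,1,0],4441,3),
   ([4,0,3,1,4,2,4],4442,1),
   ([4,1,0,4,3,3,4],4442,2),
   ([3,4,0,2,4,1,0],4442,3),
   ([4,4,0,2,4,1,0],4444,2),
   ([4,1,4,3,3,4,2],4445,1),
   ([2,4,1,3,0,2,2],4445,2),
   ([2,1,4,3,1,2,2],4446,0),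
   ([4,1,3,1,2,4,4],4446,1),
   ([0,4,3,4,2,2,4],4446,3),
   ([3,3,3,0,3,2,3],4448,2),
   ([1,2,2,2,1,2,3],4449,0),
   ([4,1,3,2,4,1,0],4449,2),
   ([1,0,3,3,4,3,4],4449,3),
   ([3,3,3,4,0,0,1],4450,2),
   ([0,1,1,3,0,4,1],4451,0),
   ([4,0,1,2,2,4,1],4452,0),
   ([4,0,3,0,4,2,0],4452,2),
   ([2,0,3,2,4,3,2],4452,3),
   ([2,0,4,3,1,4,1],4453,3),
   ([3,2,3,1,4,0,2],4454,2),
   ([3,2,0,2,3,2,0],4455,0),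
   ([3,0,4,0,4,0,2],4455,1),
   ([3,2,3,1,4,2,0],4455,3),
   ([1,0,4,3,1,3,2],4456,0),
   ([4,0,3,4,2,2,3],4456,3),
   ([0,4,0,4,0,3,3],4458,0),
   ([0,1,4,0,1,2,2],4458,3),
   ([0,3,4,2,1,1,4],4459,1),
   ([3,1,3,3,3,3,0],4460,3),
   ([4,0,1,3,0,2,4],4461,0),
   ([2,1,0,3,4,3,2],4461,3),
   ([1,2,1,1,1,1,4],4462,0),
   ([2,3,0,2,3,3,0],4462,2),
   ([3,3,4,0,0,0,4],4464,1),
   ([0,2,3,1,3,3,0],4465,2),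
   ([1,2,4,1,3,3,2],4466,1),
   ([4,2,0,2,0,1,2],4466,2),
   ([0,2,0,2,3,2,3],4467,1),
   ([4,3,4,4,3,2,3],4467,3),
   ([0,3,0,1,1,4,3],4468,1),
   ([1,3,4,0,1,3,2],4468,3),
   ([2,1,4,2,1,4,3],4469,2),
   ([0,1,3,4,2,3,3],4470,1),
   ([2,0,2,2,0,0,3],4470,2),
   ([0,3,2,2,2,1,4],4470,3),
   ([4,1,0,0,3,1,2],4471,0),
   ([4,0,4,2,1,4,3],4471,1),
   ([3,1,1,0,4,1,3],4471,2),
   ([1,3,1,1,1,1,0],4471,3),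
   ([2,4,0,3,1,0,3],4472,0),
   ([1,2,3,1,4,1,3],4472,1),
   ([3,2,0,4,1,1,0],4473,2),
   ([1,0,0,0,1,2,2],4473,3),
   ([0,4,4,2,0,1,2],4474,0),
   ([1,3,0,3,1,4,3],4474,1),
   ([1,3,0,2,1,2,2],4474,3),
   ([2,0,4,2,1,1,1],4475,2),
   ([2,1,1,1,0,3,3],4476,0),
   ([4,1,0,4,1,1,1],4476,1),
   ([0,2,3,3,2,0,1],4476,2),
   ([0,1,3,3,1,2,4],4476,3),
   ([2,3,3,4,0,4,0],4477,2),
   ([0,1,0,2,0,4,2],4479,0),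
   ([4,2,0,3,3,4,1],4479,1),
   ([3,1,2,0,3,3,3],4479,3),
   ([0,2,0,3,0,2,1],4480,2),
   ([2,0,0,2,1,0,3],4481,2),
   ([2,2,2,3,3,1,1],4482,1),
   ([1,2,4,0,4,0,1],4482,2),
   ([1,1,0,2,1,0,1],4483,0),
   ([4,4,3,2,0,2,1],4483,1),
   ([1,2,4,1,1,1,1],4483,2),
   ([0,3,4,0,3,0,1],4484,0),
   ([2,1,4,2,0,1,1],4484,2),
   ([1,1,4,3,4,4,4],4484,3),
   ([2,1,3,0,0,3,0],4485,2),
   ([2,3,4,2,1,3,3],4486,3),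
   ([3,4,4,1,4,1,2],4487,0),
   ([1,4,2,0,0,4,3],4487,1),
   ([2,1,4,0,3,1,3],4488,1),
   ([4,2,2,4,1,3,3],4488,2),
   ([1,0,4,2,0,2,1],4490,2),
   ([3,1,4,0,1,0,1],4491,0),
   ([1,0,0,3,1,1,1],4491,2),
   ([0,3,3,3,3,1,0],4492,0),
   ([1,2,0,1,0,4,1],4492,2),
   ([3,4,2,0,0,1,2],4493,1),
   ([2,0,2,1,2,4,2],4493,2),
   ([1,4,1,2,0,4,2],4494,0),
   ([3,1,4,3,0,4,0],4494,3),
   ([1,3,4,3,2,2,4],4496,0),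
   ([4,3,0,4,0,2,1],4496,2),
   ([2,1,0,1,4,1,2],4496,3),
   ([2,3,4,2,1,2,4],4497,0),
   ([2,1,2,4,3,3,0],4497,3),
   ([4,4,1,4,1,0,3],4498,1),
   ([1,3,4,1,4,2,3],4498,2),
   ([2,3,4,3,1,0,1],4498,3)]

/-- A block of images of the fixed vector. -/
def vOrbB81 : List (List ℕ × ℕ × ℕ) :=
  [([1,3,2,4,3,1,0],4499,0),
   ([0,3,4,3,2,4,1],4499,2),
   ([4,1,4,2,1,1,2],4499,3),
   ([1,4,0,3,1,0,1],4500,0),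
   ([1,0,3,1,4,2,1],4500,1),
   ([1,3,0,1,0,1,1],4500,2),
   ([1,2,0,3,1,0,1],4501,2),
   ([0,1,0,3,0,4,4],4501,3),
   ([4,2,4,3,0,4,1],4503,1),
   ([4,1,0,2,1,3,1],4504,1),
   ([0,2,2,3,3,0,3],4505,2),
   ([1,1,3,2,2,1,1],4506,1),
   ([0,1,1,0,2,0,4],4506,3),
   ([2,4,2,0,1,2,4],4507,0),
   ([0,1,1,0,3,1,1],4508,2),
   ([1,1,1,1,2,4,0],4508,3),
   ([0,2,1,4,4,3,3],4509,2),
   ([3,3,0,2,4,3,0],4510,1),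
   ([0,1,0,0,4,3,0],4510,2),
   ([3,0,0,3,4,0,2],4510,3),
   ([1,0,1,4,4,4,4],4511,2),
   ([0,1,4,0,4,4,3],4512,1),
   ([1,3,3,1,4,1,4],4512,3),
   ([1,0,3,4,0,0,3],4513,0),
   ([0,2,0,1,2,1,3],4513,1),
   ([3,3,0,4,2,2,3],4513,3),
   ([0,4,0,3,1,1,3],4514,0),
   ([2,4,0,2,4,2,2],4514,3),
   ([4,3,3,0,2,1,1],4515,1),
   ([1,4,0,3,3,0,1],4515,2),
   ([0,1,0,3,2,4,2],4515,3),
   ([0,3,2,1,1,3,1],4516,1),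
   ([2,0,0,0,2,2,1],4517,1),
   ([2,3,0,3,2,0,3],4518,0),
   ([3,3,2,4,1,3,0],4518,3),
   ([1,1,3,0,2,0,1],4519,3),
   ([1,4,4,1,3,3,3],4520,0),
   ([1,0,4,1,3,1,1],4520,1),
   ([0,1,0,3,3,4,0],4520,3),
   ([4,4,2,4,1,1,0],4521,0),
   ([0,2,0,3,1,2,1],4522,0),
   ([3,4,3,1,4,2,3],4522,1),
   ([4,4,0,3,2,4,3],4522,2),
   ([4,3,0,2,4,1,1],4522,3),
   ([2,2,0,1,2,4,3],4523,0),
   ([0,2,0,0,0,4,2],4523,2),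
   ([0,1,0,1,4,2,4],4525,2),
   ([4,3,1,4,2,4,2],4526,0),
   ([3,1,3,1,4,2,1],4527,2),
   ([0,1,0,4,3,2,4],4528,0),
   ([4,2,4,3,2,3,1],4528,1),
   ([0,3,0,1,4,4,3],4529,2),
   ([1,3,0,1,2,1,1],4530,0),
   ([4,1,0,4,0,0,2],4530,2),
   ([0,2,0,4,3,1,2],4530,3),
   ([3,4,0,2,4,4,4],4531,1),
   ([0,4,0,3,4,1,1],4531,3),
   ([3,1,1,2,0,4,0],4532,1),
   ([0,1,2,3,0,4,0],4532,2),
   ([0,4,0,3,2,1,4],4533,3),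
   ([1,1,1,4,0,1,4],4534,2),
   ([2,4,1,1,2,4,1],4535,3),
   ([1,0,2,0,1,4,0],4537,0),
   ([0,2,3,4,1,0,4],4537,1),
   ([3,4,1,0,2,2,1],4538,0),
   ([4,3,1,2,1,3,1],4538,3),
   ([2,0,0,0,3,3,1],4539,0),
   ([0,4,4,2,1,2,4],4539,1),
   ([0,3,1,3,0,3,4],4539,2),
   ([3,4,4,3,1,0,4],4541,1),
   ([1,4,4,2,1,1,1],4541,3),
   ([3,4,0,0,3,3,3],4542,0),
   ([1,1,1,1,2,0,1],4542,2),
   ([0,1,1,1,1,3,1],4542,3),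
   ([3,2,0,1,1,4,2],4543,2),
   ([2,3,2,4,3,0,1],4544,1),
   ([2,1,2,2,4,4,1],4544,2),
   ([2,1,4,2,4,4,2],4545,0),
   ([2,1,0,0,4,4,3],4546,0),
   ([4,2,3,3,3,2,4],4546,3),
   ([3,1,2,3,0,1,4],4547,1),
   ([4,2,0,4,0,3,1],4548,2),
   ([3,2,1,0,4,2,4],4549,0),
   ([3,0,0,4,1,2,1],4549,2),
   ([2,1,0,1,0,2,0],4549,3),
   ([4,2,0,0,3,1,1],4550,0),
   ([3,2,4,2,1,2,2],4550,1),
   ([0,4,1,1,3,0,2],4550,2),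
   ([3,4,3,0,2,0,2],4551,0),
   ([2,3,0,1,2,2,2],4551,2),
   ([2,2,0,3,0,3,1],4551,3),
   ([4,0,0,1,4,1,2],4553,2),
   ([2,0,1,2,0,4,3],4554,2),
   ([4,3,1,1,2,2,3],4554,3),
   ([4,4,1,2,3,1,3],4555,2),
   ([1,3,1,3,0,0,1],4555,3),
   ([4,1,0,0,1,1,2],4557,0),
   ([2,2,0,0,3,4,0],4558,0),
   ([3,3,4,2,1,0,4],4558,1),
   ([1,4,1,1,1,0,2],4558,3),
   ([3,4,2,2,2,2,0],4559,0),
   ([2,1,0,2,3,3,2],4559,2),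
   ([3,2,0,0,1,3,1],4559,3),
   ([2,0,4,0,1,2,4],4560,1),
   ([3,4,4,4,1,1,1],4561,1),
   ([2,4,4,1,0,1,1],4563,2),
   ([1,1,4,2,4,4,4],4563,3),
   ([2,0,0,3,3,3,3],4564,2),
   ([0,1,2,3,4,2,1],4565,1),
   ([1,1,0,4,4,1,4],4565,3),
   ([1,2,2,3,2,3,3],4566,0),
   ([3,1,1,0,0,1,1],4566,1),
   ([0,1,1,0,0,3,4],4566,3),
   ([4,4,2,1,2,4,0],4568,0),
   ([1,0,4,4,1,1,4],4568,2),
   ([1,0,3,0,0,4,2],4569,2),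
   ([4,0,3,1,3,0,1],4570,1),
   ([4,1,4,3,3,1,0],4570,3),
   ([2,4,1,0,1,2,2],4573,3),
   ([4,2,0,3,4,4,1],4574,1),
   ([4,2,3,1,0,3,1],4574,2),
   ([3,1,3,4,4,3,3],4574,3),
   ([1,0,0,3,0,3,1],4575,1),
   ([1,2,1,0,1,4,4],4576,0),
   ([3,1,4,0,2,0,3],4576,2)]

/-- A block of images of the fixed vector. -/
def vOrbB82 : List (List ℕ × ℕ × ℕ) :=
  [([0,3,4,0,4,3,4],4576,3),
   ([3,2,4,0,2,0,3],4577,1),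
   ([0,1,1,1,0,2,3],4577,2),
   ([4,3,0,3,3,2,3],4578,0),
   ([2,2,2,0,4,4,1],4579,1),
   ([1,1,1,4,1,2,4],4580,0),
   ([2,2,3,3,1,2,1],4580,2),
   ([0,4,2,3,1,4,4],4581,0),
   ([2,3,0,0,4,0,1],4583,3),
   ([3,3,0,0,3,1,0],4584,1),
   ([1,0,3,2,3,0,2],4584,3),
   ([1,4,0,0,4,0,2],4585,0),
   ([2,2,3,3,3,4,0],4585,3),
   ([4,2,3,1,4,1,2],4586,3),
   ([0,4,0,2,4,1,0],4587,2),
   ([0,1,2,3,0,4,2],4588,3),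
   ([2,0,0,0,1,0,1],4589,1),
   ([3,4,3,4,2,1,2],4591,1),
   ([2,4,2,3,4,4,2],4591,2),
   ([0,3,0,0,3,1,0],4592,0),
   ([2,1,4,2,1,0,1],4592,1),
   ([2,2,1,4,2,4,2],4593,0),
   ([3,3,1,4,2,4,1],4593,1),
   ([0,4,0,4,3,3,1],4593,2),
   ([3,1,0,2,2,0,2],4593,3),
   ([3,1,0,0,0,0,4],4594,2),
   ([4,2,3,2,1,4,4],4595,3),
   ([0,2,0,1,1,1,0],4596,0),
   ([4,1,3,2,1,1,1],4596,3),
   ([3,1,0,3,2,0,2],4597,3),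
   ([2,1,3,2,1,3,3],4598,0),
   ([3,3,0,1,2,0,1],4598,2),
   ([1,3,1,1,0,2,4],4599,3),
   ([1,3,1,2,3,4,0],4600,0),
   ([2,3,4,0,1,0,4],4600,1),
   ([1,4,0,4,1,1,2],4600,3),
   ([2,1,0,1,2,4,1],4602,1),
   ([3,4,0,2,3,3,1],4603,0),
   ([1,4,4,0,4,2,4],4603,1),
   ([4,3,3,3,3,3,4],4603,2),
   ([2,3,3,2,1,2,2],4604,1),
   ([4,0,0,1,3,0,2],4604,2),
   ([0,2,0,1,1,1,2],4604,3),
   ([4,4,2,0,2,0,2],4605,0),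
   ([1,1,1,3,3,4,2],4605,1),
   ([2,4,3,3,0,2,2],4605,2),
   ([2,2,3,0,3,0,4],4605,3),
   ([3,0,4,3,3,0,3],4607,2),
   ([3,2,4,2,0,4,3],4608,1),
   ([1,0,0,1,3,1,3],4608,2),
   ([1,3,0,2,0,4,3],4608,3),
   ([0,4,2,4,4,0,3],4609,0),
   ([1,3,2,2,3,1,3],4609,1),
   ([2,3,1,1,1,3,3],4609,2),
   ([3,3,1,4,3,2,2],4609,3),
   ([2,1,1,1,3,1,3],4610,2),
   ([0,2,2,0,3,2,4],4611,1),
   ([3,3,0,4,2,3,4],4611,2),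
   ([3,4,0,2,3,2,3],4611,3),
   ([0,2,3,3,0,2,1],4612,0),
   ([0,3,4,0,1,4,3],4612,2),
   ([4,3,4,4,3,1,1],4612,3),
   ([0,1,1,3,0,4,3],4613,1),
   ([4,1,0,2,3,1,3],4613,2),
   ([0,1,4,2,1,3,3],4614,2),
   ([3,3,4,0,3,1,1],4614,3),
   ([1,4,4,4,4,3,4],4615,1),
   ([2,0,0,1,3,4,4],4615,2),
   ([4,2,1,2,4,0,3],4616,0),
   ([3,2,2,4,3,1,3],4616,1),
   ([3,3,2,1,3,4,3],4616,3),
   ([4,3,0,4,1,3,3],4617,1),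
   ([2,2,0,0,4,1,2],4618,0),
   ([2,3,3,2,1,1,3],4618,2),
   ([0,1,3,3,0,4,2],4619,0),
   ([4,2,0,2,3,4,1],4619,1),
   ([3,1,4,4,3,3,3],4619,3),
   ([1,2,4,2,4,3,1],4620,0),
   ([3,4,3,0,4,3,4],4620,3),
   ([4,4,2,2,1,3,4],4622,1),
   ([1,2,0,2,2,4,4],4623,0),
   ([1,4,1,4,0,0,3],4623,2),
   ([2,2,1,4,4,0,2],4624,3),
   ([0,3,1,4,3,0,2],4625,2),
   ([2,4,2,2,2,2,0],4626,0),
   ([4,4,0,2,3,3,2],4626,2),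
   ([3,3,1,4,1,4,3],4627,3),
   ([2,2,3,2,1,4,3],4629,2),
   ([4,3,3,1,3,0,1],4629,3),
   ([2,4,1,3,2,2,1],4630,0),
   ([0,2,4,3,1,4,3],4630,2),
   ([1,3,3,3,1,1,1],4631,3),
   ([4,1,0,0,1,2,1],4632,1),
   ([0,4,0,3,0,1,1],4633,0),
   ([1,3,0,2,2,2,2],4633,1),
   ([0,3,3,0,4,0,2],4633,2),
   ([4,4,3,2,3,0,3],4635,0),
   ([4,4,4,3,4,4,4],4636,0),
   ([1,1,2,3,3,3,3],4636,1),
   ([1,1,4,0,1,0,3],4636,2),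
   ([0,3,4,0,3,0,4],4636,3),
   ([0,1,4,2,1,3,2],4637,1),
   ([4,3,3,3,3,1,0],4638,3),
   ([0,2,1,2,3,1,2],4639,0),
   ([3,4,4,0,1,4,3],4639,1),
   ([4,1,0,3,4,1,3],4639,2),
   ([1,3,0,4,1,1,1],4639,3),
   ([1,2,0,4,3,1,0],4640,2),
   ([3,1,3,1,1,4,3],4641,1),
   ([2,2,3,0,3,1,0],4644,2),
   ([1,0,3,1,3,0,4],4644,3),
   ([0,2,2,2,2,4,1],4645,0),
   ([3,4,1,1,1,2,0],4645,1),
   ([2,0,0,0,1,1,1],4645,3),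
   ([4,2,4,1,2,4,2],4648,0),
   ([1,3,3,4,0,2,4],4649,3),
   ([1,2,0,3,1,1,3],4650,2),
   ([1,3,0,4,3,4,0],4650,3),
   ([3,3,0,1,4,4,0],4651,0),
   ([2,2,2,0,2,0,4],4651,1),
   ([1,2,4,2,1,1,4],4651,2),
   ([1,4,4,3,2,0,3],4651,3),
   ([1,0,1,2,3,1,3],4652,0),
   ([0,2,4,0,1,1,4],4652,1),
   ([3,3,0,2,0,2,4],4652,2)]

/-- A block of images of the fixed vector. -/
def vOrbB83 : List (List ℕ × ℕ × ℕ) :=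
  [([2,4,0,4,1,2,3],4652,3),
   ([3,4,0,4,3,3,0],4653,0),
   ([2,3,0,1,2,3,1],4653,3),
   ([1,2,3,3,1,4,1],4654,1),
   ([3,1,3,2,1,1,3],4654,3),
   ([1,0,0,1,1,1,3],4655,0),
   ([0,2,3,3,1,1,4],4655,1),
   ([2,4,3,2,1,2,3],4655,3),
   ([1,4,0,0,4,3,4],4656,2),
   ([3,4,0,3,0,4,4],4656,3),
   ([4,3,3,2,1,2,1],4657,0),
   ([4,3,0,1,1,2,1],4657,3),
   ([1,3,0,4,2,2,4],4658,0),
   ([1,4,3,2,1,2,1],4658,2),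
   ([2,1,3,4,0,1,2],4658,3),
   ([0,4,0,0,0,2,1],4659,0),
   ([1,3,0,0,0,2,3],4659,1),
   ([3,4,0,1,3,4,3],4659,2),
   ([4,3,0,0,0,2,2],4659,3),
   ([4,4,0,2,3,2,1],4660,2),
   ([4,4,3,1,2,4,2],4661,3),
   ([2,4,3,4,0,0,4],4662,2),
   ([1,1,4,3,1,0,2],4663,0),
   ([2,2,3,4,2,0,1],4663,3),
   ([2,4,2,2,2,1,3],4664,0),
   ([4,0,0,3,0,2,4],4664,2),
   ([2,4,0,0,1,1,3],4664,3),
   ([2,3,4,4,0,2,2],4667,0),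
   ([2,0,0,1,4,4,4],4667,1),
   ([4,4,0,4,0,2,4],4668,1),
   ([0,2,2,2,4,1,0],4669,0),
   ([0,3,4,0,1,4,1],4669,2),
   ([3,3,4,3,1,0,4],4670,0),
   ([2,2,3,1,2,3,4],4670,1),
   ([2,1,3,0,1,4,4],4670,2),
   ([0,0,4,0,3,4,4],4671,0),
   ([1,1,4,3,2,0,3],4671,2),
   ([4,4,4,4,1,3,4],4673,2),
   ([4,2,3,1,0,0,2],4674,1),
   ([4,3,1,2,2,3,2],4675,1),
   ([0,4,4,1,0,3,4],4676,0),
   ([4,1,4,1,4,1,2],4676,2),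
   ([1,2,4,2,2,2,2],4676,3),
   ([2,2,4,4,1,1,3],4677,2),
   ([2,0,4,1,3,0,3],4678,2),
   ([0,3,4,1,0,4,2],4678,3),
   ([0,3,1,2,1,0,3],4680,2),
   ([0,3,1,2,3,4,1],4680,3),
   ([1,0,0,1,1,4,3],4681,1),
   ([1,3,4,0,1,4,0],4681,3),
   ([0,4,1,2,3,3,2],4683,0),
   ([4,0,0,4,1,2,2],4683,3),
   ([3,1,2,3,1,3,4],4684,1),
   ([3,3,3,3,2,4,4],4685,0),
   ([2,2,1,0,2,3,3],4685,1),
   ([2,3,3,3,0,0,3],4685,2),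
   ([0,3,3,3,2,0,3],4685,3),
   ([1,1,3,3,3,0,2],4688,2),
   ([3,2,0,4,0,4,2],4689,3),
   ([1,0,0,0,2,3,2],4690,1),
   ([2,2,2,4,0,4,3],4691,3),
   ([4,4,1,3,0,2,1],4692,2),
   ([2,1,1,0,4,0,4],4692,3),
   ([2,2,2,4,3,2,3],4693,2),
   ([2,3,3,1,4,2,1],4694,0),
   ([2,0,0,3,1,4,3],4694,2),
   ([4,3,0,2,3,3,0],4694,3),
   ([1,3,1,0,4,0,3],4695,0),
   ([4,0,4,2,2,3,2],4696,1),
   ([3,3,0,1,3,2,3],4697,1),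
   ([3,1,2,0,2,2,0],4698,0),
   ([3,0,3,2,0,3,2],4698,2),
   ([3,2,3,0,3,4,2],4698,3),
   ([4,1,0,4,0,3,4],4699,1),
   ([1,0,2,0,4,4,4],4699,2),
   ([3,2,3,0,1,4,4],4700,0),
   ([0,2,3,1,1,0,3],4700,2),
   ([2,1,3,2,2,4,2],4701,2),
   ([0,2,2,4,0,1,3],4702,1),
   ([4,2,4,1,3,3,3],4702,2),
   ([3,3,4,4,0,2,3],4702,3),
   ([2,2,1,3,3,2,1],4703,0),
   ([0,2,2,0,2,1,2],4704,2),
   ([3,0,0,1,2,2,1],4705,0),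
   ([0,1,1,2,3,2,3],4705,1),
   ([1,0,2,2,2,1,2],4706,0),
   ([3,1,0,4,4,1,3],4706,2),
   ([1,3,0,0,1,2,3],4706,3),
   ([2,4,0,1,3,4,2],4707,3),
   ([2,3,1,0,1,4,4],4708,0),
   ([2,0,3,4,4,3,3],4708,1),
   ([0,3,4,0,4,3,0],4708,3),
   ([0,4,4,0,4,1,0],4709,0),
   ([4,4,1,1,1,3,1],4710,2),
   ([3,1,1,4,0,0,1],4710,3),
   ([1,2,1,2,1,3,1],4711,0),
   ([3,4,1,0,2,3,4],4711,3),
   ([0,2,1,0,4,1,4],4713,2),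
   ([3,4,4,0,1,3,0],4714,1),
   ([4,4,0,1,1,3,0],4714,2),
   ([3,0,0,4,1,1,1],4714,3),
   ([4,0,4,3,4,3,0],4716,1),
   ([2,0,2,1,4,3,0],4716,2),
   ([2,0,1,0,2,3,0],4717,0),
   ([0,1,1,0,4,2,3],4717,2),
   ([2,3,1,2,1,4,1],4717,3),
   ([2,4,4,1,3,4,1],4719,1),
   ([0,4,0,1,4,3,1],4720,0),
   ([3,1,1,4,0,4,4],4721,1),
   ([0,1,4,3,2,2,4],4722,1),
   ([4,0,0,3,1,3,4],4722,2),
   ([3,4,0,1,2,1,4],4722,3),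
   ([4,0,0,2,1,2,4],4723,2),
   ([0,1,2,1,3,3,3],4725,1),
   ([1,2,3,3,1,0,3],4725,2),
   ([3,4,0,3,3,2,3],4726,1),
   ([3,3,3,2,1,1,2],4727,0),
   ([2,0,3,3,4,1,2],4728,0),
   ([4,2,2,1,4,1,3],4728,2),
   ([0,4,4,0,3,0,3],4729,0),
   ([4,1,4,0,2,3,3],4729,2),
   ([0,4,1,4,4,4,2],4730,0),
   ([3,1,4,1,1,2,2],4730,3),
   ([4,4,4,3,0,1,0],4731,1),
   ([1,1,4,4,1,4,3],4732,1)]

/-- A block of images of the fixed vector. -/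
def vOrbB84 : List (List ℕ × ℕ × ℕ) :=
  [([0,1,1,4,3,0,3],4733,0),
   ([4,2,4,3,4,1,3],4733,1),
   ([0,2,2,1,2,3,3],4733,2),
   ([3,3,2,4,4,3,3],4733,3),
   ([4,0,3,3,3,0,3],4735,0),
   ([0,3,4,4,4,1,3],4735,1),
   ([3,3,0,0,4,3,2],4735,3),
   ([1,4,3,4,0,1,2],4738,1),
   ([2,3,0,0,2,4,2],4738,2),
   ([4,2,4,0,3,1,3],4739,3),
   ([1,0,3,0,4,1,0],4740,0),
   ([4,1,4,2,4,2,3],4740,3),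
   ([3,2,4,2,1,3,1],4741,2),
   ([4,3,4,4,2,4,3],4742,2),
   ([4,3,3,0,2,4,2],4744,2),
   ([4,2,0,4,3,1,0],4745,0),
   ([3,2,4,3,2,0,1],4745,1),
   ([4,1,0,1,2,4,3],4745,3),
   ([1,2,0,4,3,4,1],4746,1),
   ([4,1,0,3,4,3,1],4746,2),
   ([0,1,4,1,0,2,1],4748,2),
   ([1,2,4,3,4,2,4],4749,0),
   ([2,1,4,0,3,3,4],4749,3),
   ([0,1,1,3,2,1,3],4750,0),
   ([2,4,4,2,3,3,3],4750,3),
   ([0,4,2,1,2,4,2],4751,0),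
   ([1,3,1,2,2,4,1],4751,1),
   ([4,0,4,2,3,3,1],4751,2),
   ([3,1,4,0,2,2,2],4751,3),
   ([2,4,4,4,2,2,4],4752,0),
   ([3,2,1,4,4,2,1],4752,2),
   ([1,2,1,3,4,0,2],4753,2),
   ([0,2,1,3,2,3,4],4753,3),
   ([2,1,2,3,1,4,4],4754,0),
   ([0,3,4,3,3,2,4],4754,3),
   ([3,4,1,0,3,3,2],4756,3),
   ([3,3,3,2,3,2,1],4757,2),
   ([4,1,0,0,1,0,3],4758,1),
   ([2,2,1,2,4,2,3],4758,2),
   ([4,2,4,0,2,4,3],4759,2),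
   ([2,2,0,1,4,0,4],4761,0),
   ([1,0,4,4,1,4,4],4761,2),
   ([4,4,4,3,2,0,2],4761,3),
   ([4,3,3,1,3,4,4],4763,1),
   ([2,4,4,3,2,0,4],4763,2),
   ([4,1,2,0,4,1,0],4765,0),
   ([2,4,2,0,3,4,1],4765,2),
   ([0,4,2,4,2,4,0],4767,0),
   ([1,3,1,4,4,0,4],4767,1),
   ([1,4,2,0,4,2,2],4767,3),
   ([2,3,2,2,3,1,4],4768,1),
   ([3,4,1,1,4,1,1],4769,0),
   ([2,2,4,3,3,4,1],4770,1),
   ([4,3,1,3,2,1,3],4771,0),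
   ([4,1,4,0,2,2,4],4771,2),
   ([2,4,4,2,3,2,1],4771,3),
   ([0,1,3,3,4,1,1],4772,2),
   ([3,0,1,0,2,2,0],4773,2),
   ([1,1,2,3,1,0,4],4774,0),
   ([4,4,3,1,3,3,4],4774,1),
   ([1,1,4,4,2,4,4],4774,2),
   ([4,4,4,3,3,0,1],4774,3),
   ([1,1,1,2,1,2,2],4775,0),
   ([4,4,3,2,2,4,4],4775,1),
   ([4,4,1,0,1,0,4],4775,2),
   ([0,4,1,0,2,0,1],4775,3),
   ([1,0,4,3,3,1,4],4777,1),
   ([2,4,1,0,3,4,0],4777,3),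
   ([3,1,2,0,2,3,2],4779,0),
   ([4,0,3,0,3,4,2],4779,3),
   ([0,4,3,1,0,3,1],4781,0),
   ([2,0,3,2,1,2,4],4782,1),
   ([3,4,0,1,1,3,0],4782,3),
   ([4,4,0,4,1,0,2],4783,1),
   ([2,2,3,0,3,3,2],4783,2),
   ([3,2,3,3,1,0,1],4783,3),
   ([3,2,3,3,2,4,1],4784,2),
   ([0,4,3,0,4,0,3],4785,2),
   ([0,3,3,0,1,2,1],4785,3),
   ([0,4,4,2,3,4,3],4786,1),
   ([1,3,3,4,3,4,1],4786,3),
   ([1,3,1,1,0,0,3],4787,0),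
   ([1,1,3,0,4,3,3],4787,2),
   ([3,3,3,3,1,1,2],4787,3),
   ([0,2,3,3,4,3,1],4788,2),
   ([3,1,3,1,3,2,2],4788,3),
   ([3,0,4,3,1,0,4],4789,0),
   ([4,1,3,0,0,0,3],4790,0),
   ([3,3,1,4,1,1,0],4790,3),
   ([1,3,4,2,1,1,0],4791,2),
   ([1,0,4,3,1,0,2],4791,3),
   ([2,2,4,4,0,2,1],4792,2),
   ([3,2,4,3,0,0,2],4793,2),
   ([2,3,4,1,1,1,1],4794,3),
   ([2,3,0,2,3,2,1],4795,0),
   ([2,1,3,0,4,2,1],4797,0),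
   ([4,1,4,3,2,4,3],4797,2),
   ([4,3,4,2,4,2,4],4797,3),
   ([2,1,4,1,0,1,2],4798,0),
   ([4,1,0,4,2,4,3],4798,1),
   ([3,4,4,3,4,4,2],4799,3),
   ([4,2,1,2,2,0,1],4800,1),
   ([3,3,4,1,3,4,1],4800,2),
   ([1,1,2,4,2,0,4],4801,0),
   ([4,4,2,0,4,0,1],4801,3),
   ([4,2,2,3,0,3,3],4802,2),
   ([3,3,2,1,2,4,2],4802,3),
   ([0,3,3,1,0,4,4],4803,0),
   ([2,1,0,4,0,3,3],4803,1),
   ([4,4,2,4,3,0,3],4803,2),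
   ([0,3,2,4,0,4,4],4803,3),
   ([2,2,2,4,2,0,2],4804,3),
   ([1,3,2,2,2,4,4],4805,0),
   ([4,3,0,0,4,0,3],4805,2),
   ([0,3,0,0,1,1,2],4805,3),
   ([4,0,2,1,3,3,3],4807,2),
   ([1,0,2,0,3,2,1],4808,2),
   ([4,4,2,1,2,3,4],4809,1),
   ([3,3,2,0,1,4,4],4809,2),
   ([4,4,2,4,2,0,1],4809,3),
   ([0,2,3,0,1,3,4],4812,0),
   ([1,0,3,0,0,1,2],4812,2),
   ([2,1,2,4,0,1,2],4813,1),
   ([2,0,4,0,2,4,2],4813,2),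
   ([4,2,4,4,0,4,4],4813,3)]

/-- A block of images of the fixed vector. -/
def vOrbB85 : List (List ℕ × ℕ × ℕ) :=
  [([1,2,4,1,0,1,0],4814,0),
   ([4,1,4,2,2,3,4],4814,3),
   ([1,3,2,2,3,4,2],4815,0),
   ([2,3,4,0,3,4,1],4815,1),
   ([2,4,2,4,4,3,1],4815,2),
   ([3,1,2,2,3,1,2],4815,3),
   ([2,2,2,1,3,4,0],4817,3),
   ([2,3,4,2,2,2,2],4818,2),
   ([3,4,0,2,3,4,4],4819,2),
   ([0,0,2,2,3,2,2],4820,0),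
   ([3,0,2,4,3,3,4],4821,2),
   ([3,0,0,1,0,4,1],4822,1),
   ([0,4,3,3,1,3,1],4822,2),
   ([4,4,4,0,1,1,3],4823,0),
   ([3,0,4,0,4,2,2],4825,0),
   ([4,4,0,3,3,0,4],4826,0),
   ([1,4,4,2,2,4,4],4826,2),
   ([4,4,4,1,3,0,4],4826,3),
   ([1,0,4,0,4,1,1],4827,3),
   ([3,0,2,1,2,1,3],4828,2),
   ([3,1,4,3,1,1,1],4829,2),
   ([2,3,4,2,2,1,3],4830,1),
   ([2,0,2,2,0,3,3],4830,2),
   ([3,4,0,3,2,4,4],4831,0),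
   ([0,3,2,4,1,3,1],4831,3),
   ([4,2,0,3,0,1,2],4832,0),
   ([3,2,0,2,2,4,3],4832,1),
   ([1,3,3,0,2,4,3],4832,3),
   ([4,1,0,0,0,0,3],4833,0),
   ([4,2,0,2,3,3,3],4833,2),
   ([3,3,0,0,0,1,0],4833,3),
   ([0,4,2,4,1,1,2],4834,0),
   ([1,3,0,3,2,2,2],4834,3),
   ([1,2,4,0,1,3,4],4835,2),
   ([0,4,2,2,2,2,1],4837,3),
   ([2,3,1,0,4,0,4],4838,0),
   ([2,0,2,1,0,3,4],4838,1),
   ([2,3,0,2,4,4,4],4838,2),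
   ([4,4,0,1,0,3,0],4838,3),
   ([4,1,0,2,2,3,1],4839,2),
   ([0,2,0,1,0,1,3],4840,1),
   ([0,1,3,3,3,3,3],4840,2),
   ([3,3,3,1,0,2,3],4840,3),
   ([2,1,0,4,3,1,2],4841,2),
   ([2,1,0,1,3,1,2],4842,0),
   ([1,2,2,0,3,1,3],4842,2),
   ([2,1,4,3,4,2,1],4844,0),
   ([4,1,2,3,3,2,3],4844,1),
   ([0,3,4,1,3,3,3],4845,2),
   ([4,3,4,3,3,0,1],4846,3),
   ([3,1,4,4,1,3,4],4847,0),
   ([2,0,4,3,3,1,2],4847,2),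
   ([1,2,4,4,1,4,2],4847,3),
   ([4,2,2,4,3,4,0],4848,3),
   ([2,4,4,3,3,0,2],4849,0),
   ([2,1,2,1,3,2,2],4849,2),
   ([2,2,2,3,1,1,3],4849,3),
   ([1,4,2,4,2,4,0],4850,1),
   ([1,4,1,3,2,4,0],4850,2),
   ([4,2,1,1,4,2,2],4851,0),
   ([3,2,2,0,4,4,4],4851,1),
   ([0,4,1,1,3,0,4],4851,2),
   ([1,0,3,4,3,0,4],4852,1),
   ([0,4,3,4,4,1,3],4853,2),
   ([1,1,4,2,3,0,4],4854,1),
   ([2,3,3,3,2,1,4],4854,2),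
   ([3,0,0,1,2,0,1],4858,1),
   ([3,4,0,0,3,4,1],4858,2),
   ([3,0,3,3,0,4,2],4859,0),
   ([0,1,0,2,3,4,1],4859,1),
   ([2,1,4,1,0,4,1],4860,0),
   ([4,1,4,4,2,1,4],4861,1),
   ([2,2,2,4,0,2,1],4863,2),
   ([4,2,2,3,3,3,4],4864,3),
   ([3,3,2,1,2,2,0],4865,2),
   ([1,3,4,3,0,2,2],4868,2),
   ([2,2,4,0,3,0,0],4868,3),
   ([4,4,1,2,4,2,0],4870,2),
   ([2,0,1,4,4,0,2],4870,3),
   ([0,2,2,2,1,3,2],4871,2),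
   ([1,1,4,0,2,3,2],4872,3),
   ([2,3,4,2,3,0,2],4873,0),
   ([2,2,1,3,2,3,0],4873,3),
   ([3,1,2,3,2,3,0],4874,2),
   ([1,0,1,4,4,0,4],4875,1),
   ([4,4,2,4,3,1,4],4875,2),
   ([1,4,2,0,4,4,0],4875,3),
   ([0,1,1,4,2,4,0],4877,0),
   ([4,2,1,4,2,0,4],4877,1),
   ([1,3,0,3,2,3,0],4878,1),
   ([2,3,0,3,2,3,0],4879,1),
   ([3,2,0,2,2,1,1],4880,0),
   ([0,2,1,4,2,2,0],4880,3),
   ([2,1,2,4,2,3,1],4883,0),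
   ([1,3,2,2,3,3,4],4883,2),
   ([0,2,1,4,0,1,3],4884,0),
   ([3,4,0,1,3,1,4],4884,1),
   ([2,4,1,3,3,1,1],4884,3),
   ([2,4,1,0,2,2,4],4886,0),
   ([2,0,0,4,1,0,4],4888,0),
   ([0,4,1,3,2,4,4],4888,2),
   ([4,2,1,3,2,3,0],4890,1),
   ([1,3,2,4,0,0,3],4892,2),
   ([0,3,2,4,2,2,0],4892,3),
   ([2,3,2,2,1,3,4],4893,1),
   ([0,1,4,2,0,4,4],4893,2),
   ([2,2,4,1,1,2,4],4894,0),
   ([2,1,1,4,4,0,2],4894,3),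
   ([0,1,2,4,2,1,0],4895,3),
   ([2,2,0,4,0,2,1],4896,1),
   ([3,4,2,3,1,1,1],4896,2),
   ([2,4,2,4,2,1,4],4898,1),
   ([2,1,1,0,1,2,4],4898,2),
   ([0,4,2,0,4,4,1],4899,1),
   ([0,3,1,3,0,3,1],4899,2),
   ([3,0,1,4,1,2,4],4900,0),
   ([1,4,3,3,1,2,1],4900,2),
   ([4,0,2,0,4,2,1],4904,0),
   ([0,2,2,0,0,4,3],4904,2),
   ([4,3,2,4,2,3,2],4904,3),
   ([1,0,0,2,4,3,1],4905,1),
   ([1,4,0,1,0,2,1],4905,2),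
   ([2,2,3,3,0,0,3],4906,1),
   ([1,3,1,0,1,4,3],4907,2),
   ([4,3,1,1,4,3,2],4908,1)]

/-- A block of images of the fixed vector. -/
def vOrbB86 : List (List ℕ × ℕ × ℕ) :=
  [([3,1,3,1,1,1,2],4908,2),
   ([3,3,4,2,3,0,3],4911,0),
   ([0,2,0,4,1,1,3],4913,1),
   ([3,2,2,4,0,0,1],4914,0),
   ([1,1,3,1,0,2,0],4914,3),
   ([0,1,0,0,3,3,3],4915,0),
   ([1,4,1,1,2,0,1],4915,2),
   ([0,1,1,1,1,3,3],4915,3),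
   ([4,1,1,4,0,2,0],4916,2),
   ([2,0,1,1,0,0,4],4916,3),
   ([1,2,2,1,1,3,2],4917,1),
   ([1,2,1,0,1,1,3],4917,3),
   ([0,4,1,1,0,3,1],4918,0),
   ([3,4,3,3,1,2,2],4918,3),
   ([4,4,2,4,3,2,0],4919,2),
   ([1,4,2,0,0,1,1],4920,0),
   ([1,0,0,0,4,2,2],4920,1),
   ([1,0,2,1,3,3,2],4921,0),
   ([2,2,1,3,4,4,0],4921,2),
   ([1,1,3,3,4,3,2],4922,2),
   ([1,1,4,1,1,3,2],4923,0),
   ([4,4,3,3,4,4,0],4923,1),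
   ([4,0,1,4,4,0,1],4923,3),
   ([1,1,4,1,4,3,0],4925,2),
   ([2,0,1,3,0,0,3],4926,1),
   ([2,4,0,1,3,2,3],4926,2),
   ([4,0,4,4,4,0,3],4927,0),
   ([2,0,0,2,0,3,3],4927,2),
   ([2,3,0,1,0,3,1],4928,1),
   ([2,0,0,2,3,2,3],4929,2),
   ([2,3,0,4,0,3,1],4929,3),
   ([3,1,0,2,0,2,1],4930,0),
   ([4,3,2,0,3,4,2],4930,3),
   ([1,3,3,1,0,2,4],4931,0),
   ([0,4,1,1,4,4,4],4932,2),
   ([3,4,2,1,1,4,4],4933,0),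
   ([0,3,2,3,0,3,1],4933,3),
   ([3,3,2,2,4,1,2],4934,2),
   ([0,1,4,1,4,3,0],4935,1),
   ([3,4,0,1,0,1,4],4936,0),
   ([1,1,1,2,4,3,0],4936,2),
   ([1,1,4,0,0,3,0],4938,0),
   ([2,3,3,2,3,0,1],4938,3),
   ([4,0,0,4,2,0,2],4939,0),
   ([3,0,1,4,4,0,3],4940,1),
   ([4,4,4,0,2,2,3],4941,0),
   ([1,1,1,3,2,1,0],4941,1),
   ([0,3,2,2,2,1,0],4942,2),
   ([1,0,2,3,2,3,2],4942,3),
   ([2,4,1,2,0,0,3],4944,1),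
   ([2,0,2,4,1,2,3],4945,0),
   ([0,4,3,0,2,1,0],4945,1),
   ([1,4,0,2,2,1,0],4945,2),
   ([1,0,0,3,2,4,1],4945,3),
   ([1,0,3,2,2,1,0],4946,1),
   ([3,1,1,1,2,4,0],4947,3),
   ([3,4,2,0,3,1,0],4949,1),
   ([4,2,0,1,3,1,0],4949,2),
   ([1,0,0,2,3,1,1],4949,3),
   ([2,3,4,4,4,0,1],4950,2),
   ([3,0,0,2,3,2,2],4951,1),
   ([1,0,2,3,2,4,2],4952,1),
   ([4,3,1,1,0,0,2],4953,3),
   ([1,3,4,2,3,1,2],4954,1),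
   ([2,3,0,3,1,0,3],4956,0),
   ([2,0,3,1,4,1,3],4956,1),
   ([2,1,0,4,2,3,3],4956,2),
   ([2,2,0,3,0,0,3],4957,2),
   ([1,2,2,1,1,1,3],4958,2),
   ([3,2,4,2,1,1,3],4959,2),
   ([1,3,4,3,3,3,3],4959,3),
   ([3,3,1,2,1,1,1],4960,3),
   ([0,4,3,4,3,4,4],4961,0),
   ([2,3,1,0,1,0,3],4961,2),
   ([0,3,1,0,3,2,2],4961,3),
   ([4,1,4,1,3,2,2],4962,0),
   ([0,4,0,3,3,1,0],4962,3),
   ([3,3,0,2,3,2,4],4963,1),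
   ([4,1,4,3,1,4,4],4964,2),
   ([4,4,4,2,2,2,4],4964,3),
   ([0,2,0,3,3,2,0],4965,0),
   ([3,2,4,1,3,1,1],4965,3),
   ([2,4,1,4,1,1,3],4967,1),
   ([3,3,4,3,1,2,1],4967,3),
   ([0,4,0,3,3,1,4],4968,0),
   ([3,0,4,1,3,2,2],4968,3),
   ([1,2,0,3,3,4,4],4969,2),
   ([2,2,0,2,4,3,1],4972,0),
   ([0,1,0,0,0,3,4],4972,2),
   ([3,4,0,3,1,0,2],4972,3),
   ([4,4,1,0,1,3,2],4977,2),
   ([1,2,3,3,1,3,4],4978,2),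
   ([3,4,3,1,2,1,2],4978,3),
   ([1,4,4,1,4,0,2],4979,1),
   ([4,2,3,1,2,2,4],4981,0),
   ([0,1,1,1,0,2,1],4981,2),
   ([2,1,1,3,4,4,3],4981,3),
   ([2,1,0,0,3,4,3],4982,3),
   ([1,4,2,4,0,3,0],4983,2),
   ([0,1,2,4,1,4,4],4984,0),
   ([4,2,4,4,2,2,1],4985,0),
   ([3,2,1,4,3,2,3],4985,1),
   ([4,3,1,1,3,4,3],4985,3),
   ([4,3,1,4,2,3,0],4986,1),
   ([1,4,0,4,2,3,0],4986,2),
   ([4,3,4,3,0,3,0],4987,0),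
   ([2,4,0,2,0,0,3],4987,1),
   ([2,3,1,2,0,2,1],4987,3),
   ([2,0,2,1,0,2,4],4988,1),
   ([1,1,2,3,4,2,0],4989,0),
   ([4,4,2,3,4,0,2],4989,1),
   ([3,2,0,4,4,0,1],4989,3),
   ([0,3,1,1,0,4,1],4990,2),
   ([4,1,1,0,4,4,3],4990,3),
   ([1,4,0,4,4,2,1],4991,2),
   ([1,4,4,2,2,3,0],4992,0),
   ([2,0,4,4,3,2,3],4992,2),
   ([3,3,4,2,1,3,2],4994,1),
   ([1,2,0,0,4,2,1],4995,0),
   ([4,3,3,4,1,4,3],4995,2),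
   ([1,0,4,0,1,4,3],4996,1),
   ([1,3,0,4,1,4,0],4996,3),
   ([3,1,1,1,1,0,4],4997,0),
   ([1,4,0,1,2,4,4],4997,2),
   ([4,4,0,0,3,4,2],4997,3)]

/-- A block of images of the fixed vector. -/
def vOrbB87 : List (List ℕ × ℕ × ℕ) :=
  [([4,1,0,4,4,0,2],4998,1),
   ([0,3,2,0,3,3,2],4999,0),
   ([2,1,4,2,0,4,0],4999,1),
   ([4,0,0,2,0,4,4],4999,3),
   ([0,1,0,4,1,2,4],5002,0),
   ([2,1,1,2,3,3,3],5002,3),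
   ([2,1,3,0,2,2,4],5003,3),
   ([1,4,0,0,1,4,3],5004,2),
   ([4,3,0,4,3,4,0],5004,3),
   ([4,0,0,4,2,4,2],5005,2),
   ([0,3,1,3,0,3,2],5006,3),
   ([2,3,0,1,2,1,3],5007,2),
   ([3,1,0,0,4,3,0],5008,2),
   ([4,3,1,4,1,3,4],5009,1),
   ([2,0,4,4,0,4,4],5009,2),
   ([4,4,4,3,1,4,2],5009,3),
   ([4,0,1,3,4,0,3],5010,0),
   ([0,3,0,4,2,4,4],5011,0),
   ([0,3,3,4,0,4,4],5011,3),
   ([1,2,3,4,2,0,2],5012,3),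
   ([4,0,0,2,3,1,4],5013,0),
   ([4,3,2,0,3,3,0],5015,0),
   ([2,4,4,2,0,0,3],5015,1),
   ([2,1,1,4,1,4,3],5016,2),
   ([3,3,4,2,1,2,1],5017,0),
   ([2,3,2,1,3,4,2],5018,3),
   ([3,3,2,3,1,0,3],5019,0),
   ([2,2,3,1,3,1,3],5019,1),
   ([0,1,4,0,4,4,4],5020,0),
   ([0,2,4,0,2,3,2],5021,1),
   ([2,2,1,2,4,1,2],5021,2),
   ([1,1,4,0,0,4,1],5023,0),
   ([2,1,3,0,3,2,0],5023,2),
   ([2,0,3,2,3,0,1],5023,3),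
   ([0,1,3,3,1,2,3],5024,0),
   ([0,4,1,2,3,3,3],5025,0),
   ([1,3,4,0,1,1,1],5025,1),
   ([0,1,0,4,1,2,2],5025,3),
   ([2,3,4,3,1,1,0],5026,0),
   ([2,0,3,1,2,0,1],5026,1),
   ([4,4,3,0,3,4,1],5026,2),
   ([2,2,0,2,4,2,0],5028,1),
   ([0,1,0,1,4,2,0],5028,2),
   ([4,3,2,1,1,1,1],5029,0),
   ([1,0,1,2,1,2,0],5030,0),
   ([0,2,3,2,2,0,2],5030,1),
   ([2,1,1,1,2,2,4],5031,1),
   ([0,1,1,1,1,3,4],5031,2),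
   ([3,4,1,1,2,0,2],5032,1),
   ([2,2,1,0,4,3,2],5033,1),
   ([1,2,0,1,4,0,3],5033,3),
   ([1,1,0,2,3,0,1],5034,2),
   ([0,1,0,2,2,4,3],5034,3),
   ([1,2,0,3,4,3,2],5035,2),
   ([3,2,0,1,2,4,2],5035,3),
   ([1,3,0,2,4,2,2],5036,2),
   ([2,2,0,4,2,4,3],5036,3),
   ([2,3,4,4,0,1,3],5037,3),
   ([3,3,0,4,1,1,2],5039,2),
   ([0,4,2,4,3,2,3],5040,1),
   ([1,3,4,3,1,0,2],5044,0),
   ([1,4,2,1,2,3,1],5046,0),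
   ([3,4,4,0,2,4,0],5046,3),
   ([3,4,3,1,3,1,1],5047,0),
   ([1,4,4,1,1,2,2],5047,1),
   ([4,4,3,0,3,0,2],5047,2),
   ([2,2,4,1,0,3,2],5049,1),
   ([4,2,2,2,3,4,2],5050,0),
   ([3,1,2,2,3,4,3],5050,3),
   ([3,4,4,2,0,2,3],5051,2),
   ([2,3,4,4,2,3,2],5051,3),
   ([1,3,2,3,3,3,4],5052,0),
   ([2,4,4,1,2,2,4],5053,1),
   ([4,4,4,1,1,3,4],5053,2),
   ([0,4,2,2,3,0,2],5054,1),
   ([0,4,1,1,0,3,2],5054,2),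
   ([1,4,2,3,2,3,4],5055,0),
   ([0,4,1,4,2,1,2],5055,2),
   ([1,2,1,0,0,4,0],5055,3),
   ([0,1,1,3,4,3,1],5056,2),
   ([2,1,3,2,3,4,3],5057,2),
   ([4,3,3,1,0,0,2],5057,3),
   ([3,1,3,4,0,3,2],5058,1),
   ([2,3,0,3,2,1,2],5058,2),
   ([1,2,0,4,0,3,4],5058,3),
   ([2,1,2,0,4,4,4],5059,2),
   ([1,3,0,0,1,3,1],5061,1),
   ([4,0,3,0,1,2,1],5062,0),
   ([0,3,3,4,3,2,3],5062,1),
   ([2,3,3,4,2,2,4],5064,1),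
   ([3,4,2,2,2,1,2],5064,3),
   ([1,4,4,2,1,0,2],5065,1),
   ([3,2,1,1,1,3,1],5065,3),
   ([0,4,0,1,2,3,4],5066,0),
   ([1,2,0,4,3,2,2],5066,3),
   ([4,4,4,2,3,2,3],5068,1),
   ([2,3,3,0,1,4,3],5068,2),
   ([2,3,4,2,0,1,2],5069,2),
   ([4,4,3,0,1,0,1],5070,2),
   ([4,3,4,2,3,0,1],5071,0),
   ([2,4,1,2,3,1,1],5071,2),
   ([3,0,3,1,3,3,3],5073,0),
   ([0,1,4,1,1,1,1],5073,1),
   ([3,3,1,0,2,3,3],5075,0),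
   ([4,1,1,2,2,0,1],5075,2),
   ([0,1,1,2,1,0,3],5075,3),
   ([3,0,4,1,2,3,0],5076,0),
   ([1,1,3,4,4,2,3],5076,2),
   ([3,0,0,1,1,2,1],5077,0),
   ([4,3,3,2,1,1,4],5077,3),
   ([4,1,0,1,1,3,4],5078,0),
   ([4,0,3,3,1,3,2],5078,1),
   ([1,2,3,2,1,1,0],5078,3),
   ([1,3,3,1,4,4,3],5079,0),
   ([2,3,2,0,3,1,2],5079,1),
   ([4,2,0,2,3,1,2],5079,3),
   ([2,1,0,4,1,2,0],5081,2),
   ([3,2,3,0,2,0,2],5082,2),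
   ([4,2,0,4,1,0,2],5083,0),
   ([0,4,1,0,0,2,2],5083,2),
   ([2,2,1,2,3,4,3],5083,3),
   ([3,4,2,1,4,4,2],5084,1),
   ([4,0,2,0,3,4,4],5085,2),
   ([4,1,3,0,2,0,4],5086,2),
   ([2,4,3,0,3,0,4],5087,2)]

/-- A block of images of the fixed vector. -/
def vOrbB88 : List (List ℕ × ℕ × ℕ) :=
  [([0,4,3,0,4,0,1],5087,3),
   ([4,3,1,2,0,4,2],5088,2),
   ([4,3,0,1,3,0,2],5089,0),
   ([2,4,4,1,0,4,2],5089,1),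
   ([1,4,2,4,2,2,2],5089,2),
   ([2,2,2,1,0,2,1],5089,3),
   ([2,0,1,1,2,0,3],5090,0),
   ([4,0,2,4,3,3,3],5090,2),
   ([2,3,0,0,3,3,3],5091,1),
   ([1,2,3,2,1,0,3],5091,2),
   ([1,3,0,3,1,1,4],5092,0),
   ([4,4,0,4,4,3,0],5092,2),
   ([2,2,4,4,3,0,3],5094,0),
   ([3,3,4,3,0,1,3],5094,1),
   ([3,3,3,3,0,0,2],5094,3),
   ([1,1,3,2,2,4,4],5095,0),
   ([4,4,1,1,3,3,3],5095,1),
   ([2,0,4,1,2,3,0],5097,2),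
   ([2,2,2,2,3,3,3],5098,1),
   ([0,1,3,0,0,3,0],5099,0),
   ([4,2,0,0,1,0,3],5099,1),
   ([1,3,1,4,1,2,3],5100,2),
   ([4,0,0,2,4,2,4],5101,1),
   ([4,3,0,0,3,3,4],5101,2),
   ([1,4,0,3,3,4,2],5103,1),
   ([0,4,2,0,3,1,1],5104,0),
   ([1,3,4,2,0,2,2],5104,1),
   ([0,2,0,2,0,2,2],5104,3),
   ([1,1,2,0,3,1,2],5105,1),
   ([0,1,0,3,0,4,2],5105,2),
   ([0,1,4,3,0,4,1],5106,1),
   ([3,1,3,3,0,1,4],5106,3),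
   ([1,4,2,2,1,0,4],5107,1),
   ([1,4,4,1,1,3,1],5107,3),
   ([3,3,4,4,3,1,3],5108,0),
   ([2,2,4,3,0,1,4],5108,1),
   ([2,1,3,1,4,2,4],5108,2),
   ([2,4,3,3,0,0,3],5108,3),
   ([1,1,1,1,0,4,2],5110,2),
   ([4,2,1,0,3,3,0],5110,3),
   ([1,4,4,3,4,4,1],5111,2),
   ([4,1,4,2,3,0,1],5111,3),
   ([0,3,3,3,0,3,1],5112,2),
   ([2,1,1,0,3,1,0],5113,0),
   ([2,4,3,0,4,2,4],5114,2),
   ([3,2,4,1,1,1,2],5116,1),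
   ([4,1,2,2,1,4,2],5117,0),
   ([4,0,3,2,4,4,1],5117,1),
   ([1,3,3,0,0,3,1],5117,2),
   ([3,1,3,3,4,1,0],5117,3),
   ([3,4,0,4,2,0,1],5120,0),
   ([4,1,3,3,1,1,1],5120,2),
   ([1,2,0,1,4,1,0],5121,0),
   ([3,1,2,0,2,0,1],5121,1),
   ([4,1,4,3,2,3,4],5121,3),
   ([1,4,4,1,3,4,2],5122,0),
   ([1,0,4,1,3,4,1],5122,1),
   ([3,1,0,3,3,4,0],5122,3),
   ([2,1,0,4,3,0,4],5123,0),
   ([3,4,0,2,1,4,4],5123,2),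
   ([4,4,0,1,2,2,4],5123,3),
   ([4,2,0,4,2,0,2],5124,0),
   ([3,4,1,2,3,2,2],5125,0),
   ([0,4,0,4,1,3,1],5125,3),
   ([0,4,0,1,1,3,4],5126,2),
   ([2,0,2,1,0,1,4],5127,0),
   ([0,4,0,4,3,3,0],5127,1),
   ([1,2,0,1,4,3,4],5128,1),
   ([2,2,2,3,3,4,4],5128,2),
   ([0,2,0,4,0,1,3],5129,1),
   ([2,0,0,2,3,3,3],5130,1),
   ([0,4,0,1,1,3,0],5131,2),
   ([3,0,0,4,1,0,1],5131,3),
   ([4,3,1,3,3,3,3],5132,1),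
   ([2,3,4,0,4,3,0],5133,0),
   ([2,0,2,1,1,0,3],5133,1),
   ([4,0,0,4,1,0,2],5134,0),
   ([2,2,1,2,3,3,2],5134,3),
   ([3,4,4,4,0,3,0],5135,1),
   ([3,4,1,1,0,3,0],5135,2),
   ([4,0,4,2,1,0,3],5136,1),
   ([3,0,1,4,4,2,3],5136,2),
   ([1,2,3,3,2,3,1],5138,1),
   ([2,4,1,0,4,2,3],5139,2),
   ([4,2,4,3,1,4,0],5141,0),
   ([3,2,3,1,2,0,4],5141,1),
   ([3,4,3,3,1,1,4],5141,2),
   ([2,3,4,3,2,1,3],5143,1),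
   ([3,3,0,1,2,1,2],5143,3),
   ([0,3,4,0,1,4,4],5144,0),
   ([1,4,0,4,3,0,3],5144,2),
   ([0,3,0,4,0,4,4],5144,3),
   ([4,1,4,1,1,3,3],5146,1),
   ([0,1,3,0,4,0,3],5146,2),
   ([1,3,1,0,3,1,2],5147,0),
   ([2,3,4,2,3,4,3],5147,1),
   ([3,0,4,0,3,0,0],5148,1),
   ([4,0,4,4,0,4,2],5150,1),
   ([3,1,1,2,2,2,2],5150,2),
   ([4,2,4,2,3,2,2],5151,2),
   ([4,2,4,4,1,0,1],5154,3),
   ([2,0,2,1,2,3,2],5155,0),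
   ([2,0,4,1,2,4,0],5155,2),
   ([1,3,2,0,0,0,2],5156,1),
   ([4,1,3,0,4,3,2],5157,2),
   ([3,2,3,3,2,3,2],5157,3),
   ([2,0,3,2,2,4,0],5158,1),
   ([4,1,3,3,2,1,4],5159,0),
   ([1,3,3,0,2,3,0],5159,2),
   ([0,0,2,2,3,4,0],5160,1),
   ([1,3,0,4,1,3,2],5161,0),
   ([3,3,1,3,3,4,0],5161,2),
   ([3,2,4,2,1,4,0],5162,3),
   ([4,0,3,2,3,0,3],5163,3),
   ([0,3,0,2,0,3,2],5164,0),
   ([2,1,0,3,3,4,0],5164,1),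
   ([4,2,2,1,3,4,0],5164,2),
   ([2,1,2,2,1,2,3],5165,2),
   ([4,1,3,3,2,3,2],5166,0),
   ([4,0,1,0,2,4,0],5166,1),
   ([1,2,3,4,2,4,0],5166,2),
   ([4,0,3,3,2,1,0],5166,3),
   ([3,3,0,4,2,4,0],5167,1),
   ([1,3,4,3,2,4,0],5167,2),
   ([4,2,3,2,2,4,2],5169,1)]

/-- A block of images of the fixed vector. -/
def vOrbB89 : List (List ℕ × ℕ × ℕ) :=
  [([1,0,1,3,4,2,2],5169,2),
   ([0,4,2,0,1,0,4],5170,0),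
   ([4,4,1,3,1,2,2],5170,3),
   ([1,2,0,2,0,4,4],5171,1),
   ([1,1,1,0,2,1,1],5172,0),
   ([4,3,1,2,3,0,2],5172,2),
   ([2,3,3,1,1,4,1],5173,0),
   ([2,0,3,3,2,2,0],5173,1),
   ([3,0,4,4,2,2,0],5173,2),
   ([2,1,4,1,2,4,2],5174,3),
   ([4,2,4,0,3,2,1],5175,0),
   ([4,1,3,4,1,2,3],5176,1),
   ([0,2,1,2,4,4,3],5177,0),
   ([2,2,2,2,0,4,2],5177,2),
   ([4,2,2,1,3,1,1],5177,3),
   ([4,1,4,2,4,3,2],5179,0),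
   ([4,0,3,0,4,1,0],5179,3),
   ([0,3,0,1,4,4,0],5180,1),
   ([2,1,2,0,4,1,0],5181,2),
   ([1,0,2,1,4,1,0],5181,3),
   ([2,2,1,3,1,3,3],5182,3),
   ([0,4,4,1,4,2,2],5183,0),
   ([0,4,2,0,0,2,2],5183,3),
   ([1,1,1,3,1,1,1],5184,0),
   ([3,4,2,0,3,0,2],5184,2),
   ([0,2,2,0,1,0,1],5184,3),
   ([0,1,0,2,3,4,0],5185,1),
   ([0,0,4,0,3,4,0],5185,2),
   ([4,0,4,4,3,1,4],5185,3),
   ([4,1,1,2,0,2,2],5186,0),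
   ([4,0,0,3,0,4,4],5186,1),
   ([0,1,4,3,4,0,4],5186,2),
   ([0,4,4,3,0,1,0],5186,3),
   ([1,0,1,1,4,0,4],5187,1),
   ([1,4,3,2,4,4,0],5187,3),
   ([1,0,3,3,0,4,1],5188,3),
   ([2,3,3,4,1,4,1],5189,0),
   ([2,0,3,0,4,2,0],5189,1),
   ([0,3,3,3,0,3,2],5190,2),
   ([0,1,3,0,2,4,1],5191,2),
   ([1,0,4,0,1,2,3],5192,1),
   ([1,4,0,0,4,4,3],5192,2),
   ([0,3,3,1,2,1,3],5193,2),
   ([4,2,2,1,0,4,4],5194,1),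
   ([2,4,0,1,4,0,4],5194,2),
   ([4,0,4,2,4,4,0],5195,0),
   ([0,3,2,4,4,0,4],5195,1),
   ([1,4,3,0,4,3,2],5195,3),
   ([3,1,3,1,3,0,3],5196,2),
   ([1,2,3,2,4,0,4],5197,1),
   ([2,4,0,4,1,3,0],5198,1),
   ([0,2,3,0,1,3,0],5198,2),
   ([2,1,1,2,0,2,4],5200,1),
   ([1,1,2,0,2,2,0],5202,0),
   ([4,4,1,3,3,0,2],5202,1),
   ([2,1,3,2,0,3,2],5202,2),
   ([1,2,1,1,0,0,3],5203,3),
   ([0,3,4,4,0,4,2],5204,3),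
   ([4,1,1,1,1,3,0],5205,2),
   ([2,4,1,4,1,4,4],5206,0),
   ([1,2,3,0,0,3,3],5206,1),
   ([1,2,3,0,3,0,3],5206,2),
   ([3,0,4,0,1,4,1],5207,1),
   ([3,0,0,1,2,3,1],5207,2),
   ([4,4,2,3,2,3,1],5208,1),
   ([2,4,2,1,0,3,0],5209,2),
   ([2,1,2,1,0,3,3],5210,1),
   ([1,3,0,1,3,0,3],5210,2),
   ([3,1,4,2,3,0,3],5211,1),
   ([4,2,3,2,1,2,3],5211,2),
   ([1,3,3,4,4,2,2],5212,0),
   ([0,4,3,2,0,1,2],5212,3),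
   ([1,4,2,3,0,2,4],5213,1),
   ([1,2,1,0,4,3,4],5213,2),
   ([3,4,1,3,0,3,1],5213,3),
   ([3,2,2,3,2,1,3],5216,1),
   ([3,3,3,1,2,4,3],5216,3),
   ([0,4,0,3,1,1,1],5218,0),
   ([3,2,0,2,1,0,2],5218,2),
   ([0,1,3,1,0,2,4],5219,1),
   ([4,0,4,0,1,0,2],5220,1),
   ([1,4,4,0,0,3,4],5221,0),
   ([1,0,0,0,3,3,2],5221,1),
   ([4,2,1,1,0,2,3],5222,0),
   ([1,0,3,3,1,4,3],5222,3),
   ([1,2,2,2,0,2,0],5223,1),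
   ([0,2,1,2,1,0,2],5224,1),
   ([0,1,3,3,3,3,2],5224,2),
   ([0,4,1,2,4,2,1],5226,2),
   ([2,1,1,4,3,4,2],5226,3),
   ([3,2,1,1,2,3,4],5227,3),
   ([2,4,0,2,3,0,3],5228,2),
   ([4,2,3,4,3,3,0],5229,0),
   ([3,2,4,3,3,0,3],5229,1),
   ([2,3,1,0,3,4,3],5229,3),
   ([3,1,2,2,0,4,0],5230,0),
   ([1,4,1,1,2,4,2],5230,3),
   ([1,4,0,4,0,3,0],5231,1),
   ([0,4,2,1,0,3,0],5231,2),
   ([2,3,2,2,1,0,2],5233,1),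
   ([1,0,1,0,3,3,4],5234,0),
   ([0,2,4,2,3,3,2],5234,1),
   ([0,4,3,3,0,1,2],5234,2),
   ([4,0,4,3,3,3,1],5235,1),
   ([1,2,4,1,1,2,3],5237,1),
   ([4,3,3,0,1,1,3],5237,3),
   ([1,3,1,0,3,2,0],5238,0),
   ([4,1,4,1,1,2,4],5239,1),
   ([0,3,3,2,0,3,4],5239,2),
   ([1,2,3,0,0,2,1],5240,3),
   ([4,1,3,3,0,4,0],5241,2),
   ([2,2,0,0,4,4,0],5242,0),
   ([1,4,3,3,3,0,2],5242,3),
   ([1,3,3,4,0,4,0],5244,0),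
   ([1,4,0,4,2,1,2],5244,3),
   ([3,4,1,3,3,1,4],5245,0),
   ([1,4,4,4,0,3,0],5245,1),
   ([1,4,1,1,0,3,0],5245,2),
   ([3,2,0,4,2,2,4],5247,0),
   ([0,1,3,2,1,2,1],5247,2),
   ([2,1,3,4,0,2,0],5247,3),
   ([4,0,0,1,2,0,2],5248,1),
   ([3,2,2,0,1,2,3],5249,1),
   ([4,1,2,4,4,3,2],5250,1),
   ([2,4,2,2,4,2,3],5252,0)]

/-- A block of images of the fixed vector. -/
def vOrbB90 : List (List ℕ × ℕ × ℕ) :=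
  [([1,2,2,4,0,1,0],5252,1),
   ([2,0,0,3,4,2,3],5253,0),
   ([0,4,2,3,0,1,0],5253,1),
   ([0,4,1,2,0,1,0],5253,2),
   ([1,0,1,3,0,4,1],5253,3),
   ([3,1,0,1,2,0,1],5254,0),
   ([3,2,4,3,2,3,3],5255,0),
   ([0,2,4,0,1,1,0],5256,2),
   ([1,0,4,1,1,1,4],5256,3),
   ([4,3,2,3,2,1,0],5257,0),
   ([2,0,1,1,1,4,1],5257,2),
   ([4,1,1,0,0,2,1],5257,3),
   ([4,4,2,0,4,3,4],5258,0),
   ([1,1,2,1,2,3,2],5258,1),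
   ([3,3,2,3,4,1,2],5258,2),
   ([2,3,1,4,1,4,2],5259,2),
   ([0,1,2,0,4,1,0],5260,1),
   ([3,2,1,0,4,1,0],5260,2),
   ([4,1,2,4,2,3,3],5261,0),
   ([4,0,1,4,4,1,1],5261,1),
   ([2,0,2,0,0,0,1],5261,2),
   ([1,3,0,2,0,0,1],5262,1),
   ([3,1,4,4,0,0,1],5263,1),
   ([4,1,1,2,1,4,1],5264,1),
   ([3,1,2,4,2,0,3],5265,1),
   ([1,3,1,0,0,2,3],5265,2),
   ([1,1,0,2,3,2,3],5266,0),
   ([2,0,3,0,4,1,0],5266,2),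
   ([1,0,3,1,4,0,1],5266,3),
   ([1,2,2,2,2,0,2],5268,2),
   ([0,2,2,2,0,2,2],5268,3),
   ([3,4,4,3,1,2,0],5269,0),
   ([1,4,3,1,2,0,2],5269,1),
   ([4,4,3,1,4,3,2],5269,2),
   ([3,2,3,4,2,3,1],5269,3),
   ([1,0,3,4,4,1,1],5270,0),
   ([0,1,3,2,2,0,2],5270,2),
   ([0,2,3,2,0,2,3],5270,3),
   ([0,1,3,2,1,2,3],5271,2),
   ([2,2,0,1,1,2,1],5272,0),
   ([1,0,3,2,1,4,3],5273,2),
   ([1,4,3,4,3,4,0],5274,1),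
   ([4,2,3,2,3,4,0],5274,2),
   ([3,3,3,3,4,1,4],5275,2),
   ([1,1,3,1,3,1,0],5276,1),
   ([1,1,4,2,3,1,0],5276,2),
   ([1,0,4,3,3,0,4],5276,3),
   ([3,2,2,4,4,2,3],5277,0),
   ([0,4,1,4,2,1,4],5278,2),
   ([1,4,1,0,3,4,0],5278,3),
   ([0,1,4,0,2,1,3],5279,1),
   ([3,4,1,0,0,3,3],5279,2),
   ([4,0,4,3,3,2,1],5280,1),
   ([1,3,4,2,0,0,1],5281,2),
   ([1,4,4,1,3,1,0],5282,2),
   ([1,0,4,2,3,0,4],5282,3),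
   ([3,3,4,1,4,1,0],5283,2),
   ([1,1,1,4,3,3,3],5284,0),
   ([0,3,3,2,1,4,1],5285,2),
   ([4,1,3,1,0,2,0],5285,3),
   ([3,2,3,3,2,1,4],5288,2),
   ([2,3,4,3,3,3,4],5289,0),
   ([2,0,4,4,1,3,2],5289,1),
   ([3,4,2,0,4,1,1],5290,1),
   ([3,1,1,1,0,0,1],5290,2),
   ([3,4,4,4,3,1,0],5291,0),
   ([1,4,4,3,0,0,1],5291,1),
   ([2,2,3,0,0,0,1],5292,1),
   ([1,1,0,1,1,4,2],5293,0),
   ([3,1,3,2,1,0,1],5293,3),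
   ([0,4,3,3,3,2,3],5294,2),
   ([2,3,3,0,0,2,4],5294,3),
   ([3,1,2,3,1,1,0],5295,1),
   ([2,2,3,0,1,4,1],5296,2),
   ([3,4,3,2,4,0,3],5299,1),
   ([0,4,3,0,3,3,0],5300,0),
   ([1,3,4,2,2,0,3],5300,1),
   ([1,1,2,3,0,2,3],5300,2),
   ([2,3,2,0,2,2,2],5300,3),
   ([0,1,1,4,0,2,3],5301,0),
   ([1,0,1,3,3,3,3],5301,3),
   ([1,4,2,0,2,4,4],5303,0),
   ([0,1,3,2,1,2,4],5304,2),
   ([0,2,2,1,1,2,2],5306,0),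
   ([3,4,3,3,0,4,4],5306,1),
   ([0,4,2,3,0,1,1],5306,3),
   ([2,2,2,1,0,3,2],5307,0),
   ([3,3,0,4,3,4,0],5307,1),
   ([1,2,1,4,4,0,4],5309,1),
   ([2,1,2,4,3,1,4],5309,2),
   ([1,4,2,0,4,1,3],5309,3),
   ([4,4,2,1,0,4,1],5310,3),
   ([3,1,2,4,0,3,2],5311,1),
   ([3,0,4,3,2,2,1],5312,0),
   ([4,4,0,2,2,4,3],5312,2),
   ([4,3,0,1,4,1,4],5312,3),
   ([2,0,4,0,2,1,2],5313,0),
   ([0,4,1,3,2,4,3],5313,1),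
   ([4,0,2,0,0,1,3],5313,2),
   ([1,3,2,1,2,4,1],5313,3),
   ([4,0,3,1,0,4,2],5315,3),
   ([2,1,0,4,4,0,4],5316,2),
   ([2,3,0,4,4,4,0],5317,0),
   ([0,0,2,2,3,1,4],5317,2),
   ([1,4,2,3,4,3,0],5317,3),
   ([4,0,2,0,3,1,4],5318,2),
   ([0,3,0,3,1,3,3],5320,0),
   ([2,1,3,1,4,1,1],5320,1),
   ([2,2,4,0,1,1,0],5321,0),
   ([3,2,2,0,2,4,2],5322,2),
   ([4,2,2,4,0,0,2],5322,3),
   ([1,2,1,0,4,1,0],5323,0),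
   ([2,4,0,2,1,4,1],5323,2),
   ([2,1,2,4,0,0,4],5324,0),
   ([4,4,3,1,0,2,4],5324,3),
   ([4,4,2,4,1,2,1],5325,0),
   ([0,3,0,4,0,4,3],5325,2),
   ([4,4,2,0,4,1,2],5327,0),
   ([1,1,2,1,2,4,3],5327,1),
   ([3,3,2,3,0,1,3],5327,2),
   ([1,3,2,4,2,0,4],5327,3),
   ([2,4,4,1,1,4,0],5328,0),
   ([0,1,2,2,2,3,3],5329,2),
   ([2,2,4,1,0,1,0],5330,1),
   ([3,3,2,0,0,1,0],5330,2)]

/-- A block of images of the fixed vector. -/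
def vOrbB91 : List (List ℕ × ℕ × ℕ) :=
  [([1,0,2,1,0,0,3],5330,3),
   ([1,4,2,0,1,4,1],5332,1),
   ([4,4,3,1,2,3,1],5332,2),
   ([3,2,2,3,0,4,3],5334,1),
   ([2,1,0,3,1,4,0],5335,0),
   ([4,1,3,1,4,0,4],5335,1),
   ([1,4,0,2,4,2,4],5335,3),
   ([3,1,4,1,1,4,1],5337,1),
   ([0,1,4,2,3,1,4],5338,1),
   ([2,4,3,4,3,1,4],5338,3),
   ([0,4,4,4,2,0,3],5341,1),
   ([4,2,2,1,0,1,0],5342,1),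
   ([2,3,0,0,0,1,0],5342,2),
   ([1,0,0,1,0,3,3],5342,3),
   ([0,3,3,0,0,1,0],5343,1),
   ([4,2,3,4,0,1,0],5343,2),
   ([4,0,4,3,3,0,1],5345,1),
   ([2,0,4,2,3,0,2],5346,3),
   ([4,0,3,1,0,3,2],5347,2),
   ([0,0,4,0,3,2,0],5348,2),
   ([4,4,3,0,0,4,2],5349,2),
   ([3,3,4,0,0,1,0],5351,0),
   ([2,2,0,0,3,0,1],5351,1),
   ([2,2,3,3,4,4,1],5351,2),
   ([4,1,3,2,3,0,3],5351,3),
   ([2,2,0,3,0,2,0],5352,1),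
   ([1,1,4,1,0,2,0],5352,2),
   ([1,2,0,0,4,0,2],5355,0),
   ([4,0,3,1,0,2,2],5355,2),
   ([2,1,0,0,0,2,2],5356,1),
   ([0,3,0,1,2,4,4],5357,2),
   ([4,4,3,4,0,4,1],5358,0),
   ([1,1,0,1,2,2,0],5358,1),
   ([2,0,0,4,2,0,4],5358,3),
   ([1,4,3,2,3,0,2],5361,0),
   ([2,3,4,3,2,2,2],5361,2),
   ([2,2,4,0,0,4,0],5361,3),
   ([4,4,2,3,3,2,2],5362,0),
   ([2,0,3,2,1,0,4],5362,2),
   ([0,4,3,2,2,0,4],5362,3),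
   ([0,3,3,1,1,0,2],5363,0),
   ([2,1,4,4,4,2,2],5363,2),
   ([2,2,4,1,2,4,4],5363,3),
   ([4,3,1,3,0,0,4],5364,0),
   ([2,4,0,2,4,3,4],5364,1),
   ([4,4,0,3,4,2,1],5364,3),
   ([3,1,2,0,0,0,4],5366,0),
   ([4,3,0,0,4,3,4],5366,1),
   ([4,2,3,0,3,4,4],5367,1),
   ([2,4,0,0,3,0,1],5369,0),
   ([3,3,1,0,2,1,1],5369,2),
   ([1,1,1,1,1,1,3],5369,3),
   ([1,3,2,2,4,4,0],5371,0),
   ([2,3,2,4,0,0,4],5371,1),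
   ([0,0,4,3,4,1,4],5371,2),
   ([1,4,4,4,0,1,2],5371,3),
   ([1,1,2,1,3,1,3],5372,0),
   ([4,4,4,1,4,1,4],5372,1),
   ([1,3,1,0,2,4,2],5373,2),
   ([4,2,1,4,0,3,1],5373,3),
   ([2,3,2,2,2,4,2],5374,2),
   ([4,1,0,4,3,0,2],5375,3),
   ([0,1,1,3,0,4,2],5376,0),
   ([4,2,0,2,4,4,1],5376,1),
   ([2,0,0,0,0,3,1],5376,2),
   ([3,1,0,3,4,3,3],5376,3),
   ([3,2,0,1,3,2,4],5377,3),
   ([1,2,1,1,4,3,0],5381,0),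
   ([1,1,1,4,2,2,3],5381,2),
   ([3,2,4,4,0,2,4],5382,1),
   ([0,2,1,1,4,3,4],5382,2),
   ([3,4,1,4,0,4,3],5382,3),
   ([4,2,1,0,0,1,1],5384,3),
   ([1,2,0,1,3,4,1],5385,2),
   ([4,3,0,2,0,4,2],5386,0),
   ([2,4,0,3,3,4,1],5386,1),
   ([3,1,2,0,3,2,1],5386,3),
   ([1,2,1,3,2,4,2],5388,0),
   ([3,2,4,4,4,3,1],5388,2),
   ([3,1,2,1,3,3,0],5390,2),
   ([3,0,2,4,3,0,4],5390,3),
   ([0,3,2,0,3,3,0],5391,2),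
   ([1,1,2,0,2,1,4],5392,2),
   ([0,1,2,0,0,3,4],5393,1),
   ([2,2,2,1,4,4,4],5393,2),
   ([4,2,0,2,2,3,3],5394,2),
   ([2,2,3,3,2,3,3],5395,1),
   ([1,4,4,1,0,0,3],5395,2),
   ([2,2,2,0,0,2,3],5396,0),
   ([1,4,4,0,4,1,0],5396,2),
   ([1,0,1,3,1,3,0],5397,1),
   ([3,3,2,3,3,4,4],5398,0),
   ([2,2,4,4,2,3,3],5398,1),
   ([2,3,0,3,4,3,0],5399,0),
   ([1,4,1,1,3,2,3],5399,2),
   ([2,3,1,3,0,3,0],5399,3),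
   ([4,0,2,4,3,0,3],5400,1),
   ([4,3,0,0,4,1,0],5403,1),
   ([2,4,4,0,4,1,0],5403,2),
   ([1,0,4,1,4,4,2],5403,3),
   ([0,2,1,0,1,2,2],5405,2),
   ([2,2,1,2,4,4,0],5405,3),
   ([4,3,3,1,0,3,3],5406,2),
   ([0,3,3,2,4,2,2],5407,3),
   ([1,1,1,2,3,0,3],5408,0),
   ([0,4,0,1,4,3,3],5408,2),
   ([3,2,3,4,4,1,1],5409,2),
   ([1,1,3,0,3,4,2],5409,3),
   ([0,2,1,2,2,3,3],5412,0),
   ([1,3,3,2,0,0,1],5412,2),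
   ([0,2,4,4,2,0,1],5413,0),
   ([0,3,2,2,0,3,0],5415,1),
   ([4,4,3,4,0,3,0],5415,2),
   ([4,0,3,2,0,1,4],5416,0),
   ([3,0,3,4,4,3,2],5416,3),
   ([2,4,1,3,0,0,3],5417,2),
   ([0,2,2,1,2,3,2],5418,3),
   ([2,3,3,1,1,2,3],5419,0),
   ([0,2,2,0,2,1,0],5420,1),
   ([4,1,2,1,1,0,4],5421,2),
   ([0,4,2,1,2,4,1],5421,3),
   ([3,1,2,2,1,3,4],5422,1),
   ([4,0,2,2,3,3,0],5424,0),
   ([0,3,4,0,3,0,3],5424,1),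
   ([2,3,4,3,4,2,3],5425,0)]

/-- A block of images of the fixed vector. -/
def vOrbB92 : List (List ℕ × ℕ × ℕ) :=
  [([3,3,2,4,3,1,0],5426,1),
   ([3,3,1,1,3,2,2],5429,3),
   ([0,3,4,4,4,1,1],5431,2),
   ([1,2,3,1,4,0,1],5432,0),
   ([1,1,0,2,3,3,4],5432,3),
   ([4,4,3,3,0,0,4],5433,0),
   ([4,4,4,4,3,0,4],5433,3),
   ([1,0,4,4,1,0,4],5434,2),
   ([2,1,0,0,4,3,0],5435,0),
   ([4,1,2,1,3,0,3],5435,1),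
   ([1,3,0,0,2,2,3],5436,0),
   ([1,0,4,4,4,1,2],5436,3),
   ([4,2,2,3,4,2,3],5437,0),
   ([1,4,3,3,3,4,3],5438,0),
   ([4,2,0,0,4,4,0],5438,3),
   ([4,0,4,1,4,1,3],5439,1),
   ([3,1,1,4,2,3,3],5439,2),
   ([2,2,4,2,1,0,1],5440,0),
   ([3,0,2,3,4,1,1],5440,2),
   ([1,1,2,4,3,0,2],5440,3),
   ([0,4,2,2,0,1,0],5442,1),
   ([3,2,3,1,0,1,0],5442,2),
   ([1,0,3,2,0,4,1],5442,3),
   ([1,0,3,0,4,4,0],5444,2),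
   ([3,0,4,4,4,2,4],5445,1),
   ([2,1,2,2,0,3,2],5446,1),
   ([1,2,3,2,0,4,4],5446,3),
   ([2,0,1,4,3,2,0],5449,2),
   ([0,4,2,1,3,2,0],5450,2),
   ([3,4,3,1,4,1,0],5451,0),
   ([1,4,2,0,3,0,1],5451,1),
   ([2,4,0,3,4,4,1],5451,2),
   ([0,2,2,0,0,4,2],5452,0),
   ([4,2,4,2,4,2,1],5453,2),
   ([0,4,0,2,4,1,4],5454,2),
   ([3,3,4,4,3,2,4],5455,2),
   ([2,4,4,1,4,3,2],5455,3),
   ([0,2,4,0,0,4,2],5457,2),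
   ([0,4,4,0,3,0,2],5461,0),
   ([4,2,4,1,1,2,2],5461,2),
   ([2,2,4,3,4,2,2],5461,3),
   ([2,1,0,3,2,1,1],5462,0),
   ([1,4,2,4,3,0,2],5462,2),
   ([0,2,2,4,1,2,4],5462,3),
   ([3,0,2,4,1,0,2],5463,2),
   ([4,1,0,4,1,2,0],5464,2),
   ([1,0,0,1,1,2,3],5465,0),
   ([1,0,2,1,4,2,0],5466,1),
   ([2,2,4,0,4,2,0],5466,2),
   ([1,1,0,1,1,2,0],5467,0),
   ([4,4,3,3,1,0,2],5467,1),
   ([3,2,3,2,1,0,1],5467,3),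
   ([3,1,4,2,0,4,0],5468,0),
   ([4,3,0,3,1,0,4],5468,1),
   ([1,4,0,2,1,4,2],5468,3),
   ([3,1,3,1,0,1,3],5469,0),
   ([4,3,0,4,0,1,4],5469,1),
   ([4,4,2,2,4,2,4],5469,2),
   ([0,4,4,0,1,3,1],5471,2),
   ([4,1,2,0,3,1,3],5472,0),
   ([4,0,4,2,0,1,4],5472,1),
   ([1,4,4,3,3,2,2],5473,1),
   ([3,3,4,1,1,1,4],5474,1),
   ([0,4,4,2,2,3,1],5475,0),
   ([4,3,3,4,3,2,0],5476,2),
   ([2,0,2,2,1,2,2],5477,1),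
   ([1,2,3,0,1,0,4],5479,1),
   ([3,2,2,2,4,4,2],5482,0),
   ([3,0,2,4,0,4,1],5482,1),
   ([3,1,4,4,0,2,0],5482,3),
   ([2,3,4,0,3,1,4],5484,1),
   ([4,4,3,3,3,1,4],5485,1),
   ([0,2,0,3,2,2,4],5485,2),
   ([0,4,3,3,4,4,1],5486,2),
   ([2,2,4,3,1,1,2],5487,0),
   ([1,3,3,4,2,0,2],5487,3),
   ([4,3,2,3,1,2,0],5488,2),
   ([2,1,0,1,1,4,1],5489,0),
   ([4,1,4,1,0,1,1],5490,2),
   ([0,1,1,4,3,0,2],5491,0),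
   ([4,2,4,3,4,4,2],5491,1),
   ([2,2,2,3,1,4,1],5493,0),
   ([1,2,4,1,3,2,0],5493,2),
   ([2,0,4,3,3,0,2],5493,3),
   ([4,1,1,4,4,4,2],5496,0),
   ([0,4,4,3,2,3,1],5496,2),
   ([3,4,1,1,3,4,2],5497,3),
   ([4,3,4,1,1,2,0],5498,0),
   ([3,4,4,0,3,3,4],5499,2),
   ([3,0,3,2,2,2,0],5500,0),
   ([0,1,1,1,3,0,2],5500,1),
   ([2,4,2,0,0,3,2],5500,2),
   ([3,2,2,3,3,1,4],5500,3),
   ([4,1,2,2,4,3,4],5501,0),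
   ([4,0,2,4,0,3,2],5501,1),
   ([0,2,4,3,2,1,2],5501,2),
   ([3,0,4,3,1,3,4],5503,3),
   ([2,4,1,1,2,3,4],5508,2),
   ([0,3,3,4,1,0,3],5510,0),
   ([4,0,2,3,2,3,3],5510,2),
   ([0,1,4,1,3,4,0],5512,2),
   ([2,0,4,2,2,1,4],5513,1),
   ([4,2,3,1,4,4,1],5514,2),
   ([0,1,3,2,3,3,0],5516,0),
   ([4,2,4,0,0,0,3],5516,1),
   ([2,3,4,0,0,3,3],5516,3),
   ([3,3,4,3,2,4,0],5517,2),
   ([2,3,4,1,0,0,4],5518,3),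
   ([1,4,4,0,3,2,3],5519,1),
   ([1,3,0,1,3,4,0],5520,0),
   ([0,2,2,2,2,4,0],5521,2),
   ([2,0,4,3,4,4,0],5522,0),
   ([0,4,2,3,3,0,4],5522,1),
   ([2,4,2,0,2,0,4],5523,3),
   ([0,3,2,2,2,1,1],5526,0),
   ([0,2,4,2,3,3,1],5528,0),
   ([3,2,1,0,1,3,4],5528,2),
   ([2,0,4,2,2,3,4],5529,0),
   ([4,2,1,3,2,2,2],5530,0),
   ([2,1,4,2,2,0,4],5530,2),
   ([1,1,4,1,4,4,1],5531,1),
   ([3,2,3,3,1,2,4],5532,0),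
   ([2,1,1,1,0,2,0],5532,3),
   ([3,3,1,2,0,3,0],5533,2),
   ([4,0,2,2,2,3,3],5534,1)]

/-- A block of images of the fixed vector. -/
def vOrbB93 : List (List ℕ × ℕ × ℕ) :=
  [([4,0,0,0,0,0,3],5534,2),
   ([0,2,3,2,0,2,1],5536,2),
   ([4,3,3,3,3,2,2],5537,3),
   ([1,3,3,4,4,4,3],5538,0),
   ([1,3,3,3,2,4,2],5538,2),
   ([4,3,1,2,4,0,3],5539,1),
   ([3,2,2,0,3,0,2],5541,1),
   ([3,2,0,2,3,4,3],5541,3),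
   ([1,1,1,2,0,3,4],5542,0),
   ([2,4,4,3,1,1,3],5543,2),
   ([2,1,1,2,0,4,0],5544,3),
   ([0,2,4,1,3,2,3],5545,2),
   ([1,0,4,0,0,3,2],5546,1),
   ([2,4,4,4,2,1,2],5546,2),
   ([3,3,1,1,1,2,1],5547,0),
   ([2,2,3,3,3,2,3],5547,1),
   ([4,3,0,0,3,0,3],5547,3),
   ([0,1,0,0,1,3,3],5550,1),
   ([4,1,2,0,0,3,0],5551,0),
   ([4,0,0,0,4,0,3],5551,1),
   ([2,3,4,1,4,1,0],5551,3),
   ([2,3,3,3,2,2,3],5552,3),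
   ([1,0,1,0,2,2,0],5553,3),
   ([4,2,3,1,1,1,3],5555,3),
   ([4,4,4,2,4,3,3],5556,0),
   ([1,4,0,1,4,1,2],5559,1),
   ([3,2,0,4,0,0,1],5560,1),
   ([4,1,2,0,1,4,1],5560,2),
   ([4,1,2,4,0,4,3],5560,3),
   ([2,3,2,3,3,1,4],5562,1),
   ([1,0,0,0,3,1,2],5563,1),
   ([3,1,4,2,1,1,1],5564,3),
   ([2,1,3,2,3,3,0],5565,0),
   ([2,3,4,0,0,2,4],5565,3),
   ([0,2,4,2,1,4,3],5566,1),
   ([0,4,2,4,1,1,3],5567,0),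
   ([1,3,3,0,2,1,4],5567,1),
   ([3,2,0,1,1,2,4],5567,2),
   ([2,4,0,3,2,2,2],5567,3),
   ([0,2,3,4,2,4,2],5569,0),
   ([0,2,4,0,2,3,1],5569,2),
   ([1,2,4,1,2,3,1],5570,0),
   ([3,4,3,1,1,3,4],5570,3),
   ([4,3,4,3,1,2,2],5571,0),
   ([0,4,3,4,2,2,1],5571,3),
   ([1,3,3,2,3,1,0],5572,0),
   ([0,4,4,1,1,4,1],5572,2),
   ([4,1,4,0,0,1,2],5572,3),
   ([4,4,2,0,2,4,1],5573,0),
   ([1,1,1,3,3,2,0],5573,1),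
   ([2,4,3,3,3,2,0],5573,2),
   ([3,2,4,3,0,1,1],5575,0),
   ([3,0,0,2,0,2,2],5575,1),
   ([2,4,1,2,2,0,2],5575,2),
   ([3,3,0,1,2,4,0],5578,1),
   ([0,2,0,0,2,4,0],5578,2),
   ([0,1,1,2,0,4,0],5579,1),
   ([2,1,4,0,4,4,0],5580,0),
   ([1,4,1,0,1,2,4],5580,3),
   ([3,4,3,3,2,2,1],5581,0),
   ([4,1,3,4,0,4,3],5581,2),
   ([4,1,3,2,3,1,2],5582,0),
   ([0,4,4,4,3,1,3],5582,2),
   ([1,3,4,0,0,1,0],5582,3),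
   ([1,1,2,0,1,2,2],5583,0),
   ([4,4,3,4,1,4,4],5583,1),
   ([0,4,1,3,1,0,1],5583,3),
   ([0,4,1,3,2,4,1],5584,2),
   ([2,4,3,3,2,1,2],5585,1),
   ([2,3,1,0,2,4,1],5586,1),
   ([1,1,3,0,3,3,1],5586,2),
   ([3,1,3,3,2,1,2],5586,3),
   ([4,3,1,3,4,4,1],5588,0),
   ([2,4,2,3,2,2,0],5588,1),
   ([4,2,3,3,3,1,1],5590,2),
   ([3,3,3,0,0,2,1],5591,1),
   ([2,4,0,3,3,2,2],5592,2),
   ([2,2,0,0,1,3,4],5592,3),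
   ([3,3,3,0,0,0,4],5594,0),
   ([4,1,1,0,0,4,4],5594,2),
   ([2,0,4,2,4,2,0],5595,1),
   ([3,4,4,1,4,2,0],5595,2),
   ([2,0,4,3,4,3,0],5595,3),
   ([3,0,2,3,0,0,2],5596,2),
   ([0,2,2,3,3,0,1],5596,3),
   ([3,2,4,4,2,3,2],5597,2),
   ([3,2,4,2,0,3,4],5597,3),
   ([4,1,4,0,3,2,3],5598,3),
   ([1,0,3,1,2,4,2],5599,1),
   ([0,3,1,2,1,0,2],5600,2),
   ([0,2,1,2,4,4,1],5600,3),
   ([4,2,4,0,4,2,0],5601,0),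
   ([3,2,1,0,1,4,3],5601,3),
   ([2,0,1,0,0,3,1],5602,2),
   ([3,1,1,3,4,2,3],5602,3),
   ([1,0,4,4,4,3,2],5604,0),
   ([0,2,2,0,4,3,2],5605,0),
   ([3,4,2,1,2,4,0],5605,1),
   ([4,0,2,4,2,1,1],5605,3),
   ([2,0,3,2,2,2,0],5607,0),
   ([4,2,2,0,0,3,2],5607,2),
   ([3,2,2,3,3,4,1],5607,3),
   ([2,4,4,0,2,4,0],5608,2),
   ([1,0,3,3,2,4,0],5610,2),
   ([4,0,3,2,2,1,0],5610,3),
   ([3,0,3,1,2,3,4],5611,0),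
   ([0,1,1,2,4,3,2],5611,1),
   ([2,1,3,0,0,4,3],5612,1),
   ([3,0,3,4,3,1,3],5612,2),
   ([1,3,3,0,0,4,4],5612,3),
   ([3,0,2,3,0,2,2],5614,1),
   ([0,4,4,4,4,2,0],5615,0),
   ([3,2,0,0,2,2,2],5615,3),
   ([4,1,1,4,2,2,2],5616,0),
   ([4,4,0,2,1,0,4],5616,2),
   ([0,1,1,3,0,4,0],5619,1),
   ([0,4,3,0,1,4,4],5621,2),
   ([4,4,3,0,0,0,3],5622,0),
   ([3,3,1,4,1,0,4],5622,3),
   ([3,3,4,0,3,4,4],5623,0),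
   ([2,2,4,2,4,3,3],5623,1),
   ([1,3,4,2,0,1,4],5624,2),
   ([2,0,3,1,0,4,4],5625,0),
   ([0,3,2,4,0,4,1],5625,3),
   ([3,3,3,3,3,2,1],5626,3)]

/-- A block of images of the fixed vector. -/
def vOrbB94 : List (List ℕ × ℕ × ℕ) :=
  [([0,1,3,2,0,4,0],5627,2),
   ([2,2,4,2,1,1,2],5628,2),
   ([1,0,3,0,4,3,0],5631,2),
   ([2,2,4,0,1,2,1],5632,1),
   ([0,4,0,3,2,1,1],5632,2),
   ([1,1,0,4,1,0,3],5632,3),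
   ([0,2,3,3,0,2,2],5633,2),
   ([2,2,2,1,4,2,2],5635,2),
   ([2,2,2,3,2,1,2],5635,3),
   ([3,2,0,2,3,1,1],5636,0),
   ([0,2,3,1,1,0,2],5636,2),
   ([0,2,3,1,4,2,0],5636,3),
   ([2,0,3,2,4,4,2],5637,2),
   ([4,2,3,1,2,0,3],5637,3),
   ([1,0,0,0,0,0,2],5639,2),
   ([3,3,2,4,3,4,3],5640,0),
   ([4,2,4,2,1,0,3],5640,3),
   ([0,1,2,4,4,0,2],5641,0),
   ([4,3,4,3,0,1,1],5645,1),
   ([3,1,4,4,1,0,3],5647,3),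
   ([2,1,1,3,2,3,1],5648,1),
   ([2,1,2,1,2,4,4],5648,3),
   ([1,2,4,3,3,3,0],5649,0),
   ([2,3,2,3,1,3,4],5649,3),
   ([0,1,4,0,3,0,1],5650,2),
   ([3,4,1,1,3,2,1],5651,2),
   ([1,2,0,2,0,0,1],5652,0),
   ([1,1,2,0,3,3,4],5652,3),
   ([1,0,2,1,2,4,4],5653,3),
   ([0,1,2,2,4,2,3],5654,1),
   ([2,3,2,3,0,4,4],5655,2),
   ([1,4,2,1,3,1,1],5656,0),
   ([1,0,4,1,4,2,2],5656,1),
   ([0,2,1,2,4,4,0],5656,3),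
   ([0,4,1,4,4,4,3],5658,0),
   ([4,4,3,2,4,1,2],5659,0),
   ([4,4,1,1,0,1,3],5659,2),
   ([1,3,1,2,2,0,4],5659,3),
   ([0,2,2,0,2,1,3],5660,0),
   ([1,2,3,3,2,2,4],5660,2),
   ([2,4,3,0,3,1,1],5660,3),
   ([0,4,0,1,0,3,1],5662,1),
   ([1,4,4,0,4,0,1],5663,0),
   ([1,0,2,1,1,2,1],5663,1),
   ([1,1,1,0,1,4,0],5663,3),
   ([1,2,3,0,3,2,2],5664,1),
   ([4,2,4,0,1,2,3],5665,3),
   ([1,0,0,0,0,2,2],5666,2),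
   ([0,1,1,2,3,2,1],5667,0),
   ([4,1,4,4,4,2,1],5668,1),
   ([3,0,0,4,0,1,1],5668,2),
   ([1,1,0,0,4,2,4],5668,3),
   ([1,3,1,2,4,0,2],5669,0),
   ([2,3,2,4,3,4,2],5669,1),
   ([3,1,4,3,3,1,0],5673,0),
   ([4,1,2,3,1,4,2],5673,3),
   ([2,0,2,0,4,4,2],5674,0),
   ([4,4,2,1,3,3,1],5674,2),
   ([1,3,2,0,3,2,2],5675,2),
   ([0,3,4,2,2,4,1],5676,1),
   ([4,3,2,0,2,1,4],5679,0),
   ([3,0,3,0,3,2,1],5679,3),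
   ([2,3,3,3,1,4,0],5680,2),
   ([3,1,0,3,1,4,0],5681,1),
   ([2,1,0,0,0,1,4],5682,2),
   ([1,4,3,1,1,1,4],5685,0),
   ([2,0,1,1,4,2,2],5686,0),
   ([0,4,1,1,4,4,1],5686,3),
   ([1,4,3,1,3,1,3],5687,3),
   ([2,4,4,0,2,1,4],5689,0),
   ([3,2,2,0,4,2,1],5690,0),
   ([1,4,1,0,3,1,3],5691,2),
   ([0,1,0,2,4,4,2],5692,1),
   ([4,0,0,1,1,2,2],5692,2),
   ([2,2,0,3,4,1,4],5692,3),
   ([2,2,2,4,4,4,4],5693,2),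
   ([4,4,2,3,0,1,0],5693,3),
   ([2,1,3,1,2,2,2],5694,0),
   ([4,1,1,2,4,4,4],5694,1),
   ([1,1,0,3,4,2,3],5695,0),
   ([4,4,1,2,0,1,0],5695,2),
   ([1,0,1,3,0,0,1],5695,3),
   ([1,3,2,1,0,4,0],5696,0),
   ([2,3,0,4,3,0,4],5696,1),
   ([1,4,0,1,3,1,2],5696,3),
   ([2,0,0,3,1,2,3],5697,0),
   ([1,0,0,2,4,4,1],5697,3),
   ([2,0,0,2,2,0,3],5698,1),
   ([0,4,4,2,0,1,0],5699,1),
   ([1,0,0,2,0,4,1],5699,3),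
   ([0,4,1,1,0,3,3],5701,2),
   ([0,2,0,4,3,1,4],5702,0),
   ([3,4,4,3,2,3,0],5702,1),
   ([3,0,0,1,2,1,1],5702,3),
   ([1,1,0,4,3,1,4],5703,0),
   ([4,4,4,3,2,3,0],5703,1),
   ([3,3,0,4,3,0,1],5704,2),
   ([1,0,0,2,2,0,1],5705,0),
   ([0,2,1,1,2,2,1],5705,1),
   ([4,3,0,3,1,1,1],5706,0),
   ([3,3,0,2,1,0,2],5706,2),
   ([0,2,0,2,4,2,1],5706,3),
   ([4,4,4,4,2,2,2],5708,0),
   ([0,4,2,1,1,1,4],5709,2),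
   ([1,4,2,2,2,3,4],5709,3),
   ([0,4,4,3,2,3,0],5711,2),
   ([2,2,1,3,4,2,3],5714,0),
   ([3,3,2,3,2,1,0],5714,1),
   ([2,4,3,0,2,1,0],5714,2),
   ([3,3,0,3,4,4,1],5716,0),
   ([2,2,2,3,0,2,0],5716,1),
   ([4,1,1,1,0,2,0],5716,2),
   ([2,0,1,0,2,2,0],5718,2),
   ([4,2,2,0,4,2,2],5719,1),
   ([4,2,0,0,0,4,0],5720,2),
   ([4,0,0,4,4,4,2],5722,1),
   ([3,3,1,3,1,2,2],5722,2),
   ([1,1,1,0,4,2,0],5724,0),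
   ([0,3,0,3,2,3,2],5724,2),
   ([3,0,4,3,4,4,0],5725,2),
   ([4,0,4,2,4,3,0],5725,3),
   ([1,1,1,4,3,2,2],5726,0),
   ([2,0,0,4,0,2,4],5727,1),
   ([3,0,0,2,2,3,2],5728,1),
   ([1,2,3,0,2,2,0],5728,3)]

/-- A block of images of the fixed vector. -/
def vOrbB95 : List (List ℕ × ℕ × ℕ) :=
  [([1,4,3,2,1,4,4],5729,1),
   ([2,2,4,3,2,2,1],5730,2),
   ([2,1,4,0,1,4,1],5730,3),
   ([2,0,0,1,2,0,4],5731,1),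
   ([2,2,0,3,1,1,4],5731,2),
   ([4,4,4,4,0,3,0],5732,1),
   ([3,0,3,1,0,2,1],5733,3),
   ([3,2,3,2,1,4,2],5734,0),
   ([3,1,0,1,1,2,0],5734,3),
   ([3,2,0,2,0,2,0],5735,2),
   ([0,3,4,1,0,4,0],5736,1),
   ([0,1,2,2,0,4,0],5736,2),
   ([2,0,1,2,3,4,4],5737,1),
   ([2,3,0,4,2,0,4],5737,2),
   ([1,2,4,4,4,4,0],5738,0),
   ([2,0,0,4,1,1,4],5738,2),
   ([1,4,0,0,2,3,4],5738,3),
   ([4,3,0,3,0,3,0],5741,1),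
   ([2,1,4,0,0,3,0],5741,2),
   ([3,2,4,2,2,3,3],5742,0),
   ([0,3,4,3,0,3,0],5743,1),
   ([3,1,2,0,0,3,0],5744,1),
   ([3,2,2,1,1,3,4],5745,0),
   ([0,2,0,4,3,1,0],5746,1),
   ([4,3,2,3,2,4,1],5747,2),
   ([3,3,1,0,4,4,0],5750,0),
   ([3,3,3,2,0,1,3],5751,0),
   ([2,3,3,2,3,2,4],5751,2),
   ([0,4,2,0,2,3,1],5752,2),
   ([2,3,4,2,2,3,1],5753,1),
   ([3,3,1,1,2,4,1],5754,0),
   ([2,2,1,2,0,2,0],5754,1),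
   ([0,3,2,2,4,4,1],5755,1),
   ([3,1,2,3,4,3,2],5755,3),
   ([2,0,0,4,3,2,4],5757,1),
   ([3,4,0,1,4,3,0],5758,2),
   ([2,2,1,1,3,2,2],5759,0),
   ([3,3,4,1,2,4,4],5759,1),
   ([0,4,4,4,2,0,2],5759,3),
   ([1,1,3,2,4,0,4],5760,0),
   ([4,4,1,3,1,4,4],5760,2),
   ([3,2,1,2,2,4,4],5761,2),
   ([2,2,1,4,4,3,0],5762,2),
   ([1,0,4,1,4,1,2],5764,2),
   ([4,3,3,3,1,2,1],5765,0),
   ([0,0,4,3,4,1,2],5766,0),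
   ([1,3,4,0,3,0,0],5766,3),
   ([4,4,4,4,2,3,3],5767,1),
   ([2,3,3,2,0,0,3],5767,2),
   ([3,1,4,4,2,1,2],5768,0),
   ([4,3,1,4,3,4,3],5768,1),
   ([2,1,3,1,1,1,3],5769,1),
   ([4,3,2,2,4,3,3],5769,2),
   ([1,4,2,3,0,3,3],5771,0),
   ([1,0,0,2,1,1,1],5771,1),
   ([4,2,2,1,2,0,1],5771,2),
   ([4,1,0,1,4,3,4],5773,1),
   ([3,3,0,1,1,3,4],5775,3),
   ([0,4,0,1,2,3,1],5776,0),
   ([3,3,0,1,2,3,4],5776,2),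
   ([3,4,0,4,3,2,2],5776,3),
   ([4,1,3,3,1,3,4],5777,1),
   ([0,1,3,3,0,4,4],5777,2),
   ([4,4,3,2,1,2,4],5777,3),
   ([1,4,3,4,4,3,3],5778,2),
   ([1,4,4,3,2,4,4],5779,0),
   ([4,2,0,1,1,0,2],5780,3),
   ([4,2,4,1,0,4,4],5781,1),
   ([2,4,2,3,4,2,3],5784,0),
   ([1,2,2,3,4,1,0],5784,1),
   ([1,0,0,4,4,1,3],5784,3),
   ([0,3,4,1,1,2,3],5785,0),
   ([0,3,1,3,4,1,0],5785,2),
   ([4,0,0,1,4,0,2],5788,2),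
   ([0,2,0,1,2,1,2],5788,3),
   ([3,3,1,2,3,4,0],5789,0),
   ([2,2,4,0,1,0,4],5789,1),
   ([1,4,0,4,1,0,3],5789,3),
   ([3,2,0,4,1,0,1],5790,0),
   ([1,1,1,2,3,2,0],5790,3),
   ([0,3,1,2,2,2,4],5791,1),
   ([3,2,3,0,0,0,4],5792,0),
   ([4,4,1,4,1,2,0],5792,3),
   ([0,2,3,4,1,0,3],5793,2),
   ([1,3,4,3,3,4,1],5794,3),
   ([4,0,3,4,2,0,3],5796,0),
   ([3,3,4,3,1,3,2],5796,3),
   ([3,3,3,0,4,4,4],5797,0),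
   ([2,2,2,1,4,3,3],5797,1),
   ([1,1,4,2,2,0,3],5797,2),
   ([0,3,4,2,4,0,3],5797,3),
   ([1,2,4,2,1,0,2],5798,3),
   ([1,1,0,1,1,1,4],5802,0),
   ([3,0,3,2,1,0,1],5802,3),
   ([1,0,2,1,4,3,0],5805,1),
   ([3,3,1,4,3,4,4],5806,0),
   ([2,2,4,3,4,3,3],5806,1),
   ([0,3,2,4,4,0,3],5806,3),
   ([4,1,3,3,2,2,3],5807,2),
   ([4,1,1,2,2,2,4],5808,0),
   ([2,1,3,2,4,1,0],5808,3),
   ([3,3,3,1,1,1,1],5809,2),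
   ([0,3,2,2,1,2,3],5810,0),
   ([0,4,0,0,3,2,3],5811,1),
   ([4,2,0,2,4,1,2],5812,2),
   ([2,0,4,1,0,3,4],5815,0),
   ([0,4,0,4,2,3,2],5815,1),
   ([2,2,4,1,4,1,2],5815,2),
   ([1,2,4,2,2,4,1],5815,3),
   ([0,2,1,3,4,4,2],5819,2),
   ([1,2,3,0,3,1,0],5821,1),
   ([3,0,1,1,3,1,0],5821,2),
   ([0,2,0,1,1,1,1],5822,1),
   ([4,2,4,0,2,0,1],5822,2),
   ([0,1,4,0,1,2,3],5822,3),
   ([3,0,1,2,3,2,1],5823,0),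
   ([4,0,0,0,4,4,3],5823,2),
   ([2,0,3,0,2,4,3],5824,0),
   ([1,1,0,4,2,4,2],5824,2),
   ([4,2,0,3,0,4,1],5824,3),
   ([1,0,0,3,3,4,1],5825,2),
   ([0,1,4,3,4,0,2],5829,3),
   ([2,3,0,0,2,0,1],5830,0),
   ([1,1,4,4,4,3,0],5830,3),
   ([0,2,0,0,2,4,1],5832,3)]

/-- A block of images of the fixed vector. -/
def vOrbB96 : List (List ℕ × ℕ × ℕ) :=
  [([3,3,4,0,3,2,2],5834,2),
   ([4,0,4,4,4,3,3],5835,3),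
   ([4,2,0,4,0,4,4],5836,3),
   ([1,0,0,0,1,0,2],5837,0),
   ([0,1,3,1,0,2,2],5838,0),
   ([0,4,2,4,0,3,3],5838,3),
   ([4,1,2,3,4,3,4],5840,2),
   ([4,0,0,3,3,4,4],5841,2),
   ([3,3,3,1,4,0,2],5843,0),
   ([0,4,0,0,0,2,2],5843,2),
   ([2,2,0,2,3,0,3],5843,3),
   ([3,3,3,1,2,0,4],5844,2),
   ([0,3,2,1,3,1,3],5846,1),
   ([4,1,3,0,1,3,3],5846,2),
   ([3,4,2,1,3,3,3],5848,0),
   ([4,0,1,1,1,0,3],5851,2),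
   ([3,3,2,3,0,3,0],5852,0),
   ([2,2,0,2,1,0,3],5852,1),
   ([2,3,2,1,1,0,3],5852,3),
   ([0,1,3,1,2,3,0],5853,2),
   ([0,4,1,2,2,4,3],5854,1),
   ([4,2,2,3,2,0,3],5855,0),
   ([3,3,1,0,0,4,3],5855,3),
   ([3,3,3,0,4,1,1],5857,3),
   ([0,3,3,4,1,0,1],5858,0),
   ([1,1,2,1,4,4,4],5858,3),
   ([1,4,0,2,1,3,3],5859,0),
   ([2,4,4,2,1,0,1],5859,2),
   ([0,1,4,2,0,4,0],5859,3),
   ([4,4,3,0,4,2,2],5860,0),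
   ([0,4,4,2,4,0,4],5860,3),
   ([3,0,3,0,4,1,0],5861,1),
   ([1,1,2,0,4,1,0],5861,2),
   ([1,3,2,0,0,2,3],5862,0),
   ([2,4,0,4,0,1,1],5863,1),
   ([1,2,2,4,1,0,1],5863,2),
   ([4,4,1,4,3,2,2],5864,0),
   ([3,4,2,4,3,0,4],5864,2),
   ([3,4,0,1,1,0,1],5865,2),
   ([3,0,2,1,4,4,0],5866,1),
   ([4,0,4,3,4,4,0],5866,2),
   ([3,2,4,2,2,2,4],5867,1),
   ([3,4,2,0,2,4,3],5867,3),
   ([2,1,1,4,0,2,0],5868,0),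
   ([4,1,0,1,3,0,2],5868,1),
   ([3,2,1,3,3,2,4],5868,3),
   ([3,4,3,2,2,3,4],5869,2),
   ([4,0,3,2,3,2,3],5871,3),
   ([0,1,4,2,2,2,2],5873,0),
   ([4,2,1,1,0,4,4],5873,1),
   ([3,4,4,1,4,0,4],5873,2),
   ([0,4,4,1,0,3,3],5873,3),
   ([3,0,3,2,1,2,1],5876,2),
   ([2,1,3,4,0,4,1],5876,3),
   ([3,2,4,1,2,3,2],5877,0),
   ([0,4,0,1,2,3,2],5878,2),
   ([4,3,3,2,1,4,0],5879,1),
   ([1,1,0,2,1,4,0],5879,2),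
   ([0,3,4,4,1,2,4],5881,2),
   ([2,4,4,1,2,1,2],5881,3),
   ([4,0,1,4,4,3,1],5882,0),
   ([4,3,4,0,4,4,2],5883,2),
   ([4,0,4,3,4,2,0],5884,1),
   ([2,1,2,2,4,2,0],5884,2),
   ([2,0,2,4,4,1,0],5884,3),
   ([2,2,2,2,3,1,1],5885,0),
   ([0,2,2,2,3,0,2],5885,3),
   ([1,2,4,1,2,2,4],5888,1),
   ([4,0,4,0,0,3,3],5890,1),
   ([0,0,4,0,3,0,3],5890,2),
   ([0,3,4,0,0,1,0],5890,3),
   ([3,2,4,4,0,1,0],5892,2),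
   ([0,3,0,3,4,3,1],5894,0),
   ([0,4,1,0,4,3,4],5894,2),
   ([3,4,1,3,0,4,4],5894,3),
   ([2,3,1,3,4,3,3],5895,2),
   ([4,4,4,4,4,2,0],5896,1),
   ([4,3,2,4,3,2,2],5897,1),
   ([4,0,2,1,0,0,2],5897,2),
   ([1,3,0,1,1,2,4],5900,1),
   ([4,0,4,2,0,3,4],5900,2),
   ([0,4,0,2,4,1,2],5901,2),
   ([4,2,4,0,1,4,4],5902,0),
   ([4,2,0,0,0,1,1],5903,0),
   ([3,2,0,0,0,2,2],5903,1),
   ([1,2,0,0,2,0,2],5903,2),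
   ([1,3,3,1,4,3,0],5904,0),
   ([2,3,2,0,3,0,3],5904,1),
   ([4,2,0,1,1,2,3],5905,1),
   ([3,3,4,1,4,4,3],5905,2),
   ([3,3,1,3,0,0,2],5906,1),
   ([3,2,0,3,0,0,2],5906,3),
   ([4,2,1,2,0,2,0],5907,0),
   ([1,4,0,2,3,2,4],5908,1),
   ([3,4,4,1,2,3,4],5908,2),
   ([2,0,3,2,3,4,1],5910,0),
   ([0,4,4,0,0,2,0],5910,1),
   ([2,2,4,3,0,2,0],5910,2),
   ([3,2,0,2,2,2,0],5911,2),
   ([1,3,1,3,3,1,1],5912,0),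
   ([3,1,1,4,2,0,2],5912,2),
   ([0,2,1,4,0,1,2],5912,3),
   ([0,4,1,3,4,2,0],5913,0),
   ([0,2,3,3,4,3,2],5913,2),
   ([3,2,3,1,2,2,2],5913,3),
   ([0,1,3,0,2,4,2],5914,2),
   ([4,2,3,4,0,2,3],5914,3),
   ([2,2,4,1,4,2,3],5915,2),
   ([1,3,4,0,3,2,1],5916,0),
   ([1,3,2,4,3,0,2],5917,0),
   ([1,1,4,0,0,2,4],5918,1),
   ([1,3,4,2,4,3,4],5918,2),
   ([3,4,4,0,0,0,4],5918,3),
   ([1,1,3,0,2,1,2],5919,2),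
   ([1,2,3,1,0,1,0],5919,3),
   ([3,4,4,2,2,4,3],5921,2),
   ([3,0,4,1,4,3,4],5922,0),
   ([2,0,2,4,2,1,2],5922,2),
   ([1,2,2,0,0,1,4],5922,3),
   ([4,0,2,2,4,4,2],5923,2),
   ([4,2,2,1,2,4,3],5923,3),
   ([2,4,4,1,4,1,3],5924,0),
   ([2,3,0,3,2,4,4],5926,0),
   ([2,0,1,0,1,3,3],5926,1),
   ([0,3,2,4,1,3,0],5926,3)]

/-- A block of images of the fixed vector. -/
def vOrbB97 : List (List ℕ × ℕ × ℕ) :=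
  [([2,0,3,0,1,2,2],5929,0),
   ([3,1,3,1,2,0,4],5929,2),
   ([4,3,4,1,0,4,0],5930,0),
   ([1,4,4,2,2,2,1],5930,3),
   ([3,0,2,2,1,0,3],5931,3),
   ([3,0,2,0,1,2,0],5932,3),
   ([1,0,0,1,4,4,3],5933,1),
   ([0,3,1,2,2,2,3],5934,2),
   ([1,0,0,4,0,2,3],5935,0),
   ([4,1,4,4,1,1,0],5935,2),
   ([3,0,3,1,1,1,0],5936,1),
   ([1,4,2,4,1,1,0],5936,2),
   ([1,0,3,1,1,4,0],5937,2),
   ([3,4,1,3,3,0,1],5938,2),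
   ([1,2,2,2,0,1,3],5941,1),
   ([0,1,3,4,0,2,0],5943,3),
   ([0,2,3,4,3,3,3],5945,0),
   ([3,4,4,3,3,1,1],5945,1),
   ([3,4,1,0,4,0,1],5945,2),
   ([4,0,2,2,1,0,1],5946,0),
   ([0,3,3,2,4,2,1],5946,1),
   ([4,3,3,2,0,1,1],5946,2),
   ([0,3,2,0,4,2,3],5948,0),
   ([2,1,2,1,2,1,0],5948,1),
   ([1,0,2,4,2,4,4],5948,3),
   ([0,4,1,2,1,0,4],5949,2),
   ([1,3,1,3,2,3,3],5950,2),
   ([4,2,2,4,2,0,1],5951,0),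
   ([2,4,3,1,0,1,1],5952,1),
   ([2,1,1,1,1,0,1],5952,2),
   ([4,4,1,1,4,1,2],5953,0),
   ([1,4,0,2,3,1,0],5954,1),
   ([0,1,4,3,0,4,3],5955,3),
   ([3,0,4,4,3,1,2],5956,0),
   ([1,1,3,2,3,1,3],5956,2),
   ([3,2,3,2,4,4,4],5957,0),
   ([3,0,2,4,2,3,3],5957,1),
   ([0,4,3,1,1,0,3],5958,2),
   ([1,3,4,1,1,2,0],5959,3),
   ([2,1,3,1,4,0,3],5961,0),
   ([3,2,0,4,1,3,3],5961,2),
   ([3,0,0,1,0,1,1],5962,1),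
   ([0,2,3,1,1,0,1],5962,2),
   ([0,1,3,1,0,2,0],5962,3),
   ([4,4,0,2,3,4,3],5963,0),
   ([2,4,3,2,1,4,2],5963,2),
   ([4,2,3,1,4,0,4],5963,3),
   ([1,4,3,0,2,3,3],5964,3),
   ([1,4,4,1,2,2,3],5967,1),
   ([3,3,4,0,0,4,3],5967,2),
   ([4,3,4,4,2,3,1],5967,3),
   ([3,0,0,2,0,1,2],5968,1),
   ([3,3,1,0,1,1,3],5969,2),
   ([1,0,0,3,1,0,1],5973,0),
   ([0,2,3,1,4,2,1],5973,1),
   ([1,1,0,2,4,2,3],5973,3),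
   ([4,3,2,2,1,0,1],5978,2),
   ([3,4,0,4,1,0,1],5979,1),
   ([1,1,3,4,2,4,1],5979,2),
   ([4,1,0,2,1,1,3],5980,1),
   ([1,0,2,3,4,3,3],5980,2),
   ([1,1,2,2,4,0,3],5982,0),
   ([3,3,4,4,0,0,1],5982,3),
   ([1,3,3,4,2,2,3],5985,0),
   ([0,3,4,2,1,1,0],5985,2),
   ([1,0,4,3,1,1,2],5985,3),
   ([4,3,2,3,0,2,3],5986,0),
   ([2,4,0,2,1,1,0],5986,1),
   ([1,0,2,0,1,1,0],5986,2),
   ([1,4,3,3,4,2,2],5987,0),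
   ([4,4,2,2,0,0,4],5987,2),
   ([0,4,2,2,1,4,0],5987,3),
   ([1,3,4,1,4,3,1],5988,0),
   ([2,3,2,0,0,2,4],5988,1),
   ([2,0,2,2,4,3,4],5988,2),
   ([2,1,0,0,2,3,0],5989,0),
   ([4,2,4,2,2,2,3],5989,2),
   ([2,3,4,4,4,2,4],5989,3),
   ([2,3,3,4,2,1,0],5990,1),
   ([1,4,4,4,4,4,3],5992,0),
   ([1,1,0,1,4,4,2],5992,2),
   ([3,3,3,1,2,1,0],5993,3),
   ([0,1,3,2,3,3,3],5995,0),
   ([3,1,1,4,4,1,0],5996,0),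
   ([4,1,4,1,1,4,2],5996,3),
   ([3,4,0,0,2,2,0],5997,3),
   ([2,2,3,4,2,3,4],5998,0),
   ([1,2,4,3,1,0,2],5998,3),
   ([2,0,1,1,4,1,2],6001,3),
   ([2,4,2,1,1,3,4],6002,2),
   ([4,2,2,4,2,2,2],6003,0),
   ([4,2,2,0,3,0,4],6003,2),
   ([2,3,3,2,2,2,3],6004,1),
   ([2,3,3,0,2,0,3],6009,1),
   ([4,2,0,1,0,2,3],6009,2),
   ([1,4,0,3,2,2,4],6011,0),
   ([3,3,4,3,1,1,0],6012,3),
   ([0,1,4,2,3,1,1],6014,1),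
   ([2,1,3,1,4,3,2],6015,2),
   ([2,3,0,0,2,1,0],6016,2),
   ([1,1,0,4,3,3,1],6017,2),
   ([2,3,2,4,3,3,3],6018,2),
   ([1,0,2,4,1,0,1],6019,0),
   ([0,2,3,0,2,2,1],6019,1),
   ([1,1,0,3,2,2,3],6019,3),
   ([0,1,1,1,3,0,1],6020,3),
   ([3,4,1,3,2,2,4],6022,2),
   ([0,4,0,3,4,1,2],6024,0),
   ([1,3,2,3,0,4,3],6024,1),
   ([2,3,1,2,3,1,3],6024,2),
   ([3,3,0,4,1,3,4],6025,2),
   ([3,4,0,2,2,2,3],6025,3),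
   ([3,0,0,3,2,0,2],6026,1),
   ([4,2,0,2,2,4,1],6027,0),
   ([2,0,1,4,2,4,3],6027,3),
   ([3,3,0,1,1,1,2],6028,2),
   ([4,1,0,1,4,2,0],6029,2),
   ([2,0,0,3,4,1,3],6029,3),
   ([4,2,4,1,0,1,0],6033,1),
   ([0,3,2,0,0,1,0],6033,2),
   ([1,0,2,1,0,3,3],6033,3),
   ([1,1,2,2,0,4,0],6034,3),
   ([3,3,2,1,4,3,3],6035,2),
   ([3,3,2,4,1,0,2],6035,3),
   ([1,3,0,3,4,0,1],6036,2)]

/-- A block of images of the fixed vector. -/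
def vOrbB98 : List (List ℕ × ℕ × ℕ) :=
  [([0,1,0,3,3,4,3],6036,3),
   ([4,4,2,4,1,0,4],6037,0),
   ([0,3,0,4,1,4,4],6037,2),
   ([4,4,0,3,2,0,4],6037,3),
   ([0,4,0,3,1,1,0],6038,2),
   ([0,1,3,0,3,2,1],6039,3),
   ([0,4,0,0,3,2,2],6042,0),
   ([0,4,1,1,1,2,2],6042,3),
   ([4,2,4,0,4,1,2],6044,2),
   ([3,0,3,4,4,1,2],6045,1),
   ([4,4,2,2,3,3,3],6047,0),
   ([3,0,2,2,4,0,1],6047,2),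
   ([0,1,2,2,3,0,4],6047,3),
   ([3,2,0,1,0,1,0],6048,0),
   ([3,0,0,4,4,0,1],6048,1),
   ([2,1,1,1,0,4,1],6048,2),
   ([4,1,1,0,4,2,0],6048,3),
   ([3,0,2,4,4,4,0],6049,0),
   ([2,0,4,1,4,0,1],6050,1),
   ([3,1,4,1,2,4,3],6051,1),
   ([1,2,2,4,1,3,2],6054,0),
   ([2,3,0,4,2,4,0],6054,2),
   ([2,1,2,1,1,4,0],6056,2),
   ([4,3,0,2,0,0,4],6058,1),
   ([1,2,3,0,0,4,0],6059,1),
   ([3,3,3,0,0,1,0],6060,3),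
   ([4,4,3,4,2,4,2],6061,1),
   ([3,1,2,0,4,2,2],6061,2),
   ([2,2,2,2,2,0,1],6061,3),
   ([1,3,0,0,0,4,4],6063,1),
   ([3,3,0,0,4,0,4],6063,2),
   ([0,2,0,3,3,2,2],6064,2),
   ([2,2,0,0,1,0,1],6064,3),
   ([0,1,0,2,4,4,0],6065,1),
   ([4,3,0,4,4,4,0],6065,2),
   ([4,0,0,3,4,1,4],6065,3),
   ([4,1,2,1,1,2,2],6066,0),
   ([4,0,3,3,0,4,4],6066,1),
   ([2,1,2,3,4,0,4],6066,2),
   ([2,3,1,4,1,0,1],6067,0),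
   ([4,4,3,4,1,1,1],6067,2),
   ([2,2,2,2,3,2,2],6068,1),
   ([1,3,4,1,0,3,2],6070,3),
   ([2,3,0,4,4,0,4],6072,1),
   ([0,1,1,1,3,0,3],6073,2),
   ([3,4,4,4,4,1,2],6074,0),
   ([2,3,0,4,0,1,3],6074,2),
   ([2,2,1,3,2,1,3],6075,0),
   ([1,0,4,0,2,2,4],6075,2),
   ([2,4,4,2,3,0,2],6075,3),
   ([3,4,0,0,2,1,2],6076,0),
   ([3,1,4,3,2,1,3],6076,2),
   ([1,3,4,4,4,3,1],6076,3),
   ([2,4,4,1,4,2,0],6080,2),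
   ([3,3,3,2,2,1,1],6081,0),
   ([3,3,2,3,0,0,2],6081,2),
   ([0,2,0,2,1,2,0],6082,0),
   ([3,4,3,2,0,0,2],6082,1),
   ([3,2,4,2,0,1,1],6082,3),
   ([4,0,4,3,1,2,3],6083,2),
   ([1,3,0,0,4,0,2],6086,1),
   ([1,0,1,1,1,3,2],6088,1),
   ([1,4,0,4,3,1,2],6088,2),
   ([3,2,4,0,4,2,0],6089,0),
   ([3,0,2,1,1,0,2],6089,1),
   ([2,2,1,2,2,1,3],6090,2),
   ([3,2,1,0,0,4,0],6092,3),
   ([3,3,4,1,2,3,3],6093,2),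
   ([3,3,4,4,4,3,2],6093,3),
   ([0,3,2,1,3,1,1],6094,2),
   ([1,1,2,2,2,3,0],6094,3),
   ([2,0,3,3,3,1,1],6095,1),
   ([1,0,4,2,1,2,2],6097,3),
   ([3,0,4,2,1,4,4],6099,0),
   ([1,4,1,0,0,2,0],6100,3),
   ([3,4,3,0,3,1,4],6101,0),
   ([0,1,2,2,2,3,0],6101,2),
   ([3,0,2,0,2,3,1],6101,3),
   ([1,0,2,2,1,1,4],6102,2),
   ([1,2,4,4,4,3,3],6103,3),
   ([3,1,1,1,4,1,0],6105,2),
   ([1,4,3,2,3,1,1],6106,1),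
   ([0,1,2,4,3,3,1],6106,3),
   ([3,2,0,1,4,0,1],6107,1),
   ([4,1,2,2,4,4,3],6107,3),
   ([4,3,3,4,4,4,2],6109,0),
   ([2,1,0,0,0,0,1],6110,2),
   ([4,1,4,1,4,4,4],6112,1),
   ([2,0,1,2,3,0,4],6112,2),
   ([0,2,1,0,3,3,4],6114,2),
   ([3,0,4,0,0,4,4],6115,1),
   ([3,4,1,3,4,0,4],6116,1),
   ([1,4,4,4,4,1,1],6116,3),
   ([0,3,2,1,4,0,4],6117,1),
   ([1,4,4,2,4,3,2],6117,3),
   ([0,2,3,0,3,1,2],6119,1),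
   ([4,2,1,2,3,2,3],6119,3),
   ([3,3,4,4,4,1,0],6120,1),
   ([0,2,0,4,4,1,0],6120,2),
   ([1,2,1,2,4,3,3],6121,0),
   ([0,3,2,1,4,0,1],6121,2),
   ([0,4,3,2,0,1,0],6122,0),
   ([4,1,3,4,4,2,2],6122,3),
   ([3,0,0,0,4,0,4],6123,0),
   ([1,3,3,4,2,4,4],6123,2),
   ([0,1,0,2,4,4,3],6124,0),
   ([4,2,0,3,1,3,3],6124,3),
   ([3,1,0,4,0,0,1],6125,3),
   ([2,1,0,3,1,1,1],6126,0),
   ([4,1,2,2,2,4,4],6128,1),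
   ([0,4,0,0,2,2,4],6128,3),
   ([4,0,0,1,3,4,2],6129,0),
   ([0,2,2,3,1,3,1],6129,2),
   ([1,0,3,2,3,3,2],6132,0),
   ([0,2,4,0,0,4,0],6132,1),
   ([4,4,1,4,4,4,0],6134,2),
   ([2,4,0,0,2,4,4],6135,1),
   ([0,4,2,3,2,2,1],6135,3),
   ([2,0,1,3,4,0,1],6136,0),
   ([3,0,3,0,3,1,1],6136,2),
   ([3,3,2,2,2,0,4],6138,0),
   ([4,4,0,0,1,0,3],6138,3),
   ([2,3,1,3,3,2,2],6139,0),
   ([1,1,0,3,1,4,0],6141,1),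
   ([4,0,0,2,1,0,4],6141,3)]

/-- A block of images of the fixed vector. -/
def vOrbB99 : List (List ℕ × ℕ × ℕ) :=
  [([2,4,3,4,4,2,2],6142,0),
   ([1,2,2,2,0,4,4],6142,1),
   ([0,4,3,2,0,1,3],6142,3),
   ([3,2,2,0,0,4,0],6143,0),
   ([1,4,4,1,4,2,0],6143,3),
   ([2,0,4,4,3,3,3],6144,2),
   ([1,2,0,0,2,2,1],6145,0),
   ([4,3,4,4,4,3,4],6145,3),
   ([3,2,2,1,3,2,2],6146,0),
   ([3,0,4,1,4,4,4],6146,1),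
   ([2,4,1,2,3,0,4],6146,2),
   ([0,3,4,4,4,1,4],6148,0),
   ([2,1,2,2,2,3,0],6148,1),
   ([3,0,0,0,2,4,4],6148,3),
   ([2,4,4,2,2,3,0],6149,1),
   ([3,4,3,2,1,1,4],6151,2),
   ([3,0,3,0,2,2,2],6152,3),
   ([1,1,4,1,1,0,4],6154,1),
   ([2,0,3,4,0,1,4],6154,2),
   ([1,2,0,0,0,2,1],6156,2),
   ([3,3,0,3,2,3,0],6157,0),
   ([4,3,2,3,4,2,1],6158,0),
   ([4,3,0,4,4,2,1],6158,3),
   ([2,4,4,2,4,1,2],6159,2),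
   ([1,0,0,4,4,2,3],6160,1),
   ([2,1,1,3,0,3,2],6161,0),
   ([4,1,0,2,4,4,0],6161,1),
   ([3,3,0,4,4,4,0],6161,2),
   ([3,0,0,3,2,4,2],6162,1),
   ([4,4,4,3,0,0,4],6163,0),
   ([1,1,0,2,0,3,4],6163,1),
   ([4,1,1,3,4,4,4],6163,2),
   ([1,1,0,3,3,4,0],6165,2),
   ([4,0,0,2,3,4,4],6165,3),
   ([0,4,4,0,3,0,4],6166,2),
   ([0,4,4,0,4,1,1],6166,3),
   ([3,1,3,1,0,0,1],6167,2),
   ([2,0,0,3,4,4,3],6168,1),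
   ([4,2,3,3,2,1,3],6168,2),
   ([2,1,4,2,4,1,3],6169,0),
   ([4,1,2,4,4,1,4],6169,1),
   ([3,4,0,2,1,2,3],6170,1),
   ([2,2,2,2,4,4,3],6170,2),
   ([4,0,3,2,0,2,4],6172,3),
   ([3,3,3,0,1,4,2],6174,2),
   ([2,2,4,3,1,2,3],6175,3),
   ([1,4,2,4,1,0,1],6176,1),
   ([2,1,0,4,2,4,1],6176,2),
   ([3,0,0,1,2,4,1],6177,1),
   ([4,2,4,2,1,3,2],6181,2),
   ([2,0,3,4,3,1,2],6182,2),
   ([3,2,3,4,4,2,0],6183,2),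
   ([1,0,0,3,1,2,1],6184,0),
   ([1,0,0,1,2,4,3],6185,0),
   ([3,1,0,0,0,4,2],6185,2),
   ([4,2,0,4,3,2,3],6185,3),
   ([2,0,0,3,1,1,3],6186,3),
   ([2,0,0,0,4,1,1],6187,3),
   ([0,3,3,4,2,1,0],6188,2),
   ([0,2,1,4,2,2,3],6189,0),
   ([3,4,1,4,2,1,0],6189,1),
   ([1,1,0,3,2,4,0],6190,3),
   ([3,3,4,0,4,0,2],6191,3),
   ([0,2,2,0,2,1,1],6192,2),
   ([1,1,2,1,1,3,4],6192,3),
   ([0,1,3,4,3,1,0],6194,2),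
   ([0,1,4,2,2,2,0],6195,3),
   ([3,2,2,4,1,0,2],6198,0),
   ([3,0,3,0,2,4,2],6198,1),
   ([3,4,0,1,4,2,2],6198,2),
   ([2,2,0,3,2,2,0],6198,3),
   ([1,4,0,4,0,4,4],6199,1),
   ([1,3,2,2,2,2,3],6201,1),
   ([3,4,0,1,0,4,3],6201,2),
   ([4,3,0,0,2,2,2],6201,3),
   ([2,1,0,1,1,1,2],6202,1),
   ([2,2,4,1,3,4,2],6202,2),
   ([0,1,3,4,2,3,1],6205,3),
   ([3,0,0,0,1,2,4],6207,0),
   ([0,3,3,2,1,4,2],6208,2),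
   ([4,4,0,2,0,1,0],6209,0),
   ([1,1,0,3,3,0,1],6209,1),
   ([3,2,2,1,4,4,1],6209,2),
   ([4,1,2,0,3,0,4],6209,3),
   ([1,2,2,3,4,4,1],6210,1),
   ([3,2,0,1,2,0,1],6212,0),
   ([1,1,0,4,3,2,0],6212,3),
   ([0,4,3,2,4,4,0],6215,2),
   ([3,1,0,2,4,4,0],6216,1),
   ([0,2,2,1,3,4,0],6217,2),
   ([4,0,2,0,3,3,4],6217,3),
   ([3,0,0,2,1,2,2],6218,0),
   ([0,4,4,2,0,1,4],6218,3),
   ([3,0,0,0,3,1,4],6219,2),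
   ([2,0,2,0,3,1,3],6220,0),
   ([2,4,0,2,0,4,1],6220,3),
   ([1,3,0,4,4,2,4],6221,2),
   ([3,3,1,3,4,3,2],6222,1),
   ([3,1,3,4,2,2,3],6223,1),
   ([3,1,4,4,4,0,4],6225,0),
   ([1,4,0,1,1,4,4],6225,2),
   ([4,0,3,1,2,0,3],6226,3),
   ([2,2,1,1,2,1,4],6228,2),
   ([1,1,1,3,4,4,1],6229,3),
   ([0,1,2,1,2,1,3],6230,0),
   ([2,4,4,0,2,3,3],6230,3),
   ([3,4,1,3,2,3,2],6231,0),
   ([3,4,4,3,3,4,0],6231,2),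
   ([4,3,4,4,4,0,3],6232,0),
   ([4,0,4,4,1,0,1],6233,2),
   ([4,2,0,1,3,2,3],6235,3),
   ([4,0,1,3,4,3,3],6237,0),
   ([0,1,3,1,2,3,2],6237,3),
   ([1,3,2,3,4,1,1],6240,2),
   ([1,1,2,4,3,2,4],6240,3),
   ([1,3,0,3,3,4,3],6243,3),
   ([4,1,0,2,3,0,4],6244,1),
   ([4,3,4,3,2,1,4],6244,2),
   ([3,0,4,1,3,1,2],6246,1),
   ([4,2,0,3,3,2,0],6246,3),
   ([4,4,3,3,0,1,0],6247,0),
   ([4,1,4,4,3,0,4],6247,3),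
   ([1,4,4,1,3,2,4],6249,3),
   ([0,2,2,0,2,1,4],6250,1),
   ([2,4,4,3,2,2,3],6250,3)]

/-- A block of images of the fixed vector. -/
def vOrbB100 : List (List ℕ × ℕ × ℕ) :=
  [([3,1,1,0,4,2,0],6251,3),
   ([2,1,0,4,4,2,0],6253,2),
   ([2,3,0,4,3,1,3],6254,0),
   ([2,4,0,1,2,3,0],6254,3),
   ([4,1,0,4,3,1,1],6256,2),
   ([0,2,1,2,4,4,2],6257,1),
   ([2,3,4,4,1,1,1],6258,0),
   ([3,3,4,4,3,0,2],6258,2),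
   ([1,1,4,0,2,4,3],6259,2),
   ([4,3,0,3,4,1,1],6260,0),
   ([1,4,0,3,1,4,2],6261,2),
   ([2,3,0,4,3,2,2],6262,2),
   ([3,4,2,0,3,2,3],6263,2),
   ([3,3,0,0,4,2,1],6264,0),
   ([2,2,2,1,3,2,3],6264,1),
   ([4,1,0,1,1,4,3],6266,1),
   ([1,3,4,0,1,2,4],6266,3),
   ([3,1,0,3,3,1,4],6267,0),
   ([4,1,0,0,0,2,1],6268,0),
   ([4,0,0,0,0,2,3],6268,1),
   ([4,3,0,0,0,1,0],6268,3),
   ([4,1,0,3,1,1,3],6269,2),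
   ([3,1,0,0,0,2,3],6270,0),
   ([3,3,2,3,4,4,0],6272,0),
   ([2,2,2,3,4,0,4],6272,1),
   ([1,4,0,4,4,0,3],6272,3),
   ([0,2,0,0,0,4,1],6273,3),
   ([4,3,0,0,0,4,1],6274,0),
   ([2,4,0,0,0,2,0],6274,1),
   ([2,0,0,0,0,2,1],6274,3),
   ([0,3,0,1,1,4,1],6277,1),
   ([2,3,4,3,2,3,1],6278,0),
   ([4,3,4,0,1,1,4],6279,0),
   ([1,3,2,1,1,2,2],6280,0),
   ([0,4,2,3,0,1,2],6280,3),
   ([4,2,1,3,0,4,1],6282,3),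
   ([4,0,2,4,1,0,4],6283,1),
   ([4,0,0,2,0,1,4],6283,2),
   ([1,4,0,3,1,1,0],6283,3),
   ([2,2,0,2,3,1,4],6284,0),
   ([3,3,4,0,4,3,0],6284,1),
   ([2,2,3,3,4,3,0],6284,2),
   ([3,4,2,3,4,1,4],6285,0),
   ([2,4,0,1,4,3,0],6285,2),
   ([3,0,0,4,4,3,1],6285,3),
   ([3,2,0,3,1,2,0],6286,0),
   ([3,1,0,4,1,3,2],6286,2),
   ([3,2,0,2,4,2,0],6286,3),
   ([2,0,1,0,4,3,4],6287,2),
   ([3,4,1,3,0,2,3],6287,3),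
   ([3,0,0,3,1,3,2],6288,1),
   ([1,1,0,1,4,2,0],6289,2),
   ([3,4,3,2,4,4,0],6290,2),
   ([1,4,0,1,2,0,3],6292,3),
   ([1,3,0,2,4,0,1],6293,2),
   ([3,1,4,4,4,3,0],6295,2),
   ([1,0,3,1,4,1,1],6296,0),
   ([0,2,2,0,3,2,2],6296,1),
   ([3,1,0,2,0,0,2],6296,2),
   ([3,4,3,2,1,4,3],6298,2),
   ([0,2,1,4,4,3,4],6299,0),
   ([3,4,2,2,1,3,2],6299,1),
   ([0,0,4,0,3,1,2],6299,2),
   ([3,1,2,4,1,1,4],6303,3),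
   ([4,0,0,2,2,1,4],6304,1),
   ([4,0,0,2,0,3,4],6305,2),
   ([3,4,1,3,1,4,2],6307,3),
   ([1,1,4,0,3,3,3],6309,2),
   ([1,2,2,0,3,0,1],6310,3),
   ([2,2,0,2,0,4,2],6311,3),
   ([4,4,1,0,2,2,2],6315,2),
   ([0,4,2,2,3,0,1],6316,3),
   ([3,1,4,3,4,3,1],6317,0),
   ([4,0,4,2,1,3,3],6320,2),
   ([3,3,2,3,1,1,4],6322,3),
   ([4,4,2,2,2,0,3],6323,2),
   ([0,3,2,2,4,4,0],6323,3),
   ([2,4,2,2,1,0,2],6324,3),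
   ([0,2,2,3,2,4,4],6325,2),
   ([3,1,2,3,1,4,1],6327,2),
   ([1,3,2,4,2,4,1],6330,0),
   ([2,3,1,4,4,2,0],6330,1),
   ([2,0,2,0,4,1,2],6330,3),
   ([3,4,4,0,2,1,1],6331,0),
   ([0,1,2,1,4,0,2],6331,2),
   ([0,2,2,1,2,3,1],6331,3),
   ([0,4,3,0,4,0,2],6332,1),
   ([4,3,2,3,1,3,2],6332,2),
   ([0,3,0,0,1,1,1],6334,0),
   ([2,1,3,4,2,2,2],6334,1),
   ([4,0,2,2,4,0,2],6334,2),
   ([0,2,2,2,2,4,4],6334,3),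
   ([0,2,4,3,1,4,0],6337,0),
   ([3,4,0,1,2,3,0],6338,1),
   ([3,0,1,1,1,0,4],6339,1),
   ([3,4,0,4,0,1,4],6339,2),
   ([1,4,0,0,1,2,0],6339,3),
   ([4,4,4,3,1,1,4],6340,0),
   ([1,1,3,1,2,3,0],6340,1),
   ([0,1,2,0,4,1,4],6341,0),
   ([4,1,1,4,0,1,1],6343,3),
   ([0,3,2,1,0,4,1],6344,3),
   ([2,0,0,2,4,0,3],6345,0),
   ([3,3,0,3,1,4,1],6345,3),
   ([0,4,2,1,0,3,2],6346,0),
   ([4,0,0,1,3,2,2],6346,3),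
   ([2,0,2,1,0,4,4],6347,2),
   ([4,4,2,0,1,1,1],6347,3),
   ([0,4,1,3,1,0,2],6349,3),
   ([0,1,1,3,3,2,0],6350,0),
   ([4,2,4,4,0,0,2],6350,1),
   ([3,2,1,4,0,3,3],6350,3),
   ([4,0,2,2,3,4,0],6351,1),
   ([3,4,1,0,3,4,0],6351,2),
   ([3,1,1,3,0,0,2],6352,2),
   ([2,1,0,4,1,0,4],6353,1),
   ([1,3,0,3,4,1,4],6354,0),
   ([2,3,2,3,0,3,0],6354,1),
   ([3,1,1,0,0,3,0],6354,2),
   ([2,1,1,3,2,4,4],6355,2),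
   ([4,4,1,2,3,2,4],6355,3),
   ([0,3,2,3,4,4,4],6356,0),
   ([2,1,2,3,4,3,3],6356,1),
   ([1,4,0,4,2,0,3],6356,2),
   ([0,3,0,4,4,4,4],6356,3)]

/-- A block of images of the fixed vector. -/
def vOrbB101 : List (List ℕ × ℕ × ℕ) :=
  [([0,2,0,0,3,4,2],6357,2),
   ([3,2,0,0,3,4,0],6367,1),
   ([3,1,3,4,1,4,3],6369,3),
   ([2,4,0,1,3,1,1],6371,3),
   ([2,4,0,2,4,1,0],6372,2),
   ([3,1,3,2,2,3,1],6373,2),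
   ([3,1,3,0,1,4,1],6373,3),
   ([2,4,3,4,3,4,0],6374,3),
   ([1,1,3,2,4,1,0],6377,1),
   ([0,1,3,3,3,3,1],6378,2),
   ([4,3,3,1,2,4,1],6380,0),
   ([3,4,1,0,0,2,0],6381,1),
   ([3,2,1,3,0,2,0],6381,2),
   ([1,1,0,0,4,0,2],6382,2),
   ([0,2,0,0,2,4,4],6382,3),
   ([2,4,1,4,4,0,2],6383,1),
   ([3,4,4,2,4,1,3],6385,3),
   ([4,3,3,0,4,4,3],6388,3),
   ([0,4,3,1,3,4,0],6390,0),
   ([1,4,3,0,1,2,2],6390,3),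
   ([2,0,4,3,1,0,1],6392,3),
   ([0,0,4,3,4,4,3],6395,0),
   ([4,2,4,0,3,0,0],6395,3),
   ([2,1,2,3,2,0,1],6397,1),
   ([1,4,1,2,2,3,1],6399,3),
   ([3,1,3,2,3,1,1],6405,3),
   ([3,0,0,1,4,3,1],6406,1),
   ([2,3,4,1,4,4,2],6408,2),
   ([3,2,2,3,1,3,0],6410,1),
   ([1,4,4,0,1,3,0],6411,2),
   ([3,3,3,2,1,4,0],6412,0),
   ([2,2,3,2,1,0,4],6412,1),
   ([1,4,0,1,1,0,3],6412,3),
   ([0,2,4,0,2,3,4],6414,2),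
   ([3,2,1,4,1,1,3],6416,2),
   ([3,4,3,2,0,4,4],6419,0),
   ([1,4,0,3,4,3,3],6419,1),
   ([3,4,3,4,4,0,2],6421,0),
   ([4,0,3,4,0,0,2],6422,2),
   ([0,1,2,0,1,0,4],6423,1),
   ([4,1,4,2,4,1,4],6424,0),
   ([3,4,0,4,4,1,4],6425,0),
   ([3,0,2,3,4,3,1],6425,3),
   ([0,2,3,3,4,3,3],6427,2),
   ([3,3,3,1,1,2,2],6427,3),
   ([3,3,2,0,3,0,2],6428,2),
   ([0,2,2,0,1,0,2],6428,3),
   ([2,1,1,1,2,0,3],6430,2),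
   ([0,3,1,1,4,2,1],6430,3),
   ([2,1,0,2,2,0,3],6431,1),
   ([4,0,1,2,2,0,1],6432,0),
   ([4,1,3,1,0,1,1],6432,2),
   ([2,3,2,3,1,1,1],6437,2),
   ([4,2,1,3,4,1,1],6439,0),
   ([0,1,1,4,4,1,0],6440,0),
   ([3,0,4,2,2,4,1],6440,2),
   ([4,0,3,4,0,4,2],6443,0),
   ([0,3,0,1,2,4,1],6443,1),
   ([3,1,0,4,2,3,2],6443,3),
   ([1,2,4,1,0,3,4],6445,0),
   ([1,2,4,2,2,3,4],6445,3),
   ([0,1,1,3,4,3,0],6448,0),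
   ([3,3,2,2,4,0,1],6454,0),
   ([1,1,4,4,0,0,3],6454,3),
   ([2,1,3,2,3,0,1],6455,1),
   ([2,0,4,3,1,1,1],6456,3),
   ([2,4,4,3,1,2,0],6457,2),
   ([2,0,4,0,1,4,4],6457,3),
   ([3,4,4,2,2,0,1],6458,2),
   ([0,1,4,2,1,3,0],6458,3),
   ([1,4,3,3,0,0,1],6459,1),
   ([2,0,0,2,1,4,3],6460,3),
   ([0,1,2,0,4,1,3],6461,2),
   ([1,3,2,1,1,3,0],6461,3),
   ([4,3,1,1,1,4,1],6462,0),
   ([3,2,0,3,3,2,0],6462,2),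
   ([1,2,2,1,2,1,1],6465,0),
   ([3,1,4,0,4,0,2],6465,2),
   ([3,3,3,2,3,0,4],6466,0),
   ([2,0,4,1,0,2,4],6467,3),
   ([0,2,0,4,2,1,2],6468,3),
   ([1,2,3,4,4,4,4],6471,1),
   ([0,2,4,0,3,0,4],6471,2),
   ([4,0,3,2,1,4,2],6473,0),
   ([2,2,0,3,2,3,1],6473,2),
   ([3,1,0,1,1,3,2],6473,3),
   ([1,3,0,2,3,1,4],6475,0),
   ([1,2,3,3,4,3,0],6475,2),
   ([0,4,2,3,4,3,0],6476,1),
   ([4,0,3,0,2,3,4],6477,1),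
   ([4,2,0,4,1,4,4],6477,2),
   ([3,3,2,1,1,1,3],6478,1),
   ([3,3,1,0,1,0,2],6478,3),
   ([4,4,1,4,3,4,4],6479,0),
   ([1,1,4,3,4,3,3],6479,1),
   ([4,3,0,2,0,2,3],6482,2),
   ([2,1,0,1,0,1,2],6484,2),
   ([2,4,2,0,1,3,1],6485,2),
   ([1,0,1,4,2,2,1],6486,2),
   ([4,1,4,4,4,3,0],6487,0),
   ([4,0,2,2,2,0,3],6487,1),
   ([1,4,0,4,3,3,0],6489,0),
   ([1,0,4,3,2,0,3],6489,1),
   ([4,0,4,0,1,1,2],6492,1),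
   ([4,0,0,3,3,3,4],6493,0),
   ([0,3,4,4,3,3,2],6493,1),
   ([4,4,0,4,3,2,4],6495,2),
   ([1,4,0,3,3,2,4],6496,0),
   ([2,1,4,1,3,4,0],6496,3),
   ([2,3,0,2,2,3,0],6498,0),
   ([2,3,3,0,2,2,1],6499,0),
   ([2,2,0,4,3,4,3],6499,2),
   ([1,2,2,3,3,3,1],6500,0),
   ([0,2,4,2,4,0,2],6502,1),
   ([4,0,4,0,1,3,2],6502,2),
   ([4,2,1,4,3,2,1],6503,0),
   ([4,1,2,0,2,4,3],6503,2),
   ([2,4,2,0,2,1,1],6504,0),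
   ([2,2,2,3,4,1,0],6505,3),
   ([3,3,0,0,3,4,3],6507,2),
   ([2,0,3,2,1,3,4],6508,0),
   ([1,2,0,1,1,4,1],6508,3),
   ([3,2,0,3,3,4,3],6509,0),
   ([1,1,3,4,4,4,0],6511,1),
   ([0,1,4,3,4,0,1],6516,0)]

/-- A block of images of the fixed vector. -/
def vOrbB102 : List (List ℕ × ℕ × ℕ) :=
  [([1,3,2,1,4,4,2],6517,1),
   ([2,2,4,2,4,2,2],6517,3),
   ([3,4,4,0,3,0,0],6522,2),
   ([0,0,4,0,3,3,1],6522,3),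
   ([4,3,4,0,3,0,0],6523,1),
   ([0,0,2,2,3,4,2],6523,3),
   ([4,0,4,0,3,0,0],6527,1),
   ([0,0,4,0,3,0,2],6528,3),
   ([0,1,4,0,3,0,0],6531,1),
   ([1,0,4,4,3,4,1],6533,1),
   ([3,1,4,1,3,4,0],6533,3),
   ([1,2,4,0,3,0,0],6537,2),
   ([4,3,1,0,1,1,1],6540,3),
   ([0,4,4,0,3,0,0],6541,1),
   ([0,0,2,2,3,4,1],6541,3),
   ([2,1,1,4,4,1,0],6543,3),
   ([1,2,4,0,4,2,0],6544,3),
   ([1,1,0,2,1,2,3],6545,1),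
   ([4,3,2,1,1,0,4],6545,3),
   ([3,0,3,3,4,4,3],6546,1),
   ([1,4,1,0,1,4,2],6547,3),
   ([0,4,2,4,2,4,2],6548,0),
   ([1,3,1,4,4,4,1],6548,1),
   ([3,2,3,0,4,4,1],6549,1),
   ([0,1,0,1,0,2,4],6551,1),
   ([0,0,4,3,4,2,1],6553,3),
   ([3,2,2,3,0,1,1],6554,2),
   ([3,3,4,0,3,0,0],6555,1),
   ([0,0,4,0,3,3,4],6556,3),
   ([3,0,2,3,2,4,4],6557,2),
   ([2,3,1,1,2,4,4],6559,1),
   ([3,1,1,4,1,0,4],6559,2),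
   ([3,0,1,3,1,4,0],6560,1),
   ([2,0,1,3,1,4,0],6560,2),
   ([2,0,1,2,1,4,0],6561,0),
   ([2,2,2,1,1,0,3],6564,1),
   ([2,3,2,4,1,1,2],6566,3),
   ([4,0,0,4,0,3,2],6567,1),
   ([2,2,1,0,4,2,1],6568,0),
   ([0,1,0,2,3,4,3],6568,2),
   ([4,3,0,1,0,0,2],6568,3),
   ([3,1,2,4,0,2,0],6570,0),
   ([2,0,2,1,2,2,2],6573,0),
   ([2,4,4,0,1,0,4],6573,2),
   ([2,0,0,2,0,1,3],6574,2),
   ([1,1,4,0,4,4,0],6575,0),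
   ([1,2,4,0,2,0,4],6580,1),
   ([0,1,1,4,2,4,3],6583,1),
   ([1,3,0,2,2,1,4],6583,3),
   ([1,4,0,3,0,2,4],6586,1),
   ([4,3,1,4,4,3,2],6587,0),
   ([4,2,4,2,1,4,0],6587,2),
   ([3,0,1,0,2,3,0],6588,0),
   ([2,3,1,2,1,1,4],6588,3),
   ([1,2,1,0,2,4,3],6596,2),
   ([3,3,1,1,0,0,1],6597,1),
   ([1,1,4,2,1,4,1],6597,2),
   ([4,1,4,1,0,0,2],6597,3),
   ([3,4,0,4,4,0,1],6600,1),
   ([0,2,1,0,0,4,1],6601,1),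
   ([4,4,2,0,2,1,3],6602,2),
   ([0,3,3,1,1,0,4],6603,1),
   ([0,4,4,3,4,0,1],6605,1),
   ([4,3,2,0,0,4,1],6605,2),
   ([2,0,0,1,0,1,4],6606,1),
   ([4,0,3,4,4,2,4],6606,2),
   ([3,3,3,2,0,2,4],6608,2),
   ([1,1,0,4,0,3,1],6609,1),
   ([3,2,2,2,1,2,1],6609,2),
   ([0,0,4,0,3,3,0],6612,3),
   ([3,1,2,4,3,3,0],6613,2),
   ([0,0,4,3,4,0,4],6614,1),
   ([4,0,1,4,3,3,0],6615,1),
   ([2,2,4,4,0,0,4],6616,1),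
   ([2,4,0,4,3,3,0],6617,1),
   ([3,3,0,3,3,3,0],6617,2),
   ([0,2,4,3,3,3,0],6618,1),
   ([2,0,4,1,0,4,4],6620,0),
   ([0,4,0,4,2,3,3],6620,1),
   ([2,3,4,2,0,0,3],6620,2),
   ([1,4,3,3,1,1,2],6621,0),
   ([0,1,1,0,3,1,3],6621,2),
   ([1,3,1,1,0,4,0],6621,3),
   ([3,2,4,0,1,3,3],6622,2),
   ([0,4,4,2,2,3,2],6623,0),
   ([0,0,4,0,3,1,0],6625,1),
   ([3,3,2,1,3,1,0],6625,2),
   ([2,3,4,0,3,3,2],6626,3),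
   ([3,3,3,2,2,4,4],6628,3),
   ([1,1,2,3,0,0,1],6629,2),
   ([0,1,2,3,3,0,4],6630,3),
   ([0,2,2,4,0,1,0],6631,2),
   ([1,0,2,0,0,3,2],6631,3),
   ([2,0,0,0,0,0,1],6632,2),
   ([0,4,0,2,1,1,0],6633,0),
   ([4,1,4,2,0,2,2],6633,3),
   ([4,0,4,2,4,1,0],6635,2),
   ([2,2,0,0,4,0,1],6636,1),
   ([1,3,2,1,0,1,1],6638,2),
   ([2,0,2,0,0,4,1],6639,3),
   ([1,4,3,3,3,1,1],6640,0),
   ([0,2,0,0,4,4,0],6640,3),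
   ([4,4,1,3,3,4,1],6642,1),
   ([3,1,3,0,3,0,1],6642,3),
   ([3,1,4,1,0,1,3],6643,0),
   ([2,4,4,2,2,4,2],6643,3),
   ([4,3,3,0,3,0,2],6645,0),
   ([1,2,2,3,4,2,2],6645,2),
   ([0,1,0,1,2,2,4],6646,1),
   ([4,3,3,1,4,2,3],6647,0),
   ([1,0,0,2,3,2,1],6647,3),
   ([1,0,1,3,1,2,0],6648,2),
   ([0,4,3,2,0,1,1],6649,0),
   ([1,3,0,3,4,2,2],6649,1),
   ([0,1,3,4,1,0,2],6649,2),
   ([0,2,3,4,4,2,2],6649,3),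
   ([4,2,4,0,1,0,2],6650,2),
   ([0,2,4,0,4,2,3],6650,3),
   ([4,3,1,4,4,2,0],6651,0),
   ([3,2,4,1,1,2,1],6651,3),
   ([4,2,3,1,3,0,1],6653,0),
   ([4,1,0,4,1,0,2],6655,1),
   ([3,2,1,1,0,1,0],6657,3),
   ([3,0,0,0,2,2,4],6658,1),
   ([4,4,2,3,2,2,0],6659,0)]

/-- A block of images of the fixed vector. -/
def vOrbB103 : List (List ℕ × ℕ × ℕ) :=
  [([0,4,4,0,0,2,1],6661,0),
   ([0,3,3,3,1,4,3],6661,2),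
   ([4,3,3,2,3,2,2],6661,3),
   ([3,3,1,3,3,2,3],6662,1),
   ([2,3,2,1,1,4,4],6664,2),
   ([1,4,0,1,0,3,0],6665,1),
   ([2,4,4,0,1,2,3],6667,2),
   ([1,3,0,1,0,3,2],6670,1),
   ([1,2,3,1,0,2,2],6670,3),
   ([2,4,3,3,1,1,1],6671,0),
   ([0,2,1,1,0,1,3],6671,3),
   ([1,4,4,2,3,3,1],6672,1),
   ([0,4,0,0,3,2,1],6673,0),
   ([1,3,4,2,1,2,3],6673,1),
   ([4,3,1,1,1,2,2],6673,3),
   ([2,1,2,1,2,2,3],6674,0),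
   ([4,1,1,2,2,1,0],6674,1),
   ([4,0,4,4,2,1,0],6674,2),
   ([3,4,1,3,2,4,0],6675,3),
   ([3,3,2,4,0,0,1],6676,1),
   ([2,4,4,0,2,0,2],6678,3),
   ([3,0,0,3,3,3,2],6680,1),
   ([3,0,1,0,1,2,2],6684,0),
   ([0,1,4,0,3,0,4],6684,2),
   ([0,4,4,0,4,1,4],6684,3),
   ([2,2,4,4,1,4,1],6685,2),
   ([0,4,3,1,3,4,2],6686,0),
   ([0,3,3,4,0,4,0],6687,2),
   ([3,3,2,0,2,4,0],6689,0),
   ([1,4,3,0,3,0,3],6689,3),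
   ([3,1,3,0,0,4,2],6691,2),
   ([3,1,1,2,4,4,2],6692,3),
   ([2,4,2,3,2,4,4],6694,3),
   ([0,1,3,1,1,0,4],6695,2),
   ([0,2,2,4,3,4,4],6698,1),
   ([2,2,1,4,0,0,4],6699,2),
   ([1,3,3,2,3,4,4],6700,2),
   ([4,4,3,1,4,1,0],6700,3),
   ([0,2,3,2,2,0,1],6701,3),
   ([0,1,1,2,0,4,2],6702,2),
   ([4,2,0,1,3,0,2],6703,0),
   ([2,2,2,1,0,4,3],6703,3),
   ([2,2,2,3,3,3,3],6704,3),
   ([0,4,2,1,1,1,1],6706,3),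
   ([0,3,4,4,3,3,1],6707,0),
   ([2,1,4,3,0,2,4],6707,1),
   ([1,3,0,4,4,4,0],6710,2),
   ([1,4,1,2,4,1,1],6711,3),
   ([2,2,3,3,3,0,1],6713,1),
   ([0,3,0,1,4,4,1],6713,2),
   ([4,1,0,0,3,0,3],6713,3),
   ([4,3,2,4,3,4,1],6714,0),
   ([4,1,4,0,1,2,0],6714,2),
   ([2,0,4,2,1,2,1],6714,3),
   ([2,4,0,0,1,2,0],6715,1),
   ([2,3,0,0,3,0,1],6716,0),
   ([2,0,3,2,0,3,3],6717,0),
   ([3,2,4,2,2,1,0],6718,0),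
   ([1,4,4,2,1,2,0],6721,1),
   ([2,3,2,0,1,4,1],6722,0),
   ([1,4,1,1,1,2,0],6722,2),
   ([4,0,1,0,1,3,4],6723,0),
   ([1,2,4,0,4,3,2],6723,3),
   ([0,3,0,1,1,4,0],6727,1),
   ([2,4,2,2,2,3,2],6728,0),
   ([4,3,0,1,1,4,0],6728,2),
   ([4,1,1,2,3,3,4],6729,0),
   ([1,2,0,4,1,1,0],6729,3),
   ([1,1,2,1,1,4,0],6730,2),
   ([1,2,0,0,1,0,2],6734,0),
   ([2,2,2,2,2,3,4],6734,3),
   ([1,2,2,3,4,3,4],6736,2),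
   ([4,1,0,1,2,0,2],6737,2),
   ([4,2,3,0,1,2,2],6739,0),
   ([2,0,0,4,4,0,4],6744,0),
   ([0,1,0,1,2,2,2],6745,0),
   ([4,2,1,2,3,4,4],6745,1),
   ([0,4,0,4,3,3,3],6745,3),
   ([3,1,0,4,4,0,1],6746,3),
   ([4,0,2,4,4,1,0],6747,3),
   ([1,4,4,2,3,4,0],6749,0),
   ([1,0,4,0,2,0,4],6749,1),
   ([2,0,0,4,4,2,4],6750,2),
   ([3,3,0,3,4,2,4],6751,0),
   ([4,1,1,1,1,2,1],6751,2),
   ([2,1,1,3,0,0,3],6751,3),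
   ([2,0,4,0,1,1,4],6753,1),
   ([2,1,0,2,0,2,4],6753,2),
   ([1,3,1,4,1,3,1],6754,0),
   ([1,0,3,2,4,3,4],6754,2),
   ([0,0,4,3,4,2,2],6755,3),
   ([0,0,4,0,3,2,4],6758,3),
   ([3,1,2,4,2,3,4],6759,2),
   ([4,3,1,4,4,0,1],6760,2),
   ([3,3,2,4,3,0,4],6761,2),
   ([2,2,4,2,4,4,4],6763,3),
   ([0,1,2,0,2,2,2],6764,2),
   ([2,2,2,2,0,3,1],6764,3),
   ([4,2,2,4,1,0,4],6765,0),
   ([1,4,0,4,1,4,4],6765,2),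
   ([0,4,1,1,1,2,1],6766,3),
   ([1,1,2,2,0,1,2],6767,0),
   ([1,3,1,1,2,0,1],6767,3),
   ([0,3,1,3,1,0,1],6768,3),
   ([1,3,3,1,1,4,2],6769,3),
   ([1,1,2,3,3,2,2],6771,2),
   ([2,2,4,2,1,4,0],6773,1),
   ([4,0,1,2,1,4,0],6773,2),
   ([1,3,3,2,1,4,0],6774,1),
   ([3,1,0,2,1,4,0],6774,2),
   ([2,3,0,0,1,1,0],6775,3),
   ([1,1,4,3,1,4,1],6776,0),
   ([2,0,3,4,2,0,1],6776,3),
   ([2,3,0,3,1,4,4],6778,1),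
   ([0,4,0,2,1,1,2],6778,3),
   ([3,4,2,0,0,0,4],6779,1),
   ([2,0,2,3,0,4,3],6780,0),
   ([4,2,2,1,1,4,1],6780,3),
   ([2,3,2,2,2,1,0],6781,0),
   ([4,1,0,0,1,3,0],6781,3),
   ([2,0,0,4,0,0,4],6783,0),
   ([3,4,2,0,3,4,4],6784,2),
   ([2,3,0,0,1,3,3],6786,1),
   ([0,3,0,0,1,1,0],6788,3),
   ([3,3,4,1,0,2,3],6791,0)]

/-- A block of images of the fixed vector. -/
def vOrbB104 : List (List ℕ × ℕ × ℕ) :=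
  [([1,2,0,1,2,1,0],6793,1),
   ([2,1,4,4,0,3,3],6794,2),
   ([3,3,4,2,2,4,0],6794,3),
   ([1,4,0,4,0,2,1],6795,2),
   ([0,0,4,3,4,3,3],6797,1),
   ([4,0,4,2,1,1,3],6799,1),
   ([3,4,1,3,4,3,3],6799,2),
   ([1,4,3,3,3,3,4],6800,1),
   ([2,0,0,1,2,4,4],6800,2),
   ([4,4,0,0,3,3,1],6800,3),
   ([2,2,0,0,3,1,2],6802,0),
   ([4,4,4,2,0,2,1],6803,3),
   ([4,0,0,3,1,4,4],6804,0),
   ([0,3,0,2,4,3,2],6804,3),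
   ([2,2,4,2,0,4,2],6805,0),
   ([3,1,0,2,1,0,2],6805,3),
   ([2,0,2,2,3,3,0],6806,1),
   ([1,0,1,1,3,3,0],6806,2),
   ([0,2,2,0,0,4,1],6809,2),
   ([4,1,2,1,1,1,3],6810,0),
   ([3,3,2,1,2,3,1],6811,1),
   ([2,1,2,4,2,0,2],6811,3),
   ([4,1,2,0,0,0,3],6813,0),
   ([4,0,0,0,4,1,3],6813,1),
   ([0,4,4,3,2,3,3],6813,2),
   ([2,4,2,4,2,3,3],6814,1),
   ([3,4,2,4,1,4,4],6816,0),
   ([0,3,1,0,1,3,2],6817,2),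
   ([1,0,0,1,3,0,3],6819,1),
   ([0,4,1,1,1,2,3],6819,2),
   ([1,0,1,2,3,3,3],6820,2),
   ([4,4,1,3,4,0,3],6821,1),
   ([3,1,0,0,1,2,3],6822,0),
   ([0,2,0,1,2,1,0],6823,1),
   ([2,2,0,0,2,4,0],6824,3),
   ([4,4,1,1,1,0,3],6825,1),
   ([1,4,0,0,1,0,2],6826,0),
   ([2,2,2,2,2,4,0],6826,3),
   ([4,4,2,1,0,3,0],6829,0),
   ([1,1,0,4,3,0,3],6829,1),
   ([0,1,0,4,1,2,3],6829,2),
   ([2,4,0,3,3,0,3],6830,2),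
   ([0,2,4,3,2,1,0],6831,1),
   ([2,0,1,2,4,0,1],6834,3),
   ([3,3,2,0,4,2,0],6835,1),
   ([1,2,3,4,0,4,1],6838,0),
   ([3,1,0,1,2,2,0],6838,1),
   ([2,2,0,2,2,2,0],6838,2),
   ([2,0,0,4,2,3,4],6838,3),
   ([4,2,0,3,4,0,4],6843,2),
   ([3,3,1,3,2,2,0],6845,2),
   ([1,1,0,3,3,2,3],6847,0),
   ([1,0,4,1,3,0,1],6847,3),
   ([2,0,2,3,0,3,3],6849,2),
   ([1,0,4,0,4,0,1],6850,2),
   ([4,4,2,1,2,2,3],6851,0),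
   ([1,0,4,4,2,1,0],6851,2),
   ([3,3,2,2,3,3,3],6852,0),
   ([3,1,2,2,4,0,1],6852,2),
   ([0,1,2,2,3,0,3],6852,3),
   ([3,0,2,4,4,3,0],6853,0),
   ([4,1,2,2,3,3,2],6855,3),
   ([2,2,2,0,2,1,0],6856,2),
   ([1,0,2,1,2,1,4],6856,3),
   ([1,3,2,1,2,2,0],6857,1),
   ([2,0,2,4,2,2,2],6857,3),
   ([4,1,3,1,1,4,1],6860,0),
   ([1,0,3,0,4,2,0],6863,0),
   ([0,4,1,2,1,0,1],6865,2),
   ([1,2,2,0,2,4,1],6867,2),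
   ([1,1,4,3,2,2,0],6868,1),
   ([2,1,0,3,0,0,3],6869,2),
   ([1,2,0,3,2,2,0],6870,1),
   ([3,2,1,4,2,2,0],6870,2),
   ([0,3,1,2,0,3,0],6871,1),
   ([0,4,2,4,0,3,0],6871,2),
   ([4,0,1,2,4,4,3],6875,3),
   ([0,3,2,0,3,3,3],6876,1),
   ([2,0,3,4,4,4,3],6877,1),
   ([3,3,3,3,2,1,1],6878,3),
   ([2,2,0,1,1,0,4],6879,0),
   ([1,4,3,4,2,2,0],6880,2),
   ([2,0,3,1,2,1,1],6880,3),
   ([3,4,2,4,3,3,3],6881,1),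
   ([0,3,2,0,0,1,2],6882,0),
   ([2,4,0,2,2,0,3],6883,0),
   ([3,3,1,4,2,1,3],6883,3),
   ([2,0,4,3,2,4,4],6884,2),
   ([3,3,2,1,2,0,3],6885,0),
   ([3,3,4,0,2,0,3],6885,3),
   ([2,3,3,0,3,0,4],6888,1),
   ([3,1,0,0,0,3,0],6891,1),
   ([0,2,0,4,4,1,2],6892,1),
   ([2,3,1,1,1,4,2],6892,2),
   ([3,1,0,3,1,2,1],6893,3),
   ([0,3,2,0,2,4,4],6894,2),
   ([3,1,4,0,1,4,4],6900,0),
   ([0,1,0,4,4,2,4],6901,0),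
   ([3,3,4,4,4,2,1],6902,0),
   ([4,3,0,0,2,0,3],6902,3),
   ([0,3,4,1,3,3,0],6904,2),
   ([2,2,2,1,2,4,1],6907,0),
   ([3,2,0,3,2,2,0],6909,1),
   ([3,3,1,2,3,3,4],6910,2),
   ([4,0,4,1,0,0,2],6911,1),
   ([2,4,2,3,2,3,2],6911,2),
   ([4,1,1,2,0,0,4],6914,1),
   ([1,3,2,4,1,1,4],6915,0),
   ([4,1,0,0,2,3,0],6915,2),
   ([3,0,0,3,2,1,2],6915,3),
   ([2,2,2,4,1,1,4],6919,0),
   ([1,2,2,1,3,0,2],6921,0),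
   ([3,1,4,1,4,4,2],6921,1),
   ([1,3,1,0,1,2,2],6921,2),
   ([2,2,1,2,4,3,4],6921,3),
   ([0,4,0,2,2,1,1],6923,3),
   ([2,1,0,3,4,0,3],6925,0),
   ([3,3,1,3,0,2,4],6925,3),
   ([0,1,1,4,2,4,4],6926,2),
   ([1,4,2,2,4,0,3],6927,0),
   ([3,3,4,4,0,4,0],6927,3),
   ([2,2,1,3,3,3,2],6929,0),
   ([4,2,1,0,0,4,0],6929,2),
   ([2,1,0,2,0,0,3],6930,2),
   ([0,3,0,2,2,3,3],6930,3)]

/-- A block of images of the fixed vector. -/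
def vOrbB105 : List (List ℕ × ℕ × ℕ) :=
  [([4,3,4,2,0,3,0],6932,1),
   ([2,2,0,0,0,3,4],6933,1),
   ([0,3,0,1,4,4,4],6933,2),
   ([4,3,0,0,0,0,3],6934,0),
   ([2,4,0,0,0,1,3],6934,1),
   ([3,3,0,0,0,2,1],6934,3),
   ([0,2,1,1,1,4,4],6935,0),
   ([0,3,0,0,3,1,1],6935,3),
   ([2,2,0,0,0,0,1],6936,0),
   ([4,2,4,4,3,3,3],6937,1),
   ([1,1,3,2,1,0,3],6938,1),
   ([0,1,0,4,4,2,3],6938,2),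
   ([2,3,0,1,1,0,4],6938,3),
   ([4,0,0,3,2,2,4],6942,1),
   ([4,3,4,0,4,0,4],6943,0),
   ([0,3,4,4,3,3,3],6945,2),
   ([3,3,4,2,0,1,3],6945,3),
   ([2,2,2,0,3,0,3],6946,0),
   ([0,2,4,4,4,4,4],6947,2),
   ([0,3,1,2,3,4,3],6948,3),
   ([3,2,1,2,0,0,2],6949,3),
   ([0,3,4,2,0,3,0],6950,1),
   ([1,4,2,1,1,3,3],6953,1),
   ([1,4,1,0,4,0,3],6953,2),
   ([2,1,2,4,1,3,2],6955,3),
   ([2,0,0,3,2,4,3],6957,0),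
   ([4,2,2,4,1,4,1],6957,3),
   ([3,2,1,2,2,3,0],6960,2),
   ([2,3,1,0,4,4,0],6962,3),
   ([2,0,1,4,2,0,3],6963,1),
   ([2,2,0,0,0,2,3],6963,2),
   ([4,0,1,0,2,1,0],6964,2),
   ([1,0,1,1,2,0,1],6964,3),
   ([4,1,1,4,2,4,0],6966,3),
   ([0,0,4,0,3,4,1],6970,1),
   ([3,1,2,4,4,3,1],6970,2),
   ([0,4,4,0,1,3,3],6972,2),
   ([0,4,0,1,0,3,0],6973,2),
   ([3,0,0,4,0,0,1],6973,3),
   ([1,4,3,1,0,3,0],6976,0),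
   ([2,3,2,4,0,4,0],6976,3),
   ([4,2,2,2,2,4,0],6977,2),
   ([0,2,3,3,0,2,3],6979,2),
   ([4,3,0,0,2,1,0],6980,1),
   ([0,2,2,0,3,2,3],6982,2),
   ([1,1,2,4,1,2,3],6983,0),
   ([1,0,0,3,2,0,1],6983,3),
   ([1,1,0,0,1,2,4],6985,1),
   ([0,1,1,4,4,1,2],6987,0),
   ([1,3,4,1,1,3,3],6987,3),
   ([1,4,3,3,1,0,3],6988,0),
   ([3,3,1,1,0,4,0],6988,3),
   ([2,1,1,4,2,1,1],6989,1),
   ([0,1,0,1,3,2,1],6990,1),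
   ([0,4,1,4,3,0,1],6991,2),
   ([2,3,0,3,3,2,1],6992,1),
   ([2,2,2,4,4,1,1],6992,2),
   ([3,2,3,1,4,1,1],6993,1),
   ([1,1,0,2,0,0,1],6993,2),
   ([4,4,4,1,3,1,0],6994,0),
   ([4,2,1,0,1,3,3],6995,2),
   ([3,3,1,3,3,0,1],6995,3),
   ([1,4,1,4,2,0,1],6997,2),
   ([4,2,1,2,2,2,2],6998,2),
   ([3,4,1,2,4,3,3],6999,0),
   ([1,4,2,4,3,1,1],6999,1),
   ([0,1,2,1,3,3,1],6999,3),
   ([1,3,1,2,4,4,4],7001,3),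
   ([2,2,3,4,1,3,3],7002,1),
   ([4,3,1,3,4,0,3],7002,2),
   ([4,4,0,2,3,0,4],7004,3),
   ([1,1,3,1,0,0,3],7005,2),
   ([2,3,3,0,0,0,1],7007,2),
   ([3,3,4,4,1,2,0],7011,1),
   ([1,1,0,4,1,2,0],7012,1),
   ([0,3,3,0,4,0,4],7014,1),
   ([0,4,2,0,3,1,4],7014,2),
   ([1,4,3,3,1,3,0],7015,2),
   ([1,0,4,4,1,3,4],7016,3),
   ([3,0,3,3,4,2,3],7017,0),
   ([0,3,0,2,3,3,3],7020,0),
   ([2,1,4,0,4,1,1],7020,1),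
   ([0,1,3,1,4,4,4],7020,3),
   ([2,2,4,4,4,2,3],7022,0),
   ([0,2,0,4,2,1,0],7022,2),
   ([1,0,0,0,2,0,2],7022,3),
   ([2,3,3,2,3,1,0],7023,0),
   ([2,0,4,0,0,0,1],7023,1),
   ([4,1,4,0,0,3,0],7023,3),
   ([3,0,4,4,1,1,3],7025,1),
   ([1,3,2,0,4,3,3],7025,2),
   ([0,1,4,1,3,4,1],7027,2),
   ([0,2,4,2,0,2,4],7028,2),
   ([2,0,4,1,1,3,2],7029,3),
   ([4,4,3,4,3,1,2],7031,2),
   ([4,3,4,2,1,1,0],7032,0),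
   ([1,3,2,0,4,4,1],7032,2),
   ([3,1,4,2,1,3,0],7034,3),
   ([4,0,4,4,1,2,1],7035,0),
   ([4,0,4,1,0,4,2],7036,2),
   ([3,3,3,3,1,0,1],7038,2),
   ([0,1,0,1,1,2,0],7040,2),
   ([2,0,0,3,1,0,3],7040,3),
   ([1,4,3,0,2,0,1],7043,1),
   ([4,1,0,3,2,3,1],7043,3),
   ([4,0,3,3,4,4,1],7044,0),
   ([3,3,0,1,4,2,3],7047,1),
   ([4,3,2,2,4,0,2],7047,3),
   ([3,4,3,2,3,1,2],7053,1),
   ([4,2,2,4,3,1,1],7053,3),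
   ([2,1,4,1,3,3,2],7060,2),
   ([0,0,4,0,3,1,4],7063,0),
   ([4,3,4,4,3,0,4],7065,1),
   ([3,0,1,1,4,1,3],7067,3),
   ([3,2,1,2,2,0,3],7068,0),
   ([3,3,3,2,4,2,0],7068,3),
   ([4,0,4,1,1,4,1],7069,3),
   ([4,1,4,1,2,3,2],7070,0),
   ([4,0,3,1,1,1,0],7070,3),
   ([4,2,0,4,0,0,2],7073,0),
   ([0,0,4,2,4,4,0],7076,3),
   ([1,4,4,2,3,0,4],7077,2),
   ([0,1,2,3,3,0,3],7079,0),
   ([3,3,3,2,2,3,3],7079,3),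
   ([4,0,3,0,2,0,4],7081,0)]

/-- A block of images of the fixed vector. -/
def vOrbB106 : List (List ℕ × ℕ × ℕ) :=
  [([2,3,1,4,2,0,3],7082,0),
   ([2,0,1,4,2,1,3],7082,1),
   ([3,3,0,2,2,3,0],7082,3),
   ([4,1,1,4,1,4,4],7083,0),
   ([2,0,3,2,2,3,0],7084,2),
   ([3,0,3,0,2,0,2],7084,3),
   ([4,2,3,2,1,1,0],7087,2),
   ([4,3,0,2,0,1,1],7088,1),
   ([3,0,1,1,2,0,2],7089,0),
   ([3,2,4,2,3,0,3],7092,0),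
   ([4,4,2,2,0,3,2],7096,3),
   ([1,1,0,0,1,4,1],7098,0),
   ([0,0,4,0,3,2,3],7102,0),
   ([1,0,4,2,4,1,0],7102,2),
   ([1,2,2,2,4,1,0],7103,2),
   ([1,0,2,3,4,2,3],7103,3),
   ([2,3,4,0,2,4,3],7104,3),
   ([0,1,3,0,3,2,3],7105,2),
   ([2,3,3,2,0,2,1],7105,3),
   ([1,0,0,3,4,4,1],7106,3),
   ([0,1,3,2,4,1,0],7107,1),
   ([1,4,3,2,0,4,2],7108,0),
   ([3,1,3,4,4,4,0],7108,3),
   ([0,0,4,3,4,2,3],7110,3),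
   ([3,2,2,0,0,1,3],7113,1),
   ([3,3,2,0,0,4,3],7113,3),
   ([4,0,4,4,4,2,3],7116,2),
   ([1,4,1,4,4,4,0],7118,3),
   ([2,4,0,4,4,2,3],7120,0),
   ([1,0,2,3,4,1,3],7120,3),
   ([2,2,2,1,2,2,4],7122,2),
   ([0,3,0,1,0,4,2],7124,3),
   ([4,0,2,3,4,1,2],7125,0),
   ([1,3,0,4,4,3,2],7125,3),
   ([0,4,0,1,0,3,4],7126,0),
   ([1,2,1,0,4,2,2],7126,3),
   ([1,4,0,2,0,3,3],7127,0),
   ([1,0,0,3,3,1,1],7127,1),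
   ([0,1,2,0,3,4,0],7127,3),
   ([2,1,4,2,0,0,3],7128,3),
   ([2,3,0,2,0,4,4],7130,3),
   ([0,2,4,4,3,2,2],7131,1),
   ([4,4,4,1,0,0,2],7131,2),
   ([2,2,2,0,0,4,0],7134,3),
   ([4,1,3,0,3,1,1],7135,0),
   ([4,0,4,2,2,2,2],7135,1),
   ([3,3,2,1,0,4,0],7136,2),
   ([0,4,2,0,3,1,0],7137,0),
   ([4,1,0,2,0,2,2],7137,3),
   ([3,2,4,1,4,0,4],7142,0),
   ([4,4,2,0,0,2,0],7142,3),
   ([4,0,2,0,3,0,4],7143,2),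
   ([0,4,2,0,4,4,0],7143,3),
   ([4,2,3,0,2,0,4],7147,0),
   ([2,2,4,0,3,2,2],7148,0),
   ([0,4,4,3,4,0,2],7148,3),
   ([0,4,3,2,1,3,3],7149,2),
   ([2,1,4,4,0,4,1],7151,0),
   ([2,0,2,2,4,2,4],7151,3),
   ([2,2,1,2,2,4,1],7152,0),
   ([1,2,3,4,4,2,0],7153,2),
   ([2,0,4,1,4,1,1],7155,3),
   ([4,1,1,0,3,3,3],7160,0),
   ([1,3,3,4,4,0,1],7160,2),
   ([3,2,3,3,1,1,0],7163,0),
   ([1,4,4,1,2,4,1],7165,0),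
   ([2,3,1,1,0,4,0],7166,0),
   ([4,0,4,3,2,2,2],7167,2),
   ([3,3,4,4,3,3,0],7168,2),
   ([3,1,3,4,0,0,1],7169,0),
   ([4,3,0,1,2,2,1],7169,1),
   ([1,4,1,2,2,2,2],7170,2),
   ([1,2,3,4,0,0,3],7172,3),
   ([4,0,2,0,2,2,2],7176,1),
   ([4,1,0,1,0,2,0],7177,2),
   ([3,3,0,1,1,0,1],7179,0),
   ([4,0,2,3,3,3,0],7180,2),
   ([3,4,2,0,2,1,4],7181,0),
   ([3,0,3,0,3,3,1],7181,3),
   ([1,2,4,4,0,4,1],7182,2),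
   ([0,1,4,2,2,2,4],7184,2),
   ([2,2,1,2,0,4,2],7185,0),
   ([3,3,0,3,0,4,1],7185,1),
   ([1,1,4,0,1,3,1],7185,2),
   ([0,3,2,1,3,1,4],7188,1),
   ([1,3,1,1,0,1,1],7189,1),
   ([0,1,4,1,0,2,2],7189,3),
   ([4,4,2,0,0,3,1],7190,0),
   ([1,4,2,0,0,3,4],7193,3),
   ([1,3,4,1,4,0,2],7197,3),
   ([0,2,0,4,4,1,3],7198,0),
   ([3,4,2,2,4,1,4],7198,1),
   ([2,4,2,3,4,1,1],7198,3),
   ([2,1,0,1,2,0,4],7200,0),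
   ([4,0,0,4,3,2,2],7201,0),
   ([2,0,0,1,1,0,4],7201,2),
   ([1,1,2,1,0,3,1],7202,0),
   ([3,4,0,1,3,0,1],7202,3),
   ([3,4,0,1,4,0,1],7205,3),
   ([4,4,2,3,3,1,1],7206,3),
   ([3,3,2,1,0,1,2],7208,0),
   ([2,2,1,3,2,0,2],7211,0),
   ([0,2,4,4,1,3,2],7213,1),
   ([2,0,4,2,0,4,3],7214,2),
   ([4,3,4,1,2,4,3],7214,3),
   ([3,4,3,1,1,1,3],7217,3),
   ([3,3,0,3,0,0,2],7218,0),
   ([2,0,3,3,4,2,2],7218,2),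
   ([0,2,0,3,4,2,2],7219,3),
   ([0,2,3,4,4,2,3],7221,1),
   ([3,0,0,2,1,3,2],7222,1),
   ([4,2,1,1,3,3,4],7223,3),
   ([3,1,2,3,3,1,2],7224,1),
   ([2,0,2,2,1,0,2],7226,3),
   ([3,2,0,3,3,1,1],7227,2),
   ([0,4,3,1,2,2,2],7228,1),
   ([2,4,0,4,3,2,3],7232,0),
   ([1,0,0,1,2,1,3],7232,3),
   ([3,1,0,3,3,0,2],7233,2),
   ([4,4,0,1,4,4,1],7237,1),
   ([2,3,0,0,4,2,4],7238,1),
   ([3,4,1,0,4,2,2],7240,0),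
   ([0,4,4,4,2,0,4],7242,0),
   ([1,3,1,4,3,3,4],7242,1),
   ([2,1,1,2,2,4,4],7242,2)]

/-- A block of images of the fixed vector. -/
def vOrbB107 : List (List ℕ × ℕ × ℕ) :=
  [([1,3,1,0,4,1,1],7243,3),
   ([3,0,1,3,4,0,4],7249,2),
   ([0,3,0,3,1,3,1],7250,0),
   ([2,2,0,1,2,0,4],7251,0),
   ([4,4,0,4,3,0,2],7251,3),
   ([1,0,4,3,1,2,2],7253,0),
   ([0,2,3,1,2,4,4],7253,1),
   ([1,2,0,0,4,4,0],7255,0),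
   ([4,1,3,2,2,1,4],7255,2),
   ([2,0,0,1,2,3,4],7256,3),
   ([1,4,0,0,2,2,0],7257,2),
   ([0,4,0,0,2,2,2],7259,1),
   ([4,0,2,3,4,0,2],7259,2),
   ([3,4,2,2,0,1,0],7261,3),
   ([0,4,0,3,1,1,2],7264,0),
   ([2,0,3,3,0,3,3],7266,2),
   ([0,4,1,4,0,3,3],7267,1),
   ([2,2,4,3,1,4,0],7268,0),
   ([4,2,3,3,3,3,2],7269,2),
   ([3,4,3,2,3,0,4],7271,2),
   ([0,3,3,1,2,1,4],7272,2),
   ([4,3,4,2,2,1,4],7274,2),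
   ([0,1,4,4,1,1,4],7275,0),
   ([3,2,4,1,1,3,0],7275,2),
   ([3,0,4,4,1,3,3],7275,3),
   ([3,2,4,3,3,4,4],7276,0),
   ([1,1,2,3,4,0,3],7276,2),
   ([3,1,0,2,1,1,4],7277,2),
   ([1,4,2,0,3,4,2],7278,2),
   ([1,1,4,4,0,1,4],7282,0),
   ([4,4,0,1,4,3,0],7282,1),
   ([3,2,2,4,2,0,3],7283,0),
   ([0,2,2,0,4,3,4],7286,1),
   ([0,1,2,2,0,4,4],7287,0),
   ([3,4,2,1,2,3,2],7288,3),
   ([0,1,1,3,1,0,4],7289,0),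
   ([4,4,2,0,1,3,3],7289,3),
   ([2,1,2,3,4,1,2],7290,2),
   ([1,2,2,4,2,1,1],7290,3),
   ([0,4,3,2,4,4,3],7291,1),
   ([0,4,0,3,2,1,3],7292,1),
   ([4,4,3,0,3,3,0],7293,3),
   ([4,4,0,4,2,1,3],7294,1),
   ([3,3,4,2,2,0,1],7294,3),
   ([0,2,4,1,4,4,4],7295,0),
   ([2,4,2,0,3,0,3],7295,2),
   ([0,3,2,0,0,1,1],7295,3),
   ([4,1,2,0,2,0,2],7296,3),
   ([4,2,2,1,2,1,4],7297,1),
   ([2,4,1,2,0,3,4],7301,1),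
   ([0,4,3,0,2,1,3],7302,1),
   ([1,2,0,0,0,3,3],7302,2),
   ([3,3,0,3,2,4,1],7302,3),
   ([0,3,3,3,1,4,4],7303,0),
   ([0,3,1,1,0,4,4],7303,3),
   ([2,1,1,2,3,4,1],7306,3),
   ([4,1,2,4,2,0,1],7308,0),
   ([2,4,2,4,0,1,1],7308,2),
   ([4,2,1,0,4,1,0],7310,2),
   ([3,3,0,0,1,2,1],7312,1),
   ([4,0,1,3,2,1,1],7312,2),
   ([0,2,1,1,1,4,1],7313,2),
   ([1,3,4,2,1,0,2],7315,2),
   ([0,1,0,4,0,2,0],7316,0),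
   ([4,1,0,1,1,1,1],7318,0),
   ([0,2,3,2,1,1,0],7318,3),
   ([0,2,4,1,3,2,0],7319,0),
   ([4,2,0,0,0,3,2],7319,2),
   ([4,0,1,2,3,3,2],7321,0),
   ([0,3,4,0,1,4,0],7321,1),
   ([3,1,0,2,3,2,1],7323,1),
   ([0,3,4,2,4,0,2],7326,2),
   ([0,2,4,2,2,1,1],7326,3),
   ([4,1,0,1,4,0,2],7327,1),
   ([1,0,3,0,3,3,3],7328,0),
   ([0,1,2,0,2,2,3],7328,3),
   ([1,0,0,2,1,4,1],7329,1),
   ([1,0,1,4,4,2,4],7330,1),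
   ([0,2,3,2,0,2,0],7332,3),
   ([0,1,4,1,2,0,2],7333,1),
   ([0,1,4,1,4,3,2],7333,2),
   ([3,2,4,4,2,1,4],7333,3),
   ([1,2,0,1,1,1,0],7341,2),
   ([2,3,4,1,1,0,2],7343,1),
   ([2,1,3,1,3,0,2],7344,1),
   ([2,4,4,0,0,3,2],7344,2),
   ([4,0,4,4,1,1,1],7345,3),
   ([4,3,4,0,1,4,0],7348,2),
   ([1,2,0,3,2,3,2],7349,0),
   ([4,0,2,4,1,3,4],7349,3),
   ([4,3,2,2,4,1,4],7351,2),
   ([2,0,3,4,0,0,4],7352,1),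
   ([4,4,4,4,0,1,3],7353,0),
   ([3,3,2,0,3,2,4],7353,2),
   ([2,4,2,2,4,0,4],7353,3),
   ([0,1,0,1,0,2,0],7354,2),
   ([2,0,4,1,0,1,4],7355,3),
   ([0,2,0,3,3,2,1],7356,1),
   ([2,2,4,2,0,2,0],7357,3),
   ([4,3,1,4,2,1,1],7358,0),
   ([2,4,1,4,2,2,2],7358,1),
   ([0,2,0,2,2,2,1],7358,3),
   ([3,3,2,0,3,4,1],7359,0),
   ([0,4,0,0,0,2,0],7359,2),
   ([4,1,0,3,2,2,2],7360,1),
   ([3,4,2,3,2,4,1],7362,0),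
   ([2,1,1,1,4,0,2],7363,1),
   ([4,0,3,4,0,2,2],7366,3),
   ([3,3,0,0,0,3,2],7367,0),
   ([0,3,0,1,0,4,0],7367,2),
   ([4,1,4,0,1,1,1],7368,0),
   ([0,2,0,4,0,1,0],7368,3),
   ([3,0,0,3,0,0,2],7369,0),
   ([0,1,0,2,2,4,2],7369,1),
   ([2,4,4,3,2,1,1],7372,0),
   ([4,4,0,1,1,0,2],7372,2),
   ([1,2,0,0,0,4,0],7373,2),
   ([4,2,4,1,4,3,2],7374,0),
   ([4,0,2,0,0,4,3],7374,3),
   ([3,3,4,1,2,2,2],7375,1),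
   ([1,1,4,4,4,0,2],7375,2),
   ([4,3,4,0,2,3,2],7376,2),
   ([1,1,4,2,0,4,0],7377,1),
   ([4,1,2,3,0,4,0],7378,1),
   ([3,2,4,1,0,1,0],7379,2)]

/-- A block of images of the fixed vector. -/
def vOrbB108 : List (List ℕ × ℕ × ℕ) :=
  [([1,0,4,2,0,3,1],7379,3),
   ([4,3,4,1,3,1,1],7380,3),
   ([2,2,4,0,0,1,2],7381,2),
   ([0,0,4,3,4,1,1],7386,3),
   ([3,3,4,2,0,3,0],7387,0),
   ([2,3,0,2,1,0,3],7387,3),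
   ([2,2,3,3,2,4,4],7392,2),
   ([0,2,0,2,3,2,4],7393,0),
   ([3,1,0,2,3,0,2],7394,0),
   ([3,3,3,4,1,2,2],7394,2),
   ([1,2,1,4,2,4,4],7395,1),
   ([0,4,0,2,2,1,3],7395,3),
   ([3,1,4,1,3,3,3],7399,1),
   ([2,1,1,3,2,2,3],7401,2),
   ([2,3,1,0,4,2,2],7401,3),
   ([1,4,1,0,4,4,4],7403,0),
   ([1,2,0,1,3,0,3],7403,2),
   ([1,3,0,2,2,0,1],7404,2),
   ([2,4,3,3,4,4,0],7406,1),
   ([4,4,2,0,1,2,2],7411,2),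
   ([2,0,4,1,0,0,4],7412,2),
   ([4,0,4,1,3,0,4],7414,0),
   ([0,3,4,1,3,3,4],7414,1),
   ([4,0,3,0,3,2,2],7415,0),
   ([0,3,4,2,2,4,4],7415,1),
   ([2,2,2,0,0,0,1],7418,2),
   ([2,2,2,0,2,3,2],7419,0),
   ([4,0,3,0,3,0,2],7419,3),
   ([1,1,3,2,4,2,1],7420,2),
   ([2,2,3,2,2,4,4],7421,2),
   ([2,3,0,1,4,2,2],7422,0),
   ([2,0,2,0,2,4,4],7422,1),
   ([3,1,4,3,1,0,4],7422,2),
   ([1,3,2,2,0,2,2],7424,0),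
   ([0,3,1,0,4,4,2],7425,2),
   ([2,3,2,4,2,0,2],7426,0),
   ([2,0,1,4,4,4,2],7426,1),
   ([2,1,3,0,0,2,2],7427,1),
   ([3,4,1,1,1,1,2],7428,1),
   ([0,3,0,2,2,3,4],7431,1),
   ([4,4,3,1,1,4,4],7431,2),
   ([0,1,0,0,0,3,0],7432,2),
   ([2,3,4,1,3,3,0],7433,1),
   ([3,0,0,3,3,1,2],7433,3),
   ([1,4,0,2,3,3,3],7434,1),
   ([4,0,0,3,3,2,4],7436,0),
   ([2,3,2,3,2,4,2],7441,3),
   ([0,4,0,4,1,3,4],7443,1),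
   ([3,2,2,0,2,2,4],7446,2),
   ([0,4,3,2,4,4,2],7448,3),
   ([3,2,1,1,4,1,2],7449,2),
   ([4,3,2,3,4,0,2],7450,2),
   ([0,4,4,0,2,4,2],7451,1),
   ([0,3,1,1,4,2,2],7451,2),
   ([1,4,1,2,4,3,4],7452,2),
   ([3,0,1,3,4,4,4],7453,1),
   ([1,2,3,2,1,3,4],7454,1),
   ([4,4,0,1,1,1,3],7454,3),
   ([0,2,4,4,4,4,0],7455,0),
   ([1,4,0,0,2,1,1],7455,3),
   ([4,1,4,0,0,4,4],7457,2),
   ([1,1,4,3,3,2,1],7458,0),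
   ([3,2,4,2,0,0,2],7461,1),
   ([3,2,0,2,0,4,3],7461,3),
   ([3,0,0,3,2,3,2],7462,1),
   ([2,1,1,0,4,1,2],7462,2),
   ([4,2,4,3,0,1,2],7463,0),
   ([1,3,1,2,0,4,3],7463,3),
   ([2,1,3,0,2,4,0],7464,3),
   ([2,4,1,2,3,2,3],7465,1),
   ([4,3,0,4,3,2,1],7465,3),
   ([2,3,0,3,0,1,2],7466,3),
   ([4,1,0,2,0,3,1],7468,1),
   ([2,2,3,1,1,3,3],7473,1),
   ([3,2,2,0,4,0,3],7473,2),
   ([1,1,4,1,1,4,3],7479,1),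
   ([1,3,3,0,1,0,4],7479,3),
   ([1,0,4,3,2,3,3],7480,2),
   ([0,4,4,4,1,4,0],7481,0),
   ([1,4,4,4,1,2,2],7481,3),
   ([4,1,0,0,3,4,4],7482,2),
   ([2,2,0,4,1,0,4],7486,2),
   ([1,1,3,3,3,1,3],7487,2),
   ([0,3,0,4,3,4,0],7488,3),
   ([2,1,3,0,2,0,3],7489,0),
   ([3,3,0,4,0,2,3],7490,2),
   ([4,3,1,2,3,3,3],7492,1),
   ([0,1,0,4,2,2,4],7493,0),
   ([4,1,1,3,3,3,4],7496,0),
   ([0,1,0,2,1,4,3],7497,2),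
   ([3,1,1,4,0,2,0],7498,0),
   ([3,4,4,3,3,3,2],7499,1),
   ([4,0,1,1,0,1,2],7500,0),
   ([0,3,0,4,1,4,3],7500,1),
   ([1,3,3,3,1,3,2],7500,3),
   ([3,3,3,0,4,2,2],7501,3),
   ([4,1,0,1,2,1,1],7505,3),
   ([1,1,2,1,0,4,2],7506,0),
   ([3,1,0,1,3,0,1],7506,3),
   ([3,4,0,4,3,0,1],7507,2),
   ([4,2,2,0,3,4,1],7508,1),
   ([2,3,0,4,4,3,1],7508,2),
   ([0,1,0,0,4,3,1],7509,0),
   ([3,0,4,4,1,2,3],7512,1),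
   ([3,1,2,2,0,3,3],7514,1),
   ([3,3,4,3,4,4,4],7515,2),
   ([3,3,3,2,0,3,0],7519,2),
   ([2,0,2,1,0,0,4],7520,3),
   ([2,4,0,1,2,1,1],7521,0),
   ([0,2,0,4,3,1,3],7521,3),
   ([3,1,0,3,1,3,3],7523,2),
   ([4,0,4,3,2,4,2],7524,0),
   ([0,3,1,0,4,4,1],7524,1),
   ([3,1,0,1,4,3,2],7524,3),
   ([0,4,2,1,1,1,2],7526,2),
   ([0,4,3,4,0,3,3],7527,1),
   ([1,2,0,4,3,0,3],7527,2),
   ([2,2,4,1,0,2,1],7529,2),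
   ([4,1,2,4,0,0,2],7532,1),
   ([3,0,4,1,0,3,1],7534,1),
   ([3,2,3,2,2,3,2],7536,1),
   ([2,2,0,3,2,1,4],7538,1),
   ([4,2,1,4,1,2,4],7538,2),
   ([1,1,1,1,3,3,3],7539,2),
   ([3,0,2,1,0,0,1],7540,0)]

/-- A block of images of the fixed vector. -/
def vOrbB109 : List (List ℕ × ℕ × ℕ) :=
  [([0,1,0,4,3,2,1],7540,1),
   ([4,2,0,0,4,1,1],7540,2),
   ([1,1,0,1,3,1,4],7540,3),
   ([4,0,1,1,2,2,4],7542,2),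
   ([0,4,2,3,0,1,4],7543,3),
   ([4,0,0,3,1,2,4],7544,1),
   ([3,4,0,2,1,1,0],7544,3),
   ([2,1,3,4,4,0,3],7546,1),
   ([3,0,1,3,1,1,0],7547,2),
   ([1,0,1,4,1,1,2],7547,3),
   ([1,1,0,1,3,4,2],7548,2),
   ([3,2,0,3,4,4,3],7551,1),
   ([3,4,3,3,2,1,3],7551,2),
   ([3,4,3,4,4,3,1],7552,0),
   ([3,3,1,0,0,0,4],7553,1),
   ([1,1,2,3,4,3,1],7555,2),
   ([2,1,1,0,4,2,0],7556,2),
   ([2,1,4,0,4,2,4],7558,1),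
   ([3,0,3,3,3,3,4],7558,2),
   ([2,2,4,1,3,3,1],7560,3),
   ([1,3,0,3,3,0,1],7563,3),
   ([2,0,0,0,2,4,1],7564,1),
   ([0,3,2,0,3,3,1],7564,2),
   ([2,3,2,4,4,2,3],7569,2),
   ([1,1,4,3,1,3,0],7570,2),
   ([3,2,3,2,4,3,0],7571,0),
   ([2,3,1,2,2,2,0],7571,3),
   ([4,2,3,1,4,3,3],7572,1),
   ([4,4,0,4,3,3,0],7573,0),
   ([0,1,0,4,0,2,3],7573,2),
   ([1,4,4,2,0,1,0],7574,1),
   ([2,2,2,2,2,1,2],7575,1),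
   ([3,2,2,3,2,3,1],7577,0),
   ([3,0,1,0,0,2,4],7577,1),
   ([2,3,0,4,2,2,2],7578,2),
   ([2,2,0,1,0,3,2],7578,3),
   ([2,1,0,0,2,0,1],7581,1),
   ([3,1,1,1,0,2,0],7582,2),
   ([2,0,1,3,0,1,3],7582,3),
   ([1,2,4,3,1,4,0],7585,0),
   ([4,3,3,3,1,1,4],7585,2),
   ([1,4,3,4,2,3,4],7585,3),
   ([0,1,0,2,1,4,2],7587,0),
   ([4,2,3,2,0,4,1],7587,1),
   ([3,1,4,2,0,3,3],7587,3),
   ([0,4,0,2,4,1,3],7588,0),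
   ([3,2,0,1,0,2,4],7588,2),
   ([3,4,0,4,0,0,1],7589,3),
   ([1,3,0,0,2,0,2],7590,0),
   ([0,4,4,2,1,2,2],7590,2),
   ([3,0,0,2,4,2,2],7594,0),
   ([4,2,0,3,0,0,4],7594,2),
   ([0,4,0,3,1,1,4],7594,3),
   ([1,3,0,0,4,4,4],7595,1),
   ([0,4,4,4,1,4,4],7602,1),
   ([0,2,4,4,2,0,3],7604,2),
   ([4,4,2,1,0,1,3],7605,2),
   ([0,4,4,4,4,2,2],7606,0),
   ([1,1,0,2,1,3,4],7607,1),
   ([3,3,3,3,0,1,3],7608,3),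
   ([3,2,0,0,2,0,4],7611,3),
   ([4,2,2,2,1,1,4],7612,2),
   ([0,1,0,0,2,3,1],7613,1),
   ([2,3,4,3,4,3,2],7616,1),
   ([4,1,0,0,2,0,3],7618,1),
   ([2,2,4,4,0,1,0],7619,1),
   ([0,1,1,1,2,4,2],7620,2),
   ([3,1,2,3,4,4,4],7622,0),
   ([1,1,0,4,2,0,3],7622,2),
   ([0,3,0,4,4,4,2],7622,3),
   ([0,3,0,0,2,1,1],7626,3),
   ([0,4,0,1,3,3,0],7627,0),
   ([1,3,2,4,3,2,3],7627,2),
   ([2,3,2,1,0,2,2],7627,3),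
   ([0,3,1,4,2,3,1],7631,0),
   ([3,4,0,2,2,4,4],7631,3),
   ([0,1,4,1,2,0,4],7632,0),
   ([4,4,3,1,1,3,3],7632,3),
   ([0,2,0,3,0,2,2],7633,0),
   ([1,2,4,1,4,3,3],7634,2),
   ([3,1,0,4,4,4,4],7635,0),
   ([4,4,2,3,2,0,3],7635,2),
   ([0,3,2,3,4,4,2],7635,3),
   ([0,2,4,1,1,3,2],7636,1),
   ([1,3,0,1,1,3,2],7638,3),
   ([4,3,0,3,3,0,4],7643,0),
   ([4,4,4,1,3,2,1],7643,3),
   ([1,3,0,2,1,3,0],7645,3),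
   ([3,2,2,0,2,3,3],7646,2),
   ([3,3,2,3,4,0,1],7646,3),
   ([0,4,2,1,0,3,4],7648,1),
   ([1,4,2,3,4,0,3],7649,0),
   ([4,0,1,3,1,3,0],7651,1),
   ([2,4,1,0,1,4,1],7652,2),
   ([0,1,0,4,3,2,0],7653,2),
   ([1,3,4,3,0,1,4],7654,0),
   ([3,2,3,4,2,1,3],7656,1),
   ([4,2,0,0,3,0,3],7657,2),
   ([0,3,0,0,0,1,3],7657,3),
   ([3,0,0,1,3,1,1],7659,3),
   ([2,3,4,1,3,0,3],7660,2),
   ([0,3,4,1,0,4,4],7660,3),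
   ([4,4,4,1,4,0,3],7663,0),
   ([2,4,4,4,0,3,0],7664,1),
   ([2,4,1,1,0,3,0],7664,2),
   ([1,1,0,1,1,0,3],7665,2),
   ([0,3,0,1,3,4,1],7665,3),
   ([3,1,0,0,3,3,0],7666,0),
   ([2,4,2,0,2,2,3],7668,2),
   ([1,0,3,1,0,2,3],7669,0),
   ([3,4,4,2,0,1,0],7670,2),
   ([1,3,1,3,0,3,0],7671,0),
   ([4,2,0,1,2,2,3],7671,2),
   ([1,2,1,1,0,1,0],7672,2),
   ([1,4,0,3,4,2,4],7673,0),
   ([2,1,1,3,0,4,0],7673,3),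
   ([1,4,3,1,1,4,1],7675,0),
   ([2,0,4,4,2,2,0],7675,2),
   ([3,4,0,0,2,4,1],7678,0),
   ([2,0,4,4,4,3,1],7678,3),
   ([0,2,0,2,4,2,0],7679,1),
   ([3,1,0,1,4,2,0],7679,2),
   ([2,3,0,3,0,2,1],7680,2),
   ([2,0,4,1,4,2,1],7681,1),
   ([2,2,2,4,3,0,1],7682,3)]

/-- A block of images of the fixed vector. -/
def vOrbB110 : List (List ℕ × ℕ × ℕ) :=
  [([1,0,1,1,1,2,2],7689,3),
   ([0,3,1,1,1,1,0],7690,2),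
   ([1,0,2,3,3,2,0],7691,1),
   ([2,3,4,3,3,2,0],7691,2),
   ([2,0,4,0,3,4,0],7691,3),
   ([1,2,0,3,3,2,0],7692,1),
   ([1,1,4,3,4,2,2],7694,3),
   ([1,2,4,0,1,0,3],7695,2),
   ([4,1,0,4,2,0,2],7697,2),
   ([1,3,4,0,2,2,0],7698,0),
   ([2,2,2,3,4,3,2],7698,2),
   ([3,1,2,1,4,1,2],7702,3),
   ([0,4,0,0,4,2,4],7706,1),
   ([0,1,4,4,0,2,1],7707,3),
   ([1,3,4,2,1,3,1],7708,0),
   ([2,3,3,1,0,2,2],7711,2),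
   ([4,0,4,4,0,2,2],7713,1),
   ([4,2,4,0,0,4,0],7715,3),
   ([2,2,3,2,0,4,2],7716,0),
   ([3,1,3,4,4,0,2],7716,3),
   ([0,4,4,2,0,1,3],7718,0),
   ([3,0,0,0,0,2,4],7718,2),
   ([4,1,0,3,0,2,2],7720,1),
   ([4,0,2,1,1,1,4],7722,2),
   ([4,4,4,0,0,1,4],7724,1),
   ([2,4,4,0,0,0,1],7724,3),
   ([1,0,2,1,1,4,1],7728,2),
   ([1,4,4,2,0,0,1],7729,2),
   ([2,2,4,4,3,4,2],7730,2),
   ([1,2,1,2,0,0,1],7731,1),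
   ([1,3,3,1,2,3,1],7732,2),
   ([3,3,1,3,4,0,4],7736,3),
   ([4,2,4,0,2,3,0],7737,0),
   ([4,1,2,3,4,1,1],7739,3),
   ([2,1,2,3,4,4,1],7740,2),
   ([3,1,0,1,0,0,1],7746,1),
   ([2,3,0,2,1,1,2],7749,1),
   ([3,2,3,2,1,3,3],7751,3),
   ([1,4,4,2,1,3,4],7753,0),
   ([4,2,2,3,0,1,2],7753,2),
   ([1,2,2,4,3,4,0],7753,3),
   ([0,2,2,2,1,3,1],7755,0),
   ([3,4,3,2,4,2,4],7755,1),
   ([1,0,2,0,0,1,2],7756,2),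
   ([4,2,3,3,4,2,2],7757,0),
   ([2,3,1,1,4,4,3],7759,3),
   ([3,2,4,1,2,2,3],7763,1),
   ([1,3,3,2,2,4,2],7765,3),
   ([3,3,3,0,2,2,4],7766,3),
   ([2,1,0,2,3,2,4],7768,1),
   ([2,1,4,1,2,3,4],7768,2),
   ([3,4,4,4,3,4,4],7768,3),
   ([0,4,3,1,1,0,2],7771,1),
   ([1,2,4,3,1,2,1],7772,0),
   ([4,0,3,0,0,4,3],7772,2),
   ([1,3,2,2,1,3,3],7773,0),
   ([0,1,3,3,4,1,2],7773,3),
   ([2,3,3,0,1,0,2],7774,1),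
   ([3,4,2,2,1,1,1],7776,0),
   ([3,2,4,4,3,0,2],7780,2),
   ([4,2,0,2,0,2,0],7781,0),
   ([3,2,0,3,3,0,2],7781,1),
   ([3,2,2,0,3,4,3],7781,3),
   ([2,0,1,3,3,4,4],7782,1),
   ([2,1,0,3,0,4,0],7783,2),
   ([4,2,0,3,2,0,4],7784,2),
   ([2,2,3,3,2,2,2],7786,0),
   ([3,3,1,0,2,4,4],7786,1),
   ([2,4,3,3,1,0,4],7786,2),
   ([0,4,3,3,2,0,2],7786,3),
   ([3,2,4,1,2,4,1],7787,3),
   ([1,4,1,0,2,3,2],7788,3),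
   ([0,1,1,1,1,3,0],7789,2),
   ([2,4,4,0,1,3,0],7790,1),
   ([3,4,3,2,1,3,0],7791,2),
   ([0,4,0,4,3,3,4],7795,1),
   ([1,2,0,1,4,4,1],7797,1),
   ([0,2,0,4,0,1,4],7798,1),
   ([2,3,0,1,4,0,4],7799,2),
   ([0,1,4,4,2,0,4],7801,0),
   ([4,0,1,0,4,3,2],7803,0),
   ([0,3,2,1,0,4,0],7803,1),
   ([0,1,2,3,4,2,2],7805,0),
   ([0,4,0,4,4,3,3],7805,3),
   ([4,0,0,4,4,0,2],7806,3),
   ([0,1,0,0,3,3,2],7810,0),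
   ([0,3,0,2,4,3,4],7813,1),
   ([2,0,0,4,3,4,4],7813,2),
   ([4,3,0,1,4,4,0],7814,0),
   ([1,4,4,3,2,2,1],7814,3),
   ([1,1,2,1,0,2,0],7820,2),
   ([1,0,1,3,1,4,0],7822,1),
   ([2,1,3,2,1,0,4],7823,2),
   ([0,2,3,1,1,0,4],7826,1),
   ([3,3,0,2,1,3,0],7829,2),
   ([2,0,1,1,0,3,4],7830,2),
   ([2,3,1,1,3,4,1],7831,2),
   ([0,2,1,2,2,3,1],7833,2),
   ([4,2,4,3,2,2,3],7835,2),
   ([2,0,2,2,3,2,0],7836,0),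
   ([3,2,2,2,3,4,1],7836,3),
   ([0,3,0,3,4,3,4],7837,0),
   ([1,2,1,3,0,4,4],7837,3),
   ([4,3,4,2,2,0,2],7842,3),
   ([1,1,3,3,0,4,0],7847,2),
   ([2,0,3,2,0,2,3],7849,0),
   ([2,3,0,3,1,2,1],7852,3),
   ([3,4,0,2,4,2,3],7853,1),
   ([1,1,0,2,1,1,2],7854,3),
   ([1,4,2,3,4,1,2],7855,2),
   ([4,1,2,3,4,2,0],7857,2),
   ([4,1,0,3,3,4,0],7861,2),
   ([4,4,4,2,4,4,4],7863,1),
   ([4,4,1,3,2,4,0],7864,2),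
   ([3,1,1,1,4,2,2],7865,0),
   ([0,4,1,1,4,4,2],7865,3),
   ([4,3,2,0,1,4,3],7867,3),
   ([2,2,4,3,4,4,4],7870,1),
   ([3,2,0,0,3,0,4],7872,1),
   ([4,3,2,2,2,0,3],7875,3),
   ([3,4,4,2,0,0,2],7876,0),
   ([2,1,2,4,3,2,2],7877,1),
   ([4,3,2,1,0,0,2],7877,2),
   ([1,3,4,3,4,4,2],7880,1),
   ([0,4,2,1,4,0,2],7881,2)]

/-- A block of images of the fixed vector. -/
def vOrbB111 : List (List ℕ × ℕ × ℕ) :=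
  [([4,1,1,0,1,3,1],7883,1),
   ([1,3,2,4,1,4,3],7885,0),
   ([1,0,2,2,2,0,2],7886,2),
   ([4,2,0,2,1,0,4],7889,0),
   ([4,4,4,2,0,4,3],7889,3),
   ([4,0,0,2,3,0,4],7890,2),
   ([2,3,1,2,0,4,4],7893,0),
   ([2,0,0,3,0,3,3],7893,1),
   ([1,2,2,0,4,4,2],7894,3),
   ([4,0,4,0,2,2,1],7895,0),
   ([3,4,3,2,2,2,1],7900,0),
   ([0,1,2,4,1,4,3],7900,2),
   ([4,3,2,3,3,3,1],7900,3),
   ([2,2,2,2,4,0,4],7902,2),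
   ([1,4,3,0,2,2,4],7903,1),
   ([4,2,1,3,1,3,4],7904,1),
   ([3,4,4,0,4,1,0],7906,3),
   ([4,4,2,0,3,2,1],7908,0),
   ([4,2,2,1,0,0,2],7909,3),
   ([1,0,0,2,0,2,1],7913,3),
   ([1,4,0,1,1,2,1],7914,2),
   ([4,3,0,0,3,4,1],7915,1),
   ([3,1,3,2,3,4,2],7915,3),
   ([1,4,2,4,3,3,4],7918,0),
   ([2,4,0,0,3,3,2],7920,0),
   ([3,2,0,4,4,1,0],7921,2),
   ([1,3,0,2,4,4,3],7923,0),
   ([4,0,0,4,3,4,2],7923,2),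
   ([4,2,0,3,1,1,2],7923,3),
   ([2,1,0,3,1,2,4],7925,0),
   ([2,1,0,2,4,2,4],7925,3),
   ([1,2,0,0,3,1,4],7926,0),
   ([3,0,1,2,3,4,1],7929,1),
   ([2,1,0,4,3,2,0],7931,2),
   ([2,4,0,1,1,3,0],7932,3),
   ([4,1,2,4,2,4,2],7933,2),
   ([2,0,4,4,4,0,1],7937,1),
   ([2,4,0,3,0,4,1],7938,1),
   ([1,0,0,3,0,1,1],7941,1),
   ([3,1,2,2,2,1,1],7944,2),
   ([4,2,1,3,2,0,1],7948,0),
   ([2,4,2,3,1,4,0],7949,3),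
   ([2,1,4,1,4,1,4],7951,3),
   ([0,3,4,1,1,2,2],7956,0),
   ([0,4,1,4,4,4,4],7956,3),
   ([4,3,1,1,1,0,3],7957,3),
   ([1,2,2,0,2,0,3],7961,0),
   ([3,3,3,0,3,3,4],7961,3),
   ([1,3,2,4,1,0,1],7963,2),
   ([0,1,2,4,0,2,0],7963,3),
   ([3,1,2,4,0,0,1],7968,2),
   ([3,3,1,2,4,2,1],7969,1),
   ([3,4,0,0,3,0,4],7972,2),
   ([4,0,2,4,0,0,2],7974,2),
   ([3,0,4,3,3,4,3],7980,1),
   ([4,0,4,0,3,2,0],7981,2),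
   ([1,1,4,4,3,4,0],7984,3),
   ([2,1,4,0,1,0,4],7985,2),
   ([0,4,4,0,2,4,4],7985,3),
   ([0,4,4,3,3,4,0],7986,2),
   ([2,1,1,3,1,4,2],7989,0),
   ([1,2,4,4,2,3,1],7990,1),
   ([2,0,3,3,2,3,0],7992,0),
   ([0,4,1,0,2,0,3],7992,1),
   ([2,3,3,3,2,4,1],7992,3),
   ([0,3,3,2,3,1,4],7994,1),
   ([0,4,2,2,2,2,4],7994,2),
   ([4,4,2,1,4,3,3],7996,1),
   ([2,3,4,1,2,3,2],7997,3),
   ([4,3,0,1,3,2,1],7999,0),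
   ([4,3,2,1,0,2,1],7999,3),
   ([2,3,2,0,4,0,2],8000,2),
   ([4,1,4,2,2,2,0],8002,0),
   ([3,1,4,2,2,3,2],8003,1),
   ([4,3,2,0,0,1,0],8004,2),
   ([3,4,0,3,0,2,3],8005,2),
   ([4,3,2,4,0,0,2],8006,3),
   ([1,4,4,1,4,4,3],8008,1),
   ([2,2,4,1,2,2,2],8010,1),
   ([0,1,4,4,2,0,1],8012,0),
   ([0,1,1,2,4,3,4],8015,0),
   ([3,3,2,4,2,3,1],8016,1),
   ([2,1,3,3,2,2,1],8017,0),
   ([0,3,3,4,0,4,3],8017,2),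
   ([1,3,3,3,3,4,4],8018,2),
   ([0,2,2,4,0,1,2],8020,0),
   ([1,0,3,0,3,1,3],8020,2),
   ([1,3,3,1,0,1,1],8020,3),
   ([2,4,2,1,3,4,4],8022,1),
   ([3,2,4,3,1,4,0],8024,1),
   ([1,0,2,4,2,0,4],8027,1),
   ([3,0,1,3,3,4,1],8028,3),
   ([1,2,1,3,1,4,3],8032,0),
   ([0,3,4,2,2,4,2],8035,0),
   ([2,0,4,3,1,3,1],8035,2),
   ([3,1,4,1,0,4,4],8035,3),
   ([1,2,0,1,3,2,2],8036,0),
   ([0,1,2,2,2,3,1],8037,3),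
   ([0,2,1,4,2,2,1],8038,2),
   ([0,1,0,1,2,2,1],8039,1),
   ([4,3,0,3,3,1,1],8039,2),
   ([1,1,0,4,2,1,4],8039,3),
   ([0,3,2,2,2,1,2],8040,0),
   ([1,3,0,0,1,4,4],8040,3),
   ([4,2,3,3,3,4,0],8041,0),
   ([4,4,4,4,0,0,2],8042,0),
   ([3,2,2,2,3,1,4],8043,2),
   ([4,1,4,4,0,3,4],8045,0),
   ([0,2,4,2,0,2,0],8046,3),
   ([2,3,3,3,3,4,2],8047,1),
   ([3,0,0,3,1,1,2],8053,1),
   ([4,2,0,2,1,2,0],8053,3),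
   ([2,2,2,4,3,4,0],8054,3),
   ([0,1,2,3,0,4,1],8055,0),
   ([0,2,2,4,1,2,0],8055,2),
   ([4,4,4,1,0,4,1],8056,2),
   ([2,0,1,3,1,1,0],8057,3),
   ([4,3,4,1,0,3,3],8058,1),
   ([1,3,1,2,3,0,3],8059,1),
   ([0,2,1,3,1,0,2],8061,2),
   ([4,1,3,3,1,4,3],8063,0),
   ([4,2,1,1,0,1,0],8063,3),
   ([3,2,1,0,4,0,1],8064,2),
   ([3,2,0,0,3,2,2],8065,1),
   ([4,3,0,1,4,0,2],8067,0)]

/-- A block of images of the fixed vector. -/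
def vOrbB112 : List (List ℕ × ℕ × ℕ) :=
  [([4,3,4,1,4,2,2],8067,2),
   ([1,4,0,4,3,2,1],8069,2),
   ([2,2,3,2,4,0,2],8072,0),
   ([2,4,4,2,2,1,1],8073,2),
   ([2,3,4,2,4,3,2],8076,3),
   ([1,3,2,2,4,3,2],8077,3),
   ([2,0,4,4,0,2,4],8078,2),
   ([1,3,4,3,3,2,0],8081,1),
   ([0,2,4,2,3,3,3],8082,3),
   ([4,2,0,1,0,0,2],8083,1),
   ([0,1,4,3,1,3,4],8085,0),
   ([2,4,0,4,2,2,3],8087,2),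
   ([0,4,0,0,2,2,3],8088,1),
   ([3,3,2,4,3,2,1],8093,2),
   ([2,1,4,4,1,4,4],8094,3),
   ([2,3,3,0,1,1,1],8095,3),
   ([1,3,4,4,1,3,3],8097,0),
   ([0,1,4,4,1,1,2],8097,3),
   ([3,3,4,3,1,4,3],8098,1),
   ([1,4,4,4,0,2,1],8102,0),
   ([2,2,2,1,1,4,2],8106,2),
   ([4,4,0,2,2,3,2],8110,1),
   ([1,1,4,4,0,2,0],8113,1),
   ([4,1,2,4,2,2,4],8115,1),
   ([1,2,3,4,3,1,1],8117,0),
   ([4,2,4,3,2,4,4],8119,2),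
   ([4,0,0,2,3,2,4],8120,1),
   ([4,1,4,2,1,0,3],8124,1),
   ([4,2,2,3,2,3,2],8125,1),
   ([4,3,3,0,4,1,2],8125,2),
   ([3,1,3,1,2,1,1],8127,0),
   ([3,0,2,1,0,1,1],8128,1),
   ([2,1,0,4,4,1,2],8131,0),
   ([0,4,2,3,4,3,1],8133,0),
   ([0,2,2,3,4,1,2],8139,0),
   ([3,4,2,3,4,4,3],8139,1),
   ([2,4,0,0,3,1,3],8143,0),
   ([1,0,1,3,4,0,2],8144,2),
   ([4,1,2,0,2,3,4],8147,1),
   ([3,4,1,4,0,0,1],8148,2),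
   ([1,0,4,1,1,4,4],8149,3),
   ([1,2,0,0,3,3,3],8150,2),
   ([1,1,0,2,2,4,0],8151,3),
   ([0,2,4,2,2,1,4],8157,2),
   ([4,4,4,0,2,1,2],8158,1),
   ([4,3,4,0,0,2,2],8160,2),
   ([0,2,0,4,2,1,1],8161,0),
   ([0,2,3,4,0,1,1],8161,3),
   ([0,1,3,4,1,0,1],8163,0),
   ([0,3,0,2,1,3,3],8164,0),
   ([2,1,3,2,0,1,1],8164,1),
   ([1,4,4,2,4,4,1],8165,1),
   ([1,2,1,4,3,2,4],8167,0),
   ([2,3,4,4,0,3,1],8168,1),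
   ([3,4,1,2,1,2,1],8168,2),
   ([3,2,0,4,2,0,1],8169,0),
   ([0,2,3,3,1,1,1],8169,2),
   ([1,1,3,4,0,2,0],8169,3),
   ([0,2,0,2,3,2,0],8172,1),
   ([3,0,0,3,0,2,2],8173,1),
   ([4,1,4,3,2,0,2],8173,2),
   ([2,0,3,3,0,2,3],8175,3),
   ([3,2,4,0,2,2,1],8176,3),
   ([2,2,1,1,1,1,2],8177,2),
   ([4,2,0,4,2,4,4],8181,1),
   ([1,4,4,3,0,4,2],8182,2),
   ([2,2,3,1,1,1,1],8184,0),
   ([0,2,4,1,2,0,2],8184,3),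
   ([3,3,0,2,2,1,3],8185,1),
   ([0,4,2,2,1,4,1],8186,0),
   ([4,4,3,3,2,4,4],8187,1),
   ([0,2,2,3,1,3,2],8190,0),
   ([3,4,3,0,1,1,1],8192,1),
   ([0,3,3,1,3,2,4],8193,0),
   ([3,1,0,1,4,0,1],8194,0),
   ([1,1,4,3,2,4,2],8194,3),
   ([0,3,4,4,1,2,2],8195,0),
   ([3,4,2,3,4,0,1],8197,2),
   ([1,1,2,2,1,0,4],8199,1),
   ([1,2,4,0,0,1,4],8199,2),
   ([0,1,4,3,3,1,2],8200,1),
   ([1,3,0,0,0,3,1],8203,2),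
   ([2,1,4,1,0,3,3],8207,0),
   ([3,3,4,4,2,1,1],8208,2),
   ([1,3,3,0,1,3,3],8210,1),
   ([4,1,4,4,4,0,3],8210,2),
   ([1,3,0,4,3,3,2],8213,1),
   ([3,4,0,0,0,1,2],8213,2),
   ([0,1,4,2,2,2,1],8214,0),
   ([3,0,4,2,3,4,3],8214,2),
   ([0,4,0,2,0,1,2],8215,0),
   ([3,3,4,1,1,0,3],8216,2),
   ([0,1,4,4,3,4,3],8217,1),
   ([0,2,4,0,1,1,3],8217,2),
   ([0,4,4,1,3,1,3],8219,0),
   ([1,2,0,4,4,4,1],8224,0),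
   ([4,2,0,3,1,4,1],8228,0),
   ([2,0,0,2,4,4,3],8228,3),
   ([1,0,0,2,1,2,1],8231,1),
   ([4,1,2,0,2,1,1],8231,2),
   ([4,3,0,1,3,3,3],8232,0),
   ([1,1,2,1,1,0,1],8232,2),
   ([4,1,3,1,2,0,3],8234,3),
   ([1,0,1,2,0,1,1],8236,2),
   ([2,3,2,0,1,2,3],8237,2),
   ([0,3,2,4,3,1,0],8238,1),
   ([2,2,0,4,3,1,0],8240,1),
   ([3,3,1,4,0,2,3],8242,0),
   ([2,2,0,1,3,1,0],8242,1),
   ([2,3,0,2,2,4,4],8248,3),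
   ([1,3,0,3,0,2,2],8250,0),
   ([4,4,0,2,1,2,1],8251,0),
   ([3,3,3,1,4,1,3],8252,1),
   ([0,3,0,2,1,3,2],8253,1),
   ([4,3,0,2,2,1,1],8259,1),
   ([3,3,3,0,3,0,1],8259,2),
   ([0,3,3,0,2,3,4],8261,0),
   ([1,1,0,2,2,1,2],8261,2),
   ([4,3,4,3,1,0,3],8262,0),
   ([3,3,3,4,2,2,1],8262,3),
   ([3,2,0,1,4,3,3],8263,0),
   ([3,0,2,0,2,1,1],8263,1),
   ([0,1,4,3,2,2,0],8263,3),
   ([1,4,4,0,2,3,1],8264,2),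
   ([4,3,4,1,2,1,2],8265,1)]

/-- A block of images of the fixed vector. -/
def vOrbB113 : List (List ℕ × ℕ × ℕ) :=
  [([4,1,4,1,3,4,0],8266,0),
   ([1,4,0,3,3,1,0],8266,3),
   ([0,3,0,0,2,1,4],8267,1),
   ([1,0,2,0,3,3,1],8268,3),
   ([4,2,0,2,1,3,3],8269,3),
   ([4,2,0,2,0,4,1],8273,0),
   ([4,0,2,3,3,2,0],8273,2),
   ([2,0,2,0,3,4,3],8273,3),
   ([4,2,0,1,2,0,2],8274,1),
   ([2,2,0,1,4,3,2],8274,2),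
   ([3,3,1,2,2,3,1],8279,1),
   ([0,1,1,2,1,0,4],8281,3),
   ([1,3,0,0,3,0,2],8283,3),
   ([4,0,0,4,4,3,2],8289,1),
   ([3,4,1,4,1,1,2],8289,2),
   ([1,1,4,2,1,1,3],8292,2),
   ([2,4,0,0,2,0,1],8293,2),
   ([2,3,1,2,4,0,1],8294,0),
   ([0,1,2,0,4,1,1],8294,2),
   ([0,4,3,1,4,1,3],8296,1),
   ([3,3,2,1,3,2,1],8299,1),
   ([2,2,4,2,0,0,3],8305,1),
   ([2,3,0,2,0,0,3],8305,3),
   ([4,0,2,3,4,3,2],8308,1),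
   ([1,1,0,4,1,1,4],8309,2),
   ([0,4,4,4,3,1,4],8314,2),
   ([2,2,2,3,0,1,4],8315,3),
   ([4,4,0,2,1,1,0],8316,3),
   ([1,2,1,2,0,3,2],8320,1),
   ([0,2,3,0,2,2,3],8321,1),
   ([3,1,0,3,0,4,0],8324,1),
   ([4,0,0,2,4,0,4],8325,2),
   ([1,4,2,0,4,0,4],8326,1),
   ([0,3,4,4,1,2,3],8331,0),
   ([3,2,3,3,0,0,2],8333,1),
   ([1,2,1,2,2,2,3],8334,3),
   ([4,1,1,1,1,0,3],8335,0),
   ([4,0,3,3,3,1,3],8335,1),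
   ([3,3,0,2,3,1,3],8336,2),
   ([0,3,1,4,3,0,1],8337,2),
   ([3,2,0,4,0,3,3],8338,2),
   ([3,3,0,2,2,2,4],8338,3),
   ([4,0,1,0,4,4,2],8339,2),
   ([0,1,4,1,3,4,2],8340,3),
   ([3,4,0,0,0,4,1],8341,2),
   ([4,1,0,4,4,2,0],8341,3),
   ([3,0,4,1,3,0,2],8342,0),
   ([2,2,0,3,3,1,4],8342,3),
   ([2,3,4,4,4,4,2],8343,1),
   ([4,1,0,3,1,2,2],8343,2),
   ([4,0,0,0,3,2,3],8344,1),
   ([4,3,3,2,3,1,0],8344,3),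
   ([1,2,4,4,2,1,2],8345,2),
   ([2,4,3,2,3,2,0],8346,0),
   ([3,2,4,0,0,1,3],8346,3),
   ([3,1,4,0,0,0,4],8349,1),
   ([3,0,4,4,4,1,4],8349,2),
   ([0,2,3,0,4,0,1],8353,0),
   ([4,1,3,0,3,0,2],8355,2),
   ([1,2,3,3,1,2,2],8360,0),
   ([2,0,4,2,2,0,4],8361,0),
   ([3,4,0,4,0,2,2],8363,2),
   ([0,1,0,3,1,4,3],8365,0),
   ([4,4,0,3,1,1,0],8366,2),
   ([1,4,2,0,2,1,2],8370,1),
   ([3,1,0,3,0,1,4],8371,3),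
   ([2,1,4,3,2,1,2],8372,0),
   ([3,2,0,0,2,1,3],8372,2),
   ([1,3,0,1,4,2,4],8372,3),
   ([1,2,0,1,2,3,4],8373,3),
   ([1,3,0,3,1,2,2],8374,3),
   ([1,4,0,2,2,2,4],8375,2),
   ([2,3,0,0,1,4,2],8376,2),
   ([3,4,1,2,3,0,1],8380,1),
   ([3,3,2,3,0,4,1],8382,0),
   ([2,2,0,2,1,2,0],8382,1),
   ([3,2,2,4,1,2,0],8382,2),
   ([4,1,0,0,4,1,2],8384,3),
   ([2,1,3,3,3,3,0],8386,3),
   ([2,0,2,2,2,2,1],8387,1),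
   ([2,4,0,4,3,1,1],8387,2),
   ([4,4,1,2,4,4,2],8388,1),
   ([3,2,3,2,0,2,0],8391,1),
   ([0,2,0,3,1,2,4],8392,3),
   ([3,2,0,4,3,3,3],8393,3),
   ([3,3,0,4,0,3,4],8394,2),
   ([2,4,4,2,0,4,1],8396,1),
   ([4,1,2,1,2,0,1],8398,0),
   ([0,4,4,4,3,1,1],8398,2),
   ([2,1,0,0,4,1,4],8401,3),
   ([0,3,2,0,0,1,3],8403,0),
   ([4,2,0,3,4,3,3],8404,1),
   ([0,3,3,4,4,3,3],8404,3),
   ([3,4,1,0,3,0,3],8406,0),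
   ([0,4,3,4,4,1,1],8407,0),
   ([2,4,0,1,1,1,1],8409,2),
   ([1,1,1,4,0,3,1],8412,3),
   ([2,2,2,0,1,1,1],8413,1),
   ([2,1,4,3,3,1,0],8422,1),
   ([4,4,3,1,0,4,1],8424,2),
   ([0,2,2,2,4,1,4],8425,1),
   ([3,1,0,2,0,4,0],8427,3),
   ([4,2,2,0,2,0,2],8428,2),
   ([3,1,4,2,0,1,4],8431,3),
   ([0,3,4,1,2,0,4],8438,3),
   ([4,2,0,4,0,2,3],8439,0),
   ([4,4,1,3,4,4,2],8440,2),
   ([0,1,1,2,0,4,1],8441,2),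
   ([1,1,0,4,0,1,4],8443,1),
   ([2,4,1,0,4,4,2],8444,0),
   ([3,1,0,1,0,1,3],8444,3),
   ([4,0,3,3,3,3,3],8445,2),
   ([2,0,0,0,3,1,1],8449,3),
   ([0,2,4,2,1,4,4],8450,3),
   ([1,0,0,0,3,2,2],8452,0),
   ([0,3,1,0,2,0,4],8454,2),
   ([1,4,4,1,2,1,4],8455,3),
   ([4,1,2,0,1,1,4],8459,1),
   ([4,2,2,1,3,0,3],8461,3),
   ([2,4,0,0,4,0,1],8462,1),
   ([1,1,1,2,4,2,4],8464,3),
   ([4,2,1,0,2,4,2],8466,2),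
   ([3,1,0,4,3,0,1],8467,1),
   ([2,3,1,4,2,4,4],8468,2),
   ([1,2,2,1,3,4,0],8470,2)]

/-- A block of images of the fixed vector. -/
def vOrbB114 : List (List ℕ × ℕ × ℕ) :=
  [([0,3,4,3,2,4,0],8472,0),
   ([1,4,0,1,4,4,4],8472,3),
   ([2,3,2,3,4,4,0],8475,0),
   ([2,2,1,3,0,3,1],8477,2),
   ([4,3,4,4,1,1,3],8479,2),
   ([3,2,2,3,4,4,2],8485,2),
   ([0,2,2,3,4,1,0],8487,0),
   ([0,1,0,2,0,4,1],8488,1),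
   ([2,4,0,2,4,0,3],8489,3),
   ([2,3,0,4,4,2,2],8492,1),
   ([2,2,0,4,2,2,1],8493,3),
   ([2,2,0,4,1,2,1],8494,2),
   ([1,4,2,3,4,2,1],8496,1),
   ([3,3,0,4,4,1,2],8497,0),
   ([3,2,2,2,2,1,3],8497,2),
   ([4,4,0,1,1,4,1],8498,0),
   ([0,2,3,2,1,1,3],8499,3),
   ([3,2,0,3,3,3,4],8500,3),
   ([1,0,3,2,1,0,3],8501,0),
   ([3,3,0,1,1,2,3],8501,3),
   ([2,2,1,1,4,2,4],8505,1),
   ([1,2,0,3,0,3,2],8510,2),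
   ([0,1,1,1,0,2,2],8512,2),
   ([0,1,3,1,3,1,2],8515,0),
   ([3,0,3,1,2,0,4],8516,2),
   ([0,1,3,1,1,0,3],8518,2),
   ([3,2,4,4,4,2,2],8519,0),
   ([2,4,4,3,1,4,4],8521,3),
   ([1,4,4,2,0,2,4],8523,1),
   ([3,3,1,1,1,3,2],8526,0),
   ([4,0,0,0,3,0,3],8526,3),
   ([1,0,2,3,3,3,0],8528,3),
   ([4,4,4,1,2,1,1],8529,1),
   ([1,2,4,4,3,0,1],8529,2),
   ([4,1,3,3,3,2,1],8530,3),
   ([0,3,3,0,3,4,1],8534,1),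
   ([3,1,1,2,3,3,2],8534,3),
   ([3,2,2,0,0,0,4],8538,2),
   ([0,4,2,0,1,0,3],8538,3),
   ([3,0,3,2,4,2,3],8540,2),
   ([3,2,1,2,3,2,4],8542,2),
   ([1,1,1,1,4,0,4],8543,2),
   ([2,3,0,1,3,2,2],8548,1),
   ([4,4,3,4,4,3,2],8550,2),
   ([3,3,1,0,4,3,4],8554,0),
   ([0,3,0,0,2,1,2],8554,2),
   ([2,1,2,0,2,0,4],8557,0),
   ([4,0,1,4,2,3,4],8558,2),
   ([1,1,3,2,1,1,4],8559,1),
   ([3,2,0,2,4,3,4],8562,2),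
   ([2,2,3,0,3,4,3],8564,1),
   ([0,2,1,3,0,2,4],8567,1),
   ([2,4,1,2,4,4,4],8572,2),
   ([1,0,3,3,4,2,4],8574,2),
   ([2,4,3,0,0,1,3],8574,3),
   ([3,4,3,2,4,1,1],8575,3),
   ([1,4,1,2,1,3,2],8578,1),
   ([4,0,3,0,3,1,2],8578,2),
   ([1,4,1,2,4,4,3],8579,0),
   ([0,4,4,0,0,2,2],8581,1),
   ([1,4,1,1,1,4,3],8582,0),
   ([4,2,0,0,3,4,0],8582,3),
   ([1,1,3,3,2,1,1],8585,3),
   ([4,0,4,1,3,2,4],8586,2),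
   ([3,4,2,1,3,0,4],8587,3),
   ([4,0,4,2,0,0,4],8590,2),
   ([1,0,4,0,0,0,2],8596,0),
   ([0,4,3,0,0,2,2],8596,2),
   ([3,0,4,2,1,0,4],8597,0),
   ([0,1,3,2,3,3,4],8597,1),
   ([4,4,3,1,1,1,1],8602,1),
   ([3,4,2,0,2,0,1],8602,2),
   ([1,1,0,4,1,4,2],8605,0),
   ([3,1,1,2,3,0,1],8605,3),
   ([1,3,4,0,0,0,2],8606,3),
   ([1,3,4,1,2,4,2],8607,3),
   ([0,1,1,1,2,4,0],8608,2),
   ([2,0,3,1,0,0,4],8610,1),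
   ([1,2,0,3,0,1,3],8611,2),
   ([1,3,0,4,2,4,0],8611,3),
   ([2,0,3,0,3,2,4],8612,2),
   ([4,3,3,1,1,2,4],8614,0),
   ([2,1,4,1,2,2,1],8614,3),
   ([3,4,4,3,0,1,0],8619,0),
   ([1,3,2,2,0,4,3],8622,0),
   ([4,2,1,1,2,1,2],8622,3),
   ([3,0,4,2,1,2,4],8628,1),
   ([4,1,1,4,0,0,2],8630,0),
   ([3,4,1,1,0,2,2],8630,2),
   ([4,4,1,1,2,3,2],8632,2),
   ([3,2,4,4,2,2,3],8638,1),
   ([4,3,2,1,3,0,3],8643,2),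
   ([2,0,0,3,3,1,3],8645,1),
   ([0,2,2,2,1,3,3],8645,2),
   ([2,3,3,2,3,3,3],8650,2),
   ([0,2,3,1,4,2,2],8651,2),
   ([1,4,0,0,1,1,1],8652,3),
   ([1,2,1,4,2,0,1],8654,2),
   ([4,4,1,3,0,4,3],8659,1),
   ([4,0,4,4,1,4,1],8660,2),
   ([0,4,1,1,1,2,0],8668,0),
   ([1,2,2,4,0,3,4],8669,0),
   ([3,1,0,1,0,3,2],8669,1),
   ([4,2,3,0,2,1,2],8669,2),
   ([3,4,3,0,4,2,1],8670,2),
   ([1,0,0,3,3,2,1],8671,0),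
   ([0,2,4,4,3,2,3],8671,1),
   ([4,2,3,3,2,3,4],8677,0),
   ([3,4,3,3,0,1,0],8678,2),
   ([2,3,0,2,4,2,1],8679,2),
   ([1,3,0,2,3,3,0],8681,3),
   ([0,4,1,2,4,2,3],8688,3),
   ([1,2,4,3,3,0,4],8693,1),
   ([2,1,3,3,2,1,3],8694,0),
   ([2,4,3,3,2,2,4],8694,3),
   ([3,3,0,3,0,3,0],8699,2),
   ([3,1,3,0,0,3,0],8700,2),
   ([3,0,2,2,3,2,0],8701,2),
   ([2,0,2,4,3,0,1],8701,3),
   ([0,2,0,0,1,4,2],8704,3),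
   ([1,0,3,0,0,0,2],8706,0),
   ([1,0,2,4,3,3,2],8707,1),
   ([0,4,4,0,2,4,0],8710,0),
   ([1,4,2,0,1,1,4],8710,2),
   ([1,4,2,1,2,2,2],8710,3)]

/-- A block of images of the fixed vector. -/
def vOrbB115 : List (List ℕ × ℕ × ℕ) :=
  [([2,4,2,3,1,1,4],8711,1),
   ([0,2,2,4,2,3,1],8712,3),
   ([1,1,3,3,1,3,1],8715,0),
   ([4,3,1,3,4,3,4],8715,2),
   ([4,1,1,4,1,2,1],8716,3),
   ([4,3,3,3,4,2,0],8720,1),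
   ([3,3,2,4,2,1,4],8723,0),
   ([3,4,2,2,4,3,0],8723,2),
   ([3,0,4,0,0,3,4],8728,2),
   ([0,4,2,0,2,3,4],8733,0),
   ([1,4,3,2,0,0,1],8738,3),
   ([0,1,3,2,1,2,2],8739,2),
   ([2,0,2,4,0,0,4],8740,1),
   ([1,1,4,3,2,1,4],8741,0),
   ([4,1,2,2,4,2,0],8742,3),
   ([1,4,4,0,1,0,3],8744,0),
   ([1,0,3,4,0,1,3],8744,1),
   ([3,3,0,4,0,4,0],8744,3),
   ([2,1,2,4,1,0,3],8745,2),
   ([4,4,0,3,1,3,2],8749,2),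
   ([2,3,0,1,4,4,0],8754,0),
   ([2,0,2,0,2,0,4],8754,1),
   ([2,2,1,1,0,0,4],8758,1),
   ([3,0,0,4,2,2,1],8759,3),
   ([3,2,4,1,0,0,1],8760,0),
   ([1,2,2,2,2,4,0],8761,0),
   ([1,4,0,0,1,3,4],8761,3),
   ([3,0,4,3,1,1,4],8762,0),
   ([1,4,0,1,2,3,0],8766,1),
   ([1,1,1,2,0,4,0],8772,0),
   ([0,4,4,0,4,1,2],8773,1),
   ([4,1,2,0,3,4,0],8774,3),
   ([3,0,2,3,3,4,0],8777,1),
   ([1,0,4,0,4,3,1],8778,2),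
   ([0,2,1,1,3,0,2],8783,2),
   ([2,1,3,1,3,2,3],8784,3),
   ([3,3,4,4,2,3,3],8786,1),
   ([2,2,3,2,0,0,3],8786,2),
   ([0,3,3,2,2,0,2],8786,3),
   ([0,2,4,3,4,0,4],8791,1),
   ([3,2,0,0,4,1,3],8792,0),
   ([4,4,0,0,3,1,4],8796,1),
   ([2,1,1,2,3,2,0],8799,2),
   ([4,2,0,1,4,4,4],8802,0),
   ([2,3,4,3,0,0,3],8802,2),
   ([3,3,2,2,2,3,2],8805,3),
   ([1,1,1,3,4,1,3],8807,0),
   ([2,4,3,1,2,0,1],8807,3),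
   ([1,2,1,4,1,2,1],8808,2),
   ([2,2,1,3,4,3,4],8809,3),
   ([0,3,1,2,4,1,3],8816,2),
   ([2,4,2,3,0,3,4],8817,3),
   ([1,1,3,1,0,4,2],8818,0),
   ([4,4,0,4,0,4,1],8818,1),
   ([2,0,2,2,2,3,1],8820,2),
   ([3,4,3,4,2,4,1],8825,1),
   ([1,2,2,4,3,3,3],8827,3),
   ([4,0,0,0,2,3,3],8831,1),
   ([2,0,0,0,1,3,1],8833,1),
   ([3,1,0,0,3,1,1],8838,0),
   ([0,2,1,1,1,4,2],8838,3),
   ([3,1,0,4,0,3,2],8839,2),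
   ([2,2,0,0,1,2,3],8840,3),
   ([1,1,3,4,1,1,1],8841,2),
   ([1,1,4,1,3,2,3],8843,2),
   ([3,2,2,0,3,2,0],8846,3),
   ([1,3,2,1,0,3,2],8847,1),
   ([1,4,0,0,3,2,0],8848,2),
   ([2,2,0,0,3,2,3],8849,1),
   ([4,3,4,4,2,1,2],8850,2),
   ([3,3,4,2,4,3,3],8856,1),
   ([0,2,4,4,3,2,4],8858,2),
   ([0,2,2,1,3,4,3],8860,2),
   ([2,2,1,0,0,0,1],8863,0),
   ([3,3,2,2,3,1,1],8863,2),
   ([1,1,2,3,2,0,2],8863,3),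
   ([0,2,0,2,4,2,3],8867,3),
   ([0,1,0,2,4,4,1],8868,0),
   ([2,4,0,1,0,2,3],8869,2),
   ([2,1,4,4,1,3,1],8871,1),
   ([4,0,2,1,2,2,1],8871,2),
   ([2,4,4,4,1,2,1],8872,2),
   ([1,0,0,1,2,0,3],8873,1),
   ([2,2,0,2,0,1,4],8876,1),
   ([4,4,0,4,0,1,3],8877,0),
   ([3,1,4,2,1,2,3],8885,1),
   ([0,3,2,0,3,3,4],8887,2),
   ([2,0,0,1,2,1,4],8889,3),
   ([3,4,1,2,0,0,2],8890,2),
   ([3,4,0,3,3,1,0],8892,2),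
   ([4,1,3,4,0,3,4],8893,0),
   ([4,0,0,1,2,3,2],8893,1),
   ([2,3,1,2,3,4,0],8899,3),
   ([1,0,4,0,1,0,3],8900,1),
   ([0,2,4,2,2,1,3],8906,3),
   ([0,2,3,1,0,1,2],8907,1),
   ([0,2,2,3,2,4,2],8911,3),
   ([2,2,3,2,2,2,2],8913,3),
   ([4,2,1,0,4,0,2],8914,2),
   ([2,0,4,1,3,2,3],8918,2),
   ([2,1,1,3,3,4,1],8920,3),
   ([4,0,4,0,3,3,0],8925,2),
   ([0,2,0,2,2,2,4],8928,1),
   ([0,4,3,2,1,3,4],8928,2),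
   ([4,2,3,0,2,4,1],8930,0),
   ([1,1,0,1,0,2,0],8930,2),
   ([1,1,3,4,4,1,2],8933,1),
   ([4,4,4,2,2,4,1],8935,0),
   ([4,1,3,1,4,4,0],8937,2),
   ([4,0,3,4,4,4,4],8938,1),
   ([1,0,3,1,4,4,1],8939,3),
   ([0,1,0,1,4,2,2],8942,0),
   ([4,1,0,3,2,4,0],8943,2),
   ([2,3,1,2,2,0,2],8949,0),
   ([2,2,0,0,2,0,1],8953,1),
   ([3,0,4,3,0,2,2],8957,1),
   ([0,1,3,3,2,0,2],8957,2),
   ([3,0,4,3,3,1,3],8964,3),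
   ([4,3,2,4,2,0,1],8968,3),
   ([2,1,2,0,2,3,3],8969,2),
   ([0,1,2,4,2,1,1],8972,0),
   ([0,4,4,4,1,4,1],8978,1),
   ([1,1,4,2,2,3,1],8979,1),
   ([4,4,0,3,2,2,1],8984,1),
   ([4,4,1,2,1,4,4],8985,3)]

/-- A block of images of the fixed vector. -/
def vOrbB116 : List (List ℕ × ℕ × ℕ) :=
  [([2,2,3,0,4,4,4],8986,3),
   ([3,2,2,0,1,3,2],8993,3),
   ([1,2,3,3,3,4,0],8994,3),
   ([3,4,3,3,3,1,2],8995,2),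
   ([1,3,2,1,1,4,3],8998,0),
   ([2,2,0,3,2,4,2],8999,1),
   ([0,1,0,4,4,2,2],9004,1),
   ([2,2,2,3,0,4,2],9006,1),
   ([4,1,1,1,2,2,2],9006,2),
   ([1,1,1,0,1,3,4],9014,2),
   ([0,4,4,2,2,3,4],9016,0),
   ([2,3,4,4,3,3,0],9017,2),
   ([1,0,1,1,0,2,3],9018,1),
   ([0,1,4,0,2,1,2],9019,3),
   ([0,2,2,0,3,2,1],9021,0),
   ([4,4,0,3,3,4,3],9021,2),
   ([0,3,2,2,0,3,3],9024,3),
   ([0,4,2,2,0,1,1],9025,0),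
   ([2,2,0,3,1,3,1],9034,3),
   ([2,4,0,2,3,3,4],9035,2),
   ([3,4,0,0,4,3,3],9035,3),
   ([1,1,3,2,3,2,4],9036,1),
   ([4,0,1,1,0,2,2],9039,0),
   ([2,1,4,3,0,1,1],9042,1),
   ([4,1,4,2,2,0,2],9046,0),
   ([1,1,4,2,0,1,2],9049,0),
   ([4,4,0,3,1,4,3],9049,1),
   ([1,3,0,2,1,0,1],9049,3),
   ([0,3,4,4,1,2,1],9053,3),
   ([4,3,4,1,2,3,1],9054,2),
   ([2,2,4,4,4,0,1],9056,1),
   ([4,1,0,0,4,0,3],9056,3),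
   ([0,2,0,0,4,4,3],9058,1),
   ([1,4,2,4,4,1,4],9059,2),
   ([3,2,0,4,3,2,4],9062,2),
   ([1,3,2,0,0,1,0],9063,0),
   ([0,1,4,2,0,4,1],9063,2),
   ([0,4,2,3,4,3,4],9066,1),
   ([4,2,1,3,0,0,4],9072,1),
   ([4,2,1,4,1,0,3],9074,2),
   ([4,3,4,1,0,2,1],9077,2),
   ([1,2,2,1,1,0,1],9081,0),
   ([0,1,2,2,1,1,1],9081,2),
   ([1,1,2,3,0,3,4],9081,3),
   ([0,1,4,2,0,4,2],9083,0),
   ([3,1,0,2,1,3,3],9083,3),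
   ([3,2,4,2,4,1,4],9086,0),
   ([4,2,0,1,1,3,1],9096,3),
   ([4,4,0,2,1,3,2],9097,2),
   ([1,2,0,3,4,4,4],9099,3),
   ([3,3,4,3,2,0,1],9102,2),
   ([0,1,4,3,1,3,3],9102,3),
   ([1,2,1,2,2,0,4],9103,2),
   ([1,4,0,0,0,3,4],9105,1),
   ([4,4,0,0,0,3,1],9105,3),
   ([2,2,4,4,3,2,0],9106,3),
   ([1,3,4,4,4,4,4],9107,2),
   ([3,3,3,3,3,0,4],9108,2),
   ([2,2,0,4,4,4,3],9110,1),
   ([2,3,2,1,3,3,3],9115,2),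
   ([4,4,4,1,2,3,3],9116,0),
   ([1,1,0,3,2,3,4],9118,2),
   ([4,3,0,2,2,0,4],9119,0),
   ([4,4,1,4,2,2,1],9119,3),
   ([2,4,0,3,1,1,0],9121,2),
   ([1,0,3,2,1,3,3],9122,3),
   ([1,1,1,0,1,2,3],9125,3),
   ([1,3,3,0,4,4,2],9128,1),
   ([4,4,2,1,3,2,0],9129,3),
   ([4,4,3,3,2,2,2],9130,0),
   ([1,1,1,0,2,4,4],9130,1),
   ([2,2,3,3,1,0,4],9130,2),
   ([0,4,3,3,2,0,4],9130,3),
   ([0,3,0,3,3,3,1],9132,0),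
   ([2,0,4,3,2,3,4],9132,2),
   ([4,1,1,4,2,0,4],9135,0),
   ([0,4,4,1,0,3,2],9139,2),
   ([4,0,3,2,3,1,3],9140,2),
   ([3,0,0,3,4,3,2],9144,2),
   ([4,0,1,3,0,3,4],9145,0),
   ([1,3,3,2,1,2,4],9148,2),
   ([1,3,0,2,4,1,4],9156,2),
   ([2,2,4,3,0,3,1],9157,3),
   ([1,1,0,3,3,1,2],9158,1),
   ([4,1,4,2,0,1,3],9159,3),
   ([4,0,1,2,3,4,2],9160,0),
   ([2,1,2,0,3,0,3],9161,0),
   ([2,2,3,4,4,1,4],9162,1),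
   ([2,4,4,0,4,0,3],9162,3),
   ([0,4,1,2,1,0,3],9166,2),
   ([0,3,1,2,3,4,0],9166,3),
   ([4,4,1,1,2,0,4],9169,3),
   ([3,0,1,1,3,4,0],9170,2),
   ([2,1,3,1,1,2,1],9172,3),
   ([1,0,3,1,1,3,0],9174,1),
   ([2,1,0,4,4,4,1],9182,1),
   ([4,4,4,0,1,2,4],9183,0),
   ([1,2,4,3,2,2,2],9184,0),
   ([1,3,2,0,2,3,2],9187,3),
   ([2,1,0,1,4,3,3],9190,3),
   ([1,3,0,1,4,1,1],9191,0),
   ([0,4,2,4,2,4,1],9193,3),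
   ([2,2,3,0,2,3,1],9197,0),
   ([3,4,0,3,0,0,2],9197,3),
   ([1,4,0,1,4,0,3],9202,3),
   ([1,3,0,3,3,1,4],9204,0),
   ([3,0,0,0,3,4,4],9205,3),
   ([1,0,2,0,3,1,1],9210,0),
   ([3,1,2,1,1,0,2],9211,0),
   ([4,2,2,1,2,2,2],9211,2),
   ([1,2,3,3,0,4,4],9214,0),
   ([1,1,2,0,2,0,3],9216,0),
   ([0,2,3,1,4,2,4],9217,2),
   ([2,1,2,0,3,3,2],9218,3),
   ([1,2,0,2,3,4,4],9220,3),
   ([3,2,3,2,2,2,3],9224,0),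
   ([2,3,4,4,1,0,2],9231,2),
   ([4,2,4,2,0,2,0],9233,0),
   ([3,2,0,2,1,4,3],9233,3),
   ([3,2,1,2,4,2,2],9235,3),
   ([3,2,4,2,2,0,1],9236,2),
   ([3,3,0,4,4,0,1],9237,0),
   ([3,2,2,2,0,1,1],9237,2),
   ([3,0,2,4,3,4,4],9238,3),
   ([4,1,3,4,0,1,1],9240,2)]

/-- A block of images of the fixed vector. -/
def vOrbB117 : List (List ℕ × ℕ × ℕ) :=
  [([4,3,0,1,2,4,0],9244,0),
   ([3,0,4,1,0,1,1],9251,2),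
   ([4,4,1,2,2,3,4],9259,0),
   ([0,3,0,2,4,3,0],9261,0),
   ([0,1,4,3,2,2,3],9262,2),
   ([0,2,1,2,1,0,3],9263,1),
   ([4,2,3,0,3,2,3],9264,0),
   ([2,0,4,2,0,1,3],9265,2),
   ([3,2,2,2,4,0,1],9269,2),
   ([2,0,2,0,0,1,1],9270,2),
   ([4,4,2,2,3,4,4],9271,3),
   ([0,4,3,3,0,1,1],9279,1),
   ([2,1,0,0,1,0,1],9280,1),
   ([2,1,0,2,2,1,1],9286,3),
   ([1,2,0,4,1,0,3],9287,1),
   ([2,0,3,2,1,4,4],9290,3),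
   ([1,3,3,2,3,0,2],9291,2),
   ([2,2,4,1,3,2,0],9292,0),
   ([3,4,0,1,2,0,1],9293,2),
   ([4,0,4,3,0,2,4],9294,1),
   ([3,2,1,2,0,3,4],9295,0),
   ([1,2,4,3,0,2,0],9295,3),
   ([4,2,3,3,0,2,0],9296,0),
   ([4,4,0,3,0,1,0],9297,2),
   ([4,3,0,1,0,2,1],9303,0),
   ([4,3,1,0,4,2,1],9303,3),
   ([2,2,0,3,4,4,2],9305,2),
   ([3,4,0,1,2,4,3],9309,0),
   ([2,3,0,0,0,4,2],9309,2),
   ([4,2,0,1,4,1,0],9310,0),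
   ([3,2,0,0,0,1,3],9312,2),
   ([1,3,0,1,2,2,4],9312,3),
   ([1,3,2,4,0,1,1],9315,3),
   ([0,2,0,4,0,1,1],9317,2),
   ([1,4,0,2,4,0,1],9319,2),
   ([1,0,3,3,0,1,1],9321,2),
   ([3,1,0,4,1,0,1],9324,1),
   ([4,2,4,3,0,3,3],9329,3),
   ([0,1,4,4,1,1,0],9330,1),
   ([3,0,4,4,0,1,1],9332,1),
   ([3,0,2,3,1,2,3],9335,1),
   ([1,0,2,3,4,4,3],9335,2),
   ([3,0,0,1,1,0,1],9337,2),
   ([4,1,3,2,1,3,4],9338,3),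
   ([0,4,0,3,3,1,1],9339,0),
   ([1,3,4,4,3,2,2],9339,1),
   ([0,2,4,1,3,2,2],9339,3),
   ([2,2,0,2,2,3,1],9340,0),
   ([3,4,1,4,2,0,2],9340,3),
   ([2,2,0,2,0,2,0],9341,2),
   ([0,3,4,2,0,3,2],9346,1),
   ([1,0,0,0,0,3,2],9347,2),
   ([0,4,4,0,1,3,4],9350,0),
   ([1,2,0,4,0,2,2],9350,3),
   ([1,0,0,0,2,1,2],9351,2),
   ([0,1,0,1,0,2,1],9358,0),
   ([4,2,0,4,4,2,3],9358,1),
   ([4,4,0,4,0,0,2],9366,1),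
   ([4,4,2,3,0,3,2],9370,1),
   ([1,1,3,4,1,4,4],9372,0),
   ([2,0,1,2,2,3,2],9381,2),
   ([2,3,4,2,0,2,1],9382,2),
   ([4,1,1,3,3,4,3],9384,2),
   ([1,4,2,4,3,4,3],9385,1),
   ([1,3,2,1,3,3,1],9385,3),
   ([4,2,4,1,4,4,0],9397,2),
   ([3,0,4,1,0,2,1],9401,0),
   ([0,1,0,4,2,2,3],9401,1),
   ([4,1,2,3,1,2,4],9402,2),
   ([0,3,0,3,1,3,2],9406,0),
   ([1,3,4,4,0,3,2],9409,0),
   ([0,1,1,3,1,0,2],9411,0),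
   ([2,2,2,0,1,3,3],9411,3),
   ([4,4,2,3,4,3,0],9413,1),
   ([4,0,2,0,0,3,3],9418,1),
   ([0,3,2,2,4,4,4],9421,1),
   ([0,4,2,3,4,3,2],9421,3),
   ([1,1,0,3,1,1,2],9422,2),
   ([2,0,2,3,4,4,4],9428,2),
   ([2,2,2,4,1,0,3],9429,0),
   ([0,1,0,0,0,3,3],9429,2),
   ([0,4,0,2,1,1,1],9434,1),
   ([0,1,2,1,1,4,1],9434,3),
   ([1,1,2,3,0,4,0],9436,3),
   ([3,3,4,2,0,0,2],9437,0),
   ([4,3,4,0,0,0,3],9438,3),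
   ([0,3,3,3,2,0,2],9443,0),
   ([1,3,3,1,1,3,4],9445,2),
   ([4,1,4,1,2,4,1],9447,1),
   ([3,4,3,2,1,0,1],9450,2),
   ([3,4,0,1,0,0,1],9452,0),
   ([0,3,2,0,1,0,1],9454,2),
   ([3,0,0,4,0,4,1],9459,1),
   ([1,1,3,1,1,1,1],9461,1),
   ([4,2,3,2,4,0,1],9462,0),
   ([1,1,1,2,2,4,3],9462,3),
   ([1,2,4,0,2,1,1],9466,0),
   ([3,3,2,0,1,1,1],9467,2),
   ([1,0,0,0,0,1,2],9468,1),
   ([1,1,0,1,2,4,2],9468,2),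
   ([0,2,4,0,1,1,1],9469,3),
   ([0,4,0,0,4,2,2],9470,2),
   ([0,3,4,1,4,1,1],9476,2),
   ([3,0,4,4,2,3,0],9479,0),
   ([2,3,0,4,0,4,0],9480,1),
   ([4,4,4,4,2,1,1],9483,1),
   ([0,1,3,2,2,0,1],9483,3),
   ([3,2,1,1,3,4,1],9484,2),
   ([3,2,0,1,3,0,1],9485,1),
   ([2,0,4,0,4,3,3],9491,0),
   ([4,1,0,4,0,4,3],9493,0),
   ([4,0,0,1,1,1,2],9493,1),
   ([0,3,1,1,3,0,1],9495,1),
   ([1,4,2,3,1,4,0],9504,2),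
   ([1,0,1,4,3,3,0],9508,2),
   ([0,2,3,2,3,4,2],9513,2),
   ([4,1,2,4,1,4,0],9521,0),
   ([2,3,3,4,4,4,4],9527,0),
   ([0,3,3,2,0,3,0],9527,3),
   ([1,3,1,4,2,3,0],9529,2),
   ([0,1,4,0,0,3,0],9533,0),
   ([1,3,1,3,4,1,0],9534,3),
   ([0,1,3,0,3,2,4],9536,0),
   ([4,2,4,2,2,3,1],9536,1),
   ([1,0,1,1,0,4,3],9539,2)]

/-- A block of images of the fixed vector. -/
def vOrbB118 : List (List ℕ × ℕ × ℕ) :=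
  [([3,0,2,0,3,4,2],9542,3),
   ([0,3,3,1,1,0,3],9543,0),
   ([2,3,1,3,4,2,4],9548,0),
   ([3,2,2,1,0,3,3],9549,1),
   ([3,3,3,2,1,2,3],9550,2),
   ([2,0,3,1,0,1,4],9553,1),
   ([2,0,0,3,3,4,3],9564,2),
   ([4,3,0,2,0,3,0],9564,3),
   ([4,2,1,4,2,2,0],9566,2),
   ([2,3,3,4,2,4,2],9569,1),
   ([0,2,0,3,2,2,1],9571,2),
   ([0,3,2,0,0,1,4],9579,2),
   ([1,1,2,2,2,4,1],9580,3),
   ([0,2,0,4,2,1,4],9581,2),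
   ([3,0,3,2,3,0,4],9586,1),
   ([3,3,0,1,0,4,0],9591,1),
   ([1,3,3,3,3,2,3],9592,2),
   ([2,4,0,0,2,2,0],9595,1),
   ([3,4,3,1,2,3,3],9600,1),
   ([0,3,3,4,2,1,1],9600,3),
   ([2,1,4,1,4,3,0],9601,0),
   ([1,4,2,3,3,2,3],9601,2),
   ([3,0,4,2,0,1,2],9606,1),
   ([1,0,0,0,1,3,2],9609,0),
   ([3,1,0,4,3,3,2],9610,0),
   ([4,1,0,1,0,4,3],9611,2),
   ([1,3,2,2,0,3,0],9612,3),
   ([2,4,2,4,1,2,2],9613,2),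
   ([0,3,1,0,0,1,1],9617,3),
   ([0,1,0,4,2,2,2],9618,2),
   ([4,1,1,2,2,3,3],9620,2),
   ([4,4,2,0,2,3,0],9621,2),
   ([3,3,2,4,3,3,2],9624,0),
   ([4,4,3,3,4,0,1],9628,3),
   ([4,0,2,1,0,2,2],9629,0),
   ([2,1,1,1,1,1,4],9630,2),
   ([3,1,0,0,2,3,0],9633,3),
   ([4,3,0,0,3,1,0],9636,0),
   ([1,4,4,4,4,2,0],9642,2),
   ([3,1,3,1,2,4,2],9651,0),
   ([4,1,2,0,4,0,1],9652,1),
   ([1,2,0,3,1,2,0],9655,0),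
   ([2,2,0,4,1,3,2],9655,2),
   ([4,3,4,3,2,2,1],9667,0),
   ([4,1,2,1,0,1,1],9669,2),
   ([1,1,2,2,4,4,2],9669,3),
   ([2,3,2,2,4,0,4],9671,1),
   ([4,4,2,4,0,4,1],9672,3),
   ([1,1,3,4,2,1,3],9673,2),
   ([1,3,3,0,4,1,3],9673,3),
   ([1,3,2,0,3,1,4],9674,2),
   ([1,4,2,1,4,2,3],9674,3),
   ([3,4,4,3,2,4,3],9676,2),
   ([2,4,0,1,4,4,2],9677,1),
   ([4,4,4,3,2,4,1],9688,2),
   ([3,1,3,0,3,2,0],9689,2),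
   ([2,3,4,2,1,4,2],9690,0),
   ([2,4,0,2,3,2,2],9695,1),
   ([0,4,4,1,3,1,1],9701,0),
   ([0,1,0,1,4,2,3],9702,2),
   ([2,4,0,1,3,0,4],9703,3),
   ([0,4,3,1,2,2,0],9704,2),
   ([3,3,1,0,2,2,2],9707,0),
   ([2,2,1,4,1,4,0],9710,0),
   ([0,1,3,1,2,3,1],9711,2),
   ([4,4,3,0,1,3,4],9712,2),
   ([3,4,3,0,2,3,1],9719,0),
   ([3,4,0,3,0,3,1],9719,3),
   ([4,4,3,3,3,0,3],9724,0),
   ([1,1,4,4,4,1,3],9724,1),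
   ([0,3,1,4,0,4,1],9733,1),
   ([0,2,4,1,3,2,1],9737,3),
   ([1,4,4,3,3,4,0],9739,0),
   ([1,0,0,3,1,3,1],9741,2),
   ([4,3,3,1,4,0,4],9742,2),
   ([1,1,2,0,0,0,2],9748,2),
   ([0,3,0,3,3,3,3],9749,0),
   ([2,4,2,1,1,0,3],9753,3),
   ([1,0,2,2,0,0,1],9754,0),
   ([1,1,1,1,2,2,3],9754,3),
   ([0,4,2,0,3,1,3],9764,2),
   ([2,3,3,4,0,1,3],9766,0),
   ([2,3,0,3,3,3,0],9767,2),
   ([4,3,1,2,2,0,1],9769,1),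
   ([4,2,3,2,4,2,2],9774,3),
   ([4,3,3,3,1,0,2],9776,2),
   ([4,4,3,2,2,1,1],9780,0),
   ([0,2,2,3,3,0,4],9780,3),
   ([0,1,4,0,1,2,0],9781,2),
   ([2,2,2,4,1,3,1],9787,0),
   ([0,1,0,0,1,3,4],9787,2),
   ([3,4,0,3,2,0,2],9787,3),
   ([1,3,4,0,4,2,2],9796,0),
   ([0,3,2,3,0,3,0],9801,3),
   ([2,1,0,2,1,0,3],9804,3),
   ([2,2,4,4,2,1,1],9805,0),
   ([3,0,4,0,1,1,1],9822,3),
   ([4,4,4,1,0,2,4],9823,2),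
   ([3,4,4,4,1,2,4],9825,1),
   ([4,2,3,1,0,4,4],9834,0),
   ([0,4,4,2,3,4,0],9839,0),
   ([1,3,4,0,2,0,4],9839,1),
   ([3,2,3,3,1,4,2],9841,2),
   ([3,2,1,3,2,4,4],9842,1),
   ([4,4,4,2,1,0,3],9844,2),
   ([4,4,2,1,2,1,2],9845,3),
   ([1,1,1,2,3,4,2],9848,3),
   ([0,4,1,0,4,3,2],9849,2),
   ([3,4,1,0,1,2,3],9852,1),
   ([4,2,1,1,2,4,1],9856,1),
   ([1,4,4,4,2,3,2],9858,3),
   ([2,0,3,1,1,1,0],9861,3),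
   ([0,4,2,4,1,1,0],9862,2),
   ([0,3,1,3,4,1,2],9866,2),
   ([4,3,1,2,1,2,4],9867,2),
   ([3,3,3,1,2,2,1],9869,0),
   ([4,4,1,4,2,4,3],9869,2),
   ([0,3,0,3,1,3,0],9873,1),
   ([2,1,4,3,0,3,2],9877,3),
   ([0,1,3,1,4,4,3],9878,2),
   ([1,2,3,0,2,4,4],9879,2),
   ([0,2,3,0,2,2,0],9884,0),
   ([4,2,0,0,2,3,2],9884,2),
   ([3,3,0,4,1,2,3],9889,0),
   ([0,2,2,4,2,3,3],9891,2)]

/-- A block of images of the fixed vector. -/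
def vOrbB119 : List (List ℕ × ℕ × ℕ) :=
  [([2,3,0,4,3,4,0],9895,3),
   ([0,4,2,4,1,1,1],9898,0),
   ([3,4,0,3,4,0,2],9898,2),
   ([0,2,0,3,2,2,2],9898,3),
   ([0,1,4,2,1,3,1],9905,0),
   ([2,3,2,0,0,3,3],9907,1),
   ([4,2,0,2,0,3,3],9910,1),
   ([1,2,3,2,1,2,2],9911,0),
   ([1,1,4,2,1,3,0],9915,2),
   ([3,0,4,0,1,0,1],9915,3),
   ([4,4,4,3,2,1,3],9918,2),
   ([1,3,4,4,4,2,3],9918,3),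
   ([3,4,4,4,4,4,1],9924,1),
   ([0,2,0,1,4,1,0],9937,1),
   ([1,1,0,4,0,2,0],9940,0),
   ([2,0,1,4,1,1,1],9942,0),
   ([2,3,2,4,4,3,2],9943,2),
   ([0,2,0,1,3,1,2],9955,1),
   ([1,1,4,0,4,0,1],9958,1),
   ([3,3,2,2,1,0,3],9965,2),
   ([2,0,4,2,3,3,2],9968,3),
   ([0,2,4,0,2,3,0],9969,3),
   ([4,3,0,2,4,0,4],9977,2),
   ([0,4,0,2,0,1,1],9977,3),
   ([0,3,1,2,1,0,1],9978,2),
   ([0,3,1,2,3,4,4],9983,2),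
   ([1,1,0,3,2,1,2],9987,2),
   ([1,2,0,4,0,4,1],9987,3),
   ([3,1,2,4,0,1,3],9989,3),
   ([2,4,3,0,2,2,2],9994,2),
   ([4,0,2,4,3,4,3],9998,1),
   ([0,1,1,2,3,2,0],10000,3),
   ([3,0,1,4,2,4,2],10003,2),
   ([3,4,0,3,1,1,0],10004,0),
   ([2,0,1,4,3,4,0],10010,3),
   ([4,0,0,0,2,1,3],10021,3),
   ([2,4,3,1,4,1,0],10027,3),
   ([0,1,1,2,3,2,4],10028,1),
   ([3,1,1,4,1,4,2],10033,1),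
   ([1,1,4,3,1,1,3],10035,0),
   ([2,3,3,0,3,2,2],10036,3),
   ([0,1,3,4,0,2,2],10040,3),
   ([4,1,4,2,4,4,1],10043,0),
   ([4,1,4,3,1,3,0],10045,3),
   ([0,2,4,0,4,2,2],10046,1),
   ([2,0,3,1,4,2,3],10049,3),
   ([3,3,0,4,0,0,1],10052,3),
   ([3,2,4,2,1,0,4],10058,1),
   ([0,4,3,2,3,2,2],10060,0),
   ([2,4,2,0,3,3,4],10063,0),
   ([4,0,0,1,2,1,2],10063,2),
   ([0,4,4,2,1,2,3],10065,2),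
   ([2,0,1,2,0,3,3],10070,1),
   ([1,3,1,0,4,2,4],10074,3),
   ([1,4,2,4,1,3,3],10076,1),
   ([3,3,1,1,0,3,4],10084,3),
   ([0,1,4,0,1,2,1],10085,1),
   ([4,3,0,3,2,1,1],10085,2),
   ([2,3,3,3,3,0,1],10086,2),
   ([2,4,4,1,3,1,0],10090,0),
   ([4,1,0,3,3,1,3],10090,3),
   ([0,1,0,1,1,2,1],10092,2),
   ([0,3,4,2,0,3,3],10096,0),
   ([0,1,0,2,1,4,4],10096,3),
   ([4,2,1,4,4,0,1],10098,0),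
   ([3,3,2,3,3,1,1],10099,1),
   ([0,1,4,0,3,0,2],10099,3),
   ([1,2,0,2,1,0,1],10100,0),
   ([3,4,4,1,1,1,1],10100,2),
   ([1,1,4,2,0,3,4],10100,3),
   ([3,4,4,4,4,3,3],10103,2),
   ([3,3,2,4,1,1,3],10107,3),
   ([1,4,0,2,1,2,4],10108,0),
   ([4,2,1,2,0,4,1],10115,3),
   ([2,1,1,2,0,3,2],10116,0),
   ([1,2,4,3,2,3,4],10119,0),
   ([2,4,4,2,1,3,2],10120,3),
   ([2,2,0,1,4,1,0],10126,0),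
   ([3,3,2,0,2,0,1],10126,1),
   ([0,1,0,3,1,4,1],10128,3),
   ([3,0,4,2,0,4,2],10134,0),
   ([1,1,1,0,3,0,4],10139,3),
   ([1,4,0,4,2,4,4],10148,0),
   ([1,3,0,1,2,0,3],10149,3),
   ([0,4,3,4,0,3,0],10150,0),
   ([1,1,0,2,4,1,2],10151,0),
   ([2,3,0,2,2,2,1],10153,1),
   ([3,3,0,2,1,4,1],10156,1),
   ([0,3,0,3,0,3,3],10160,0),
   ([1,1,4,1,3,4,0],10162,3),
   ([0,2,2,4,1,2,1],10167,0),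
   ([2,2,0,0,0,1,2],10170,1),
   ([0,3,0,1,2,4,2],10170,2),
   ([4,4,0,1,2,1,3],10174,0),
   ([2,4,0,4,3,0,4],10174,3),
   ([4,4,0,4,2,0,2],10178,2),
   ([4,4,0,2,4,2,1],10180,3),
   ([2,1,1,0,2,2,1],10189,3),
   ([1,1,2,4,3,1,3],10192,0),
   ([2,2,4,1,2,1,1],10195,2),
   ([3,1,0,4,0,1,3],10206,3),
   ([3,0,4,0,1,3,1],10208,1),
   ([1,0,2,4,3,0,2],10211,0),
   ([4,4,4,0,3,2,2],10211,2),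
   ([1,1,4,4,2,1,1],10212,0),
   ([0,2,1,1,3,0,1],10212,3),
   ([2,4,0,2,2,2,2],10213,1),
   ([2,2,0,1,2,3,2],10214,3),
   ([2,0,0,2,0,2,3],10217,1),
   ([0,2,0,4,1,1,2],10219,0),
   ([3,0,2,2,2,3,4],10221,0),
   ([4,0,0,4,3,1,2],10221,2),
   ([1,2,0,0,1,1,4],10221,3),
   ([4,3,0,0,1,4,1],10225,0),
   ([2,2,0,4,0,3,2],10226,2),
   ([4,1,4,3,2,1,1],10229,2),
   ([1,4,4,4,1,4,0],10239,0),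
   ([3,4,4,0,4,0,2],10243,0),
   ([2,2,1,0,1,3,1],10243,3),
   ([3,3,3,4,4,2,4],10246,3),
   ([1,4,3,0,2,4,2],10247,0),
   ([0,1,0,0,4,3,2],10258,3),
   ([1,4,4,0,0,1,1],10260,0),
   ([1,0,0,2,4,0,1],10264,3),
   ([0,1,2,4,1,4,2],10268,2)]

/-- A block of images of the fixed vector. -/
def vOrbB120 : List (List ℕ × ℕ × ℕ) :=
  [([1,1,1,0,4,4,2],10271,2),
   ([3,0,0,2,4,0,2],10274,2),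
   ([4,1,0,0,0,4,4],10275,1),
   ([3,1,0,0,4,0,4],10275,2),
   ([0,4,0,0,0,2,4],10275,3),
   ([1,0,0,1,1,0,3],10277,3),
   ([1,2,0,1,1,0,3],10280,0),
   ([3,0,0,1,3,0,1],10281,2),
   ([4,3,3,0,3,4,0],10283,1),
   ([4,0,0,4,0,2,2],10284,0),
   ([0,3,0,1,1,4,4],10284,1),
   ([2,0,1,2,3,3,4],10285,0),
   ([3,1,4,3,2,0,1],10286,1),
   ([4,0,0,1,1,0,2],10290,0),
   ([0,2,3,0,3,1,1],10293,0),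
   ([4,3,3,1,2,2,2],10295,2),
   ([4,3,4,2,0,2,3],10298,3),
   ([0,4,2,4,4,0,2],10304,0),
   ([3,0,2,3,2,2,4],10306,2),
   ([4,3,4,0,1,0,2],10310,3),
   ([0,1,2,0,3,4,3],10313,1),
   ([4,2,4,4,4,1,1],10315,2),
   ([1,3,3,2,1,3,2],10323,3),
   ([4,2,3,0,4,4,2],10327,0),
   ([1,2,0,3,1,4,4],10330,2),
   ([1,3,1,1,3,2,1],10339,2),
   ([1,3,3,2,1,0,3],10346,2),
   ([1,3,0,0,4,2,3],10352,0),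
   ([2,4,0,1,1,2,3],10354,1),
   ([1,2,0,2,4,1,3],10366,2),
   ([1,2,0,0,3,4,0],10367,2),
   ([4,0,0,1,4,2,2],10368,3),
   ([0,4,2,0,2,3,3],10369,3),
   ([1,0,3,0,3,4,3],10372,1),
   ([3,0,0,0,4,2,4],10374,2),
   ([2,4,0,2,0,2,2],10374,3),
   ([3,4,1,2,3,3,0],10375,0),
   ([2,0,0,2,4,2,3],10375,2),
   ([4,3,0,1,2,1,4],10376,0),
   ([3,0,0,4,3,2,1],10376,3),
   ([2,2,0,3,3,3,1],10377,2),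
   ([2,3,3,3,1,3,1],10385,1),
   ([2,1,3,2,1,1,2],10385,3),
   ([1,1,0,0,0,2,4],10390,0),
   ([1,3,0,0,0,0,2],10393,0),
   ([4,2,3,1,2,1,1],10395,3),
   ([4,1,3,0,2,1,3],10400,0),
   ([2,4,0,3,0,1,0],10400,3),
   ([2,3,4,3,2,0,4],10403,0),
   ([2,3,0,2,3,4,4],10403,2),
   ([2,2,0,4,0,1,0],10406,0),
   ([4,1,4,0,1,0,2],10406,3),
   ([1,1,4,1,2,4,4],10410,2),
   ([3,4,4,1,0,0,1],10415,3),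
   ([4,2,4,1,0,0,2],10417,0),
   ([2,2,4,2,2,4,3],10417,3),
   ([3,3,1,3,1,3,3],10421,1),
   ([4,1,1,2,3,0,2],10422,3),
   ([3,2,1,2,3,0,1],10425,3),
   ([4,0,4,4,3,4,4],10430,0),
   ([0,2,3,3,3,4,4],10432,3),
   ([4,2,3,2,3,0,3],10438,1),
   ([0,3,4,0,4,3,1],10439,1),
   ([4,3,0,3,1,3,0],10440,3),
   ([4,3,0,4,4,3,3],10442,1),
   ([0,1,4,4,4,3,2],10443,2),
   ([1,0,1,4,4,3,4],10449,1),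
   ([2,4,3,1,4,0,3],10451,2),
   ([2,2,0,4,0,4,3],10453,1),
   ([3,3,4,1,3,1,3],10454,3),
   ([2,2,4,2,2,3,2],10457,1),
   ([1,1,3,0,3,0,3],10459,1),
   ([4,3,1,0,1,2,3],10459,2),
   ([3,1,1,2,1,4,3],10470,3),
   ([3,0,4,0,1,2,1],10473,3),
   ([0,2,3,2,1,1,4],10474,0),
   ([4,1,1,2,1,3,2],10480,3),
   ([1,4,4,4,3,0,1],10481,1),
   ([4,4,0,1,4,1,3],10484,0),
   ([4,3,0,0,0,3,4],10485,2),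
   ([4,2,0,0,0,2,4],10487,2),
   ([4,4,2,3,3,3,3],10494,1),
   ([2,0,4,0,4,4,3],10499,2),
   ([1,1,3,3,1,0,3],10504,2),
   ([2,2,0,0,2,1,2],10505,0),
   ([4,0,4,4,4,4,3],10508,0),
   ([2,3,0,2,2,1,2],10514,1),
   ([4,4,0,3,3,1,0],10515,2),
   ([3,0,1,3,0,4,2],10519,0),
   ([4,1,1,2,0,1,3],10523,2),
   ([3,4,1,3,2,0,3],10524,0),
   ([4,4,4,3,4,2,2],10528,2),
   ([3,4,1,1,3,1,3],10529,0),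
   ([2,4,4,4,2,3,1],10529,3),
   ([0,1,4,3,2,2,2],10540,0),
   ([1,4,4,4,1,0,4],10541,0),
   ([2,4,4,0,0,4,4],10541,2),
   ([0,2,0,1,4,1,1],10542,0),
   ([0,2,4,3,2,1,1],10542,3),
   ([2,0,2,4,2,0,2],10549,0),
   ([0,4,4,3,1,2,4],10554,2),
   ([0,3,1,1,3,0,4],10560,0),
   ([4,4,4,4,2,4,4],10560,3),
   ([0,4,1,0,1,1,1],10564,3),
   ([2,4,3,2,1,3,0],10571,3),
   ([3,1,3,3,1,4,4],10581,0),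
   ([4,1,4,3,0,0,4],10586,2),
   ([1,0,1,4,1,2,2],10588,3),
   ([4,4,3,3,0,2,1],10595,2),
   ([3,2,4,0,2,1,2],10598,2),
   ([0,3,0,0,4,1,2],10613,3),
   ([4,1,1,2,4,0,3],10615,0),
   ([3,4,2,1,2,1,1],10617,3),
   ([4,0,4,3,4,1,0],10628,0),
   ([4,1,4,0,3,3,2],10628,3),
   ([1,0,2,1,2,3,4],10635,2),
   ([3,4,2,4,3,2,0],10635,3),
   ([4,4,0,4,1,4,1],10637,1),
   ([3,2,1,0,1,0,2],10639,0),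
   ([2,1,3,4,2,0,1],10645,0),
   ([4,1,4,2,2,1,1],10645,2),
   ([0,1,2,4,3,3,3],10647,2),
   ([4,3,2,4,1,0,4],10648,0),
   ([4,3,0,2,2,2,3],10651,3),
   ([3,1,0,3,0,2,1],10652,0)]

/-- A block of images of the fixed vector. -/
def vOrbB121 : List (List ℕ × ℕ × ℕ) :=
  [([3,2,0,4,0,1,0],10655,2),
   ([3,4,2,1,0,3,0],10661,3),
   ([3,1,0,2,2,1,4],10664,3),
   ([4,4,0,0,4,0,3],10666,0),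
   ([4,1,2,4,1,1,3],10670,2),
   ([3,0,3,2,2,3,0],10672,0),
   ([2,2,0,3,3,0,3],10673,0),
   ([1,2,4,3,1,3,3],10673,2),
   ([1,3,2,3,1,3,3],10674,0),
   ([4,2,4,4,1,4,3],10677,0),
   ([1,3,2,1,3,4,4],10685,2),
   ([1,1,4,4,2,2,2],10686,0),
   ([1,4,3,3,2,3,2],10690,3),
   ([3,0,4,3,2,1,1],10691,1),
   ([1,1,2,0,3,0,1],10694,1),
   ([2,1,2,4,0,3,3],10697,3),
   ([4,3,3,0,2,3,0],10714,1),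
   ([4,0,2,4,1,1,4],10715,0),
   ([3,0,0,0,2,1,4],10721,2),
   ([1,4,3,2,2,1,4],10723,1),
   ([4,4,1,3,2,0,1],10725,3),
   ([1,2,4,0,2,3,0],10726,1),
   ([4,3,0,4,0,3,3],10727,1),
   ([2,3,0,2,1,2,1],10734,2),
   ([2,4,1,0,1,3,4],10737,3),
   ([0,4,0,3,4,1,3],10752,2),
   ([3,3,0,0,3,0,4],10755,3),
   ([0,2,4,2,1,4,1],10764,0),
   ([2,1,3,2,4,0,2],10769,1),
   ([3,2,3,3,4,4,4],10769,3),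
   ([0,3,4,4,2,0,3],10776,2),
   ([3,3,0,2,0,3,0],10777,3),
   ([2,1,2,0,3,2,4],10781,0),
   ([3,0,1,2,4,4,4],10790,3),
   ([4,0,0,1,2,2,2],10793,1),
   ([2,4,0,3,3,1,0],10806,1),
   ([3,1,1,3,2,3,4],10813,0),
   ([2,1,4,0,1,3,3],10820,2),
   ([3,3,4,3,3,4,2],10820,3),
   ([0,3,2,1,1,3,3],10823,1),
   ([0,1,4,4,0,2,2],10825,2),
   ([3,2,4,1,3,3,4],10836,1),
   ([1,2,3,1,2,2,1],10842,3),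
   ([4,4,3,3,1,2,4],10845,0),
   ([2,2,0,1,1,4,3],10847,2),
   ([1,0,2,4,4,3,0],10851,0),
   ([0,3,0,2,0,3,1],10856,3),
   ([2,3,0,1,3,1,3],10858,0),
   ([0,2,0,4,4,1,1],10860,0),
   ([2,0,4,4,2,3,0],10865,2),
   ([4,1,4,2,1,4,4],10872,1),
   ([0,2,0,2,0,2,4],10879,2),
   ([4,4,0,0,4,4,2],10884,2),
   ([4,1,1,0,2,3,2],10885,2),
   ([0,2,3,4,2,4,3],10890,0),
   ([4,2,4,3,1,1,1],10890,3),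
   ([2,2,0,4,2,0,4],10893,0),
   ([2,1,4,0,0,0,1],10906,1),
   ([2,4,0,0,4,2,0],10916,2),
   ([0,1,0,4,4,2,0],10917,2),
   ([4,3,2,2,0,1,1],10923,0),
   ([4,2,0,4,4,0,2],10924,1),
   ([2,1,0,0,0,4,3],10931,2),
   ([4,3,0,2,1,3,0],10944,0),
   ([4,0,1,1,3,2,0],10945,0),
   ([1,1,1,2,4,4,1],10954,1),
   ([4,0,4,3,1,1,3],10964,0),
   ([1,2,1,1,4,1,1],10975,2),
   ([0,4,3,3,1,3,3],10976,2),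
   ([3,0,3,3,2,3,0],10981,1),
   ([3,0,3,2,1,3,1],10983,1),
   ([3,4,0,1,1,1,4],10985,3),
   ([1,2,0,2,3,1,3],10990,3),
   ([0,1,0,4,1,2,1],10995,0),
   ([4,0,0,1,0,0,2],11002,2),
   ([4,2,4,1,0,3,1],11003,3),
   ([2,0,0,3,2,3,3],11006,1),
   ([2,0,0,2,1,3,3],11008,2),
   ([0,3,2,3,3,0,4],11015,0),
   ([0,3,0,2,0,3,4],11028,0),
   ([4,4,3,0,2,4,3],11029,0),
   ([3,2,0,4,3,0,1],11050,2),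
   ([0,4,4,4,3,1,2],11055,1),
   ([4,2,4,1,3,4,1],11055,3),
   ([1,2,0,1,2,2,2],11058,0),
   ([2,4,0,3,1,3,4],11059,1),
   ([4,3,0,4,1,0,2],11062,0),
   ([1,1,0,1,2,1,4],11066,0),
   ([2,1,0,4,1,3,3],11070,2),
   ([3,3,0,4,2,0,1],11072,2),
   ([4,4,4,1,0,3,0],11078,2),
   ([4,2,3,3,2,4,2],11082,0),
   ([0,4,3,1,1,0,4],11085,2),
   ([1,3,4,3,2,3,2],11087,3),
   ([0,2,0,0,4,4,4],11091,2),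
   ([1,4,3,2,1,0,3],11113,2),
   ([0,1,2,0,1,0,3],11136,1),
   ([2,2,4,3,2,3,2],11142,0),
   ([2,2,4,1,4,0,1],11146,3),
   ([1,1,4,1,4,0,2],11147,0),
   ([1,1,1,3,1,4,4],11148,3),
   ([1,4,2,0,0,0,2],11149,2),
   ([1,4,4,4,3,1,0],11153,3),
   ([0,2,1,1,3,0,4],11158,2),
   ([2,1,3,0,2,3,2],11163,2),
   ([4,2,3,4,2,3,2],11180,2),
   ([0,4,1,1,3,0,3],11181,2),
   ([4,3,0,4,3,3,3],11192,1),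
   ([0,3,0,1,3,4,2],11192,3),
   ([4,1,0,4,0,1,1],11205,0),
   ([3,4,4,0,0,4,1],11206,3),
   ([1,2,3,1,0,0,3],11208,1),
   ([3,3,2,2,0,2,4],11233,1),
   ([3,0,4,4,3,3,2],11235,0),
   ([2,0,3,4,0,3,4],11239,0),
   ([1,2,0,4,2,4,1],11239,3),
   ([2,4,4,1,0,3,0],11241,2),
   ([4,4,0,1,1,2,4],11244,0),
   ([4,1,1,3,0,4,0],11254,3),
   ([2,2,0,1,1,1,0],11257,1),
   ([2,3,0,0,3,1,0],11260,0),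
   ([0,4,0,4,4,3,4],11264,0),
   ([4,2,1,4,1,3,2],11265,3),
   ([4,1,4,1,1,0,1],11269,0),
   ([2,3,4,1,4,3,3],11270,0)]

/-- A block of images of the fixed vector. -/
def vOrbB122 : List (List ℕ × ℕ × ℕ) :=
  [([0,1,2,0,0,3,0],11270,3),
   ([0,1,1,3,1,0,1],11273,1),
   ([0,1,3,1,4,4,0],11278,3),
   ([4,1,2,2,4,0,2],11279,2),
   ([2,3,3,2,1,0,4],11288,3),
   ([1,0,3,3,1,2,3],11290,1),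
   ([3,3,3,0,3,4,0],11291,2),
   ([1,4,2,3,1,2,2],11296,0),
   ([0,4,4,1,4,2,1],11302,2),
   ([2,0,0,3,3,2,3],11304,0),
   ([2,4,4,2,2,0,4],11305,2),
   ([4,1,3,2,1,0,2],11308,3),
   ([2,3,4,4,1,2,0],11312,0),
   ([3,0,4,1,3,3,2],11312,2),
   ([2,3,1,1,1,0,1],11314,2),
   ([2,4,0,2,3,1,0],11315,1),
   ([3,2,2,4,3,2,2],11333,2),
   ([2,1,4,3,2,2,0],11343,3),
   ([3,0,2,3,4,4,1],11354,3),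
   ([1,4,2,0,3,1,0],11355,3),
   ([3,1,0,4,0,4,4],11363,1),
   ([4,4,2,2,0,4,3],11368,2),
   ([0,1,4,2,2,2,3],11373,0),
   ([0,4,4,1,4,2,3],11374,0),
   ([1,1,0,0,3,2,4],11381,2),
   ([1,0,2,1,0,1,3],11386,3),
   ([1,4,0,3,3,3,3],11388,2),
   ([2,2,3,4,0,1,0],11389,2),
   ([4,1,2,4,0,2,0],11393,0),
   ([4,4,0,1,2,0,2],11405,3),
   ([2,3,0,4,1,0,4],11408,2),
   ([2,2,4,4,4,3,4],11416,3),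
   ([4,3,2,3,4,4,0],11427,2),
   ([4,1,0,2,4,1,3],11438,3),
   ([2,0,0,0,0,4,1],11439,1),
   ([2,4,4,4,0,2,3],11444,3),
   ([4,2,2,0,0,0,3],11463,1),
   ([2,3,4,4,4,1,0],11464,2),
   ([3,3,0,1,4,0,1],11480,3),
   ([0,2,0,3,4,2,1],11481,1),
   ([4,0,2,2,0,0,4],11488,1),
   ([1,3,4,0,1,0,3],11498,2),
   ([1,2,2,2,4,0,3],11512,1),
   ([2,3,2,3,4,1,3],11512,3),
   ([0,3,4,2,1,1,1],11519,0),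
   ([3,0,3,3,1,4,1],11522,2),
   ([0,2,0,1,3,1,4],11534,2),
   ([2,0,0,1,1,4,4],11549,3),
   ([0,2,1,1,0,1,1],11550,0),
   ([3,4,0,4,1,2,2],11550,1),
   ([1,0,0,1,1,3,3],11551,0),
   ([4,0,4,2,0,2,4],11552,3),
   ([2,4,2,2,4,1,1],11557,3),
   ([4,0,3,2,0,0,4],11560,1),
   ([2,3,4,1,0,2,2],11561,2),
   ([4,4,0,4,2,4,1],11563,1),
   ([2,4,0,2,2,4,1],11577,2),
   ([3,3,0,1,4,3,4],11595,0),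
   ([2,4,3,2,3,4,4],11604,0),
   ([1,2,4,0,0,3,3],11604,1),
   ([3,2,4,4,4,4,0],11611,2),
   ([2,4,3,3,1,2,3],11621,3),
   ([4,0,2,0,0,2,3],11645,0),
   ([1,0,3,2,1,1,3],11662,0),
   ([3,2,0,4,0,2,4],11662,2),
   ([3,4,2,4,1,0,2],11663,0),
   ([0,4,0,4,3,3,2],11679,0),
   ([0,3,0,1,2,4,0],11680,2),
   ([0,2,2,1,4,0,4],11690,0),
   ([3,0,4,3,4,3,0],11707,3),
   ([3,0,3,3,0,2,2],11708,1),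
   ([1,0,0,2,1,3,1],11711,0),
   ([4,2,3,0,2,2,0],11724,2),
   ([3,4,0,3,1,4,4],11739,1),
   ([4,4,4,1,2,4,4],11744,2),
   ([1,4,4,2,0,4,2],11746,3),
   ([3,0,3,0,4,4,0],11752,3),
   ([1,1,2,4,1,0,1],11754,0),
   ([0,4,0,2,3,1,1],11754,2),
   ([0,2,2,2,4,1,2],11758,2),
   ([3,0,0,1,4,1,1],11759,2),
   ([2,4,3,1,3,0,2],11760,2),
   ([3,3,0,2,3,4,1],11761,0),
   ([2,0,3,1,4,0,3],11761,3),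
   ([1,4,0,0,0,1,1],11764,0),
   ([3,1,4,0,2,4,1],11770,1),
   ([1,1,0,1,4,0,3],11779,1),
   ([2,2,4,1,4,4,0],11782,3),
   ([0,2,3,3,1,1,2],11786,0),
   ([4,0,1,0,1,4,4],11794,3),
   ([2,1,4,4,4,1,4],11799,3),
   ([3,2,0,3,1,1,1],11800,2),
   ([2,3,4,2,2,0,4],11810,1),
   ([4,2,0,2,4,0,4],11822,3),
   ([2,1,0,2,4,0,3],11829,1),
   ([2,3,0,3,1,3,0],11835,3),
   ([1,0,0,3,1,4,1],11839,2),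
   ([1,4,0,4,3,4,4],11844,3),
   ([0,4,0,1,2,3,3],11846,0),
   ([0,1,0,4,3,2,2],11846,3),
   ([2,2,1,4,3,4,4],11871,3),
   ([2,1,4,3,2,3,3],11876,3),
   ([2,0,4,0,1,0,4],11890,1),
   ([4,1,0,0,0,3,0],11892,2),
   ([0,2,0,2,1,2,4],11897,1),
   ([0,3,0,4,2,4,1],11904,1),
   ([4,4,4,1,2,2,2],11912,3),
   ([3,4,0,1,2,2,2],11934,3),
   ([3,0,1,1,0,3,1],11936,0),
   ([2,4,3,2,1,1,1],11938,3),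
   ([4,2,2,2,4,1,0],11944,2),
   ([0,4,0,4,1,3,2],11950,0),
   ([2,0,4,4,4,4,1],11959,2),
   ([2,0,4,2,0,0,3],11964,2),
   ([3,4,4,1,0,3,0],11980,3),
   ([3,3,3,2,1,0,1],11987,0),
   ([4,4,0,4,0,3,0],11989,0),
   ([4,1,4,1,3,0,4],12007,0),
   ([4,4,0,0,0,4,2],12009,1),
   ([1,1,2,0,0,3,0],12016,2),
   ([3,4,4,0,1,0,1],12034,0),
   ([1,0,4,1,0,1,3],12041,0),
   ([2,4,4,2,2,2,3],12041,3),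
   ([0,1,0,0,0,3,1],12072,2),
   ([1,1,0,3,1,3,4],12081,0)]

/-- A block of images of the fixed vector. -/
def vOrbB123 : List (List ℕ × ℕ × ℕ) :=
  [([2,4,0,0,0,0,1],12083,0),
   ([1,1,0,0,0,1,3],12083,3),
   ([4,3,4,0,4,3,0],12086,1),
   ([1,2,0,2,0,2,0],12092,1),
   ([1,1,3,2,3,4,1],12096,0),
   ([0,3,3,2,3,1,3],12110,0),
   ([2,3,4,0,4,0,3],12123,0),
   ([3,3,1,0,1,3,0],12123,3),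
   ([1,0,2,4,1,4,1],12136,3),
   ([0,3,3,1,1,0,1],12162,3),
   ([4,4,3,3,3,4,2],12170,2),
   ([0,4,3,2,3,2,1],12174,0),
   ([1,3,4,0,0,2,3],12174,1),
   ([3,2,2,0,3,3,4],12176,0),
   ([0,4,2,2,4,3,3],12187,0),
   ([4,1,4,4,1,0,1],12187,2),
   ([1,0,3,1,1,1,0],12193,1),
   ([4,2,3,4,2,1,1],12212,0),
   ([1,2,0,1,1,2,2],12240,3),
   ([0,1,0,3,4,4,2],12249,3),
   ([3,0,2,2,2,0,4],12262,2),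
   ([0,2,3,4,0,1,0],12275,2),
   ([1,3,2,3,4,3,2],12284,0),
   ([1,2,0,4,4,2,2],12288,0),
   ([1,3,3,3,0,2,2],12305,1),
   ([1,0,0,2,1,0,1],12308,0),
   ([2,2,4,1,2,3,3],12329,2),
   ([3,1,0,0,0,1,1],12336,1),
   ([2,3,0,4,1,2,2],12338,0),
   ([2,2,3,4,1,2,2],12343,0),
   ([4,4,0,3,1,2,1],12355,0),
   ([1,3,4,1,0,4,0],12364,2),
   ([4,0,3,2,1,2,2],12375,2),
   ([3,1,0,1,1,4,4],12388,2),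
   ([3,2,0,4,4,4,2],12403,2),
   ([4,3,0,2,1,2,3],12430,2),
   ([1,0,0,4,3,3,3],12460,0),
   ([2,1,0,3,1,3,2],12463,0),
   ([4,3,0,1,1,1,4],12515,3),
   ([1,4,0,0,0,2,0],12528,1),
   ([3,1,0,4,4,2,0],12544,3),
   ([4,4,4,0,0,3,1],12572,2),
   ([0,1,4,4,4,3,3],12573,2),
   ([1,1,0,1,3,2,0],12604,0),
   ([1,1,2,0,1,1,1],12607,3),
   ([2,0,2,3,3,4,0],12612,2),
   ([3,3,2,3,4,3,4],12622,3),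
   ([2,0,3,4,0,4,4],12623,0),
   ([4,4,0,4,4,0,2],12624,3),
   ([3,2,4,3,2,4,2],12651,0),
   ([0,1,0,1,1,2,2],12656,0),
   ([0,4,4,1,3,1,4],12665,2),
   ([0,4,4,1,2,0,2],12669,0),
   ([3,1,0,3,2,3,3],12672,1),
   ([0,3,1,1,2,3,4],12672,3),
   ([3,4,4,1,0,4,3],12684,3),
   ([2,1,1,4,2,4,0],12723,3),
   ([4,1,0,0,1,4,4],12725,0),
   ([4,1,0,4,0,2,0],12739,0),
   ([4,2,1,0,1,4,1],12766,0),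
   ([2,3,0,2,1,4,4],12767,3),
   ([3,3,2,0,4,4,2],12771,2),
   ([2,1,1,0,4,3,3],12788,3),
   ([2,0,3,0,2,1,3],12799,0),
   ([4,1,3,2,0,1,3],12815,0),
   ([0,3,4,0,1,4,2],12817,0),
   ([1,1,0,1,1,3,1],12817,2),
   ([1,4,2,0,2,2,1],12818,2),
   ([2,1,3,3,0,1,1],12839,1),
   ([2,3,0,0,0,3,3],12843,0),
   ([1,1,3,2,0,0,1],12862,3),
   ([3,2,4,1,3,2,0],12896,0),
   ([0,1,1,3,3,2,2],12910,0),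
   ([1,1,0,2,0,1,2],12914,1),
   ([3,1,4,4,3,0,2],12919,3),
   ([2,2,4,3,2,1,0],12924,0),
   ([2,1,4,0,1,2,0],12933,2),
   ([0,3,2,4,1,3,4],12945,2),
   ([1,1,0,1,2,0,3],12952,0),
   ([0,4,0,1,1,3,3],12952,2),
   ([2,0,0,4,0,4,4],12988,2),
   ([4,0,4,3,1,4,3],13005,1),
   ([2,0,0,0,4,3,1],13007,0),
   ([0,4,3,3,2,0,1],13079,0),
   ([4,0,0,0,3,4,3],13093,0),
   ([0,1,0,2,0,4,4],13106,1),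
   ([0,4,2,2,4,3,2],13120,0),
   ([4,4,0,1,4,0,2],13127,3),
   ([0,3,0,0,0,1,2],13128,3),
   ([4,0,1,2,0,4,4],13131,2),
   ([2,0,0,1,0,0,4],13137,2),
   ([2,0,2,4,0,1,4],13164,0),
   ([3,3,3,3,0,3,0],13164,2),
   ([0,1,3,3,1,2,2],13225,3),
   ([0,3,1,4,2,3,2],13250,3),
   ([3,0,0,2,2,2,2],13252,3),
   ([1,3,2,0,3,0,1],13257,0),
   ([3,1,4,0,0,1,1],13311,2),
   ([1,3,3,1,1,2,1],13354,0),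
   ([2,3,0,4,3,3,1],13366,3),
   ([0,2,0,3,3,2,4],13368,3),
   ([0,2,0,1,2,1,1],13379,0),
   ([0,2,0,4,3,1,1],13379,3),
   ([4,3,3,0,3,3,3],13390,2),
   ([3,2,3,3,3,1,3],13393,3),
   ([0,4,0,3,3,1,2],13403,1),
   ([4,4,1,1,0,0,2],13429,3),
   ([0,2,4,1,2,0,4],13454,3),
   ([1,1,0,0,0,4,1],13478,0),
   ([3,2,0,0,0,4,0],13491,1),
   ([4,4,0,0,0,1,4],13541,0),
   ([4,0,4,1,3,1,4],13545,1),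
   ([4,2,0,1,2,4,4],13580,2),
   ([2,3,0,4,0,2,2],13585,3),
   ([4,4,4,4,4,4,2],13687,0),
   ([3,0,0,0,0,1,4],13771,1),
   ([1,1,4,1,2,1,1],13802,0),
   ([2,1,4,1,0,2,0],13840,1),
   ([4,4,2,2,4,0,2],13877,2),
   ([4,1,3,4,2,2,1],13914,1),
   ([3,1,0,1,1,1,3],14163,2),
   ([1,2,0,2,2,3,2],14353,1),
   ([3,3,4,4,2,2,2],14411,3),
   ([1,3,4,2,0,3,0],14632,3),
   ([4,3,0,1,1,3,3],14714,0)]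

/-- The orbit of the fixed vector. -/
def vOrb : LyPres.Orb where
  gens := LyPres.gen7.take 4
  start := [0,0,3,1,1,0,0]
  pts := [vOrbB0, vOrbB1, vOrbB2, vOrbB3, vOrbB4, vOrbB5, vOrbB6, vOrbB7, vOrbB8, vOrbB9, vOrbB10, vOrbB11, vOrbB12, vOrbB13, vOrbB14, vOrbB15, vOrbB16, vOrbB17, vOrbB18, vOrbB19, vOrbB20, vOrbB21, vOrbB22, vOrbB23, vOrbB24, vOrbB25, vOrbB26, vOrbB27, vOrbB28, vOrbB29, vOrbB30, vOrbB31, vOrbB32, vOrbB33, vOrbB34, vOrbB35, vOrbB36, vOrbB37, vOrbB38, vOrbB39, vOrbB40, vOrbB41, vOrbB42, vOrbB43, vOrbB44, vOrbB45, vOrbB46, vOrbB47, vOrbB48, vOrbB49, vOrbB50, vOrbB51, vOrbB52, vOrbB53, vOrbB54, vOrbB55, vOrbB56, vOrbB57, vOrbB58, vOrbB59, vOrbB60, vOrbB61, vOrbB62, vOrbB63, vOrbB64, vOrbB65, vOrbB66, vOrbB67, vOrbB68, vOrbB69, vOrbB70, vOrbB71,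 vOrbB72, vOrbB73, vOrbB74, vOrbB75, vOrbB76, vOrbB77, vOrbB78, vOrbB79, vOrbB80, vOrbB81, vOrbB82, vOrbB83, vOrbB84, vOrbB85, vOrbB86, vOrbB87, vOrbB88, vOrbB89, vOrbB90, vOrbB91, vOrbB92, vOrbB93, vOrbB94, vOrbB95, vOrbB96, vOrbB97, vOrbB98, vOrbB99, vOrbB100, vOrbB101, vOrbB102, vOrbB103, vOrbB104, vOrbB105, vOrbB106, vOrbB107, vOrbB108, vOrbB109, vOrbB110, vOrbB111, vOrbB112, vOrbB113, vOrbB114, vOrbB115, vOrbB116, vOrbB117, vOrbB118, vOrbB119, vOrbB120, vOrbB121, vOrbB122, vOrbB123]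

end Cfsg.Lib.LyCent
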